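import Cfsg.Agent.Mrg.Omega.NO3S.EThree.Frame
import Cfsg.Agent.Mrg.Omega.OM.FrSym
import Cfsg.Agent.Mrg.Omega.OM.Lev.Dich


/-!
# CARD #18791 "(E) = TWO CENTRES": the field `uni` of `TC.Fr`

* `blkGenS` : a minimal parabolic `H` over `T ≥ B(S)` which moves `Ω₁(Z(T))`, `J(T) ≰ O₂(H)`, is `⟨L, T⟩` for an FF-block
  `L ≤ H` over `B(S)`;
* `uni_of` : over `Bg S P B ZJ L W Z C 2`, `k = 2`: if every minimal parabolic over `T = N_S(Z i)` which moves `Ω₁(Z(T))` and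
  `K ≰ O₂(R)` is `⟨L', T⟩` with `L' ≤ R ∩ N(W l)`, `L' ≰ N(Z l)`, then `uni` holds;
* `exists_fr_of` : `TC.Fr` from `Bg`, this hypothesis and `NonLoc (N(Z 0)) (N(Z 1))` (every level);
* `exists_fr_neg` : stage `-1`: `TC.Fr` from `HypJ S P`, `NatK` with `k = 2`, `|F| = 2` and the nonlocal case;
* `nonloc_bs` : the nonlocal case from `K0`.
-/

set_option autoImplicit false
set_option linter.unusedSectionVars false

namespace Cfsg.Agent.Omega.TC.UniOne

open Subgroup Cfsg Cfsg.Agent.ZN.ChoiceBase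
open Cfsg.Agent.ZN (jj zj bau zc zl o2)
open Cfsg.Agent.ZN.ChoiceSit (Syl exists_syl syl_conj o2_le_syl)
open Cfsg.Agent.Omega.OM Cfsg.Agent.Omega.OM.Uni
open Cfsg.Agent.Omega.NO3S (HypJ HypN Hyp)
open Cfsg.Agent.Omega.NO3S.EThree.Frame
open Cfsg.Agent.Omega.MinPar (NonLoc)
open Cfsg.Agent.MinSimple.MinParabolic (IsMinPar)
open Cfsg.Agent.MinSimple.VModule (le_normalizer_o2 o2_isPGroup le_o2 o2_le)
open Cfsg.Agent.Omega.LemmaK (Block WeakNormal)
open Cfsg.Agent.Omega.LemmaK.Main (le_normalizer_bau)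
open Cfsg.Agent.Omega.OM.BlkGen (FBlk exists_off)
open Cfsg.Agent.Omega.FFThm (NatK SymK)
open Cfsg.Agent.Omega.FrameFF (cv)
open scoped Pointwise

universe u

variable {G : Type u} [Group G]

/-- `BlkGen.blkGen` with the block in `H`. -/
theorem blkGenS [Finite G] {T H : Subgroup G} (hFF : FFThm.Stmt.{u}) (S : Sylow 2 G) (hT : Syl T H)
    (hB : bau (S : Subgroup G) ≤ T) (hP : IsMinPar T H) (hc : H ⊓ centralizer (o2 H : Set G) ≤ o2 H)
    (hJ : ¬ jj T ≤ o2 H) (hZ : ¬ H ≤ centralizer (zc T : Set G)) :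
    ∃ L V : Subgroup G, FBlk (S : Subgroup G) L V ∧ L ≤ H ∧ H ≤ L ⊔ T := by
  have hbau : bau T = bau (S : Subgroup G) := LemmaK.Main.bau_eq S hT.2.1 hB
  have hw : WeakNormal 2 (bau T) := by
    rw [hbau]
    exact fun R hR hBR => le_normalizer_bau S hR hBR
  obtain ⟨A, hA, hoff⟩ := exists_off hT hP hc hJ hZ
  obtain ⟨hno, hcon⟩ := hFF G T H hT hP hc ⟨A, hA.2.1.trans hT.1, hoff⟩
  have hm := SQ1.FFOne.minH_of hT hP hc
  rcases hcon with ⟨F, _, _, _, k, hk, ⟨M⟩⟩ | ⟨k, m, hk, hm2, ⟨M⟩⟩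
  · have : Nonempty (Fin k) := ⟨⟨0, hk⟩⟩
    set N := (SQ1.FFOne.natKB_of hT hc hJ hk M).toFFK hm with hN
    obtain ⟨E, hE⟩ := N.toInK hm
    obtain ⟨L, hL⟩ := hE.exists_blk ⟨0, hk⟩
    have hpb := FBK.pb hm N hE hw hL
    have hF : FBlk (S : Subgroup G) L ⁅N.N ⟨0, hk⟩, L⁆ := by
      exact ⟨⟨_, _, by rw [← hbau]; exact hpb.fb⟩, by rw [← hbau]; exact hpb.block hw⟩
    exact ⟨L, _, hF, hL.LH hE, hL.sup_T hE le_sup_right le_sup_left⟩
  · have h := syT_of hm hJ M hk (by omega) SQ1.FFOf.cv_le SQ1.FFOf.cv_norm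
    obtain ⟨ι, J, X, Y, t, r, c⟩ := h.exists_ch
    have hin := c.main h Cfsg.Agent.Omega.SQ1.SymCyc.exists_pow
    obtain ⟨j, x, y, hTr⟩ := h.exists_tr
    obtain ⟨i, -⟩ := c.ex j x y hTr
    obtain ⟨L, hL⟩ := hin.exists_blk i
    have hpb := FBS.pb hin hw hL
    have hF : FBlk (S : Subgroup G) L ⁅h.NN (J i) 0 (X i) (Y i), L⁆ := by
      exact ⟨⟨_, _, by rw [← hbau]; exact hpb.fb⟩, by rw [← hbau]; exact hpb.block hw⟩
    exact ⟨L, _, hF, hL.LH hin, hL.sup_T hin le_sup_right le_sup_left⟩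

section

variable [Finite G] {S : Sylow 2 G} {P B ZJ K : Subgroup G} {L W Z C : Fin 2 → Subgroup G}

/-- **The field `uni`.** -/
theorem uni_of (h : Bg S P B ZJ L W Z C 2) (hK : LevD.LB S K B ZJ)
    (hblk : ∀ R : Subgroup G, IsMinPar ((S : Subgroup G) ⊓ normalizer (Z 0 : Set G)) R →
      Syl ((S : Subgroup G) ⊓ normalizer (Z 0 : Set G)) R → R ⊓ centralizer (o2 R : Set G) ≤ o2 R →
      ¬ K ≤ o2 R → ¬ R ≤ centralizer (zc ((S : Subgroup G) ⊓ normalizer (Z 0 : Set G)) : Set G) →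
      ∃ (L' : Subgroup G) (l : Fin 2), L' ≤ R ∧ R ≤ L' ⊔ ((S : Subgroup G) ⊓ normalizer (Z 0 : Set G)) ∧
        L' ≤ normalizer (W l : Set G) ∧ ¬ L' ≤ normalizer (Z l : Set G)) :
    ∀ i j, i ≠ j → ∀ R : Subgroup G, IsMinPar ((S : Subgroup G) ⊓ normalizer (Z 0 : Set G)) R →
      R ≤ normalizer (Z j : Set G) → ¬ R ≤ normalizer (Z i : Set G) → R ≤ normalizer (W i : Set G) := by
  obtain ⟨v, hv1, hv, D⟩ := OfBg.exists_sit h
  have hN : ∀ i, normalizer (Z i : Set G) = centralizer ({v i} : Set G) := fun i =>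
    OfBg.normalizer_eq (hv i) (hv1 i)
  set T : Subgroup G := (S : Subgroup G) ⊓ normalizer (Z 0 : Set G) with hT
  intro i j hij R hR hRj hRi
  have hsyl : Syl T R := by
    have h1 := D.syl j
    rw [← hN j] at h1
    exact ⟨hR.le, h1.2.1, fun Q hQ h2 hle => h1.2.2 Q (hQ.trans hRj) h2 hle⟩
  have hcR : R ⊓ centralizer (o2 R : Set G) ≤ o2 R := by
    have h1 := D.char2 j
    rw [← hN j] at h1
    have h2 : o2 (normalizer (Z j : Set G)) ≤ T := by
      have h3 := D.syl j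
      rw [← hN j] at h3
      exact o2_le_syl h3
    have h4 : o2 (normalizer (Z j : Set G)) ≤ o2 R :=
      le_o2 (h2.trans hR.le) (o2_isPGroup _) (hRj.trans (le_normalizer_o2 _))
    rintro x ⟨hx, hxc⟩
    exact h4 (h1 ⟨hRj hx, centralizer_le (by exact_mod_cast h4) hxc⟩)
  have hvT : ∀ l, v l ∈ zc T := fun l => (D.zT _).2 (by
    have h2 : ∀ a : Fin 2, a = 0 ∨ a = 1 := by decide
    rcases h2 l with rfl | rfl <;> simp)
  have hZJ : ∀ x, x ∈ ZJ ↔ x ∈ zc T := fun x => by rw [D.zT, OfBg.mem_ZJ_iff h hv]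
  by_cases hKR : K ≤ o2 R
  · -- `R` normalises `ZJ`
    exfalso
    apply hRi
    have h1 : R ≤ normalizer (ZJ : Set G) :=
      (le_normalizer_o2 R).trans (hK.nrm _ (o2_isPGroup R) hKR)
    rw [hN i]
    intro r hr
    have h2 : r * v i * r⁻¹ ∈ ZJ := (mem_normalizer_iff.1 (h1 hr) _).1 ((hZJ _).2 (hvT i))
    obtain ⟨l, hl⟩ := h.fus (i := i) (g := r) h2 (by
      have e : r⁻¹ * (r * v i * r⁻¹) * r = v i := by group
      rw [e, hv i]; exact Or.inr rfl)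
    rcases (hv l _).1 hl with h3 | h3
    · exact absurd (conj_eq_one_iff.1 h3) (hv1 i)
    · by_cases hli : l = i
      · rw [hli] at h3
        rw [mem_centralizer_singleton_iff]
        exact mul_inv_eq_iff_eq_mul.1 h3
      · exfalso
        have hlj : l = j := by
          have h2 : ∀ a b c : Fin 2, a ≠ b → c ≠ a → c = b := by decide
          exact h2 i j l hij hli
        rw [hlj] at h3
        have h4 := hRj hr
        rw [hN j] at h4
        have h5 := mem_centralizer_singleton_iff.1 h4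
        have h6 : v i = v j := by
          have h7 : r * v i = r * v j := by
            rw [h5]
            exact mul_inv_eq_iff_eq_mul.1 h3
          exact mul_left_cancel h7
        have h8 : v i ∈ W i ⊓ W j := ⟨D.mem i, h6 ▸ D.mem j⟩
        rw [D.inf i j hij, mem_bot] at h8
        exact hv1 i h8
  · have hRc : ¬ R ≤ centralizer (zc T : Set G) := fun hc => hRi (by
      rw [hN i]
      exact hc.trans (centralizer_le (Set.singleton_subset_iff.2 (hvT i))))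
    obtain ⟨L', l, h1, h2, h3, h4⟩ := hblk R hR hsyl hcR hKR hRc
    have hli : l = i := by
      by_contra hli
      have hlj : l = j := by
        have h2 : ∀ a b c : Fin 2, a ≠ b → c ≠ a → c = b := by decide
        exact h2 i j l hij hli
      rw [hlj] at h4
      exact h4 (h1.trans hRj)
    rw [hli] at h3
    refine h2.trans (sup_le h3 ?_)
    rw [D.T_eq i]
    exact inf_le_right

/-- **`TC.Fr` from `Bg` and the generation by blocks.** -/
theorem exists_fr_of (h : Bg S P B ZJ L W Z C 2) (hK : LevD.LB S K B ZJ)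
    (hblk : ∀ R : Subgroup G, IsMinPar ((S : Subgroup G) ⊓ normalizer (Z 0 : Set G)) R →
      Syl ((S : Subgroup G) ⊓ normalizer (Z 0 : Set G)) R → R ⊓ centralizer (o2 R : Set G) ≤ o2 R →
      ¬ K ≤ o2 R → ¬ R ≤ centralizer (zc ((S : Subgroup G) ⊓ normalizer (Z 0 : Set G)) : Set G) →
      ∃ (L' : Subgroup G) (l : Fin 2), L' ≤ R ∧ R ≤ L' ⊔ ((S : Subgroup G) ⊓ normalizer (Z 0 : Set G)) ∧
        L' ≤ normalizer (W l : Set G) ∧ ¬ L' ≤ normalizer (Z l : Set G))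
    (nonloc : NonLoc (normalizer (Z 0 : Set G)) (normalizer (Z 1 : Set G))) :
    ∃ (v : Fin 2 → G) (R : Fin 2 → Subgroup G), (∀ i, ∀ x, x ∈ Z i ↔ x = 1 ∨ x = v i) ∧
      KTwo.Sit S P ((S : Subgroup G) ⊓ normalizer (Z 0 : Set G)) W v ∧
      Fr ((S : Subgroup G) ⊓ normalizer (Z 0 : Set G)) W R v :=
  OfBg.exists_fr h (uni_of h hK hblk) nonloc

end

/-! ### Stage `-1` -/

/-- The generation by blocks at stage `-1`. -/
theorem blk_neg [Finite G] {S : Sylow 2 G} {P T : Subgroup G} {ι : Type} [Finite ι] {L W Z C A : ι → Subgroup G}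
    (h : Line S P L W Z C A 2) (htr : ∀ i j : ι, ∃ s ∈ (S : Subgroup G), cj s (Z i) = Z j)
    (hFF : FFThm.Stmt.{u}) (hB : bau (S : Subgroup G) ≤ T) (R : Subgroup G) (hR : IsMinPar T R) (hT : Syl T R)
    (hc : R ⊓ centralizer (o2 R : Set G) ≤ o2 R) (hK : ¬ jj (S : Subgroup G) ≤ o2 R)
    (hZ : ¬ R ≤ centralizer (zc T : Set G)) :
    ∃ (L' : Subgroup G) (l : ι), L' ≤ R ∧ R ≤ L' ⊔ T ∧ L' ≤ normalizer (W l : Set G) ∧
      ¬ L' ≤ normalizer (Z l : Set G) := by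
  have hjj : jj T = jj (S : Subgroup G) := LemmaK.Main.jj_eq S hT.2.1 hB
  obtain ⟨L', V', ⟨⟨Z', q', hF⟩, hb⟩, h1, h2⟩ := blkGenS hFF S hT hB hR hc (by rw [hjj]; exact hK) hZ
  obtain ⟨i, rfl, rfl, hle⟩ := h.uniTwo htr hF hb
  refine ⟨L', i, h1, h2, fun l hl => ?_, fun hcon => ?_⟩
  · rw [mem_normalizer_iff_cj]
    refine Subgroup.eq_of_le_of_card_ge ?_ (by rw [card_cj])
    rintro _ ⟨w, hw, rfl⟩
    exact hF.nV l hl w hw
  · obtain ⟨l, hl, hne, -⟩ := hF.exists_mv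
    exact hne (mem_normalizer_iff_cj.1 (hcon hl))

/-- **`TC.Fr` at stage `-1`**, from the frame `Bs`. -/
theorem exists_fr_bs [Finite G] {S : Sylow 2 G} {P : Subgroup G} {L W Z C A : Fin 2 → Subgroup G}
    (h : Bs S P L W Z C A 2 (mm (S : Subgroup G))) (hFF : FFThm.Stmt.{u})
    (nonloc : NonLoc (normalizer (Z 0 : Set G)) (normalizer (Z 1 : Set G))) :
    ∃ (v : Fin 2 → G) (R : Fin 2 → Subgroup G), (∀ i, ∀ x, x ∈ Z i ↔ x = 1 ∨ x = v i) ∧
      KTwo.Sit S P ((S : Subgroup G) ⊓ normalizer (Z 0 : Set G)) W v ∧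
      Fr ((S : Subgroup G) ⊓ normalizer (Z 0 : Set G)) W R v := by
  have hbg : Bg S P (bau (S : Subgroup G)) (zj (S : Subgroup G)) L W Z C 2 := Bg.of_bs h fun h2 => absurd h2 (by omega)
  have hl : Line S P L W Z C A 2 := ⟨h.hyp, h.fr, h.two⟩
  have htr : ∀ i j : Fin 2, ∃ s ∈ (S : Subgroup G), cj s (Z i) = Z j := fun i j => by
    obtain ⟨s, hs, e⟩ := h.trans i j
    exact ⟨s, hs, (h.cj_Z_iff hs).2 e⟩
  exact exists_fr_of hbg (LevD.LB.neg S) (fun R hR hT hc hK hZ =>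
    blk_neg hl htr hFF (hbg.bau_le_T 0) R hR hT hc hK hZ) nonloc

/-- If `K0 = ⟨C_G(Z_J), all FF-blocks over B⟩` normalises no 2-group then `⟨N(Z 0), N(Z 1)⟩` is nonlocal. -/
theorem nonloc_bs [Finite G] {S : Sylow 2 G} {P : Subgroup G} {L W Z C A : Fin 2 → Subgroup G}
    (h : Bs S P L W Z C A 2 (mm (S : Subgroup G)))
    (hE : ∀ R : Subgroup G, IsPGroup 2 R →
      Dich.K0 (S : Subgroup G) (FBlk (S : Subgroup G)) ≤ normalizer (R : Set G) → R = ⊥) :
    NonLoc (normalizer (Z 0 : Set G)) (normalizer (Z 1 : Set G)) := by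
  intro U hU h0 h1
  refine hE U hU ?_
  have hl : Line S P L W Z C A 2 := ⟨h.hyp, h.fr, h.two⟩
  have htr : ∀ i j : Fin 2, ∃ s ∈ (S : Subgroup G), cj s (Z i) = Z j := fun i j => by
    obtain ⟨s, hs, e⟩ := h.trans i j
    exact ⟨s, hs, (h.cj_Z_iff hs).2 e⟩
  rw [hl.K0_eq htr]
  refine sup_le ?_ (iSup_le fun i => ?_)
  · refine le_trans ?_ h0
    exact (centralizer_le (h.fr.Z_le 0)).trans (centralizer_le_normalizer _)
  · have h2 : ∀ a : Fin 2, a = 0 ∨ a = 1 := by decide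
    rcases h2 i with rfl | rfl
    · exact (h.L_norm (i := 1) (j := 0) (by decide)).trans h1
    · exact (h.L_norm (i := 0) (j := 1) (by decide)).trans h0

/-- **`TC.Fr` at stage `-1`**: `V_P` is the sum of two natural `SL₂(2)`-modules, `J(S) ≰ O₂(P)`. -/
theorem exists_fr_neg [Finite G] {S : Sylow 2 G} {P : Subgroup G} (h : HypJ S P) (hFF : FFThm.Stmt.{u})
    {F : Type} [Field F] [Finite F] [CharP F 2] (hq : Nat.card F = 2)
    (N : NatK F (S : Subgroup G) P (zl (S : Subgroup G) P) (cv (S : Subgroup G) P) 2) :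
    ∃ L W Z C A : Fin 2 → Subgroup G, Bs S P L W Z C A 2 (mm (S : Subgroup G)) ∧
      (NonLoc (normalizer (Z 0 : Set G)) (normalizer (Z 1 : Set G)) →
        ∃ (v : Fin 2 → G) (R : Fin 2 → Subgroup G), (∀ i, ∀ x, x ∈ Z i ↔ x = 1 ∨ x = v i) ∧
          KTwo.Sit S P ((S : Subgroup G) ⊓ normalizer (Z 0 : Set G)) W v ∧
          Fr ((S : Subgroup G) ⊓ normalizer (Z 0 : Set G)) W R v) := by
  obtain ⟨L, Z, A, hB, -⟩ := exists_bs h le_rfl N
  rw [hq] at hB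
  exact ⟨L, _, Z, _, A, hB, fun hn => exists_fr_bs hB hFF hn⟩

end Cfsg.Agent.Omega.TC.UniOne
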