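import Cfsg.Agent.Mrg.Omega.OM.Lev.Main
import Cfsg.Agent.Mrg.Omega.OM.Lev.LowBlk
import Cfsg.Agent.Mrg.Omega.OM.Lev.SMin
import Cfsg.Agent.Mrg.Omega.OM.Lev.GSym
import Mathlib
import Cfsg.Agent.Mrg.Omega.FrameI
import Cfsg.Agent.ZN.ChoiceBase
import Cfsg.Agent.Mrg.Omega.EK3.Star
import Cfsg.Agent.Mrg.Omega.EK3.Rank

section


/-!
# NO-3S, MultiTwoL, case (E), `k = 2`: the level input `UniLev` (`TC/OfMul.lean`)

* `uni_all` : UNI+ at stage `n` for **all** FF-blocks over `B = C_S(Ω₁(Z(lev S (n + 1))))` (any `q`), from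
  `LowBlk.V_le` and `UniPlus.uniPlusX`; `uniTwo` : the form `UniTwo` (`q = 2`);
* `T_eq` : `k = 2`, `q = 2`: `S ⊓ N(Z 0) = B`;
* `NoLow` : no minimal parabolic over `B` of smaller stage moves `Ω₁(Z(B))`;
* `uniLev_of` : **`NoLow` gives `UniLev`**.
-/

set_option autoImplicit false
set_option linter.unusedSectionVars false

namespace Cfsg.Agent.Omega.TC.UniLev

open Subgroup Cfsg Cfsg.Agent.ZN.ChoiceBase
open Cfsg.Agent.ZN (jj zj bau zc zl o2)
open Cfsg.Agent.ZN.ChoiceSit (Syl)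
open Cfsg.Agent.Omega.OM Cfsg.Agent.Omega.OM.Uni
open Cfsg.Agent.Omega.NO3S (HypJ HypN Hyp HypL)
open Cfsg.Agent.Omega.NO3S.Level (lev lev_isLev lev_mono)
open Cfsg.Agent.Omega.NO3S.EThree.Frame
open Cfsg.Agent.MinSimple.MinParabolic (IsMinPar)
open Cfsg.Agent.Omega.FFThm (NatK NatKM)
open Cfsg.Agent.Omega.FrameFF (cv)
open Cfsg.Agent.Omega.Frame (Cls)
open Cfsg.Agent.Omega.Node.MultiOf
open Cfsg.Agent.Omega.TC.OfMul
open Cfsg.Agent.Omega.OM.Lev.Uni (FrL)
open scoped Pointwise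

universe u

/-! ### UNI+ -/

section uni

variable {G : Type u} [Group G] [Finite G]

/-- **UNI+ at stage `n`, all FF-blocks over `B`.** -/
theorem uni_all {ι : Type*} [Finite ι] (S : Sylow 2 G) {n : ℕ} {B Q V ZJ : Subgroup G} {L W Z C A : ι → Subgroup G}
    {q : ℕ} (eqZ : ZJ = zc (lev (S : Subgroup G) (n + 1)))
    (eqB : B = (S : Subgroup G) ⊓ centralizer (zc (lev (S : Subgroup G) (n + 1)) : Set G))
    (h : FrL B Q V (zc (lev (S : Subgroup G) n)) ZJ L W Z C A q) {L' V' : Subgroup G} (h' : FBl B L' V') :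
    ∃ Z', FB B L' V' Z' q ∧ ∃ i, Z' = Z i ∧ UniPlus.NB B L' V' (Z i) q ∧ V' ≤ W i ⊔ ZJ ∧
      (∀ z ∈ ZJ, z ∈ C i ↔ ∀ l ∈ L', l * z = z * l) ∧
        (q = 2 → V' = W i ∧ L' ≤ L i ⊔ centralizer ((W i ⊔ ZJ : Subgroup G) : Set G)) := by
  subst eqZ
  obtain ⟨⟨Z', q', hF⟩, hb⟩ := h'
  have hX := Lev.LowBlk.V_le S eqB h hF hb.irr
  have hB : IsPGroup 2 B := S.isPGroup'.to_le (eqB ▸ inf_le_left)
  have hWC := Lev.Wc.wc_lev S (n + 1) eqB
  have hp : ∀ g ∈ normalizer (B : Set G), ∀ j, ∃ k, cj g (Z j) = Z k := by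
    intro g hg j
    have h1 := Lev.Wc.norm_B_Lev (lev_isLev (S : Subgroup G) n) eqB hg
    obtain ⟨k, hk, -⟩ := (h.norm_of hg (NO3S.Level.normalizer_le_zc _ h1)).2 j
    exact ⟨k, hk⟩
  obtain ⟨rfl, i, hZ, h1⟩ := Lev.UniPlus.uniPlusX h hB hWC hp hF hX
  exact ⟨Z', hF, i, hZ, h1⟩

/-- **UNI+, `q = 2`.** -/
theorem uniTwo (S : Sylow 2 G) {n k : ℕ} {B Q V ZJ : Subgroup G} {L W Z C A : Fin k → Subgroup G}
    (eqZ : ZJ = zc (lev (S : Subgroup G) (n + 1)))
    (eqB : B = (S : Subgroup G) ⊓ centralizer (zc (lev (S : Subgroup G) (n + 1)) : Set G))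
    (h : FrL B Q V (zc (lev (S : Subgroup G) n)) ZJ L W Z C A 2) : UniTwo B ZJ L W := by
  intro L' V' h'
  obtain ⟨-, -, i, -, -, -, -, h1⟩ := uni_all S eqZ eqB h h'
  exact ⟨i, h1 rfl⟩

/-- `k = 2`, `q = 2`: `N_S(Z 0) = B`. -/
theorem T_eq {S : Sylow 2 G} {P B ZJ : Subgroup G} {L W Z C : Fin 2 → Subgroup G}
    (h : Bg S P B ZJ L W Z C 2) : (S : Subgroup G) ⊓ normalizer (Z 0 : Set G) = B := by
  obtain ⟨v, hv1, hv, -⟩ := OfBg.exists_sit h
  apply le_antisymm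
  · rintro s ⟨hs, hsZ⟩
    have hc : ∀ i, s * v i = v i * s := by
      have h1 : ∀ i, cj s (Z i) = Z i → s * v i = v i * s := by
        intro i hi
        have h2 : s * v i * s⁻¹ ∈ Z i := by
          rw [← hi]
          exact ⟨v i, (hv i _).2 (Or.inr rfl), rfl⟩
        rcases (hv i _).1 h2 with h3 | h3
        · exact absurd (by
            have : v i = s⁻¹ * (s * v i * s⁻¹) * s := by group
            rw [h3] at this
            rw [this]; group) (hv1 i)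
        · exact mul_inv_eq_iff_eq_mul.1 h3
      obtain ⟨σ, hσ⟩ := h.perm_S hs
      have h0 : cj s (Z 0) = Z 0 := cj_eq_of_mem_normalizer hsZ
      have hσ0 : σ 0 = 0 := by
        by_contra hne
        have h4 := (hσ 0).2.1
        rw [h0] at h4
        exact hne (h.Z_inj h4).symm
      have hσ1 : σ 1 = 1 := by
        have h5 : σ 1 ≠ 0 := fun e => by
          have := σ.injective (e.trans hσ0.symm)
          exact absurd this (by decide)
        have h6 : ∀ a : Fin 2, a ≠ 0 → a = 1 := by decide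
        exact h6 _ h5
      intro i
      have h7 : ∀ a : Fin 2, a = 0 ∨ a = 1 := by decide
      rcases h7 i with rfl | rfl
      · exact h1 0 h0
      · refine h1 1 ?_
        rw [(hσ 1).2.1, hσ1]
    refine h.mem_B hs fun z hz => ?_
    rcases (OfBg.mem_ZJ_iff h hv).1 hz with rfl | rfl | rfl | rfl
    · simp
    · exact hc 0
    · exact hc 1
    · have c1 : Commute s (v 0) := hc 0
      have c2 : Commute s (v 1) := hc 1
      exact (c1.mul_right c2).eq
  · exact h.bau_le_T 0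

end uni

/-! ### `UniLev` -/

/-- **No minimal parabolic of smaller stage over `B` moves `Ω₁(Z(B))`** (`k = 2`, `q = 2`, stage `n`, case (E)). -/
def NoLow (K : Cls.{u}) : Prop :=
  ∀ (G : Type u) [Group G] [Finite G], K G → ∀ (S : Sylow 2 G) (P : Subgroup G), HypL S P → ∀ n : ℕ,
    (∀ R, MinPar.IsParS (S : Subgroup G) R → lev (S : Subgroup G) n ≤ o2 R) →
    ¬ lev (S : Subgroup G) (n + 1) ≤ o2 P →
    ∀ (F : Type) [Field F] [Finite F] [CharP F 2], Nat.card F = 2 →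
      NatKM F (S : Subgroup G) P (zl (S : Subgroup G) P) (cv (S : Subgroup G) P) 2 →
        ∀ B ZJ : Subgroup G, ZJ = zc (lev (S : Subgroup G) (n + 1)) →
          B = (S : Subgroup G) ⊓ centralizer (zc (lev (S : Subgroup G) (n + 1)) : Set G) → NLoc (KZ B ZJ) →
          ∀ L W Z C A : Fin 2 → Subgroup G, Bg S P B ZJ L W Z C 2 →
            FrL B (o2 P) (zl (S : Subgroup G) P) (zc (lev (S : Subgroup G) n)) ZJ L W Z C A 2 →
            ∀ R : Subgroup G, IsMinPar B R → Syl B R → R ⊓ centralizer (o2 R : Set G) ≤ o2 R →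
              ¬ lev (S : Subgroup G) n ≤ o2 R → R ≤ centralizer (zc B : Set G)

/-- **The level input.** -/
theorem uniLev_of {K : Cls.{u}} (hN : NoLow K) : UniLev K := by
  intro G _ _ hG S P h n hall hn1 F _ _ _ hF N B ZJ eqZ eqB hE
  have hn := hall P h.star
  obtain ⟨M, L, Z, A, -, hfr, hbg, -⟩ := Lev.Main.bg_lev h.toHypN hn hn1 le_rfl N eqB
  rw [← eqZ, hF] at hfr hbg
  refine ⟨L, _, Z, _, hbg, uniTwo S eqZ eqB hfr, ?_⟩
  rw [T_eq hbg]
  intro R hR hT hc hK hZ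
  by_cases hlow : lev (S : Subgroup G) n ≤ o2 R
  · have hB : LevB.BL (S : Subgroup G) (n + 1) = B := eqB.symm
    obtain ⟨L', V', h1, ⟨h2, h3⟩, h4⟩ := LevB.exists_fblk S hT hB.le hR hc hlow hK hZ
    rw [hB] at h2 h3
    exact ⟨L', V', ⟨h2, h3⟩, h1, h4.trans (sup_comm _ _).le⟩
  · exact absurd (hN G hG S P h n hall hn1 F hF N B ZJ eqZ eqB hE L _ Z _ A hbg hfr R hR hT hc hlow) hZ

end Cfsg.Agent.Omega.TC.UniLev

end

section


/-!
# NO-3S, `V_P` a sum of `k ≥ 2` natural `SL₂(q)`-modules: UNI+ and NonLoc from the tree (`Node/MultiOf.lean`), every stage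

* `BlkU B ZJ Z C q` : the form of UNI+: every FF-block `L'` over `B` has an index `i` with `FB B L' V' (Z i) q` and
  `C_ZJ(L') = ZJ ∩ C i`; in particular `L' ≤ C(Z j)` for `j ≠ i`;
* `blkU_lev`, `blkU_neg` : from the frames `FrL` (stage `n`) and `Line` (stage `-1`);
* `BlkU.perm_of` : two frames over the same `(B, ZJ)` differ by a permutation of the indices;
* `Mul.blkU` : **UNI+ for `Mul`, every stage, any `q`**;
* `nonloc_of`, `Mul.nonloc` : **`k = 2`: `NLoc (KZ B ZJ)` implies `NonLoc (N(Z i)) (N(Z j))`**.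
-/

set_option autoImplicit false
set_option linter.unusedSectionVars false

namespace Cfsg.Agent.Omega.NO3S.EThree.NonLocQ

open Subgroup Cfsg Cfsg.Agent.ZN.ChoiceBase
open Cfsg.Agent.ZN (jj zj bau zc zl o2)
open Cfsg.Agent.Omega.OM Cfsg.Agent.Omega.OM.Uni
open Cfsg.Agent.Omega.NO3S (HypJ HypN Hyp HypL)
open Cfsg.Agent.Omega.NO3S.Level (lev)
open Cfsg.Agent.Omega.NO3S.EThree.Frame
open Cfsg.Agent.Omega.MinPar (NonLoc)
open Cfsg.Agent.Omega.FFThm (NatK NatKM)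
open Cfsg.Agent.Omega.FrameFF (cv)
open Cfsg.Agent.Omega.OM.UniPlus (NB)
open Cfsg.Agent.Omega.OM.Lev.Uni (FrL)
open Cfsg.Agent.Omega.Node.MultiOf

universe u

variable {G : Type u} [Group G]

/-- **UNI+** : every FF-block `L'` over `B` has an index. -/
def BlkU {ι : Type*} (B ZJ : Subgroup G) (Z C : ι → Subgroup G) (q : ℕ) : Prop :=
  ∀ L' V' : Subgroup G, FBl B L' V' → ∃ i, FB B L' V' (Z i) q ∧ ∀ z ∈ ZJ, z ∈ C i ↔ ∀ l ∈ L', l * z = z * l

section

variable [Finite G] {ι : Type*} {B ZJ : Subgroup G} {Z C : ι → Subgroup G} {q : ℕ}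

/-- stage `n` -/
theorem blkU_lev [Finite ι] (S : Sylow 2 G) {n : ℕ} {Q V : Subgroup G} {L W A : ι → Subgroup G}
    (eqZ : ZJ = zc (lev (S : Subgroup G) (n + 1)))
    (eqB : B = (S : Subgroup G) ⊓ centralizer (zc (lev (S : Subgroup G) (n + 1)) : Set G))
    (h : FrL B Q V (zc (lev (S : Subgroup G) n)) ZJ L W Z C A q) : BlkU B ZJ Z C q := by
  intro L' V' h'
  obtain ⟨Z', hF, i, rfl, -, -, h1, -⟩ := TC.UniLev.uni_all S eqZ eqB h h'
  exact ⟨i, hF, h1⟩

/-- stage `-1` -/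
theorem blkU_neg {S : Sylow 2 G} {P : Subgroup G} {ι : Type} [Finite ι] {L W Z C A : ι → Subgroup G} {q : ℕ}
    (h : Line S P L W Z C A q) (htr : ∀ i j : ι, ∃ s ∈ (S : Subgroup G), cj s (Z i) = Z j) :
    BlkU (bau (S : Subgroup G)) (zj (S : Subgroup G)) Z C q := by
  rintro L' V' ⟨⟨Z', q', hF⟩, hb⟩
  obtain ⟨rfl, i, rfl, hN, ⟨-, h1, -⟩ | ⟨rfl, -, -⟩⟩ := h.uniPlus hF
  · exact ⟨i, hF, h1⟩
  · obtain ⟨j, hj, hV, hle⟩ := h.uniTwo htr hF hb
    refine ⟨j, hj ▸ hF, fun z hz => ⟨fun hzC l hl => ?_, fun hc => ?_⟩⟩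
    · have h2 := hle hl
      have h3 : L j ⊔ centralizer ((W j ⊔ zj (S : Subgroup G) : Subgroup G) : Set G) ≤ centralizer ({z} : Set G) := by
        refine sup_le (fun x hx => ?_) (centralizer_le ?_)
        · rw [mem_centralizer_singleton_iff]
          exact h.fr.LC j x hx z hz hzC
        · rw [Set.singleton_subset_iff]
          exact (le_sup_right : zj (S : Subgroup G) ≤ W j ⊔ zj (S : Subgroup G)) hz
      exact mem_centralizer_singleton_iff.1 (h3 h2)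
    · obtain ⟨w, hw, c, hcC, hcJ, e⟩ := h.fr.split_ZJ j hz
      have h1 : w = 1 := by
        refine NB.cent (B := bau (S : Subgroup G)) (L := L') (V := V') (Z := Z j) (q := 2) ?_ hw fun l hl => ?_
        · rw [← hj]; exact hN
        · have h2 := hc l hl
          have h3 : l * c = c * l := by
            have h4 : L j ⊔ centralizer ((W j ⊔ zj (S : Subgroup G) : Subgroup G) : Set G) ≤
                centralizer ({c} : Set G) := by
              refine sup_le (fun x hx => ?_) (centralizer_le ?_)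
              · rw [mem_centralizer_singleton_iff]
                exact h.fr.LC j x hx c hcJ hcC
              · rw [Set.singleton_subset_iff]
                exact (le_sup_right : zj (S : Subgroup G) ≤ W j ⊔ zj (S : Subgroup G)) hcJ
            exact mem_centralizer_singleton_iff.1 (h4 (hle hl))
          have h5 : w = z * c⁻¹ := by rw [e]; group
          have h6 : l * c⁻¹ = c⁻¹ * l := by
            have h7 : Commute l c := h3
            exact h7.inv_right.eq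
          rw [h5, ← mul_assoc, h2, mul_assoc, h6, mul_assoc]
      rw [e, h1, one_mul]
      exact hcC

namespace BlkU

omit [Finite G] in
theorem cent (h : BlkU B ZJ Z C q) {L' V' : Subgroup G} (h' : FBl B L' V') (hZ : ∀ j, Z j ≤ ZJ)
    (hC : ∀ i j, i ≠ j → Z j ≤ C i) :
    ∃ i, FB B L' V' (Z i) q ∧ ∀ j, i ≠ j → L' ≤ centralizer (Z j : Set G) := by
  obtain ⟨i, h1, h2⟩ := h L' V' h'
  refine ⟨i, h1, fun j hij l hl => mem_centralizer_iff.2 fun z hz => ?_⟩
  exact ((h2 z (hZ j hz)).1 (hC i j hij hz) l hl).symm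

omit [Finite G] in
/-- Two frames over the same `(B, ZJ)` differ by a permutation of the indices. -/
theorem perm_of {ι' : Type*} [Finite ι'] [Finite ι] {L W Z' C' : ι' → Subgroup G} {q' : ℕ}
    (h : BlkU B ZJ Z C q) (hb : ∀ i, FBl B (L i) (W i)) (hF : ∀ i, FB B (L i) (W i) (Z' i) q')
    (hC : ∀ i, ∀ z ∈ ZJ, z ∈ C' i ↔ ∀ l ∈ L i, l * z = z * l) :
    ∀ i, ∃ j, Z' i = Z j ∧ ∀ z ∈ ZJ, z ∈ C' i ↔ z ∈ C j := by
  intro i
  obtain ⟨j, h1, h2⟩ := h (L i) (W i) (hb i)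
  refine ⟨j, ?_, fun z hz => (hC i z hz).trans (h2 z hz).symm⟩
  ext x
  rw [(hF i).toMd.mem_Z_iff, h1.toMd.mem_Z_iff]

end BlkU

end

section bg

variable [Finite G] {S : Sylow 2 G} {P B ZJ : Subgroup G} {ι : Type} {L W Z C : ι → Subgroup G} {q : ℕ}

/-- `ZJ ∩ C i = C_ZJ(L i)` -/
theorem mem_C_iff (h : Bg S P B ZJ L W Z C q) {i : ι} {z : G} (hz : z ∈ ZJ) :
    z ∈ C i ↔ ∀ l ∈ L i, l * z = z * l := by
  constructor
  · exact fun hc l hl => h.fr.LC i l hl z hz hc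
  · intro hL
    obtain ⟨w, hw, c, hc, hcJ, e⟩ := h.fr.split_ZJ i hz
    have h1 : w = 1 := by
      refine NB.cent (B := B) (L := L i) (V := W i) (Z := Z i) (q := q) ⟨h.fr.blk i, h.fr.cardZ i⟩ hw
        fun l hl => ?_
      have h2 := hL l hl
      have h3 := h.fr.LC i l hl c hcJ hc
      have h5 : w = z * c⁻¹ := by rw [e]; group
      have h6 : l * c⁻¹ = c⁻¹ * l := by
        have h7 : Commute l c := h3
        exact h7.inv_right.eq
      rw [h5, ← mul_assoc, h2, mul_assoc, h6, mul_assoc]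
    rw [e, h1, one_mul]
    exact hc

/-- **NonLoc from UNI+**, two blocks. -/
theorem nonloc_of (h : Bg S P B ZJ L W Z C q) (hu : BlkU B ZJ Z C q) {i j : ι} (hij : i ≠ j)
    (h2 : ∀ l, l = i ∨ l = j) (hE : NLoc (KZ B ZJ)) :
    NonLoc (normalizer (Z i : Set G)) (normalizer (Z j : Set G)) := by
  have hc : centralizer (ZJ : Set G) ≤ normalizer (Z i : Set G) :=
    (centralizer_le (h.fr.Z_le i)).trans (centralizer_le_normalizer _)
  intro U hU h0 h1
  refine hE U hU (sup_le (hc.trans h0) (iSup_le ?_))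
  rintro ⟨⟨L', V'⟩, hb⟩
  obtain ⟨l, -, hl⟩ := hu.cent hb h.fr.Z_le fun a b hab => (h.fr.blk b).ZV.trans (h.fr.WjC a b hab)
  rcases h2 l with rfl | rfl
  · exact ((hl j hij).trans (centralizer_le_normalizer _)).trans h1
  · exact ((hl i hij.symm).trans (centralizer_le_normalizer _)).trans h0

/-- UNI+ for a second frame over the same `(B, ZJ)`. -/
theorem BlkU.of_bg [Finite ι] {S : Sylow 2 G} {P' : Subgroup G} {L' W' Z' C' : ι → Subgroup G} {q' : ℕ}
    (hu : BlkU B ZJ Z C q) (h' : Bg S P' B ZJ L' W' Z' C' q') :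
    BlkU B ZJ Z' C' q := by
  have h1 := hu.perm_of (L := L') (W := W') (Z' := Z') (C' := C') (q' := q')
    (fun i => ⟨⟨_, _, h'.fr.blk i⟩, h'.block i⟩) h'.fr.blk fun i z hz => mem_C_iff h' hz
  choose σ hσ using h1
  have hinj : Function.Injective σ := fun a b e => h'.Z_inj (by rw [(hσ a).1, (hσ b).1, e])
  have hsur : Function.Surjective σ := Finite.surjective_of_injective hinj
  intro L₀ V₀ hb
  obtain ⟨j, h2, h3⟩ := hu L₀ V₀ hb
  obtain ⟨i, rfl⟩ := hsur j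
  refine ⟨i, (hσ i).1.symm ▸ h2, fun z hz => ((hσ i).2 z hz).trans (h3 z hz)⟩

/-- **UNI+ for `Mul`**, every stage, any `q`. -/
theorem blkU_of {K' : Subgroup G} {k : ℕ} (hk : 2 ≤ k) {L W Z C : Fin k → Subgroup G} {q : ℕ}
    (h : Mul S P K' B ZJ L W Z C q) : BlkU B ZJ Z C q := by
  obtain ⟨F, _, _, _, rfl, ⟨N⟩⟩ := h.nat
  cases h.stg with
  | neg hj =>
    obtain ⟨L₁, Z₁, A₁, hB, -⟩ := NO3S.EThree.Frame.exists_bs ⟨h.hyp.toHypN, hj⟩ hk N.toNatK
    have hl : Line S P L₁ _ Z₁ _ A₁ (Nat.card F) := ⟨hB.hyp, hB.fr, hB.two⟩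
    have htr : ∀ i j : Fin k, ∃ s ∈ (S : Subgroup G), cj s (Z₁ i) = Z₁ j := fun i j => by
      obtain ⟨s, hs, e⟩ := hB.trans i j
      exact ⟨s, hs, (hB.cj_Z_iff hs).2 e⟩
    exact BlkU.of_bg (blkU_neg hl htr) h.bg
  | lev n hall hn hn1 =>
    obtain ⟨M, L₁, Z₁, A₁, -, hfr, -⟩ := Lev.Main.bg_lev h.hyp.toHypN hn hn1 hk N rfl
    exact BlkU.of_bg (blkU_lev S rfl rfl hfr) h.bg

/-- **NonLoc for `Mul`, `k = 2`**, every stage, any `q`. -/
theorem nonloc_mul {K' : Subgroup G} {L W Z C : Fin 2 → Subgroup G}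
    (h : Mul S P K' B ZJ L W Z C q) (hE : NLoc (KZ B ZJ)) :
    NonLoc (normalizer (Z 0 : Set G)) (normalizer (Z 1 : Set G)) :=
  nonloc_of h.bg (blkU_of le_rfl h) (by decide) (by decide) hE

end bg

end Cfsg.Agent.Omega.NO3S.EThree.NonLocQ

end

section


/-!
# NO-3S, `V_P` a sum of `k ≥ 2` natural modules, stage `-1`: TI from `C_G(Ω₁(Z(S))) ≤ N_G(Z_J)`

* `frattini` : `N_G(ZJ) = C_G(ZJ) N_G(B)`; `norm_Z` : an element of `N_G(ZJ)` which fixes `z ∈ Z i`, `z ≠ 1`,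
  normalises `Z i`;
* `cent_zc_le` : `C_G(Ω₁(Z(S))) ≤ N_G(Z_J)` implies `C_G(Ω₁(Z(T))) ≤ N_G(Z_J)` for every 2-group `T ≥ B`;
* `cent_le` : then `C_G(z) ≤ N_G(Z i)` for `1 ≠ z ∈ Z i`;
* `ti` : `Z i` is TI.
-/

set_option autoImplicit false
set_option linter.unusedSectionVars false

namespace Cfsg.Agent.Omega.NO3S.EThree.TiNeg

open Subgroup Cfsg Cfsg.Agent.ZN.ChoiceBase
open Cfsg.Agent.ZN (jj zj bau zc zl o2)
open Cfsg.Agent.ZN.ChoiceSit (Syl exists_syl syl_conj o2_le_syl)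
open Cfsg.Agent.Omega.OM Cfsg.Agent.Omega.OM.Uni
open Cfsg.Agent.Omega.NO3S (HypJ HypN Hyp HypL)
open Cfsg.Agent.Omega.NO3S.EThree.Frame
open Cfsg.Agent.Omega.MinPar (NonLoc)
open Cfsg.Agent.Omega.Node.MultiOf
open Cfsg.Agent.Omega.NO3S.EThree.NonLocQ
open Cfsg.Agent.MinSimple.MinParabolic (IsMinPar le_of_forall)
open Cfsg.Agent.MinSimple.VModule (le_normalizer_o2 o2_isPGroup le_o2 o2_le)

universe u

variable {G : Type u} [Group G] [Finite G] {S : Sylow 2 G} {P B ZJ : Subgroup G} {ι : Type}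
  {L W Z C : ι → Subgroup G} {q : ℕ}

/-- `N_G(ZJ) = C_G(ZJ) N_G(B)` -/
theorem frattini (h : Bg S P B ZJ L W Z C q) {g : G} (hg : g ∈ normalizer (ZJ : Set G)) :
    ∃ c ∈ centralizer (ZJ : Set G), ∃ n ∈ normalizer (B : Set G), g = c * n := by
  have h1 := h.syl_B
  have hgc : cj g (centralizer (ZJ : Set G)) = centralizer (ZJ : Set G) := by
    rw [cj_centralizer, cj_eq_of_mem_normalizer hg]
  have h2 : Syl (cj g B) (centralizer (ZJ : Set G)) := by
    refine ⟨?_, isPGroup_cj g h1.2.1, fun Q hQ h3 hle => ?_⟩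
    · have := cj_mono g h1.1
      rwa [hgc] at this
    · have h4 : cj g⁻¹ Q ≤ centralizer (ZJ : Set G) := by
        have := cj_mono g⁻¹ hQ
        rwa [← hgc, cj_inv_cj] at this
      have h5 := h1.2.2 (cj g⁻¹ Q) h4 (isPGroup_cj _ h3) (cj_le_iff.1 hle)
      rw [← h5, cj_cj_inv]
  obtain ⟨x, hx, e⟩ := syl_conj h1 h2
  refine ⟨x, hx, x⁻¹ * g, ?_, by group⟩
  rw [mem_normalizer_iff_cj, ← cj_cj, ← e, cj_inv_cj]

/-- An element of `N_G(ZJ)` which fixes `z ∈ Z i`, `z ≠ 1`, normalises `Z i`. -/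
theorem norm_Z (h : Bg S P B ZJ L W Z C q) [Finite ι] {g : G} (hg : g ∈ normalizer (ZJ : Set G)) {i : ι} {z : G}
    (hz : z ∈ Z i) (hz1 : z ≠ 1) (hgz : g * z = z * g) : g ∈ normalizer (Z i : Set G) := by
  obtain ⟨c, hc, n, hn, rfl⟩ := frattini h hg
  have hcZ : c ∈ normalizer (Z i : Set G) :=
    centralizer_le_normalizer _ (centralizer_le (by exact_mod_cast h.fr.Z_le i) hc)
  refine mul_mem hcZ ?_
  obtain ⟨j, hj, -⟩ := (h.nrm n hn).2 i
  have h1 : n * z * n⁻¹ ∈ Z j := by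
    rw [← hj]
    exact ⟨z, hz, rfl⟩
  have h2 : n * z * n⁻¹ = z := by
    have hnZ : n * z * n⁻¹ ∈ ZJ := h.fr.Z_le j h1
    have h3 := mem_centralizer_iff.1 hc _ hnZ
    have h4 : c * (n * z * n⁻¹) * c⁻¹ = z := by
      have : c * (n * z * n⁻¹) * c⁻¹ = (c * n) * z * (c * n)⁻¹ := by group
      rw [this, hgz]
      group
    rw [← h3] at h4
    rwa [mul_assoc, mul_inv_cancel, mul_one] at h4
  rw [h2] at h1
  have h3 : j = i := by
    by_contra hne
    have h4 : z ∈ Z j ⊓ Z i := ⟨h1, hz⟩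
    rw [h.Z_disj hne, mem_bot] at h4
    exact hz1 h4
  rw [mem_normalizer_iff_cj, hj, h3]

/-- A 2-group over `B` which fixes `z` normalises `Z i`. -/
theorem two_norm_Z (h : Bg S P B ZJ L W Z C q) [Finite ι] {T : Subgroup G} (hT : T ≤ normalizer (B : Set G))
    {i : ι} {z : G} (hz : z ∈ Z i) (hz1 : z ≠ 1) (hTz : T ≤ centralizer ({z} : Set G)) :
    T ≤ normalizer (Z i : Set G) := fun _ ht =>
  norm_Z h (h.norm_ZJ (hT ht)) hz hz1 (mem_centralizer_singleton_iff.1 (hTz ht))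

/-- `Ω₁(Z(S)) ≤ ZJ` -/
theorem zc_S_le (h : Bg S P B ZJ L W Z C q) : zc (S : Subgroup G) ≤ ZJ := by
  have hJS : ZJ ≤ (S : Subgroup G) := (h.fr.ZJV.trans h.fr.VB).trans h.BS
  intro x hx
  have h1 := mem_zc.1 hx
  have h2 : x ∈ B := h.mem_B h1.1 fun z hz => (h1.2.2 z (hJS hz)).symm
  rw [← h.fr.zcB, mem_zc]
  exact ⟨h2, h1.2.1, fun b hb => h1.2.2 b (h.BS hb)⟩

/-- **(T1) for all `T` from (T1) for `S`.** -/
theorem cent_zc_le (h : Bg S P B ZJ L W Z C q) (hY : centralizer (zc (S : Subgroup G) : Set G) ≤ normalizer (ZJ : Set G))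
    {T : Subgroup G} (hT : IsPGroup 2 T) (hB : B ≤ T) : centralizer (zc T : Set G) ≤ normalizer (ZJ : Set G) := by
  have h1 := h.le_norm_B hT hB
  obtain ⟨R', hR', hle⟩ := exists_syl hT h1
  have hS : Syl (S : Subgroup G) (normalizer (B : Set G)) :=
    ⟨h.S_norm_B, S.isPGroup', fun _ _ hT hST => S.is_maximal' hT hST⟩
  obtain ⟨x, hx, rfl⟩ := syl_conj hS hR'
  have hxJ : cj x ZJ = ZJ := cj_eq_of_mem_normalizer (h.norm_ZJ hx)
  have hJT : ZJ ≤ T := (h.fr.ZJV.trans h.fr.VB).trans hB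
  have h2 : cj x (zc (S : Subgroup G)) ≤ zc T := by
    intro y hy
    have hyJ : y ∈ ZJ := by
      rw [← hxJ]
      exact cj_mono x (zc_S_le h) hy
    rw [mem_cj] at hy
    have h3 := mem_zc.1 hy
    rw [mem_zc]
    refine ⟨hJT hyJ, ?_, fun t ht => ?_⟩
    · exact h.fr.Vsq (h.fr.ZJV hyJ)
    · have h4 : x⁻¹ * t * x ∈ (S : Subgroup G) := mem_cj.1 (hle ht)
      have h5 := h3.2.2 _ h4
      have h6 := congrArg (fun w => x * w * x⁻¹) h5
      simpa [mul_assoc] using h6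
  have h3 : centralizer (zc T : Set G) ≤ cj x (centralizer (zc (S : Subgroup G) : Set G)) := by
    rw [cj_centralizer]
    exact centralizer_le (by exact_mod_cast h2)
  refine h3.trans ((cj_mono x hY).trans ?_)
  rw [cj_normalizer, hxJ]

/-- **(T2) from (T1)**: `C_G(z) ≤ N_G(Z i)` for `1 ≠ z ∈ Z i`. -/
theorem cent_le (h : Bg S P B ZJ L W Z C q) [Finite ι] {K : Subgroup G} (hK : LevD.LB S K B ZJ)
    (hu : BlkU B ZJ Z C q) (hb : ∀ T : Subgroup G, IsPGroup 2 T → B ≤ T → TC.OfMul.BlkS K B T)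
    (hY : ∀ T : Subgroup G, IsPGroup 2 T → B ≤ T → centralizer (zc T : Set G) ≤ normalizer (ZJ : Set G))
    {i : ι} {z : G} (hz : z ∈ Z i) (hz1 : z ≠ 1) : centralizer ({z} : Set G) ≤ normalizer (Z i : Set G) := by
  have : Fact (Nat.Prime 2) := ⟨Nat.prime_two⟩
  have hzV : z ∈ zl (S : Subgroup G) P := h.fr.ZV i hz
  have hz2 : IsPGroup 2 (zpowers z) := by
    refine h.Z_two i |>.to_le ?_
    rwa [zpowers_le]
  have hzne : zpowers z ≠ ⊥ := by rwa [Ne, zpowers_eq_bot]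
  -- `H = C_G(z)` has characteristic 2
  set H : Subgroup G := centralizer ({z} : Set G) with hH
  have hHeq : H = normalizer (zpowers z : Set G) := by
    have h3 : ∀ x, x ∈ zpowers z ↔ x = 1 ∨ x = z := by
      intro x
      constructor
      · intro hx
        obtain ⟨n, rfl⟩ := mem_zpowers_iff.1 hx
        have h3 : z ^ (2 : ℤ) = 1 := by
          have := h.fr.Vsq hzV
          exact_mod_cast this
        rcases Int.even_or_odd' n with ⟨m, hm | hm⟩
        · left; rw [hm, zpow_mul, h3, one_zpow]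
        · right; rw [hm, zpow_add, zpow_mul, h3, one_zpow, one_mul, zpow_one]
      · rintro (rfl | rfl)
        · exact one_mem _
        · exact mem_zpowers x
    exact (TC.OfBg.normalizer_eq h3 hz1).symm
  have hc2 : H ⊓ centralizer (o2 H : Set G) ≤ o2 H := by
    rw [hHeq]
    exact MinSimple.Basic.char2_normalizer h.hyp.toHyp.ctx.char2 hz2 hzne
  have hBH : B ≤ H := fun b hb => mem_centralizer_singleton_iff.2 ((h.fr.blk i).cZ b hb z hz)
  obtain ⟨T, hT, hBT⟩ := exists_syl h.bau_two hBH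
  have hTB : T ≤ normalizer (B : Set G) := h.le_norm_B hT.2.1 hBT
  have hfix : ∀ g ∈ H, g * z = z * g := fun g hg => mem_centralizer_singleton_iff.1 hg
  refine le_of_forall (S := T) hT.1 ?_ fun R hR hRH => ?_
  · -- `N_H(T) ≤ N_G(B)`: `B` is weakly closed
    rintro g ⟨hgH, hgT⟩
    have hgB : g ∈ normalizer (B : Set G) := by
      rw [mem_normalizer_iff_cj]
      refine h.wc T hT.2.1 hBT g ?_
      have := cj_mono g hBT
      rwa [cj_eq_of_mem_normalizer hgT] at this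
    exact norm_Z h (h.norm_ZJ hgB) hz hz1 (hfix g hgH)
  · have hsyl : Syl T R := ⟨hR.le, hT.2.1, fun Q hQ h2 hTQ => hT.2.2 Q (hQ.trans hRH) h2 hTQ⟩
    have hcR : R ⊓ centralizer (o2 R : Set G) ≤ o2 R := by
      have h4 : o2 H ≤ o2 R :=
        le_o2 ((o2_le_syl hT).trans hR.le) (o2_isPGroup _) (hRH.trans (le_normalizer_o2 _))
      rintro x ⟨hx, hxc⟩
      exact h4 (hc2 ⟨hRH hx, centralizer_le (by exact_mod_cast h4) hxc⟩)
    by_cases hKR : K ≤ o2 R
    · have h1 : R ≤ normalizer (ZJ : Set G) := (le_normalizer_o2 R).trans (hK.nrm _ (o2_isPGroup R) hKR)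
      exact fun g hg => norm_Z h (h1 hg) hz hz1 (hfix g (hRH hg))
    by_cases hZR : R ≤ centralizer (zc T : Set G)
    · have h1 : R ≤ normalizer (ZJ : Set G) := hZR.trans (hY T hT.2.1 hBT)
      exact fun g hg => norm_Z h (h1 hg) hz hz1 (hfix g (hRH hg))
    obtain ⟨L', V', hbl, h1, h2⟩ := hb T hT.2.1 hBT R hR hsyl hcR hKR hZR
    refine h2.trans (sup_le ?_ (two_norm_Z h hTB hz hz1 hT.1))
    obtain ⟨j, h3, h4⟩ := hu L' V' hbl
    have hji : j ≠ i := by
      rintro rfl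
      have h5 : z ∈ C j := (h4 z (h.fr.Z_le j hz)).2 fun l hl => hfix l (hRH (h1 hl))
      have h6 : z ∈ W j ⊓ C j := ⟨(h.fr.blk j).ZV hz, h5⟩
      rw [h.fr.dir j, mem_bot] at h6
      exact hz1 h6
    refine le_trans (fun l hl => mem_centralizer_iff.2 fun y hy => ?_) (centralizer_le_normalizer _)
    exact ((h4 y (h.fr.Z_le i hy)).1 (h.fr.WjC j i hji ((h.fr.blk i).ZV hy)) l hl).symm

/-- `TI` from the centralisers. -/
theorem ti_of_cent (h : Bg S P B ZJ L W Z C q) {i : ι}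
    (hc : ∀ z ∈ Z i, z ≠ 1 → centralizer ({z} : Set G) ≤ normalizer (Z i : Set G)) : TI (Z i) := by
  intro g hg
  obtain ⟨x, hx, hx1⟩ : ∃ x ∈ cj g (Z i) ⊓ Z i, x ≠ 1 := by
    by_contra hcon
    push Not at hcon
    exact hg ((eq_bot_iff_forall _).2 hcon)
  obtain ⟨⟨y, hy, e⟩, hxZ⟩ := hx
  have e' : g * y * g⁻¹ = x := e
  have hy1 : y ≠ 1 := by
    rintro rfl
    exact hx1 (by rw [← e']; group)
  obtain ⟨t, htL, htB, ht⟩ := h.tor i hy hy1 hxZ hx1
  have htZ : t ∈ normalizer (Z i : Set G) := by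
    rw [mem_normalizer_iff_cj]
    refine Subgroup.eq_of_le_of_card_ge ?_ (by rw [card_cj])
    rintro _ ⟨v, hv, rfl⟩
    exact h.L_inf_norm i htL htB hv
  have h1 : g * t⁻¹ ∈ normalizer (Z i : Set G) := by
    refine hc x hxZ hx1 (mem_centralizer_singleton_iff.2 ?_)
    have h2 : g * t⁻¹ * x * (g * t⁻¹)⁻¹ = x := by
      rw [← ht]
      have : g * t⁻¹ * (t * y * t⁻¹) * (g * t⁻¹)⁻¹ = g * y * g⁻¹ := by group
      rw [this, e', ht]
    exact mul_inv_eq_iff_eq_mul.1 h2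
  have h3 := mul_mem h1 htZ
  rw [inv_mul_cancel_right] at h3
  exact mem_normalizer_iff_cj.1 h3

end Cfsg.Agent.Omega.NO3S.EThree.TiNeg

end

section


/-!
# TI at stage `-1` for `Mul` from `C_G(Ω₁(Z(S))) ≤ N_G(Z_J)`

* `blkS_neg` : the generation by blocks over every 2-group `T ≥ B(S)`;
* `cent_le_neg`, `ti_neg_of` : `k ≥ 2`, any `q`.
-/

set_option autoImplicit false
set_option linter.unusedSectionVars false

namespace Cfsg.Agent.Omega.NO3S.EThree.TiNeg

open Subgroup Cfsg Cfsg.Agent.ZN.ChoiceBase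
open Cfsg.Agent.ZN (jj zj bau zc zl o2)
open Cfsg.Agent.ZN.ChoiceSit (Syl)
open Cfsg.Agent.Omega.OM
open Cfsg.Agent.Omega.NO3S.EThree.Frame
open Cfsg.Agent.Omega.Node.MultiOf
open Cfsg.Agent.Omega.NO3S.EThree.NonLocQ

universe u

variable {G : Type u} [Group G] [Finite G]

/-- The generation by blocks at stage `-1`. -/
theorem blkS_neg (hFF : FFThm.Stmt.{u}) (S : Sylow 2 G) {T : Subgroup G} (hBT : bau (S : Subgroup G) ≤ T) :
    TC.OfMul.BlkS (jj (S : Subgroup G)) (bau (S : Subgroup G)) T := by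
  intro R hR hT hc hK hZ
  have hjj : jj T = jj (S : Subgroup G) := LemmaK.Main.jj_eq S hT.2.1 hBT
  obtain ⟨L', V', ⟨h1, h2⟩, h3, h4⟩ := TC.UniOne.blkGenS hFF S hT hBT hR hc (by rw [hjj]; exact hK) hZ
  exact ⟨L', V', ⟨h1, h2⟩, h3, h4⟩

section

variable {S : Sylow 2 G} {P K B ZJ : Subgroup G} {k : ℕ} {L W Z C : Fin k → Subgroup G} {q : ℕ}

/-- **(T2) at stage `-1`.** -/
theorem cent_le_neg (hFF : FFThm.Stmt.{u}) (h : Mul S P K B ZJ L W Z C q) (hk : 2 ≤ k)
    (hj : ¬ jj (S : Subgroup G) ≤ o2 P)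
    (hY : centralizer (zc (S : Subgroup G) : Set G) ≤ normalizer (zj (S : Subgroup G) : Set G)) {i : Fin k} {z : G}
    (hz : z ∈ Z i) (hz1 : z ≠ 1) : centralizer ({z} : Set G) ≤ normalizer (Z i : Set G) := by
  have hu := blkU_of hk h
  have hlb := h.lb
  cases h.stg with
  | neg _ =>
    exact cent_le h.bg hlb hu (fun T _ hBT => blkS_neg hFF S hBT) (fun T hT hBT => cent_zc_le h.bg hY hT hBT) hz hz1
  | lev n _ hn _ => exact absurd ((NO3S.Level.lev_mono (S : Subgroup G) (Nat.zero_le n)).trans hn) hj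

/-- **TI at stage `-1`.** -/
theorem ti_neg_of (hFF : FFThm.Stmt.{u}) (h : Mul S P K B ZJ L W Z C q) (hk : 2 ≤ k)
    (hj : ¬ jj (S : Subgroup G) ≤ o2 P)
    (hY : centralizer (zc (S : Subgroup G) : Set G) ≤ normalizer (zj (S : Subgroup G) : Set G)) (i : Fin k) :
    TI (Z i) :=
  ti_of_cent h.bg fun _ hz hz1 => cent_le_neg hFF h hk hj hY hz hz1

end

end Cfsg.Agent.Omega.NO3S.EThree.TiNeg

end

section


/-!
# LEMMA FIX, elementwise, for offenders (CARD #18791, all levels)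

`V ≤ Z(O)` elementary abelian, `A` normalises `O`, `V` and induces a group of order 2 on `O`-cosets (`a ∈ O` or `τ a ∈ O`),
`p ∈ V` is moved by `τ`, `e ∈ O` an involution with `[e, O] ≤ ⟨p⟩`; `A` offends on every elementary abelian `A`-invariant
`F` with `V ≤ F ≤ ⟨V, e, e^τ⟩`. Then `[e, O] = 1`.
-/

set_option autoImplicit false
set_option linter.unusedSectionVars false

namespace Cfsg.Agent.Omega.TC.LevFix

open Subgroup Cfsg Cfsg.Agent.Omega.FFThm
open Cfsg.Agent.ZN.ChoiceBase (mem_normalizer_iff_cj cj)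
open scoped Pointwise

universe u

variable {G : Type u} [Group G] [Finite G]

theorem two_mul_le {H K : Subgroup G} (h : H ≤ K) {x : G} (hx : x ∈ K) (hxH : x ∉ H) :
    2 * Nat.card H ≤ Nat.card K := by
  have h1 : Nat.card H ∣ Nat.card K := card_dvd_of_le h
  obtain ⟨m, hm⟩ := h1
  have h2 : Nat.card H ≠ Nat.card K := fun he => hxH ((Subgroup.eq_of_le_of_card_ge h he.ge).symm ▸ hx)
  have h3 : 0 < Nat.card K := Nat.card_pos
  have h4 : m ≠ 0 := by
    rintro rfl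
    rw [mul_zero] at hm
    omega
  have h5 : m ≠ 1 := by rintro rfl; exact h2 (by rw [hm, mul_one])
  have h6 : 2 ≤ m := by omega
  rw [hm, mul_comm 2]
  exact Nat.mul_le_mul_left _ h6

theorem le_two_mul {A C : Subgroup G} {τ : G} (hτ : τ ∈ A) (hCA : C ≤ A)
    (hidx : ∀ a ∈ A, a ∈ C ∨ τ * a ∈ C) : Nat.card A ≤ 2 * Nat.card C := by
  classical
  have h1 : (A : Set G) ⊆ (C : Set G) ∪ (fun c => τ⁻¹ * c) '' (C : Set G) := by
    intro a ha
    rcases hidx a ha with h | h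
    · exact Or.inl h
    · exact Or.inr ⟨τ * a, h, by group⟩
  have h2 : (A : Set G).ncard ≤ (C : Set G).ncard + (C : Set G).ncard := by
    refine (Set.ncard_le_ncard h1 (Set.toFinite _)).trans ((Set.ncard_union_le _ _).trans ?_)
    exact Nat.add_le_add_left (Set.ncard_image_le (Set.toFinite _)) _
  have h3 : (A : Set G).ncard = Nat.card A := rfl
  have h4 : (C : Set G).ncard = Nat.card C := rfl
  rw [h3, h4] at h2
  omega

/-- The hypotheses. -/
structure Dat (A O V : Subgroup G) (τ p e : G) : Prop where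
  VO : V ≤ O
  OV : ∀ o ∈ O, ∀ x ∈ V, o * x = x * o
  V2 : ∀ x ∈ V, x * x = 1
  AO : ∀ a ∈ A, ∀ o ∈ O, a * o * a⁻¹ ∈ O
  AV : ∀ a ∈ A, ∀ x ∈ V, a * x * a⁻¹ ∈ V
  τA : τ ∈ A
  idx : ∀ a ∈ A, a ∈ O ∨ τ * a ∈ O
  pV : p ∈ V
  p1 : p ≠ 1
  pτ : τ * p * τ⁻¹ ≠ p
  eO : e ∈ O
  e2 : e * e = 1
  ec : ∀ o ∈ O, o * e * o⁻¹ = e ∨ o * e * o⁻¹ = e * p
  off : ∀ F : Subgroup G, F ≤ O → V ≤ F → F ≤ closure ((V : Set G) ∪ {e, τ * e * τ⁻¹}) →
    (∀ x ∈ F, ∀ y ∈ F, x * y = y * x) → (∀ x ∈ F, x * x = 1) → A ≤ normalizer (F : Set G) → OffM F A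

namespace Dat

variable {A O V : Subgroup G} {τ p e : G} (h : Dat A O V τ p e)

include h

theorem τO : τ ∉ O := by
  intro hτ
  apply h.pτ
  rw [h.OV τ hτ p h.pV]; group

theorem ττ : τ * τ ∈ O := (h.idx τ h.τA).resolve_left h.τO

theorem p2V : τ * p * τ⁻¹ ∈ V := h.AV τ h.τA p h.pV

theorem p'1 : τ * p * τ⁻¹ ≠ 1 := fun h1 => h.p1 (conj_eq_one_iff.1 h1)

theorem e'O : τ * e * τ⁻¹ ∈ O := h.AO τ h.τA e h.eO

theorem AO' {a o : G} (ha : a ∈ A) (ho : o ∈ O) : a⁻¹ * o * a ∈ O := by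
  have := h.AO a⁻¹ (inv_mem ha) o ho
  rwa [inv_inv] at this

/-- `[e^τ, O] ≤ ⟨p^τ⟩` -/
theorem ec' {o : G} (ho : o ∈ O) : o * (τ * e * τ⁻¹) * o⁻¹ = τ * e * τ⁻¹ ∨
    o * (τ * e * τ⁻¹) * o⁻¹ = (τ * e * τ⁻¹) * (τ * p * τ⁻¹) := by
  have e1 : o * (τ * e * τ⁻¹) * o⁻¹ = τ * ((τ⁻¹ * o * τ) * e * (τ⁻¹ * o * τ)⁻¹) * τ⁻¹ := by group
  rw [e1]
  rcases h.ec _ (h.AO' h.τA ho) with h1 | h1
  · left; rw [h1]
  · right; rw [h1]; group

theorem ee' : e * (τ * e * τ⁻¹) = (τ * e * τ⁻¹) * e := by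
  set e' := τ * e * τ⁻¹ with he'
  rcases h.ec _ h.e'O with h1 | h1
  · rw [← he'] at h1
    calc e * e' = (e' * e * e'⁻¹) * e' := by rw [h1]
      _ = e' * e := by group
  · rcases h.ec' h.eO with h2 | h2
    · rw [← he'] at h2
      calc e * e' = (e * e' * e⁻¹) * e := by group
        _ = e' * e := by rw [h2]
    · exfalso
      rw [← he'] at h1 h2
      -- `e' e e'⁻¹ = e p`, `e e' e⁻¹ = e' p'`
      have hp := h.OV _ h.eO _ h.pV
      have h3 : e' * e = e * p * e' := by rw [← h1]; group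
      have h4 : e * e' = e' * (τ * p * τ⁻¹) * e := by rw [← h2]; group
      have hpe' := h.OV _ h.e'O _ h.pV
      have hp'e := h.OV _ h.eO _ h.p2V
      rw [← he'] at hpe'
      have h5 : e' * e = e * e' * p := by rw [h3, mul_assoc, ← hpe', ← mul_assoc]
      have h6 : e * e' = e' * e * (τ * p * τ⁻¹) := by rw [h4, mul_assoc, ← hp'e, ← mul_assoc]
      rw [h6, mul_assoc (e' * e)] at h5
      have h7 : (τ * p * τ⁻¹) * p = 1 := by
        have := mul_left_cancel (a := e' * e) (b := 1) (c := (τ * p * τ⁻¹) * p) (by rw [mul_one]; exact h5)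
        exact this.symm
      apply h.pτ
      have h8 := h.V2 p h.pV
      calc τ * p * τ⁻¹ = (τ * p * τ⁻¹) * (p * p) := by rw [h8, mul_one]
        _ = ((τ * p * τ⁻¹) * p) * p := by group
        _ = p := by rw [h7, one_mul]

/-- `F = ⟨V, e, e^τ⟩` -/
def _root_.Cfsg.Agent.Omega.TC.LevFix.FG (V : Subgroup G) (τ e : G) : Subgroup G :=
  closure ((V : Set G) ∪ {e, τ * e * τ⁻¹})

omit h in
theorem V_le_F : V ≤ FG V τ e := fun _ hx => subset_closure (Or.inl hx)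

omit h in
theorem e_mem_F : e ∈ FG V τ e := subset_closure (Or.inr (Or.inl rfl))

omit h in
theorem e'_mem_F : τ * e * τ⁻¹ ∈ FG V τ e := subset_closure (Or.inr (Or.inr rfl))

theorem F_le_O : FG V τ e ≤ O := by
  refine (closure_le _).2 ?_
  rintro x (hx | rfl | rfl)
  · exact h.VO hx
  · exact h.eO
  · exact h.e'O

theorem F_comm : ∀ x ∈ FG V τ e, ∀ y ∈ FG V τ e, x * y = y * x := by
  have hs : ∀ x ∈ ((V : Set G) ∪ {e, τ * e * τ⁻¹}), ∀ y ∈ ((V : Set G) ∪ {e, τ * e * τ⁻¹}), x * y = y * x := by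
    rintro x (hx | rfl | rfl) y (hy | rfl | rfl)
    · exact h.OV x (h.VO hx) y hy
    · exact (h.OV _ h.eO x hx).symm
    · exact (h.OV _ h.e'O x hx).symm
    · exact h.OV _ h.eO y hy
    · rfl
    · exact h.ee'
    · exact h.OV _ h.e'O y hy
    · exact h.ee'.symm
    · rfl
  have h1 : FG V τ e ≤ centralizer ((V : Set G) ∪ {e, τ * e * τ⁻¹}) :=
    (closure_le _).2 fun x hx => mem_centralizer_iff.2 fun y hy => hs y hy x hx
  have h2 : FG V τ e ≤ centralizer (FG V τ e : Set G) := by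
    refine (closure_le _).2 fun x hx => mem_centralizer_iff.2 fun y hy => ?_
    exact (mem_centralizer_iff.1 (h1 hy) x hx).symm
  intro x hx y hy
  exact mem_centralizer_iff.1 (h2 hy) x hx

theorem F_sq : ∀ x ∈ FG V τ e, x * x = 1 := by
  intro x hx
  unfold FG at hx
  induction hx using closure_induction with
  | mem x hx =>
    rcases hx with hx | rfl | rfl
    · exact h.V2 x hx
    · exact h.e2
    · calc τ * e * τ⁻¹ * (τ * e * τ⁻¹) = τ * (e * e) * τ⁻¹ := by group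
        _ = 1 := by rw [h.e2]; group
  | one => rw [one_mul]
  | mul x y hx hy h1 h2 =>
    have h3 := h.F_comm x hx y hy
    calc x * y * (x * y) = x * (y * x) * y := by group
      _ = (x * x) * (y * y) := by rw [← h3]; group
      _ = 1 := by rw [h1, h2, one_mul]
  | inv x hx h1 => rw [← mul_inv_rev, h1, inv_one]

theorem conj_O {o : G} (ho : o ∈ O) : ∀ x ∈ FG V τ e, o * x * o⁻¹ ∈ FG V τ e := by
  intro x hx
  unfold FG at hx
  induction hx using closure_induction with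
  | mem x hx =>
    rcases hx with hx | rfl | rfl
    · rw [h.OV o ho x hx, mul_inv_cancel_right]; exact V_le_F hx
    · rcases h.ec o ho with h1 | h1 <;> rw [h1]
      · exact e_mem_F
      · exact mul_mem e_mem_F (V_le_F h.pV)
    · rcases h.ec' ho with h1 | h1 <;> rw [h1]
      · exact e'_mem_F
      · exact mul_mem e'_mem_F (V_le_F h.p2V)
  | one => rw [mul_one, mul_inv_cancel]; exact one_mem _
  | mul x y hx hy h1 h2 =>
    have e1 : o * (x * y) * o⁻¹ = (o * x * o⁻¹) * (o * y * o⁻¹) := by group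
    rw [e1]; exact mul_mem h1 h2
  | inv x hx h1 =>
    have e1 : o * x⁻¹ * o⁻¹ = (o * x * o⁻¹)⁻¹ := by group
    rw [e1]; exact inv_mem h1

theorem conj_τ : ∀ x ∈ FG V τ e, τ * x * τ⁻¹ ∈ FG V τ e := by
  intro x hx
  unfold FG at hx
  induction hx using closure_induction with
  | mem x hx =>
    rcases hx with hx | rfl | rfl
    · exact V_le_F (h.AV τ h.τA x hx)
    · exact e'_mem_F
    · have e1 : τ * (τ * e * τ⁻¹) * τ⁻¹ = (τ * τ) * e * (τ * τ)⁻¹ := by group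
      rw [e1]
      exact h.conj_O h.ττ e e_mem_F
  | one => rw [mul_one, mul_inv_cancel]; exact one_mem _
  | mul x y hx hy h1 h2 =>
    have e1 : τ * (x * y) * τ⁻¹ = (τ * x * τ⁻¹) * (τ * y * τ⁻¹) := by group
    rw [e1]; exact mul_mem h1 h2
  | inv x hx h1 =>
    have e1 : τ * x⁻¹ * τ⁻¹ = (τ * x * τ⁻¹)⁻¹ := by group
    rw [e1]; exact inv_mem h1

theorem A_norm : A ≤ normalizer (FG V τ e : Set G) := by
  have hO : ∀ o ∈ O, o ∈ normalizer (FG V τ e : Set G) := by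
    intro o ho
    rw [mem_normalizer_iff]
    intro x
    refine ⟨h.conj_O ho x, fun hx => ?_⟩
    have h1 := h.conj_O (inv_mem ho) _ hx
    have e1 : o⁻¹ * (o * x * o⁻¹) * o⁻¹⁻¹ = x := by group
    rwa [e1] at h1
  have hτ : τ ∈ normalizer (FG V τ e : Set G) := by
    rw [mem_normalizer_iff_cj]
    refine Subgroup.eq_of_le_of_card_ge ?_ (by rw [ZN.ChoiceBase.card_cj])
    rintro _ ⟨x, hx, rfl⟩
    exact h.conj_τ x hx
  intro a ha
  rcases h.idx a ha with h1 | h1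
  · exact hO a h1
  · have := mul_mem (inv_mem hτ) (hO _ h1)
    rwa [inv_mul_cancel_left] at this

theorem offF : OffM (FG V τ e) A :=
  h.off _ h.F_le_O V_le_F le_rfl h.F_comm h.F_sq h.A_norm

/-- `A` and `τ` commute on `F` -/
theorem swap {b x : G} (hb : b ∈ A) (hx : x ∈ FG V τ e) :
    b * (τ * x * τ⁻¹) * b⁻¹ = τ * (b * x * b⁻¹) * τ⁻¹ := by
  have h1 := h.offF.comm b hb τ h.τA
  have hy : τ * (b * x * b⁻¹) * τ⁻¹ ∈ FG V τ e := by
    have h2 : b * x * b⁻¹ ∈ FG V τ e := (mem_normalizer_iff.1 (h.A_norm hb) x).1 hx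
    exact h.conj_τ _ h2
  have h2 := mem_centralizer_iff.1 h1 _ hy
  -- `c y = y c`, `c = b τ b⁻¹ τ⁻¹`
  calc b * (τ * x * τ⁻¹) * b⁻¹ = (b * τ * b⁻¹ * τ⁻¹) * (τ * (b * x * b⁻¹) * τ⁻¹) * (b * τ * b⁻¹ * τ⁻¹)⁻¹ := by group
    _ = (τ * (b * x * b⁻¹) * τ⁻¹) * (b * τ * b⁻¹ * τ⁻¹) * (b * τ * b⁻¹ * τ⁻¹)⁻¹ := by rw [h2]
    _ = τ * (b * x * b⁻¹) * τ⁻¹ := by group

/-- elements of `A ∩ O` commuting with `e` centralise `F` -/
theorem cent_F {b : G} (hb : b ∈ A) (hbO : b ∈ O) (hbe : b * e * b⁻¹ = e) : b ∈ centralizer (FG V τ e : Set G) := by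
  have h1 : FG V τ e ≤ centralizer ({b} : Set G) := by
    refine (closure_le _).2 ?_
    rintro x (hx | hx | hx)
    · exact mem_centralizer_singleton_iff.2 (h.OV b hbO x hx).symm
    · rw [hx]
      refine mem_centralizer_singleton_iff.2 ?_
      calc e * b = (b * e * b⁻¹) * b := by rw [hbe]
        _ = b * e := by group
    · have hx' : x = τ * e * τ⁻¹ := hx
      rw [hx']
      refine mem_centralizer_singleton_iff.2 ?_
      have h2 := h.swap hb (e_mem_F (V := V) (τ := τ) (e := e))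
      rw [hbe] at h2
      calc τ * e * τ⁻¹ * b = (b * (τ * e * τ⁻¹) * b⁻¹) * b := by rw [h2]
        _ = b * (τ * e * τ⁻¹) := by group
  exact mem_centralizer_iff.2 fun x hx => mem_centralizer_singleton_iff.1 (h1 hx)

/-- **LEMMA FIX** -/
theorem main : ∀ o ∈ O, o * e = e * o := by
  have hoff := h.offF
  set F := FG V τ e with hF
  have hpos1 : 0 < Nat.card ↥(A ⊓ centralizer (F : Set G)) := Nat.card_pos
  have hpos2 : 0 < Nat.card ↥(F ⊓ centralizer (A : Set G)) := Nat.card_pos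
  have hle := hoff.le
  have hA2 : Nat.card A ≤ 2 * Nat.card ↥(A ⊓ O) :=
    le_two_mul h.τA inf_le_left fun a ha => by
      rcases h.idx a ha with h1 | h1
      · exact Or.inl ⟨ha, h1⟩
      · exact Or.inr ⟨mul_mem h.τA ha, h1⟩
  have hVA : p ∉ F ⊓ centralizer (A : Set G) := fun hh => h.pτ (by
    have := mem_centralizer_iff.1 hh.2 τ h.τA
    rw [this]; group)
  by_cases hcase : ∃ b ∈ A ⊓ O, b * e * b⁻¹ ≠ e
  · -- impossible
    exfalso
    obtain ⟨b, ⟨hbA, hbO⟩, hbe⟩ := hcase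
    have hbp : b * e * b⁻¹ = e * p := (h.ec b hbO).resolve_left hbe
    -- `|A| ≤ 4 |C_A(F)|`
    have h1 : Nat.card ↥(A ⊓ O) ≤ 2 * Nat.card ↥(A ⊓ centralizer (F : Set G)) := by
      have h2 : Nat.card ↥(A ⊓ O) ≤ 2 * Nat.card ↥((A ⊓ O) ⊓ centralizer ({e} : Set G)) := by
        refine le_two_mul (τ := b) ⟨hbA, hbO⟩ inf_le_left fun a ha => ?_
        rcases h.ec a ha.2 with h3 | h3
        · left
          refine ⟨ha, mem_centralizer_singleton_iff.2 ?_⟩
          calc a * e = (a * e * a⁻¹) * a := by group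
            _ = e * a := by rw [h3]
        · right
          refine ⟨mul_mem ⟨hbA, hbO⟩ ha, mem_centralizer_singleton_iff.2 ?_⟩
          have h4 := h.OV b hbO p h.pV
          have h5 : b * a * e * (b * a)⁻¹ = e := by
            calc b * a * e * (b * a)⁻¹ = b * (a * e * a⁻¹) * b⁻¹ := by group
              _ = b * (e * p) * b⁻¹ := by rw [h3]
              _ = (b * e * b⁻¹) * (b * p * b⁻¹) := by group
              _ = e * p * p := by rw [hbp, h4, mul_inv_cancel_right]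
              _ = e := by rw [mul_assoc, h.V2 p h.pV, mul_one]
          calc b * a * e = (b * a * e * (b * a)⁻¹) * (b * a) := by group
            _ = e * (b * a) := by rw [h5]
      refine h2.trans (Nat.mul_le_mul_left _ (card_le_of_le ?_))
      rintro a ⟨⟨haA, haO⟩, hae⟩
      refine ⟨haA, h.cent_F haA haO ?_⟩
      have := mem_centralizer_singleton_iff.1 hae
      rw [this]; group
    -- `8 |C_F(A)| ≤ |F|`
    have hbe' : b * (τ * e * τ⁻¹) * b⁻¹ = (τ * e * τ⁻¹) * (τ * p * τ⁻¹) := by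
      rw [h.swap hbA e_mem_F, hbp]; group
    let K1 : Subgroup G :=
      { carrier := {x | x ∈ F ∧ (b * x * b⁻¹ = x ∨ b * x * b⁻¹ = x * p)}
        one_mem' := ⟨one_mem _, Or.inl (by group)⟩
        mul_mem' := by
          rintro x y ⟨hx, hx'⟩ ⟨hy, hy'⟩
          refine ⟨mul_mem hx hy, ?_⟩
          have hpy : p * y = y * p := h.F_comm p (V_le_F h.pV) y hy
          have e1 : b * (x * y) * b⁻¹ = (b * x * b⁻¹) * (b * y * b⁻¹) := by group
          rw [e1]
          rcases hx' with h3 | h3 <;> rcases hy' with h4 | h4 <;> rw [h3, h4]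
          · exact Or.inl rfl
          · exact Or.inr (by group)
          · exact Or.inr (by rw [mul_assoc, hpy]; group)
          · left
            calc x * p * (y * p) = x * (p * y) * p := by group
              _ = x * y * (p * p) := by rw [hpy]; group
              _ = x * y := by rw [h.V2 p h.pV, mul_one]
        inv_mem' := by
          rintro x ⟨hx, hx'⟩
          have hi : x⁻¹ = x := inv_eq_of_mul_eq_one_left (h.F_sq x hx)
          rw [hi]
          exact ⟨hx, hx'⟩ }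
    have hK1F : K1 ≤ F := fun x hx => hx.1
    have hCK : F ⊓ centralizer ({b} : Set G) ≤ K1 := by
      rintro x ⟨hx, hx'⟩
      refine ⟨hx, Or.inl ?_⟩
      have := mem_centralizer_singleton_iff.1 hx'
      rw [← this]; group
    have g1 : 2 * Nat.card ↥(F ⊓ centralizer ({b} : Set G)) ≤ Nat.card K1 := by
      refine two_mul_le hCK (x := e) ⟨e_mem_F, Or.inr hbp⟩ fun hh => hbe ?_
      have := mem_centralizer_singleton_iff.1 hh.2
      rw [← this]; group
    have g2 : 2 * Nat.card K1 ≤ Nat.card F := by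
      refine two_mul_le hK1F (x := τ * e * τ⁻¹) e'_mem_F ?_
      rintro ⟨-, h3 | h3⟩
      · rw [hbe'] at h3
        exact h.p'1 (mul_eq_left.1 h3)
      · rw [hbe'] at h3
        exact h.pτ (mul_left_cancel h3)
    have g3 : 2 * Nat.card ↥(F ⊓ centralizer (A : Set G)) ≤ Nat.card ↥(F ⊓ centralizer ({b} : Set G)) := by
      refine two_mul_le (inf_le_inf_left _ (centralizer_le (Set.singleton_subset_iff.2 hbA))) (x := p)
        ⟨V_le_F h.pV, mem_centralizer_singleton_iff.2 (h.OV b hbO p h.pV).symm⟩ hVA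
    have g4 : 8 * Nat.card ↥(F ⊓ centralizer (A : Set G)) ≤ Nat.card F := by omega
    have g5 : Nat.card A ≤ 4 * Nat.card ↥(A ⊓ centralizer (F : Set G)) := by omega
    have g6 : 8 * Nat.card ↥(F ⊓ centralizer (A : Set G)) * Nat.card ↥(A ⊓ centralizer (F : Set G)) ≤
        4 * Nat.card ↥(A ⊓ centralizer (F : Set G)) * Nat.card ↥(F ⊓ centralizer (A : Set G)) :=
      (Nat.mul_le_mul_right _ g4).trans (hle.trans (Nat.mul_le_mul_right _ g5))
    have g7 : 0 < Nat.card ↥(F ⊓ centralizer (A : Set G)) * Nat.card ↥(A ⊓ centralizer (F : Set G)) :=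
      Nat.mul_pos hpos2 hpos1
    nlinarith
  · push Not at hcase
    have h1 : Nat.card ↥(A ⊓ O) ≤ Nat.card ↥(A ⊓ centralizer (F : Set G)) :=
      card_le_of_le fun a ha => ⟨ha.1, h.cent_F ha.1 ha.2 (hcase a ha)⟩
    have h2 : Nat.card F ≤ 2 * Nat.card ↥(F ⊓ centralizer (A : Set G)) := by
      refine Nat.le_of_mul_le_mul_right ?_ hpos1
      calc Nat.card F * Nat.card ↥(A ⊓ centralizer (F : Set G))
          ≤ Nat.card A * Nat.card ↥(F ⊓ centralizer (A : Set G)) := hle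
        _ ≤ (2 * Nat.card ↥(A ⊓ centralizer (F : Set G))) * Nat.card ↥(F ⊓ centralizer (A : Set G)) :=
            Nat.mul_le_mul_right _ (by omega)
        _ = 2 * Nat.card ↥(F ⊓ centralizer (A : Set G)) * Nat.card ↥(A ⊓ centralizer (F : Set G)) := by ring
    -- `F = C_F(A) V`
    let K2 : Subgroup G :=
      { carrier := {x | ∃ c ∈ F ⊓ centralizer (A : Set G), ∃ w ∈ V, x = c * w}
        one_mem' := ⟨1, one_mem _, 1, one_mem _, by rw [mul_one]⟩
        mul_mem' := by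
          rintro _ _ ⟨c, hc, w, hw, rfl⟩ ⟨c', hc', w', hw', rfl⟩
          refine ⟨c * c', mul_mem hc hc', w * w', mul_mem hw hw', ?_⟩
          have h3 := h.F_comm w (V_le_F hw) c' hc'.1
          calc c * w * (c' * w') = c * (w * c') * w' := by group
            _ = c * c' * (w * w') := by rw [h3]; group
        inv_mem' := by
          rintro _ ⟨c, hc, w, hw, rfl⟩
          refine ⟨c⁻¹, inv_mem hc, w⁻¹, inv_mem hw, ?_⟩
          have h3 := h.F_comm c hc.1 w (V_le_F hw)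
          rw [h3, mul_inv_rev] }
    have h3 : 2 * Nat.card ↥(F ⊓ centralizer (A : Set G)) ≤ Nat.card K2 :=
      two_mul_le (fun x hx => ⟨x, hx, 1, one_mem _, by rw [mul_one]⟩) (x := p)
        ⟨1, one_mem _, p, h.pV, by rw [one_mul]⟩ hVA
    have h4 : K2 = F := by
      refine Subgroup.eq_of_le_of_card_ge ?_ (h2.trans h3)
      rintro _ ⟨c, hc, w, hw, rfl⟩
      exact mul_mem hc.1 (V_le_F hw)
    obtain ⟨c, hc, w, hw, hew⟩ : e ∈ K2 := by rw [h4]; exact e_mem_F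
    have hcτ : τ * c * τ⁻¹ = c := by
      have := mem_centralizer_iff.1 hc.2 τ h.τA
      rw [this]; group
    set u := w⁻¹ * (τ * w * τ⁻¹) with hu
    have huV : u ∈ V := mul_mem (inv_mem hw) (h.AV τ h.τA w hw)
    have he'u : τ * e * τ⁻¹ = e * u := by
      calc τ * e * τ⁻¹ = (τ * c * τ⁻¹) * (τ * w * τ⁻¹) := by rw [hew]; group
        _ = c * w * (w⁻¹ * (τ * w * τ⁻¹)) := by rw [hcτ]; group
        _ = e * u := by rw [← hew]
    intro o ho
    have key : o * e * o⁻¹ = e := by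
      refine (h.ec o ho).resolve_right fun h5 => ?_
      have h6 : o * (τ * e * τ⁻¹) * o⁻¹ = (τ * e * τ⁻¹) * p := by
        have hou := h.OV o ho u huV
        have hup : u * p = p * u := (h.OV u (h.VO huV) p h.pV)
        rw [he'u]
        calc o * (e * u) * o⁻¹ = (o * e * o⁻¹) * (o * u * o⁻¹) := by group
          _ = e * p * u := by rw [h5, hou, mul_inv_cancel_right]
          _ = e * u * p := by rw [mul_assoc e p u, ← hup, ← mul_assoc]
      rcases h.ec' ho with h7 | h7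
      · rw [h7] at h6
        exact h.p1 (mul_eq_left.1 h6.symm)
      · rw [h7] at h6
        exact h.pτ (mul_left_cancel h6)
    calc o * e = (o * e * o⁻¹) * o := by group
      _ = e * o := by rw [key]

end Dat

end Cfsg.Agent.Omega.TC.LevFix

end

section


/-!
# NO-3S, MultiTwoL, case (E), `k ≥ 3`, `q = 2`: the level input `UniLevK` (`EK3/OfMul.lean`)

* `NoLowK` : no minimal parabolic over `B = C_S(Ω₁(Z(lev S (n + 1))))` of smaller stage moves `Ω₁(Z(B))` (`k ≥ 3`, `q = 2`);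
* `uniLevK_of` : **`NoLowK` gives `UniLevK`** (the port of helper186's `TC/UniLev.lean`).
-/

set_option autoImplicit false
set_option linter.unusedSectionVars false

namespace Cfsg.Agent.Omega.EK3.UniLevK

open Subgroup Cfsg Cfsg.Agent.ZN.ChoiceBase
open Cfsg.Agent.ZN (jj zj bau zc zl o2)
open Cfsg.Agent.ZN.ChoiceSit (Syl)
open Cfsg.Agent.Omega.OM Cfsg.Agent.Omega.OM.Uni
open Cfsg.Agent.Omega.NO3S (HypJ HypN Hyp HypL)
open Cfsg.Agent.Omega.NO3S.Level (lev lev_isLev lev_mono)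
open Cfsg.Agent.Omega.NO3S.EThree.Frame
open Cfsg.Agent.MinSimple.MinParabolic (IsMinPar)
open Cfsg.Agent.Omega.FFThm (NatK NatKM)
open Cfsg.Agent.Omega.FrameFF (cv)
open Cfsg.Agent.Omega.Frame (Cls)
open Cfsg.Agent.Omega.Node.MultiOf
open Cfsg.Agent.Omega.EK3.OfMul
open Cfsg.Agent.Omega.OM.Lev.Uni (FrL)
open scoped Pointwise

universe u

/-- **No minimal parabolic of smaller stage over `B` moves `Ω₁(Z(B))`** (`k ≥ 3`, `q = 2`, stage `n`, case (E)). -/
def NoLowK (K : Cls.{u}) : Prop :=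
  ∀ (G : Type u) [Group G] [Finite G], K G → ∀ (S : Sylow 2 G) (P : Subgroup G), HypL S P → ∀ n : ℕ,
    (∀ R, MinPar.IsParS (S : Subgroup G) R → lev (S : Subgroup G) n ≤ o2 R) →
    ¬ lev (S : Subgroup G) (n + 1) ≤ o2 P →
    ∀ (F : Type) [Field F] [Finite F] [CharP F 2] (k : ℕ), Nat.card F = 2 → 3 ≤ k →
      NatKM F (S : Subgroup G) P (zl (S : Subgroup G) P) (cv (S : Subgroup G) P) k →
        ∀ B ZJ : Subgroup G, ZJ = zc (lev (S : Subgroup G) (n + 1)) →
          B = (S : Subgroup G) ⊓ centralizer (zc (lev (S : Subgroup G) (n + 1)) : Set G) → NLoc (KZ B ZJ) →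
          ∀ L W Z C A : Fin k → Subgroup G, Bg S P B ZJ L W Z C 2 →
            FrL B (o2 P) (zl (S : Subgroup G) P) (zc (lev (S : Subgroup G) n)) ZJ L W Z C A 2 →
            ∀ R : Subgroup G, IsMinPar B R → Syl B R → R ⊓ centralizer (o2 R : Set G) ≤ o2 R →
              ¬ lev (S : Subgroup G) n ≤ o2 R → R ≤ centralizer (zc B : Set G)

/-- **The level input.** -/
theorem uniLevK_of {K : Cls.{u}} (hN : NoLowK K) : UniLevK K := by
  intro G _ _ hG S P h n hall hn1 F _ _ _ k hF hk N B ZJ eqZ eqB hE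
  have hn := hall P h.star
  obtain ⟨M, L, Z, A, -, hfr, hbg, -⟩ := Lev.Main.bg_lev h.toHypN hn hn1 (by omega : 2 ≤ k) N eqB
  rw [← eqZ, hF] at hfr hbg
  refine ⟨L, _, Z, _, hbg, TC.UniLev.uniTwo S eqZ eqB hfr, ?_⟩
  intro R hR hT hc hK hZ
  by_cases hlow : lev (S : Subgroup G) n ≤ o2 R
  · have hB : LevB.BL (S : Subgroup G) (n + 1) = B := eqB.symm
    obtain ⟨L', V', h1, ⟨h2, h3⟩, h4⟩ := LevB.exists_fblk S hT hB.le hR hc hlow hK hZ
    rw [hB] at h2 h3
    exact ⟨L', V', ⟨h2, h3⟩, h1, h4.trans (sup_comm _ _).le⟩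
  · exact absurd (hN G hG S P h n hall hn1 F k hF hk N B ZJ eqZ eqB hE L _ Z _ A hbg hfr R hR hT hc hlow) hZ

end Cfsg.Agent.Omega.EK3.UniLevK

end

section


/-!
# Generated conjugates: `IsCl Z Y N` says `N = ⟨Z^Y⟩` (bb #22123, THEOREM K3)
-/

set_option autoImplicit false

namespace Cfsg.Agent.Omega.EK3.Q

open Subgroup Cfsg Cfsg.Agent.ZN.ChoiceBase
open Cfsg.Agent.ZN (jj zj bau zc zl o2)

variable {G : Type*} [Group G]

/-- `N = ⟨Z^Y⟩` -/
structure IsCl (Z Y N : Subgroup G) : Prop where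
  le : Z ≤ N
  nm : Y ≤ normalizer (N : Set G)
  min : ∀ M : Subgroup G, Z ≤ M → Y ≤ normalizer (M : Set G) → N ≤ M

/-- `⟨Z^Y⟩` -/
def cls (Z Y : Subgroup G) : Subgroup G := ⨆ y : Y, cj (y : G) Z

theorem cj_le_cls {Z Y : Subgroup G} {y : G} (hy : y ∈ Y) : cj y Z ≤ cls Z Y :=
  le_iSup (fun y : Y => cj (y : G) Z) ⟨y, hy⟩

theorem le_cls (Z Y : Subgroup G) : Z ≤ cls Z Y := by
  have h := cj_le_cls (Z := Z) (one_mem Y)
  rwa [cj_one] at h

theorem cls_le {Z Y M : Subgroup G} (h : ∀ y ∈ Y, cj y Z ≤ M) : cls Z Y ≤ M := iSup_le fun y => h y y.2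

theorem mem_normalizer_of_cj_le_iff {H : Subgroup G} {g : G} (h : ∀ x ∈ H, g * x * g⁻¹ ∈ H)
    (h' : ∀ x ∈ H, g⁻¹ * x * g ∈ H) : g ∈ normalizer (H : Set G) := by
  rw [mem_normalizer_iff]
  refine fun x => ⟨h x, fun hx => ?_⟩
  have := h' _ hx
  have e : g⁻¹ * (g * x * g⁻¹) * g = x := by group
  rwa [e] at this

theorem cls_conj_mem {Z Y R : Subgroup G} (hY : R ≤ normalizer (Y : Set G)) (hZ : R ≤ normalizer (Z : Set G))
    {r : G} (hr : r ∈ R) : ∀ x ∈ cls Z Y, r * x * r⁻¹ ∈ cls Z Y := by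
  intro x hx
  have h1 : cls Z Y ≤ cj r⁻¹ (cls Z Y) := by
    refine cls_le fun y hy => ?_
    rw [← cj_le_iff, cj_cj]
    have h2 : r * y = (r * y * r⁻¹) * r := by group
    rw [h2, ← cj_cj, cj_eq_of_mem_normalizer (hZ hr)]
    exact cj_le_cls ((mem_normalizer_iff.1 (hY hr) y).1 hy)
  have h2 := h1 hx
  rw [mem_cj, inv_inv] at h2
  exact h2

theorem cls_norm {Z Y R : Subgroup G} (hY : R ≤ normalizer (Y : Set G)) (hZ : R ≤ normalizer (Z : Set G)) :
    R ≤ normalizer (cls Z Y : Set G) := by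
  intro r hr
  refine mem_normalizer_of_cj_le_iff (cls_conj_mem hY hZ hr) fun x hx => ?_
  have := cls_conj_mem hY hZ (inv_mem hr) x hx
  rwa [inv_inv] at this

theorem cls_self_norm (Z Y : Subgroup G) : Y ≤ normalizer (cls Z Y : Set G) := by
  have key : ∀ r ∈ Y, ∀ x ∈ cls Z Y, r * x * r⁻¹ ∈ cls Z Y := by
    intro r hr x hx
    have h1 : cls Z Y ≤ cj r⁻¹ (cls Z Y) := by
      refine cls_le fun y hy => ?_
      rw [← cj_le_iff, cj_cj]
      exact cj_le_cls (mul_mem hr hy)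
    have h2 := h1 hx
    rw [mem_cj, inv_inv] at h2
    exact h2
  intro r hr
  refine mem_normalizer_of_cj_le_iff (key r hr) fun x hx => ?_
  have := key _ (inv_mem hr) x hx
  rwa [inv_inv] at this

theorem cls_min {Z Y M : Subgroup G} (hZ : Z ≤ M) (hY : Y ≤ normalizer (M : Set G)) : cls Z Y ≤ M := by
  refine cls_le fun y hy => ?_
  have h := cj_mono y hZ
  rwa [cj_eq_of_mem_normalizer (hY hy)] at h

theorem isCl_cls (Z Y : Subgroup G) : IsCl Z Y (cls Z Y) := ⟨le_cls Z Y, cls_self_norm Z Y, fun _ => cls_min⟩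

theorem IsCl.eq_cls {Z Y N : Subgroup G} (h : IsCl Z Y N) : N = cls Z Y :=
  le_antisymm (h.min _ (le_cls Z Y) (cls_self_norm Z Y)) (cls_min h.le h.nm)

theorem IsCl.unique {Z Y N N' : Subgroup G} (h : IsCl Z Y N) (h' : IsCl Z Y N') : N = N' := by
  rw [h.eq_cls, h'.eq_cls]

/-- if every element of `Y` is `k d`, `k ∈ K`, `d` normalising `Z`, then `⟨Z^Y⟩ = ⟨Z^K⟩` -/
theorem cls_eq_of_factor {Z Y K : Subgroup G} (hKY : K ≤ Y)
    (h : ∀ y ∈ Y, ∃ k ∈ K, ∃ d ∈ normalizer (Z : Set G), y = k * d) : cls Z Y = cls Z K := by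
  refine le_antisymm (cls_le fun y hy => ?_) (cls_le fun k hk => cj_le_cls (hKY hk))
  obtain ⟨k, hk, d, hd, rfl⟩ := h y hy
  rw [← cj_cj, cj_eq_of_mem_normalizer hd]
  exact cj_le_cls hk

theorem centralizer_norm (H : Subgroup G) : normalizer (H : Set G) ≤ normalizer (centralizer (H : Set G) : Set G) := by
  intro g hg
  rw [mem_normalizer_iff_cj, cj_centralizer, cj_eq_of_mem_normalizer hg]

theorem le_centralizer_comm {H K : Subgroup G} (h : H ≤ centralizer (K : Set G)) : K ≤ centralizer (H : Set G) :=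
  le_centralizer_iff.1 h

end Cfsg.Agent.Omega.EK3.Q

end

section


/-!
# LEMMA G' of THEOREM K3 (bb #22123 (2)), any `q`, in POINT form

`Z l` the points, `D ≤ Y j`, `D` normalises all `Z l`, `Y j` normalises the `Z l`, `l ≠ j`, and contains
`C_G(Z_l : l ≠ j)`; `N j = ⟨Z_j^(Y j)⟩`; `gen` : every `K ⊴ Y j` centralising the `Z l`, `l ≠ j`, and moving the point
`Z j` has `Y j = K D` (UNI+).  (So both `Y j = C_G(Z_l : l ≠ j)`, `D = C_G(Z_l : l)` and `Y j = ⋂ N_G(Z_l)`,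
`D = ⋂ N_G(Z_l)` are allowed.)

Then for `K ⊴ Y j` with `K ≤ C(V i)`, `K ≤ C(Z l)` (`l ≠ j`), moving `Z j`, `i ≠ j` : `L i` normalises `N j`
(`L i` normalises `V i ≥ Z i`, centralises the `Z l`, `l ≠ i`).
-/

set_option autoImplicit false

namespace Cfsg.Agent.Omega.EK3.Q

open Subgroup Cfsg Cfsg.Agent.ZN.ChoiceBase
open Cfsg.Agent.ZN (jj zj bau zc zl o2)

variable {G : Type*} [Group G] {ι : Type*}

/-- the family of the groups `Y j` -/
structure Fam (D : Subgroup G) (Y Z N : ι → Subgroup G) : Prop where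
  DY : ∀ j, D ≤ Y j
  DZ : ∀ l, D ≤ normalizer (Z l : Set G)
  YZ : ∀ j l, l ≠ j → Y j ≤ normalizer (Z l : Set G)
  /-- `C_G(Z_l : l ≠ j) ≤ Y j` -/
  mem_Y : ∀ j x, (∀ l, l ≠ j → ∀ z ∈ Z l, x * z = z * x) → x ∈ Y j
  cl : ∀ j, IsCl (Z j) (Y j) (N j)
  /-- `K ⊴ Y j` moving the point `Z j` : `Y j = K D` -/
  gen : ∀ (j : ι) (K : Subgroup G), K ≤ Y j → (∀ l, l ≠ j → K ≤ centralizer (Z l : Set G)) →
    Y j ≤ normalizer (K : Set G) → ¬ K ≤ normalizer (Z j : Set G) → ∀ y ∈ Y j, ∃ k ∈ K, ∃ d ∈ D, y = k * d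

/-- `C_G(Z_l : l ≠ j)`, `C_G(Z_l : l)` -/
theorem Fam.of_cent {D : Subgroup G} {Y Z N : ι → Subgroup G}
    (mem_Y : ∀ j x, x ∈ Y j ↔ ∀ l, l ≠ j → ∀ z ∈ Z l, x * z = z * x)
    (mem_D : ∀ x, x ∈ D ↔ ∀ l, ∀ z ∈ Z l, x * z = z * x)
    (cl : ∀ j, IsCl (Z j) (Y j) (N j))
    (gen : ∀ (j : ι) (K : Subgroup G), K ≤ Y j → Y j ≤ normalizer (K : Set G) →
      ¬ K ≤ centralizer (Z j : Set G) → ∀ y ∈ Y j, ∃ k ∈ K, ∃ d ∈ D, y = k * d) : Fam D Y Z N where
  DY := fun j x hx => (mem_Y j x).2 fun l _ => (mem_D x).1 hx l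
  DZ := fun l x hx => centralizer_le_normalizer _ (mem_centralizer_iff.2 fun z hz => ((mem_D x).1 hx l z hz).symm)
  YZ := fun j l hl x hx => centralizer_le_normalizer _ (mem_centralizer_iff.2 fun z hz =>
    ((mem_Y j x).1 hx l hl z hz).symm)
  mem_Y := fun j x => (mem_Y j x).2
  cl := cl
  gen := fun j K h1 _ h2 h3 => gen j K h1 h2 fun h4 => h3 (h4.trans (centralizer_le_normalizer _))

namespace Fam

variable {D : Subgroup G} {Y Z N : ι → Subgroup G} (h : Fam D Y Z N)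
include h

/-- `K ⊴ Y j` moving the point `Z j` -/
theorem N_eq {j : ι} {K : Subgroup G} (hKY : K ≤ Y j) (hKc : ∀ l, l ≠ j → K ≤ centralizer (Z l : Set G))
    (hn : Y j ≤ normalizer (K : Set G)) (hK : ¬ K ≤ normalizer (Z j : Set G)) : N j = cls (Z j) K := by
  rw [(h.cl j).eq_cls]
  refine cls_eq_of_factor hKY fun y hy => ?_
  obtain ⟨k, hk, d, hd, e⟩ := h.gen j K hKY hKc hn hK y hy
  exact ⟨k, hk, d, h.DZ j hd, e⟩

/-- `N j = ⟨Z_j^C⟩` for every `C` between `K` and `Y j` -/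
theorem N_eq' {j : ι} {K C : Subgroup G} (hKY : K ≤ Y j) (hKc : ∀ l, l ≠ j → K ≤ centralizer (Z l : Set G))
    (hn : Y j ≤ normalizer (K : Set G)) (hK : ¬ K ≤ normalizer (Z j : Set G)) (hKC : K ≤ C) (hCY : C ≤ Y j) :
    N j = cls (Z j) C := by
  refine le_antisymm ?_ ?_
  · rw [h.N_eq hKY hKc hn hK]
    exact cls_le fun k hk => cj_le_cls (hKC hk)
  · rw [(h.cl j).eq_cls]
    exact cls_le fun k hk => cj_le_cls (hCY hk)

/-- **LEMMA G'** (#22123 (2)) -/
theorem gLem {V L : Subgroup G} {i j : ι} (hij : i ≠ j) (ZV : Z i ≤ V) (LV : L ≤ normalizer (V : Set G))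
    (LZ : ∀ l, l ≠ i → L ≤ centralizer (Z l : Set G)) {K : Subgroup G} (hKY : K ≤ Y j)
    (hKc : ∀ l, l ≠ j → K ≤ centralizer (Z l : Set G)) (hn : Y j ≤ normalizer (K : Set G))
    (hKV : K ≤ centralizer (V : Set G)) (hK : ¬ K ≤ normalizer (Z j : Set G)) :
    L ≤ normalizer (N j : Set G) := by
  set C : Subgroup G := (⨅ l : {l // l ≠ j}, centralizer (Z l : Set G)) ⊓ centralizer (V : Set G) with hC
  have memC : ∀ x, x ∈ C ↔ (∀ l, l ≠ j → x ∈ centralizer (Z l : Set G)) ∧ x ∈ centralizer (V : Set G) := by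
    intro x
    rw [hC, mem_inf, mem_iInf]
    exact and_congr_left fun _ => ⟨fun h l hl => h ⟨l, hl⟩, fun h l => h l.1 l.2⟩
  have hKC : K ≤ C := fun k hk => (memC k).2 ⟨fun l hl => hKc l hl hk, hKV hk⟩
  have hCY : C ≤ Y j := fun x hx => h.mem_Y j x fun l hl z hz =>
    (mem_centralizer_iff.1 (((memC x).1 hx).1 l hl) z hz).symm
  rw [h.N_eq' hKY hKc hn hK hKC hCY]
  refine cls_norm (fun l hl => ?_) ((LZ j hij.symm).trans (centralizer_le_normalizer _))
  have key : ∀ l ∈ L, ∀ x ∈ C, l * x * l⁻¹ ∈ C := by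
    intro l hl x hx
    have conj : ∀ {W : Subgroup G}, L ≤ normalizer (W : Set G) → x ∈ centralizer (W : Set G) →
        l * x * l⁻¹ ∈ centralizer (W : Set G) := by
      intro W hW hxW
      have h3 : cj l (centralizer (W : Set G)) = centralizer (W : Set G) := by
        rw [cj_centralizer, cj_eq_of_mem_normalizer (hW hl)]
      rw [← h3, mem_cj]
      have e : l⁻¹ * (l * x * l⁻¹) * l = x := by group
      rwa [e]
    have h1 : l * x * l⁻¹ ∈ centralizer (V : Set G) := conj LV ((memC x).1 hx).2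
    refine (memC _).2 ⟨fun m hm => ?_, h1⟩
    by_cases hmi : m = i
    · subst hmi
      exact centralizer_le ZV h1
    · exact conj ((LZ m hmi).trans (centralizer_le_normalizer _)) (((memC x).1 hx).1 m hm)
  refine mem_normalizer_of_cj_le_iff (key l hl) fun x hx => ?_
  have := key _ (inv_mem hl) x hx
  rwa [inv_inv] at this

end Fam

end Cfsg.Agent.Omega.EK3.Q

end

section


/-!
# The classes of THEOREM K3 (bb #22123 (5)), any `q`, in POINT form

Over `Fam D Y Z N` : `J i ≤ Y i` is a nontrivial 2-group, normalised by `Y i`, centralising `N i` and all `Z l`; and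
`J i ≠ J j` implies that `J i` moves one of the points `Z_j^y`, `y ∈ Y j`.  If moreover `Y i` normalises `N j` whenever
`J i ≠ J j`, then some nontrivial 2-group is normalised by all `Y i`.
-/

set_option autoImplicit false

namespace Cfsg.Agent.Omega.EK3.Q

open Subgroup Cfsg Cfsg.Agent.ZN.ChoiceBase
open Cfsg.Agent.ZN (jj zj bau zc zl o2)

variable {G : Type*} [Group G] {ι : Type*}

/-- the input of (5) -/
structure CSit (D : Subgroup G) (Y Z N J : ι → Subgroup G) : Prop where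
  fam : Fam D Y Z N
  ne : ∀ i, Z i ≠ ⊥
  J_le : ∀ i, J i ≤ Y i
  /-- `J i ≤ O₂(C_G(Z_J))` -/
  J_Z : ∀ i l, J i ≤ centralizer (Z l : Set G)
  J_nm : ∀ i, Y i ≤ normalizer (J i : Set G)
  J_two : ∀ i, IsPGroup 2 (J i)
  J_ne : ∀ i, J i ≠ ⊥
  /-- `[N i, J i] = 1` -/
  J_c : ∀ i, J i ≤ centralizer (N i : Set G)
  /-- `J i` moves a point of `N j` -/
  J_mv : ∀ i j, J i ≠ J j → ∃ y ∈ Y j, ¬ J i ≤ normalizer ((cj y (Z j) : Subgroup G) : Set G)
  /-- `C_G(Z_l : l ∉ s)` is local for `s ≠ univ` and its `O₂` contains the `Z i`, `i ∈ s` -/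
  loc : ∀ s : Set ι, s ≠ Set.univ → ∃ U : Subgroup G, IsPGroup 2 U ∧ (∀ i ∈ s, Z i ≤ U) ∧
    ∀ i ∈ s, Y i ≤ normalizer (U : Set G)
  /-- `⟨Y i : i⟩` is not local -/
  nl : ∀ U : Subgroup G, IsPGroup 2 U → U ≠ ⊥ → (∀ i, Y i ≤ normalizer (U : Set G)) → False

namespace CSit

variable {D : Subgroup G} {Y Z N J : ι → Subgroup G} (h : CSit D Y Z N J)
include h

/-- the basic step: `K := ⟨J_i^(Y j)⟩` is normalised by `Y i`, centralises `Z i`, and `Y j = K D` -/
theorem step (hY : ∀ i j, J i ≠ J j → Y i ≤ normalizer (N j : Set G)) {i j : ι} (hij : J i ≠ J j) :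
    Y i ≤ normalizer (cls (J i) (Y j) : Set G) ∧ cls (J i) (Y j) ≤ centralizer (Z i : Set G) ∧
      ∀ y ∈ Y j, ∃ k ∈ cls (J i) (Y j), ∃ d ∈ D, y = k * d := by
  have hne : i ≠ j := fun e => hij (by rw [e])
  set X := Y i ⊔ Y j with hX
  have hiX : Y i ≤ X := le_sup_left
  have hjX : Y j ≤ X := le_sup_right
  set K := cls (J i) X with hK
  have hKn : X ≤ normalizer (K : Set G) := cls_self_norm _ _
  have hJK : J i ≤ K := le_cls _ _
  have hNi : X ≤ normalizer (N i : Set G) := sup_le (h.fam.cl i).nm (hY j i hij.symm)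
  have hKX : K ≤ X := cls_min ((h.J_le i).trans hiX) le_normalizer
  have hKc : K ≤ centralizer (N i : Set G) := cls_min (h.J_c i) (hNi.trans (centralizer_norm _))
  have hKZ : K ≤ centralizer (Z i : Set G) := hKc.trans (centralizer_le (h.fam.cl i).le)
  have hKcl : ∀ l, l ≠ j → K ≤ centralizer (Z l : Set G) := by
    intro l hl
    by_cases hli : l = i
    · subst hli
      exact hKZ
    · have h1 : X ≤ normalizer (Z l : Set G) := sup_le (h.fam.YZ i l hli) (h.fam.YZ j l hl)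
      exact cls_min (h.J_Z i l) (h1.trans (centralizer_norm _))
  have hKY : K ≤ Y j := fun x hx => h.fam.mem_Y j x fun l hl z hz =>
    (mem_centralizer_iff.1 (hKcl l hl hx) z hz).symm
  have hKn' : Y j ≤ normalizer (K : Set G) := hjX.trans hKn
  have hKN : ¬ K ≤ normalizer (Z j : Set G) := by
    intro hc
    obtain ⟨y, hy, hmv⟩ := h.J_mv i j hij
    refine hmv (hJK.trans ?_)
    have h1 := cj_mono y hc
    rwa [cj_eq_of_mem_normalizer (hKn' hy), cj_normalizer] at h1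
  have hgen := h.fam.gen j K hKY hKcl hKn' hKN
  -- `X = K Y i`
  have hXK : ∀ x ∈ X, ∃ k ∈ K, ∃ y ∈ normalizer (J i : Set G), x = k * y := by
    have h1 : X ≤ Y i ⊔ K := by
      refine sup_le le_sup_left fun y hy => ?_
      obtain ⟨k, hk, d, hd, rfl⟩ := hgen y hy
      exact mul_mem (mem_sup_right hk) (mem_sup_left (h.fam.DY i hd))
    intro x hx
    have h2 : Y i ≤ normalizer (K : Set G) := hiX.trans hKn
    have h3 := h1 hx
    rw [sup_comm, ← SetLike.mem_coe, coe_mul_of_right_le_normalizer_left K (Y i) h2] at h3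
    obtain ⟨k, hk, y, hy, e⟩ := h3
    exact ⟨k, hk, y, h.J_nm i hy, e.symm⟩
  have hcls : cls (J i) X = cls (J i) K := cls_eq_of_factor hKX hXK
  have hKeq : K = cls (J i) (Y j) := by
    refine le_antisymm ?_ (cls_le fun y hy => cj_le_cls (hjX hy))
    rw [hK, hcls]
    exact cls_le fun k hk => cj_le_cls (hKY hk)
  rw [← hKeq]
  exact ⟨hiX.trans hKn, hKZ, hgen⟩

/-- **(5)** -/
theorem false_of [Nonempty ι] (hY : ∀ i j, J i ≠ J j → Y i ≤ normalizer (N j : Set G)) : False := by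
  classical
  obtain ⟨i0, j0, hij⟩ : ∃ i j, J i ≠ J j := by
    by_contra hcon
    push Not at hcon
    obtain ⟨i⟩ := ‹Nonempty ι›
    exact h.nl (J i) (h.J_two i) (h.J_ne i) fun j => by
      rw [hcon i j]
      exact h.J_nm j
  let s : Set ι := {i | J i = J i0}
  have hs0 : i0 ∈ s := rfl
  have hs : s ≠ Set.univ := fun e => by
    have h1 : j0 ∈ s := by rw [e]; exact Set.mem_univ j0
    exact hij (show J j0 = J i0 from h1).symm
  obtain ⟨U, hU2, hUZ, hUY⟩ := h.loc s hs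
  set Zs : Subgroup G := ⨆ i ∈ s, Z i with hZs
  set Ys : Subgroup G := ⨆ i ∈ s, Y i with hYs
  have hYi : ∀ i ∈ s, Y i ≤ Ys := fun i hi => le_iSup₂ (f := fun i (_ : i ∈ s) => Y i) i hi
  have hZi : ∀ i ∈ s, Z i ≤ Zs := fun i hi => le_iSup₂ (f := fun i (_ : i ∈ s) => Z i) i hi
  have hW : cls Zs Ys ≤ U := cls_min (iSup₂_le hUZ) (iSup₂_le hUY)
  refine h.nl (cls Zs Ys) (hU2.to_le hW) ?_ fun j => ?_
  · intro e
    have h1 : Z i0 ≤ ⊥ := by
      rw [← e]
      exact (hZi i0 hs0).trans (le_cls _ _)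
    exact h.ne i0 (le_bot_iff.1 h1)
  · by_cases hj : j ∈ s
    · exact (hYi j hj).trans (cls_self_norm _ _)
    · have hij' : ∀ i ∈ s, J i ≠ J j := fun i hi e => hj (show J j = J i0 from e ▸ hi)
      have hst : ∀ i ∈ s, _ := fun i hi => h.step hY (hij' i hi)
      -- all `⟨J_i^(Y j)⟩`, `i ∈ s`, are the same group
      set K := cls (J i0) (Y j) with hK
      have hKi : ∀ i ∈ s, cls (J i) (Y j) = K := fun i hi => by rw [show J i = J i0 from hi]
      have hn : Ys ≤ normalizer (K : Set G) := iSup₂_le fun i hi => by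
        have := (hst i hi).1
        rwa [hKi i hi] at this
      have hc : K ≤ centralizer (Zs : Set G) := by
        rw [le_centralizer_iff]
        refine iSup₂_le fun i hi => ?_
        rw [le_centralizer_iff]
        have := (hst i hi).2.1
        rwa [hKi i hi] at this
      have hc' : K ≤ centralizer (cls Zs Ys : Set G) := by
        rw [le_centralizer_iff]
        exact cls_min (le_centralizer_comm hc) (hn.trans (centralizer_norm K))
      intro y hy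
      obtain ⟨k, hk, d, hd, rfl⟩ := (hst i0 hs0).2.2 y hy
      refine mul_mem (centralizer_le_normalizer _ (hc' hk)) ?_
      exact (cls_self_norm Zs Ys) (hYi i0 hs0 (h.fam.DY i0 hd))

/-- **(5)**, with `Y i = ⟨D, L i⟩` : for some `i, j` with `J i ≠ J j` the group `L i` does not normalise `N j` -/
theorem exists_not_norm [Nonempty ι] {L : ι → Subgroup G} (hgen : ∀ i, Y i ≤ D ⊔ L i) :
    ∃ i j, J i ≠ J j ∧ ¬ L i ≤ normalizer (N j : Set G) := by
  by_contra hcon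
  push Not at hcon
  refine h.false_of fun i j hij => (hgen i).trans (sup_le ?_ (hcon i j hij))
  exact (h.fam.DY j).trans (h.fam.cl j).nm

end CSit

end Cfsg.Agent.Omega.EK3.Q

end

section


/-!
# EK3: case (E), at least three centres, every pair of centres interchanged (bb OMEGA #23621 of helper787, THEOREM S)

Over `Star.SIn`; `lever` = (4')(a)(b) (`Lever.Dt.lever`), `gen` = the quasi-primitivity `Y j = D K` of the normal
subgroups `K ≤ Y j` which move `N j`, `swap` = for `i ≠ j` some `g` normalises `O` and `E i j` and takes `N i` to `N j`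
(no 2-transitivity).

* `exists_mover` : every `N j` is moved by some `A ∈ AA O`;
* `exists_F` : for `i ≠ j` some `F ≤ O` moves `N j` and `[E i j, F] ≤ N j`;
* `norm_pair` : `Y j` normalises `N i N j`;
* **`false_of`** : the contradiction;
* `lever_of` : `lever` from `Lever.Dt`.
-/

set_option autoImplicit false
set_option linter.unusedSectionVars false

namespace Cfsg.Agent.Omega.EK3.Swap

open Subgroup Cfsg Cfsg.Agent.ZN.ChoiceBase Cfsg.Agent.ZN.ChoiceSit
open Cfsg.Agent.Omega.EK3.Star Cfsg.Agent.Omega.EK3.Lever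
open Cfsg.Agent.Omega.NO3S.EThree (Offd)
open scoped commutatorElement

universe u

variable {G : Type u} [Group G] {ι : Type*} {D O ZJ : Subgroup G} {L Y N V : ι → Subgroup G}
  {E : ι → ι → Subgroup G}

/-- every `N j` is moved by some `A ∈ AA O` -/
theorem exists_mover [Finite G] [Finite ι] (h : SIn D O ZJ L Y N V E)
    (swap : ∀ i j, i ≠ j → ∃ g : G, cj g O = O ∧ cj g (N i) = N j ∧ cj g (E i j) = E i j) (j : ι) :
    ∃ A ∈ AA O, ¬ A ≤ centralizer (N j : Set G) := by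
  obtain ⟨i₀, j₀, -, A, hA, hAl, x, hx, hn⟩ := h.exists_move
  have h1 : cj x A ∈ AA O := (h.cj_mem hA (hAl i₀) (h.LY i₀ hx)).1
  by_cases hj : j₀ = j
  · subst hj
    exact ⟨_, h1, hn⟩
  · obtain ⟨g, hgO, hgN, -⟩ := swap j₀ j hj
    refine ⟨cj g (cj x A), ?_, fun hc => hn ?_⟩
    · have h2 := cj_mem_AA g h1
      rwa [hgO] at h2
    · rw [← hgN, ← cj_centralizer] at hc
      have h2 := cj_mono g⁻¹ hc
      rwa [cj_inv_cj, cj_inv_cj] at h2

/-- for `i ≠ j` some `F ≤ O` moves `N j` and `[E i j, F] ≤ N j` -/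
theorem exists_F [Finite G] [Finite ι] (h : SIn D O ZJ L Y N V E)
    (lever : ∀ i j, i ≠ j → (∃ A ∈ AA O, ¬ A ≤ centralizer (N j : Set G)) →
      ∃ F ≤ O, (¬ F ≤ centralizer (N i : Set G) ∧ ∀ e ∈ E i j, ∀ f ∈ F, ⁅e, f⁆ ∈ N i) ∨
        (¬ F ≤ centralizer (N j : Set G) ∧ ∀ e ∈ E i j, ∀ f ∈ F, ⁅e, f⁆ ∈ N j))
    (swap : ∀ i j, i ≠ j → ∃ g : G, cj g O = O ∧ cj g (N i) = N j ∧ cj g (E i j) = E i j)
    {i j : ι} (hij : i ≠ j) :
    ∃ F ≤ O, ¬ F ≤ centralizer (N j : Set G) ∧ ∀ e ∈ E i j, ∀ f ∈ F, ⁅e, f⁆ ∈ N j := by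
  obtain ⟨F, hFO, ⟨h1, h2⟩ | ⟨h1, h2⟩⟩ := lever i j hij (exists_mover h swap j)
  · obtain ⟨g, hgO, hgN, hgE⟩ := swap i j hij
    refine ⟨cj g F, (cj_mono g hFO).trans hgO.le, fun hc => h1 ?_, ?_⟩
    · rw [← hgN, ← cj_centralizer] at hc
      have h3 := cj_mono g⁻¹ hc
      rwa [cj_inv_cj, cj_inv_cj] at h3
    · rintro e he _ ⟨f, hf, rfl⟩
      have he' : e ∈ cj g (E i j) := by rw [hgE]; exact he
      obtain ⟨e', he', rfl⟩ := he'
      have h3 : (MulAut.conj g) ⁅e', f⁆ ∈ N j := by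
        rw [← hgN]
        exact ⟨_, h2 e' he' f hf, rfl⟩
      have h4 : (MulAut.conj g) ⁅e', f⁆ = ⁅(MulAut.conj g) e', (MulAut.conj g) f⁆ := map_commutatorElement _ _ _
      rw [h4] at h3
      exact h3
  · exact ⟨F, hFO, h1, h2⟩

/-- `Y j` normalises `N i N j` -/
theorem norm_pair (h : SIn D O ZJ L Y N V E)
    (gen : ∀ j, ∀ K : Subgroup G, K ≤ Y j → Y j ≤ normalizer (K : Set G) →
      ¬ K ≤ centralizer (N j : Set G) → Y j ≤ D ⊔ K)
    {i j : ι} (hij : i ≠ j) {F : Subgroup G} (hFO : F ≤ O) (hF : ¬ F ≤ centralizer (N j : Set G))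
    (hFE : ∀ e ∈ E i j, ∀ f ∈ F, ⁅e, f⁆ ∈ N j) :
    Y j ≤ normalizer ((N i ⊔ N j : Subgroup G) : Set G) := by
  have hFY : F ≤ Y j := (hFO.trans h.OD).trans (h.DY j)
  have hK1 : Q.cls F (Y j) ≤ Y j := Q.cls_le fun y hy => by
    have h1 := cj_mono y hFY
    rwa [cj_eq_of_mem_normalizer (Subgroup.le_normalizer hy)] at h1
  have hK2 := gen j _ hK1 (Q.cls_self_norm F (Y j)) fun hc => hF ((Q.le_cls F (Y j)).trans hc)
  have hNi : N i ≤ E i j := by
    rw [h.Esymm i j hij]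
    exact h.NE j i hij.symm
  -- the conjugates of the elements of `F` under `Y j`
  have key : ∀ y ∈ Y j, ∀ f ∈ F, ∀ n ∈ N i ⊔ N j, (y * f * y⁻¹) * n * (y * f * y⁻¹)⁻¹ ∈ N i ⊔ N j := by
    intro y hy f hf n hn
    have hkY : y * f * y⁻¹ ∈ Y j := mul_mem (mul_mem hy (hFY hf)) (inv_mem hy)
    have hNj : ∀ m ∈ N j, (y * f * y⁻¹) * m * (y * f * y⁻¹)⁻¹ ∈ N j := fun m hm =>
      (mem_normalizer_iff.1 (h.YN j hkY) m).1 hm
    have h1 : N i ≤ cj (y * f * y⁻¹)⁻¹ (N i ⊔ N j) := by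
      intro m hm
      refine ⟨(y * f * y⁻¹) * m * (y * f * y⁻¹)⁻¹, ?_, ?_⟩
      · have h2 : y⁻¹ * m⁻¹ * y ∈ E i j := by
          have h3 := (mem_normalizer_iff.1 (h.EY i j hij (inv_mem hy)) m⁻¹).1 (hNi (inv_mem hm))
          rwa [inv_inv] at h3
        have h4 := (mem_normalizer_iff.1 (h.YN j hy) _).1 (hFE _ h2 f hf)
        have h5 : (y * f * y⁻¹) * m * (y * f * y⁻¹)⁻¹ = m * (y * ⁅y⁻¹ * m⁻¹ * y, f⁆ * y⁻¹) := by
          rw [commutatorElement_def]; group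
        show (y * f * y⁻¹) * m * (y * f * y⁻¹)⁻¹ ∈ N i ⊔ N j
        rw [h5]
        exact mul_mem (Subgroup.mem_sup_left hm) (Subgroup.mem_sup_right h4)
      · show (y * f * y⁻¹)⁻¹ * ((y * f * y⁻¹) * m * (y * f * y⁻¹)⁻¹) * ((y * f * y⁻¹)⁻¹)⁻¹ = m
        group
    have h2 : N j ≤ cj (y * f * y⁻¹)⁻¹ (N i ⊔ N j) := by
      intro m hm
      refine ⟨(y * f * y⁻¹) * m * (y * f * y⁻¹)⁻¹, Subgroup.mem_sup_right (hNj m hm), ?_⟩
      show (y * f * y⁻¹)⁻¹ * ((y * f * y⁻¹) * m * (y * f * y⁻¹)⁻¹) * ((y * f * y⁻¹)⁻¹)⁻¹ = m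
      group
    obtain ⟨m, hm, hmn⟩ := sup_le h1 h2 hn
    have e : (y * f * y⁻¹) * n * (y * f * y⁻¹)⁻¹ = m := by
      rw [← hmn]
      show (y * f * y⁻¹) * ((y * f * y⁻¹)⁻¹ * m * ((y * f * y⁻¹)⁻¹)⁻¹) * (y * f * y⁻¹)⁻¹ = m
      group
    rw [e]
    exact hm
  have hK3 : Q.cls F (Y j) ≤ normalizer ((N i ⊔ N j : Subgroup G) : Set G) := by
    refine Q.cls_le fun y hy => ?_
    rintro _ ⟨f, hf, rfl⟩
    refine Q.mem_normalizer_of_cj_le_iff ?_ ?_
    · exact fun n hn => key y hy f hf n hn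
    · intro n hn
      have h1 := key y hy f⁻¹ (inv_mem hf) n hn
      have e : y * f⁻¹ * y⁻¹ = (y * f * y⁻¹)⁻¹ := by group
      rw [e, inv_inv] at h1
      exact h1
  have hD : D ≤ normalizer ((N i ⊔ N j : Subgroup G) : Set G) := by
    intro d hd
    rw [mem_normalizer_iff_cj]
    show (N i ⊔ N j).map _ = N i ⊔ N j
    rw [Subgroup.map_sup]
    exact congrArg₂ (· ⊔ ·) (cj_eq_of_mem_normalizer (h.YN i (h.DY i hd)))
      (cj_eq_of_mem_normalizer (h.YN j (h.DY j hd)))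
  exact hK2.trans (sup_le hD hK3)

/-- **THEOREM S, abstract**: every pair of indices is interchanged. -/
theorem false_of [Finite G] [Finite ι] (h : SIn D O ZJ L Y N V E)
    (lever : ∀ i j, i ≠ j → (∃ A ∈ AA O, ¬ A ≤ centralizer (N j : Set G)) →
      ∃ F ≤ O, (¬ F ≤ centralizer (N i : Set G) ∧ ∀ e ∈ E i j, ∀ f ∈ F, ⁅e, f⁆ ∈ N i) ∨
        (¬ F ≤ centralizer (N j : Set G) ∧ ∀ e ∈ E i j, ∀ f ∈ F, ⁅e, f⁆ ∈ N j))
    (gen : ∀ j, ∀ K : Subgroup G, K ≤ Y j → Y j ≤ normalizer (K : Set G) →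
      ¬ K ≤ centralizer (N j : Set G) → Y j ≤ D ⊔ K)
    (swap : ∀ i j, i ≠ j → ∃ g : G, cj g O = O ∧ cj g (N i) = N j ∧ cj g (E i j) = E i j) : False := by
  have hp : ∀ i j, i ≠ j → Y j ≤ normalizer ((N i ⊔ N j : Subgroup G) : Set G) := by
    intro i j hij
    obtain ⟨F, h1, h2, h3⟩ := exists_F h lever swap hij
    exact norm_pair h gen hij h1 h2 h3
  obtain ⟨j₀, hj₀⟩ := h.ne
  have hY : ∀ j, Y j ≤ normalizer ((⨆ l, N l : Subgroup G) : Set G) := by
    intro j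
    have key : ∀ y ∈ Y j, cj y (⨆ l, N l) ≤ ⨆ l, N l := by
      intro y hy
      rw [cj_le_iff]
      refine iSup_le fun l => ?_
      rw [← cj_le_iff]
      by_cases hl : l = j
      · subst hl
        rw [cj_eq_of_mem_normalizer (h.YN l hy)]
        exact le_iSup N l
      · have h1 : cj y (N l ⊔ N j) = N l ⊔ N j := cj_eq_of_mem_normalizer (hp l j hl hy)
        exact ((cj_mono y le_sup_left).trans h1.le).trans (sup_le (le_iSup N l) (le_iSup N j))
    intro y hy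
    rw [mem_normalizer_iff_cj]
    refine le_antisymm (key y hy) ?_
    have h1 := cj_mono y (key y⁻¹ (inv_mem hy))
    rwa [cj_cj_inv] at h1
  obtain ⟨i, hi⟩ := h.nl (⨆ l, N l) (h.two.to_le (iSup_le h.NO))
    (fun e => hj₀ (le_bot_iff.1 (e ▸ le_iSup N j₀))) ((h.DY j₀).trans (hY j₀))
  exact hi ((h.LY i).trans (hY i))

/-- `lever` from `Lever.Dt`. -/
theorem lever_of [Finite G] (h : SIn D O ZJ L Y N V E) (hOZ : O ≤ centralizer (ZJ : Set G))
    (hgen : ∀ i j, i ≠ j → E i j ≤ ⨆ y : (Y i ⊔ Y j : Subgroup G), cj (y : G) ZJ) (i j : ι) (hij : i ≠ j)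
    (hA : ∃ A ∈ AA O, ¬ A ≤ centralizer (N j : Set G)) :
    ∃ F ≤ O, (¬ F ≤ centralizer (N i : Set G) ∧ ∀ e ∈ E i j, ∀ f ∈ F, ⁅e, f⁆ ∈ N i) ∨
      (¬ F ≤ centralizer (N j : Set G) ∧ ∀ e ∈ E i j, ∀ f ∈ F, ⁅e, f⁆ ∈ N j) := by
  obtain ⟨A, hA, hm⟩ := hA
  have hOY : ∀ l, O ≤ Y l := fun l => h.OD.trans (h.DY l)
  have hEY' : Y i ≤ normalizer (E i j : Set G) := by
    rw [h.Esymm i j hij]
    exact h.EY j i hij.symm
  have hNi : N i ≤ E i j := by
    rw [h.Esymm i j hij]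
    exact h.NE j i hij.symm
  have hd : Dt O (E i j) ZJ (fun b : Bool => Y (cond b i j)) (fun b : Bool => N (cond b i j)) := by
    refine ⟨le_cent (h.Eel i j hij), fun b => hOY _, ?_, hOZ, ?_, ?_, fun b => h.YN _, fun b => h.YQ _,
      fun b => h.no _⟩
    · rintro (_ | _)
      · exact h.EY i j hij
      · exact hEY'
    · refine (hgen i j hij).trans (iSup_le fun y => ?_)
      have hy : (y : G) ∈ (⨆ b : Bool, Y (cond b i j) : Subgroup G) :=
        (sup_le (le_iSup (fun b : Bool => Y (cond b i j)) true)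
          (le_iSup (fun b : Bool => Y (cond b i j)) false)) y.2
      exact le_iSup (fun y : (⨆ b : Bool, Y (cond b i j) : Subgroup G) => cj (y : G) ZJ) ⟨y, hy⟩
    · rintro (_ | _)
      · exact h.NE i j hij
      · exact hNi
  have hoff : Offd (E i j) A := offd_of_AA (h.Eel i j hij) (h.EO i j hij) hA
    ((hA.2.1.trans (hOY j)).trans (h.EY i j hij)) fun hc => hm (hc.trans (centralizer_le (h.NE i j hij)))
  obtain ⟨b, F, hF, -, h1, h2⟩ := hd.lever hA.2.1 hA.1 hoff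
  cases b
  · exact ⟨F, hF, Or.inr ⟨h1, h2⟩⟩
  · exact ⟨F, hF, Or.inl ⟨h1, h2⟩⟩

end Cfsg.Agent.Omega.EK3.Swap

end
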