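import Cfsg.Agent.Mrg.Omega.TC.Crit
import Cfsg.Agent.Mrg.Omega.ML.MinIrr
import Cfsg.Agent.Mrg.Omega.NO3S.ML
import Cfsg.Agent.Mrg.Omega.OM.KTwo.Cut
import Cfsg.Agent.ZN.Facts
import Cfsg.Agent.Lib.NormalAbelian
import Cfsg.Agent.Omega.NoFF.ThmJFam
import Cfsg.Agent.Mrg.Omega.KL.Def

section


/-!
# CARD #18791 "(E) = TWO CENTRES", `q = 2`: (NO), stabilisers of cosets, LEMMA Q (helper716 #19420), LIFTING

`D : Fr T V P v`; `T ≤ H ≤ C_i`; `NH v i H = ⟨v (i+1) ^ H⟩`.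

* `Fr.stab_le` : `H` normalises `Y`, `v (i+1) ∉ Y` : the stabiliser in `H` of `v (i+1) Y` is in `D`; `Fr.ker_le` : the
  kernel of `H` on `NH v i H / Y` centralises `NH v i H`;
* `Fr.no` : **(NO)** for `H` on `NH v i H / Y`, `A ≤ O₂(D)` elementary abelian: `|A : C_A(NH)| ≤ |NH : M|` for all
  `M ≤ NH` with `[M, A] ≤ Y`; `Fr.no_H`, `Fr.no_N` : `Y = 1`;
* `Ex B N` : `|B : C_B(N)| = |N : C_N(B)|` : exactness; `Fr.ex` : `N_0`, `N_1` are exact on each other, `Fr.ex_H` : so are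
  `NH v 0 H₀`, `NH v 1 H₁`;
* `Fr.lift_H` : **LIFTING** : `B ≤ O₂(D)` exact on `NH v i H`, `M ≤ NH v i H`, `[M, B] ≤ Y`, `Y` a proper submodule
  ⇒ `[M, B] = 1`; `Fr.sub_comm` = **LEMMA Q**: every proper submodule of `N_i` is centralised by `N_{i+1}`.
-/

set_option autoImplicit false
set_option linter.unusedSectionVars false

namespace Cfsg.Agent.Omega.TC

open Subgroup Cfsg Cfsg.Agent.ZN Cfsg.Agent.Omega.MinPar
open Cfsg.Agent.Omega.OM.KTwo (CC QQ WU NU EU FF ne_add_one eq_add_one add_one_add_one le_normalizer_V le_V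
  le_o2_of_commutator)
open Cfsg.Agent.MinSimple.MinParabolic (IsMinPar)
open Cfsg.Agent.Omega.NoFF.Basic (conj_conj mem_conj conj_le_iff conj_le_centralizer comm_symm comm_mono
  Z_le_V V_le conj_V_mul)
open Cfsg.Agent.Omega.NoFF.Main (normalizer_conj)
open Cfsg.Agent.Omega.NOThreeL.Pair (conj_eq_of_mem conj_le_normalizer clo le_clo le_clo' clo_le
  le_normalizer_clo clo_comm clo_isPGroup)
open Cfsg.Agent.ZN.ChoiceSit (Syl exists_syl syl_conj o2_le_syl)
open Cfsg.Agent.MinSimple.VModule (mem_zc zc_le normalizer_le_normalizer_zc le_o2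
  o2_isPGroup zc_le_centralizer le_centralizer_zc)
open scoped Pointwise

universe u

variable {G : Type u} [Group G]

/-- `⟨v (i+1) ^ H⟩` -/
def NH (v : Fin 2 → G) (i : Fin 2) (H : Subgroup G) : Subgroup G := NoFF.Basic.V (zpowers (v (i + 1))) H

theorem mem_NH (v : Fin 2 → G) (i : Fin 2) (H : Subgroup G) : v (i + 1) ∈ NH v i H :=
  le_V _ _ (mem_zpowers _)

theorem le_normalizer_NH (v : Fin 2 → G) (i : Fin 2) (H : Subgroup G) : H ≤ normalizer (NH v i H : Set G) :=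
  le_normalizer_V _ _

theorem NH_le {v : Fin 2 → G} {i : Fin 2} {H U : Subgroup G} (hv : v (i + 1) ∈ U) (hU : H ≤ normalizer (U : Set G)) :
    NH v i H ≤ U :=
  V_le fun h hh => by
    rw [← conj_eq_of_mem (hU hh)]
    exact conj_le_iff.2 (by rw [zpowers_le]; exact hv)

/-- subgroups of K-groups -/
theorem kgroup_mono {C H : Subgroup G} (hC : IsKGroup C) (hH : H ≤ C) : IsKGroup H :=
  ML.Final.kgroup_of_surj hC (H.subgroupOf C) (subgroupOfEquivOfLe hH).toMonoidHom (subgroupOfEquivOfLe hH).surjective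

namespace Fr

variable [Finite G] {T : Subgroup G} {V P : Fin 2 → Subgroup G} {v : Fin 2 → G} (D : Fr T V P v)

include D

theorem NH_CC (i : Fin 2) : NH v i (CC v i) = NU V v i := by
  apply le_antisymm
  · exact NH_le (D.mem_N i) (D.C_le_N_N i)
  · refine V_le fun c hc => ?_
    rw [← conj_eq_of_mem (le_normalizer_NH v i (CC v i) hc)]
    refine conj_le_iff.2 fun x hx => ?_
    by_cases hx1 : x = 1
    · rw [hx1]; exact one_mem _
    obtain ⟨l, hl, -, hlx⟩ := D.tr (ne_add_one i).symm hx hx1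
    rw [← hlx]
    exact (mem_normalizer_iff.1 (le_normalizer_NH v i (CC v i) (D.PC (i + 1) i (ne_add_one i).symm hl)) _).1
      (mem_NH v i _)

theorem NH_le_N {i : Fin 2} {H : Subgroup G} (hH : H ≤ CC v i) : NH v i H ≤ NU V v i :=
  NH_le (D.mem_N i) (hH.trans (D.C_le_N_N i))

theorem V_le_NH {i : Fin 2} {H : Subgroup G} (hP : P (i + 1) ≤ H) : V (i + 1) ≤ NH v i H := by
  intro x hx
  by_cases hx1 : x = 1
  · rw [hx1]; exact one_mem _
  obtain ⟨l, hl, -, hlx⟩ := D.tr (ne_add_one i).symm hx hx1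
  rw [← hlx]
  exact (mem_normalizer_iff.1 (le_normalizer_NH v i H (hP hl)) _).1 (mem_NH v i _)

/-- **the stabiliser of the coset `v (i+1) Y` is in `D`** -/
theorem stab_le {i : Fin 2} {H Y : Subgroup G} (hT : T ≤ H) (hH : H ≤ CC v i) (hY : H ≤ normalizer (Y : Set G))
    (hv : v (i + 1) ∉ Y) : ∀ g ∈ H, g * v (i + 1) * g⁻¹ * (v (i + 1))⁻¹ ∈ Y → g ∈ centralizer (zc T : Set G) := by
  have hji := (ne_add_one i).symm
  set w := v (i + 1) with hw
  let K : Subgroup G :=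
    { carrier := {g | g ∈ H ∧ g * w * g⁻¹ * w⁻¹ ∈ Y}
      one_mem' := ⟨one_mem _, by simp⟩
      mul_mem' := by
        rintro a b ⟨ha, ha'⟩ ⟨hb, hb'⟩
        refine ⟨mul_mem ha hb, ?_⟩
        have e : a * b * w * (a * b)⁻¹ * w⁻¹ = (a * (b * w * b⁻¹ * w⁻¹) * a⁻¹) * (a * w * a⁻¹ * w⁻¹) := by group
        rw [e]
        exact mul_mem ((mem_normalizer_iff.1 (hY ha) _).1 hb') ha'
      inv_mem' := by
        rintro a ⟨ha, ha'⟩
        refine ⟨inv_mem ha, ?_⟩
        have e : a⁻¹ * w * a⁻¹⁻¹ * w⁻¹ = a⁻¹ * (a * w * a⁻¹ * w⁻¹)⁻¹ * a⁻¹⁻¹ := by group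
        rw [e]
        exact (mem_normalizer_iff.1 (hY (inv_mem ha)) _).1 (inv_mem ha') }
  have hTK : T ≤ K := fun t ht => ⟨hT ht, by rw [D.cen (i + 1) ht, mul_inv_cancel]; exact one_mem _⟩
  have hKC : K ≤ CC v i := fun k hk => hH hk.1
  suffices h : K ≤ centralizer (zc T : Set G) from fun g hg hgY => h ⟨hg, hgY⟩
  refine Cfsg.Agent.MinSimple.MinParabolic.le_of_forall hTK ((inf_le_inf_right _ hKC).trans (D.norm_T_le i)) ?_
  intro R hR hRK
  by_cases hm : R ≤ CC v (i + 1)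
  · exact fun r hr => (D.mem_D_iff hji).2 ⟨hm hr, hKC (hRK hr)⟩
  exfalso
  have hRN := D.uni (i + 1) i hji R hR (hRK.trans hKC) hm
  obtain ⟨x, hx, hx1, hxw⟩ := D.exists_ne_v (i + 1)
  have key : ∀ y ∈ V (i + 1), y ≠ 1 → y * w⁻¹ ∈ Y := by
    intro y hy hy1
    obtain ⟨r, hr, hry⟩ := D.trans_of hR.le hRN hm hy hy1
    have h1 := (hRK hr).2
    rwa [hry] at h1
  have h1 := key x hx hx1
  have hxw1 : x * w ≠ 1 := by
    intro h
    apply hxw
    have := eq_inv_of_mul_eq_one_left h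
    rw [this, inv_eq_of_mul_eq_one_left (D.v_sq (i + 1))]
  have h2 := key (x * w) (mul_mem hx (D.mem _)) hxw1
  rw [mul_inv_cancel_right] at h2
  -- `x ∈ Y`, `x w⁻¹ ∈ Y`
  apply hv
  have h3 := mul_mem (inv_mem h1) h2
  have e : (x * w⁻¹)⁻¹ * x = w := by group
  rwa [e] at h3

/-- the kernel of `H` on `⟨v (i+1) ^ H⟩ / Y` centralises `⟨v (i+1) ^ H⟩` -/
theorem ker_le {i : Fin 2} {H Y : Subgroup G} (hT : T ≤ H) (hH : H ≤ CC v i) (hY : H ≤ normalizer (Y : Set G))
    (hv : v (i + 1) ∉ Y) {k : G} (hk : k ∈ H) (hkY : ∀ x ∈ NH v i H, k * x * k⁻¹ * x⁻¹ ∈ Y) :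
    k ∈ centralizer (NH v i H : Set G) := by
  have hst := D.stab_le hT hH hY hv
  have hN := le_normalizer_NH v i H
  have key : ∀ h ∈ H, (h * v (i + 1) * h⁻¹) * k = k * (h * v (i + 1) * h⁻¹) := by
    intro h hh
    have h1 : h * v (i + 1) * h⁻¹ ∈ NH v i H := (mem_normalizer_iff.1 (hN hh) _).1 (mem_NH v i H)
    have h2 := hkY _ h1
    have h3 : (h⁻¹ * k * h) * v (i + 1) * (h⁻¹ * k * h)⁻¹ * (v (i + 1))⁻¹ ∈ Y := by
      have h4 := (mem_normalizer_iff.1 (hY (inv_mem hh)) _).1 h2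
      have e : (h⁻¹ * k * h) * v (i + 1) * (h⁻¹ * k * h)⁻¹ * (v (i + 1))⁻¹ =
          h⁻¹ * (k * (h * v (i + 1) * h⁻¹) * k⁻¹ * (h * v (i + 1) * h⁻¹)⁻¹) * h⁻¹⁻¹ := by group
      rw [e]
      exact h4
    have h5 := hst _ (mul_mem (mul_mem (inv_mem hh) hk) hh) h3
    have h6 : (h⁻¹ * k * h) * v (i + 1) = v (i + 1) * (h⁻¹ * k * h) :=
      mem_centralizer_singleton_iff.1 (D.cent_zc_le (i + 1) h5)
    calc (h * v (i + 1) * h⁻¹) * k = h * (v (i + 1) * (h⁻¹ * k * h)) * h⁻¹ := by group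
      _ = h * ((h⁻¹ * k * h) * v (i + 1)) * h⁻¹ := by rw [h6]
      _ = k * (h * v (i + 1) * h⁻¹) := by group
  have h7 : NH v i H ≤ centralizer ({k} : Set G) := by
    refine V_le fun h hh x hx => ?_
    rw [mem_conj] at hx
    obtain ⟨n, hn⟩ := mem_zpowers_iff.1 hx
    have h8 : x = (h * v (i + 1) * h⁻¹) ^ n := by
      have e : x = h * (h⁻¹ * x * h) * h⁻¹ := by group
      rw [e, ← hn, conj_zpow]
    rw [mem_centralizer_singleton_iff, h8]
    have h9 : Commute (h * v (i + 1) * h⁻¹) k := key h hh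
    exact (h9.zpow_left n).eq
  rw [mem_centralizer_iff]
  intro x hx
  exact mem_centralizer_singleton_iff.1 (h7 hx)

/-- **(NO)** for `H` acting on `⟨v (i+1) ^ H⟩ / Y`. -/
theorem no (hML : ML.Final.MLK.{u, u}) {i : Fin 2} {H Y A M : Subgroup G} (hK : IsKGroup (CC v i)) (hT : T ≤ H)
    (hH : H ≤ CC v i) (hY : H ≤ normalizer (Y : Set G)) (hYW : Y ≤ NH v i H) (hv : v (i + 1) ∉ Y)
    (hA : A ≤ o2 (centralizer (zc T : Set G))) (hAH : A ≤ H) (hA2 : ∀ a ∈ A, a ^ 2 = 1)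
    (hM : M ≤ NH v i H) (hMY : ∀ m ∈ M, ∀ a ∈ A, a * m * a⁻¹ * m⁻¹ ∈ Y) :
    (centralizer (NH v i H : Set G)).relIndex A ≤ M.relIndex (NH v i H) := by
  have hWN := D.NH_le_N hH
  have hst := D.stab_le hT hH hY hv
  have hWc : NH v i H ≤ centralizer (NH v i H : Set G) := comm_mono (D.N_comm i) hWN hWN
  have hYn : Y ≤ normalizer (NH v i H : Set G) := (hYW.trans hWc).trans (centralizer_le_normalizer _)
  have hAn : A ≤ normalizer (Y : Set G) := hAH.trans hY
  -- `C_{N/Y}(A)`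
  let CW : Subgroup G :=
    { carrier := {x | x ∈ NH v i H ∧ ∀ a ∈ A, a * x * a⁻¹ * x⁻¹ ∈ Y}
      one_mem' := ⟨one_mem _, fun a _ => by simp⟩
      mul_mem' := by
        rintro x y ⟨hx, hx'⟩ ⟨hy, hy'⟩
        refine ⟨mul_mem hx hy, fun a ha => ?_⟩
        have h1 := hx' a ha
        have h2 := hy' a ha
        have h3 : x * (a * y * a⁻¹ * y⁻¹) * x⁻¹ = a * y * a⁻¹ * y⁻¹ := by
          have h4 := mem_centralizer_iff.1 (hWc hx) _ (hYW h2)
          rw [← h4]; group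
        have e : a * (x * y) * a⁻¹ * (x * y)⁻¹ = (a * x * a⁻¹ * x⁻¹) * (x * (a * y * a⁻¹ * y⁻¹) * x⁻¹) := by group
        rw [e, h3]
        exact mul_mem h1 h2
      inv_mem' := by
        rintro x ⟨hx, hx'⟩
        refine ⟨inv_mem hx, fun a ha => ?_⟩
        have h1 := inv_mem (hx' a ha)
        have h4 := mem_centralizer_iff.1 (hWc (inv_mem hx)) _ (hYW h1)
        have e : a * x⁻¹ * a⁻¹ * x⁻¹⁻¹ = x⁻¹ * (a * x * a⁻¹ * x⁻¹)⁻¹ * x⁻¹⁻¹ := by group
        rw [e, ← h4]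
        have e2 : (a * x * a⁻¹ * x⁻¹)⁻¹ * x⁻¹ * x⁻¹⁻¹ = (a * x * a⁻¹ * x⁻¹)⁻¹ := by group
        rw [e2]
        exact h1 }
  have hMC : M ≤ CW := fun m hm => ⟨hM hm, fun a ha => hMY m hm a ha⟩
  have hmain : (A ⊓ centralizer (NH v i H : Set G)).relIndex A ≤ CW.relIndex (NH v i H) := by
    refine hML.grp (C := H) (W := NH v i H) (Y := Y) (T := T) (Q := o2 (centralizer (zc T : Set G)) ⊓ H) (A := A)
      (w := v (i + 1)) (kgroup_mono hK hH) ?_ (KA := A ⊓ centralizer (NH v i H : Set G)) (CW := CW) ?_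
      (fun x => Iff.rfl)
    · refine ⟨le_normalizer_NH v i H, hY, hYW, ?_, ?_, mem_NH v i H, ?_, hT, D.T_isPGroup, ?_, ?_, inf_le_right,
        (o2_isPGroup _).to_le inf_le_left, ?_, ?_, le_inf hA hAH, ?_⟩
      · -- `N_i` is abelian
        refine le_trans ?_ (centralizer_le_normalizer _)
        exact comm_mono (D.N_comm i) hWN (hYW.trans hWN)
      · intro x hx
        rw [← pow_two, D.N_sq i x (hWN hx)]
        exact one_mem _
      · intro U hU _ hHU
        exact NH_le hU hHU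
      · -- `T` is Sylow in `H`
        have hS : Syl T H := ⟨hT, D.T_isPGroup, fun R hR hR2 hTR => (D.syl i).2.2 R (hR.trans hH) hR2 hTR⟩
        exact Cfsg.Agent.ZN.ChoiceSit.syl_not_dvd hS
      · intro t ht
        rw [D.cen (i + 1) ht, mul_inv_cancel]
        exact one_mem _
      · intro q hq
        have h1 : q ∈ CC v (i + 1) := D.cent_zc_le (i + 1) (o2_le _ hq.1)
        have h2 : q * v (i + 1) = v (i + 1) * q := mem_centralizer_singleton_iff.1 h1
        rw [h2, mul_inv_cancel_right, mul_inv_cancel]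
        exact one_mem _
      · intro g hg hgY q hq
        have h1 := hst g hg hgY
        exact mem_inf.2 ⟨(mem_normalizer_iff.1 (le_normalizer_o2 _ h1) q).1 hq.1,
          H.mul_mem (H.mul_mem hg hq.2) (H.inv_mem hg)⟩
      · intro a ha x _
        have h1 : a * a = 1 := by rw [← pow_two]; exact hA2 a ha
        have e : a * (a * x * a⁻¹) * a⁻¹ * x⁻¹ = (a * a) * x * (a * a)⁻¹ * x⁻¹ := by group
        rw [e, h1]
        simp
    · intro a
      constructor
      · rintro ⟨h1, h2⟩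
        refine ⟨h1, fun x hx => ?_⟩
        have h3 := mem_centralizer_iff.1 h2 x hx
        rw [← h3, mul_inv_cancel_right, mul_inv_cancel]
        exact one_mem _
      · rintro ⟨h1, h2⟩
        exact ⟨h1, D.ker_le hT hH hY hv (hAH h1) h2⟩
  rw [inf_relIndex_left] at hmain
  refine hmain.trans ?_
  have h1 := relIndex_mul_relIndex M CW (NH v i H) hMC fun x hx => hx.1
  rw [← h1]
  exact Nat.le_mul_of_pos_left _ (Nat.pos_of_ne_zero (OM.PG.Int.rix_ne _ _))

/-- **(NO)** for `H` on `⟨v (i+1) ^ H⟩` -/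
theorem no_H (hML : ML.Final.MLK.{u, u}) {i : Fin 2} {H A : Subgroup G} (hK : IsKGroup (CC v i)) (hT : T ≤ H)
    (hH : H ≤ CC v i) (hA : A ≤ o2 (centralizer (zc T : Set G))) (hAH : A ≤ H) (hA2 : ∀ a ∈ A, a ^ 2 = 1) :
    (centralizer (NH v i H : Set G)).relIndex A ≤ (centralizer (A : Set G)).relIndex (NH v i H) := by
  have h := D.no hML (M := NH v i H ⊓ centralizer (A : Set G)) (Y := ⊥) hK hT hH ?_ bot_le ?_ hA hAH hA2 inf_le_left ?_
  · rwa [inf_relIndex_left] at h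
  · exact fun h _ => by
      rw [mem_normalizer_iff]
      intro x
      rw [mem_bot, mem_bot, conj_eq_one_iff]
  · rw [mem_bot]; exact D.ne _
  · intro m hm a ha
    rw [mem_bot, mem_centralizer_iff.1 hm.2 a ha, mul_inv_cancel_right, mul_inv_cancel]

/-- **(NO)** for `C_i` on `N_i` -/
theorem no_N (hML : ML.Final.MLK.{u, u}) {i : Fin 2} {A : Subgroup G} (hK : IsKGroup (CC v i))
    (hA : A ≤ o2 (centralizer (zc T : Set G))) (hA2 : ∀ a ∈ A, a ^ 2 = 1) :
    (centralizer (NU V v i : Set G)).relIndex A ≤ (centralizer (A : Set G)).relIndex (NU V v i) := by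
  have h := D.no_H hML (H := CC v i) hK (D.T_le_C i) le_rfl hA ((hA.trans (o2_le _)).trans (D.cent_zc_le i)) hA2
  rwa [D.NH_CC] at h

/-- **LIFTING / LEMMA Q**: `B ≤ O₂(D)` exact on `N = ⟨v (i+1) ^ H⟩`, `Y` a proper submodule, `[M, B] ≤ Y`: `[M, B] = 1`. -/
theorem lift_H (hML : ML.Final.MLK.{u, u}) {i : Fin 2} {H Y B M : Subgroup G} (hK : IsKGroup (CC v i)) (hT : T ≤ H)
    (hH : H ≤ CC v i) (hY : H ≤ normalizer (Y : Set G)) (hYW : Y ≤ NH v i H) (hv : v (i + 1) ∉ Y)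
    (hB : B ≤ o2 (centralizer (zc T : Set G))) (hBH : B ≤ H) (hB2 : ∀ a ∈ B, a ^ 2 = 1)
    (hEx : OM.PG.Int.Ex B (NH v i H)) (hM : M ≤ NH v i H) (hMY : ∀ m ∈ M, ∀ a ∈ B, a * m * a⁻¹ * m⁻¹ ∈ Y) :
    M ≤ centralizer (B : Set G) := by
  have hWN := D.NH_le_N hH
  have hWc : NH v i H ≤ centralizer (NH v i H : Set G) := comm_mono (D.N_comm i) hWN hWN
  -- `M' = M C_N(B)`
  have key : ∀ m ∈ M ⊔ (NH v i H ⊓ centralizer (B : Set G)), ∀ a ∈ B, a * m * a⁻¹ * m⁻¹ ∈ Y := by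
    intro m hm a ha
    have hn : NH v i H ⊓ centralizer (B : Set G) ≤ normalizer (M : Set G) :=
      ((inf_le_left.trans hWc).trans (centralizer_le hM)).trans (centralizer_le_normalizer _)
    obtain ⟨x, hx, c, hc, rfl⟩ := OM.KTwo.exists_mul_of_mem_sup hn hm
    have h1 := mem_centralizer_iff.1 hc.2 a ha
    have h2 := hMY x hx a ha
    have e : a * (x * c) * a⁻¹ * (x * c)⁻¹ = (a * x * a⁻¹) * (a * c * a⁻¹) * c⁻¹ * x⁻¹ := by group
    rw [e, h1]
    have e2 : a * x * a⁻¹ * (c * a * a⁻¹) * c⁻¹ * x⁻¹ = a * x * a⁻¹ * x⁻¹ := by group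
    rw [e2]
    exact h2
  have hM' : M ⊔ (NH v i H ⊓ centralizer (B : Set G)) ≤ NH v i H := sup_le hM inf_le_left
  have h := D.no hML hK hT hH hY hYW hv hB hBH hB2 hM' key
  have h1 : (NH v i H ⊓ centralizer (B : Set G)).relIndex (NH v i H) = (centralizer (B : Set G)).relIndex (NH v i H) :=
    inf_relIndex_left _ _
  have h2 := relIndex_mul_relIndex (NH v i H ⊓ centralizer (B : Set G)) (M ⊔ (NH v i H ⊓ centralizer (B : Set G)))
    (NH v i H) le_sup_right hM'
  rw [h1, ← hEx] at h2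
  set r := (M ⊔ (NH v i H ⊓ centralizer (B : Set G))).relIndex (NH v i H) with hr
  set q := (NH v i H ⊓ centralizer (B : Set G)).relIndex (M ⊔ (NH v i H ⊓ centralizer (B : Set G))) with hq
  have hr0 : r ≠ 0 := OM.PG.Int.rix_ne _ _
  have hq1 : q ≤ 1 := by
    by_contra hcon
    push Not at hcon
    have h3 : r < q * r := by
      calc r = 1 * r := by rw [one_mul]
        _ < q * r := Nat.mul_lt_mul_of_pos_right hcon (Nat.pos_of_ne_zero hr0)
    omega
  have hq0 : q ≠ 0 := OM.PG.Int.rix_ne _ _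
  have h3 : M ⊔ (NH v i H ⊓ centralizer (B : Set G)) ≤ NH v i H ⊓ centralizer (B : Set G) :=
    relIndex_eq_one.1 (by omega)
  exact (le_sup_left.trans h3).trans inf_le_right

/-! ### Exactness -/

theorem NH_sq {i : Fin 2} {H : Subgroup G} (hH : H ≤ CC v i) : ∀ x ∈ NH v i H, x ^ 2 = 1 :=
  fun x hx => D.N_sq i x (D.NH_le_N hH hx)

theorem N_le_oD (i : Fin 2) : NU V v i ≤ o2 (centralizer (zc T : Set G)) := (D.N_le_Q i).trans (D.Q_le_o2D i)

/-- exactness of `⟨v 1 ^ H₀⟩`, `⟨v 0 ^ H₁⟩` -/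
theorem ex_H (hML : ML.Final.MLK.{u, u}) (hK : ∀ i, IsKGroup (CC v i)) {i j : Fin 2} {H H' : Subgroup G}
    (hT : T ≤ H) (hH : H ≤ CC v i) (hT' : T ≤ H') (hH' : H' ≤ CC v j) : OM.PG.Int.Ex (NH v j H') (NH v i H) := by
  have hO : ∀ (k : Fin 2) (X : Subgroup G), X ≤ CC v k → NH v k X ≤ o2 (centralizer (zc T : Set G)) := fun k X hX =>
    (D.NH_le_N hX).trans (D.N_le_oD k)
  have h1 := D.no_H hML (hK i) hT hH (hO j H' hH') ((hO j H' hH').trans (D.o2D_le_T.trans hT)) (D.NH_sq hH')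
  have h2 := D.no_H hML (hK j) hT' hH' (hO i H hH) ((hO i H hH).trans (D.o2D_le_T.trans hT')) (D.NH_sq hH)
  exact le_antisymm h1 h2

/-- **exactness of `(N_0, N_1)`** -/
theorem ex (hML : ML.Final.MLK.{u, u}) (hK : ∀ i, IsKGroup (CC v i)) (i j : Fin 2) :
    OM.PG.Int.Ex (NU V v j) (NU V v i) := by
  have h := D.ex_H hML hK (D.T_le_C i) le_rfl (D.T_le_C j) le_rfl
  rwa [D.NH_CC, D.NH_CC] at h

/-- **LEMMA Q** (716 #19420), LIFTING form: `Y` a proper submodule of `N_i`, `m ∈ N_i`, `[m, N_{i+1}] ≤ Y` ⇒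
`[m, N_{i+1}] = 1`. -/
theorem lemQ (hML : ML.Final.MLK.{u, u}) (hK : ∀ i, IsKGroup (CC v i)) {i : Fin 2} {Y M : Subgroup G}
    (hY : CC v i ≤ normalizer (Y : Set G)) (hYW : Y ≤ NU V v i) (hv : v (i + 1) ∉ Y) (hM : M ≤ NU V v i)
    (hMY : ∀ m ∈ M, ∀ a ∈ NU V v (i + 1), a * m * a⁻¹ * m⁻¹ ∈ Y) : M ≤ centralizer (NU V v (i + 1) : Set G) := by
  have hO := D.N_le_oD (i + 1)
  refine D.lift_H hML (H := CC v i) (B := NU V v (i + 1)) (hK i) (D.T_le_C i) le_rfl hY (by rwa [D.NH_CC]) hv hO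
    (hO.trans (D.o2D_le_T.trans (D.T_le_C i))) (D.N_sq (i + 1)) ?_ (by rwa [D.NH_CC]) hMY
  rw [D.NH_CC]
  exact D.ex hML hK i (i + 1)

/-- **LEMMA Q**: every proper submodule of `N_i` is centralised by `N_{i+1}`. -/
theorem sub_comm (hML : ML.Final.MLK.{u, u}) (hK : ∀ i, IsKGroup (CC v i)) {i : Fin 2} {Y : Subgroup G}
    (hY : CC v i ≤ normalizer (Y : Set G)) (hYW : Y ≤ NU V v i) (hv : v (i + 1) ∉ Y) :
    Y ≤ centralizer (NU V v (i + 1) : Set G) := by
  refine D.lemQ hML hK hY hYW hv hYW fun m hm a ha => mul_mem ?_ (inv_mem hm)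
  exact (mem_normalizer_iff.1 (hY (D.N_le_C (i + 1) i ha)) _).1 hm

end Fr

end Cfsg.Agent.Omega.TC

end

section


/-!
# LEMMA PHI and COROLLARY PHI (helper364 #19949 (1), #20327; CARD #18791 TWO CENTRES)

* `phi` : **LEMMA PHI**: `A ∈ A(T)`, `A₀ ≤ A` of index 2, `τ ∈ A`, `M ≤ T` elementary abelian, normalised by `A₀`,
  `[M, M^τ] = 1 = M ∩ M^τ`, `|[M, A₀]| ≤ 2`: `|M| ≤ 2`;
* `cor_phi` : abstract **COROLLARY PHI**;
* `Fr.o2_P` : `O₂(P i) = C_T(V i)`; `Fr.zc_o2` : `Ω₁Z(O₂(P i)) = V i ⟨v j⟩` if `J(T) ≰ O₂(P i)`;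
* `Fr.phi` : an involution `w ∈ O₂(P i)` with `[w, O₂(P i)] ≤ ⟨v i⟩` is in `V i ⟨v j⟩` if `J(T) ≰ O₂(P i)`;
* `Fr.phi_N`, `Fr.phi_W` : the vectors of `N_i`, `W_i` fixed by `C_T(V i)` modulo `v i`;
* `Fr.sub_le` : a proper `P j`-submodule `X ∌ v j` of `N_i` which does not contain `V i` is `≤ ⟨v i⟩`.
-/

set_option autoImplicit false
set_option linter.unusedSectionVars false

namespace Cfsg.Agent.Omega.TC.Phi

open Subgroup Cfsg Cfsg.Agent.ZN Cfsg.Agent.PLocal.ThompsonJ Cfsg.Agent.PLocal.ElemAbSup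
open Cfsg.Agent.Omega.NoFF.Basic (comm_symm)
open scoped Pointwise

universe u

variable {G : Type u} [Group G]

/-! ### A count -/

theorem sum_phi {B : Type*} [Group B] [Fintype B] (t : B → ℤˣ) (ht : ∀ b b', t (b * b') = t b * t b') :
    ∑ b, ((t b : ℤˣ) : ℤ) = by classical exact if (∀ b, t b = 1) then (Fintype.card B : ℤ) else 0 := by
  classical
  split_ifs with h
  · simp [h]
  · push Not at h
    obtain ⟨c, hc⟩ := h
    have hc' : t c = -1 := (Int.units_eq_one_or (t c)).resolve_left hc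
    have h1 : ∑ b, ((t b : ℤˣ) : ℤ) = ∑ b, ((t (c * b) : ℤˣ) : ℤ) :=
      (Fintype.sum_equiv (Equiv.mulLeft c) _ _ (fun b => rfl)).symm
    have h2 : ∑ b, ((t (c * b) : ℤˣ) : ℤ) = - ∑ b, ((t b : ℤˣ) : ℤ) := by
      rw [← Finset.sum_neg_distrib]
      refine Finset.sum_congr rfl fun b _ => ?_
      rw [ht, hc']
      simp
    omega

/-- double counting for a pairing with values `±1` -/
theorem pairing_phi {A B : Type*} [Group A] [Group B] [Finite A] [Finite B] (s : A → B → ℤˣ)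
    (hl : ∀ a a' b, s (a * a') b = s a b * s a' b) (hr : ∀ a b b', s a (b * b') = s a b * s a b') :
    Nat.card {a // ∀ b, s a b = 1} * Nat.card B = Nat.card A * Nat.card {b // ∀ a, s a b = 1} := by
  classical
  have := Fintype.ofFinite A
  have := Fintype.ofFinite B
  have h1 : ∑ a, ∑ b, ((s a b : ℤˣ) : ℤ) = Nat.card {a // ∀ b, s a b = 1} * Nat.card B := by
    have : ∀ a, ∑ b, ((s a b : ℤˣ) : ℤ) = if (∀ b, s a b = 1) then (Fintype.card B : ℤ) else 0 :=
      fun a => by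
        rw [sum_phi (s a) (hr a)]
    simp only [this]
    rw [Finset.sum_ite, Finset.sum_const_zero, add_zero, Finset.sum_const, nsmul_eq_mul,
      Nat.card_eq_fintype_card, Nat.card_eq_fintype_card, Fintype.card_subtype]
  have h2 : ∑ b, ∑ a, ((s a b : ℤˣ) : ℤ) = Nat.card {b // ∀ a, s a b = 1} * Nat.card A := by
    have : ∀ b, ∑ a, ((s a b : ℤˣ) : ℤ) = if (∀ a, s a b = 1) then (Fintype.card A : ℤ) else 0 :=
      fun b => by
        rw [sum_phi (fun a => s a b) (fun a a' => hl a a' b)]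
    simp only [this]
    rw [Finset.sum_ite, Finset.sum_const_zero, add_zero, Finset.sum_const, nsmul_eq_mul,
      Nat.card_eq_fintype_card, Nat.card_eq_fintype_card, Fintype.card_subtype]
  rw [Finset.sum_comm, h2] at h1
  have h3 : (Nat.card {a // ∀ b, s a b = 1} * Nat.card B : ℤ) =
      Nat.card A * Nat.card {b // ∀ a, s a b = 1} := by rw [← h1, mul_comm]
  exact_mod_cast h3

/-- `|C_A(M)| |M| = |A| |C_M(A)|` if `[M, A]` has order `≤ 2` -/
theorem card_pairing [Finite G] {A M : Subgroup G} {p : G} (hpp : p * p = 1)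
    (hpA : ∀ a ∈ A, a * p = p * a) (hpM : ∀ m ∈ M, m * p = p * m)
    (h : ∀ a ∈ A, ∀ m ∈ M, a * m * a⁻¹ * m⁻¹ = 1 ∨ a * m * a⁻¹ * m⁻¹ = p) :
    Nat.card (A ⊓ centralizer (M : Set G) : Subgroup G) * Nat.card M =
      Nat.card A * Nat.card (M ⊓ centralizer (A : Set G) : Subgroup G) := by
  classical
  by_cases hp1 : p = 1
  · have h1 : ∀ a ∈ A, ∀ m ∈ M, a * m = m * a := by
      intro a ha m hm
      have h2 : a * m * a⁻¹ * m⁻¹ = 1 := by
        rcases h a ha m hm with h2 | h2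
        · exact h2
        · rw [h2, hp1]
      calc a * m = (a * m * a⁻¹ * m⁻¹) * m * a := by group
        _ = m * a := by rw [h2, one_mul]
    have h2 : A ⊓ centralizer (M : Set G) = A :=
      inf_eq_left.2 fun a ha => mem_centralizer_iff.2 fun m hm => (h1 a ha m hm).symm
    have h3 : M ⊓ centralizer (A : Set G) = M :=
      inf_eq_left.2 fun m hm => mem_centralizer_iff.2 fun a ha => h1 a ha m hm
    rw [h2, h3]
  let s : A → M → ℤˣ := fun a m => if (a : G) * m = m * a then 1 else -1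
  have hs : ∀ (a : A) (m : M), (s a m = 1 ↔ (a : G) * m = m * a) := by
    intro a m
    change (if (a : G) * m = m * a then (1 : ℤˣ) else -1) = 1 ↔ _
    split_ifs with h1
    · simp [h1]
    · simp [h1]
  have hs' : ∀ (a : A) (m : M), (a : G) * m = (if s a m = 1 then 1 else p) * m * a := by
    intro a m
    by_cases h1 : (a : G) * m = m * a
    · rw [if_pos ((hs a m).2 h1), one_mul, h1]
    · rw [if_neg fun h2 => h1 ((hs a m).1 h2)]
      rcases h a a.2 m m.2 with h2 | h2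
      · exfalso
        apply h1
        calc (a : G) * m = (a * m * (a : G)⁻¹ * (m : G)⁻¹) * m * a := by group
          _ = m * a := by rw [h2, one_mul]
      · rw [← h2]; group
  have key : ∀ (a : A) (m : M) (e : ℤˣ), (a : G) * m = (if e = 1 then 1 else p) * m * a → s a m = e := by
    intro a m e h1
    have h2 := hs' a m
    rw [h1] at h2
    have h3 : (if e = 1 then (1 : G) else p) = if s a m = 1 then 1 else p :=
      mul_right_cancel (mul_right_cancel h2)
    rcases Int.units_eq_one_or e with he | he <;> rcases Int.units_eq_one_or (s a m) with h4 | h4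
    · rw [he, h4]
    · exfalso
      rw [he, h4] at h3
      simp at h3
      exact hp1 h3.symm
    · exfalso
      rw [he, h4] at h3
      simp at h3
      exact hp1 h3
    · rw [he, h4]
  have hmul : ∀ e e' : ℤˣ, (if e * e' = 1 then (1 : G) else p) =
      (if e = 1 then 1 else p) * (if e' = 1 then 1 else p) := by
    intro e e'
    rcases Int.units_eq_one_or e with he | he <;> rcases Int.units_eq_one_or e' with he' | he' <;>
      rw [he, he'] <;> simp [hpp]
  have hcA : ∀ (e : ℤˣ), ∀ a ∈ A, a * (if e = 1 then (1 : G) else p) = (if e = 1 then 1 else p) * a := by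
    intro e a ha
    split_ifs
    · rw [mul_one, one_mul]
    · exact hpA a ha
  have hcM : ∀ (e : ℤˣ), ∀ m ∈ M, m * (if e = 1 then (1 : G) else p) = (if e = 1 then 1 else p) * m := by
    intro e a ha
    split_ifs
    · rw [mul_one, one_mul]
    · exact hpM a ha
  have hl : ∀ a a' b, s (a * a') b = s a b * s a' b := by
    intro a a' b
    apply key
    push_cast
    rw [hmul]
    calc (a : G) * a' * b = a * ((a' : G) * b) := by group
      _ = a * ((if s a' b = 1 then 1 else p) * b * a') := by rw [hs' a' b]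
      _ = (a * (if s a' b = 1 then (1 : G) else p)) * b * a' := by group
      _ = (if s a' b = 1 then (1 : G) else p) * (a * b) * a' := by rw [hcA _ a a.2]; group
      _ = (if s a' b = 1 then (1 : G) else p) * ((if s a b = 1 then 1 else p) * b * a) * a' := by rw [← hs' a b]
      _ = ((if s a' b = 1 then (1 : G) else p) * (if s a b = 1 then 1 else p)) * b * (a * a') := by group
      _ = (if s a b = 1 then (1 : G) else p) * (if s a' b = 1 then 1 else p) * b * (a * a') := by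
        congr 2
        split_ifs <;> simp
  have hr : ∀ a b b', s a (b * b') = s a b * s a b' := by
    intro a b b'
    apply key
    push_cast
    rw [hmul]
    calc (a : G) * (b * b') = (a * b) * b' := by group
      _ = ((if s a b = 1 then 1 else p) * b * a) * b' := by rw [← hs' a b]
      _ = (if s a b = 1 then 1 else p) * b * ((a : G) * b') := by group
      _ = (if s a b = 1 then 1 else p) * b * ((if s a b' = 1 then 1 else p) * b' * a) := by rw [← hs' a b']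
      _ = (if s a b = 1 then 1 else p) * (b * (if s a b' = 1 then (1 : G) else p)) * b' * a := by group
      _ = (if s a b = 1 then (1 : G) else p) * (if s a b' = 1 then 1 else p) * (b * b') * a := by
        rw [hcM _ b b.2]; group
  have h0 := pairing_phi s hl hr
  have e1 : Nat.card {a : A // ∀ b, s a b = 1} = Nat.card (A ⊓ centralizer (M : Set G) : Subgroup G) := by
    refine Nat.card_congr ⟨fun a => ⟨a.1, a.1.2, mem_centralizer_iff.2 fun m hm =>
      ((hs a.1 ⟨m, hm⟩).1 (a.2 ⟨m, hm⟩)).symm⟩, fun a => ⟨⟨a.1, a.2.1⟩, fun m =>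
      (hs _ m).2 (mem_centralizer_iff.1 a.2.2 m m.2).symm⟩, fun a => rfl, fun a => rfl⟩
  have e2 : Nat.card {b : M // ∀ a, s a b = 1} = Nat.card (M ⊓ centralizer (A : Set G) : Subgroup G) := by
    refine Nat.card_congr ⟨fun m => ⟨m.1, m.1.2, mem_centralizer_iff.2 fun a ha =>
      (hs ⟨a, ha⟩ m.1).1 (m.2 ⟨a, ha⟩)⟩, fun m => ⟨⟨m.1, m.2.1⟩, fun a =>
      (hs a _).2 (mem_centralizer_iff.1 m.2.2 a a.2)⟩, fun a => rfl, fun a => rfl⟩
  rw [e1, e2] at h0
  exact h0

/-! ### LEMMA PHI -/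

/-- **LEMMA PHI** -/
theorem phi [Finite G] {T A A₀ M : Subgroup G} {τ p : G} (hA : IsMaxIn T A) (hτ : τ ∈ A) (hA₀ : A₀ ≤ A)
    (hidx : ∀ a ∈ A, a ∈ A₀ ∨ τ * a ∈ A₀) (hMT : M ≤ T) (hMe : IsElementaryAbelian 2 M)
    (hMM : ∀ x ∈ M, ∀ y ∈ M, x * (τ * y * τ⁻¹) = τ * y * τ⁻¹ * x)
    (hinf : ∀ x ∈ M, ∀ y ∈ M, x = τ * y * τ⁻¹ → x = 1)
    (hA₀M : A₀ ≤ normalizer (M : Set G)) (hpM : p ∈ M)
    (hp : ∀ a ∈ A₀, ∀ m ∈ M, a * m * a⁻¹ * m⁻¹ = 1 ∨ a * m * a⁻¹ * m⁻¹ = p) : Nat.card M ≤ 2 := by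
  classical
  have hAc := (isElementaryAbelian_iff.1 hA.2.1).1
  have hA2 := (isElementaryAbelian_iff.1 hA.2.1).2
  have hMc := (isElementaryAbelian_iff.1 hMe).1
  have hM2 := (isElementaryAbelian_iff.1 hMe).2
  have hττ : τ * τ = 1 := by rw [← pow_two]; exact hA2 τ hτ
  have hpp : p * p = 1 := by rw [← pow_two]; exact hM2 p hpM
  -- `A₀` centralises `p`
  have hpA : ∀ a ∈ A₀, a * p = p * a := by
    intro a ha
    rcases hp a ha p hpM with h | h
    · calc a * p = (a * p * a⁻¹ * p⁻¹) * p * a := by group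
        _ = p * a := by rw [h, one_mul]
    · -- `a p a⁻¹ = p p = 1`
      have h1 : a * p * a⁻¹ = 1 := by
        calc a * p * a⁻¹ = (a * p * a⁻¹ * p⁻¹) * p := by group
          _ = 1 := by rw [h, hpp]
      rw [conj_eq_one_iff.1 h1, mul_one, one_mul]
  -- `M' = M^τ`
  set M' : Subgroup G := MulAut.conj τ • M with hM'
  have memM' : ∀ x, x ∈ M' ↔ ∃ y ∈ M, x = τ * y * τ⁻¹ := by
    intro x
    rw [hM', mem_smul_pointwise_iff_exists]
    constructor
    · rintro ⟨y, hy, rfl⟩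
      exact ⟨y, hy, rfl⟩
    · rintro ⟨y, hy, rfl⟩
      exact ⟨y, hy, rfl⟩
  have hcard' : Nat.card M' = Nat.card M := by
    rw [hM']
    exact Nat.card_congr (Subgroup.equivSMul (MulAut.conj τ) M).symm.toEquiv
  have hM'e : IsElementaryAbelian 2 M' := by
    rw [isElementaryAbelian_iff]
    refine ⟨fun a ha b hb => ?_, fun a ha => ?_⟩
    · obtain ⟨x, hx, rfl⟩ := (memM' a).1 ha
      obtain ⟨y, hy, rfl⟩ := (memM' b).1 hb
      calc τ * x * τ⁻¹ * (τ * y * τ⁻¹) = τ * (x * y) * τ⁻¹ := by group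
        _ = τ * (y * x) * τ⁻¹ := by rw [hMc x hx y hy]
        _ = τ * y * τ⁻¹ * (τ * x * τ⁻¹) := by group
    · obtain ⟨x, hx, rfl⟩ := (memM' a).1 ha
      calc (τ * x * τ⁻¹) ^ 2 = τ * x ^ 2 * τ⁻¹ := by rw [pow_two, pow_two]; group
        _ = 1 := by rw [hM2 x hx]; group
  have hMM' : M' ≤ centralizer (M : Set G) := by
    intro x hx
    obtain ⟨y, hy, rfl⟩ := (memM' x).1 hx
    exact mem_centralizer_iff.2 fun m hm => hMM m hm y hy
  have hbot : M ⊓ M' = ⊥ := by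
    rw [eq_bot_iff]
    rintro x ⟨hx, hx'⟩
    obtain ⟨y, hy, e⟩ := (memM' x).1 hx'
    exact mem_bot.2 (hinf x hx y hy e)
  set E : Subgroup G := M ⊔ M' with hE
  have hEe : IsElementaryAbelian 2 E := isElementaryAbelian_sup hMe hM'e hMM'
  have hEcard : Nat.card E = Nat.card M * Nat.card M := by
    have h1 := card_sup_mul_card_inf hMM'
    rw [hbot, Subgroup.card_bot, mul_one, hcard'] at h1
    exact h1
  have hM'T : M' ≤ T := by
    intro x hx
    obtain ⟨y, hy, rfl⟩ := (memM' x).1 hx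
    exact mul_mem (mul_mem (hA.1 hτ) (hMT hy)) (inv_mem (hA.1 hτ))
  have hET : E ≤ T := sup_le hMT hM'T
  set A' : Subgroup G := A₀ ⊓ centralizer (M : Set G) with hA'
  have hA'A : A' ≤ A := inf_le_left.trans hA₀
  have hA'e : IsElementaryAbelian 2 A' := isElementaryAbelian_mono hA.2.1 hA'A
  have hA'E : A' ≤ centralizer (E : Set G) := by
    refine comm_symm (sup_le (comm_symm inf_le_right) (comm_symm fun a ha => mem_centralizer_iff.2 fun x hx => ?_))
    obtain ⟨y, hy, rfl⟩ := (memM' x).1 hx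
    have h1 := mem_centralizer_iff.1 ha.2 y hy
    have h2 := hAc a (hA'A ha) τ hτ
    have h3 : τ⁻¹ * a = a * τ⁻¹ := by
      calc τ⁻¹ * a = τ⁻¹ * (a * τ) * τ⁻¹ := by group
        _ = τ⁻¹ * (τ * a) * τ⁻¹ := by rw [h2]
        _ = a * τ⁻¹ := by group
    calc τ * y * τ⁻¹ * a = τ * y * (τ⁻¹ * a) := by group
      _ = τ * (y * a) * τ⁻¹ := by rw [h3]; group
      _ = τ * a * y * τ⁻¹ := by rw [h1]; group
      _ = a * (τ * y * τ⁻¹) := by rw [← h2]; group
  have hmax : Nat.card (E ⊔ A' : Subgroup G) ≤ Nat.card A :=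
    hA.2.2 _ (sup_le hET (hA'A.trans hA.1)) (isElementaryAbelian_sup hEe hA'e hA'E)
  have hc2 := card_sup_mul_card_inf hA'E
  have hAcard : Nat.card A ≤ 2 * Nat.card A₀ := by
    have h1 : A₀.relIndex A ≤ 2 := by
      by_cases hD : A ≤ A₀
      · rw [relIndex_eq_one.mpr hD]; norm_num
      · obtain ⟨a, ha, ha'⟩ := SetLike.not_le_iff_exists.mp hD
        have hτ' : τ ∉ A₀ := fun h => by
          rcases hidx a ha with h2 | h2
          · exact ha' h2
          · exact ha' ((mul_mem_cancel_left h).1 h2)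
        have : A₀.relIndex A = 2 := by
          rw [relIndex_eq_two_iff_exists_notMem_and]
          refine ⟨τ, hτ, hτ', fun b hb => ?_⟩
          rcases hidx b hb with h2 | h2
          · exact Or.inr h2
          · left; rw [hAc b hb τ hτ]; exact h2
        rw [this]
    have h2 := relIndex_mul_relIndex (⊥ : Subgroup G) A₀ A bot_le hA₀
    rw [relIndex_bot_left, relIndex_bot_left] at h2
    rw [← h2, mul_comm]
    exact Nat.mul_le_mul_right _ h1
  -- `|E ∩ A'| ≤ |C_M(A₀)|`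
  have hle : Nat.card (E ⊓ A' : Subgroup G) ≤ Nat.card (M ⊓ centralizer (A₀ : Set G) : Subgroup G) := by
    have huniq : ∀ y ∈ M, ∀ z ∈ M, ∀ y' ∈ M, ∀ z' ∈ M, y * (τ * z * τ⁻¹) = y' * (τ * z' * τ⁻¹) → y = y' ∧ z = z' := by
      intro y hy z hz y' hy' z' hz' e
      have h1 : y'⁻¹ * y = τ * (z' * z⁻¹) * τ⁻¹ := by
        calc y'⁻¹ * y = y'⁻¹ * (y * (τ * z * τ⁻¹)) * (τ * z * τ⁻¹)⁻¹ := by group
          _ = τ * (z' * z⁻¹) * τ⁻¹ := by rw [e]; group
      have h2 := hinf _ (mul_mem (inv_mem hy') hy) _ (mul_mem hz' (inv_mem hz)) h1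
      rw [h2] at h1
      have h3 := conj_eq_one_iff.1 h1.symm
      exact ⟨(inv_mul_eq_one.1 h2).symm, (mul_inv_eq_one.1 h3).symm⟩
    have hex : ∀ x ∈ E ⊓ A', ∃ y ∈ M ⊓ centralizer (A₀ : Set G), x = y * (τ * y * τ⁻¹) := by
      rintro x ⟨hxE, hxA⟩
      have h1 : (x : G) ∈ ((M ⊔ M' : Subgroup G) : Set G) := hxE
      rw [coe_sup_of_le_centralizer hMM'] at h1
      obtain ⟨y, hy, m', hm', hx⟩ := h1
      obtain ⟨z, hz, rfl⟩ := (memM' m').1 hm'
      have hx : x = y * (τ * z * τ⁻¹) := hx.symm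
      -- `x` commutes with `τ`
      have h2 : τ * x * τ⁻¹ = x := by rw [hAc τ hτ x (hA'A hxA)]; group
      have hyz : y = z := by
        rw [hx] at h2
        have h3 : τ * (y * (τ * z * τ⁻¹)) * τ⁻¹ = z * (τ * y * τ⁻¹) := by
          have e1 : τ * (τ * z * τ⁻¹) * τ⁻¹ = z := by
            calc τ * (τ * z * τ⁻¹) * τ⁻¹ = (τ * τ) * z * (τ * τ)⁻¹ := by group
              _ = z := by rw [hττ]; group
          calc τ * (y * (τ * z * τ⁻¹)) * τ⁻¹ = (τ * y * τ⁻¹) * (τ * (τ * z * τ⁻¹) * τ⁻¹) := by group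
            _ = (τ * y * τ⁻¹) * z := by rw [e1]
            _ = z * (τ * y * τ⁻¹) := (hMM z hz y hy).symm
        rw [h3] at h2
        exact (huniq z hz y hy y hy z hz h2).2
      refine ⟨y, ⟨hy, mem_centralizer_iff.2 fun a ha => ?_⟩, by rw [hx, hyz]⟩
      have h4 : a * x * a⁻¹ = x := by rw [hAc a (hA₀ ha) x (hA'A hxA)]; group
      rw [hx, ← hyz] at h4
      have h5 : a * y * a⁻¹ ∈ M := (mem_normalizer_iff.1 (hA₀M ha) y).1 hy
      have h6 : a * (y * (τ * y * τ⁻¹)) * a⁻¹ = (a * y * a⁻¹) * (τ * (a * y * a⁻¹) * τ⁻¹) := by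
        have h7 := hAc a (hA₀ ha) τ hτ
        have h8 : a⁻¹ * τ⁻¹ = τ⁻¹ * a⁻¹ := by rw [← mul_inv_rev, ← mul_inv_rev, h7]
        calc a * (y * (τ * y * τ⁻¹)) * a⁻¹ = (a * y * a⁻¹) * ((a * τ) * y * (τ⁻¹ * a⁻¹)) := by group
          _ = (a * y * a⁻¹) * ((τ * a) * y * (a⁻¹ * τ⁻¹)) := by rw [h7, h8]
          _ = (a * y * a⁻¹) * (τ * (a * y * a⁻¹) * τ⁻¹) := by group
      rw [h6] at h4
      have h7 := (huniq _ h5 _ h5 y hy y hy h4).1
      calc a * y = (a * y * a⁻¹) * a := by group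
        _ = y * a := by rw [h7]
    refine Nat.card_le_card_of_surjective (fun y : (M ⊓ centralizer (A₀ : Set G) : Subgroup G) =>
      if h : (y : G) * (τ * y * τ⁻¹) ∈ E ⊓ A' then (⟨_, h⟩ : (E ⊓ A' : Subgroup G)) else 1) fun x => ?_
    obtain ⟨y, hy, e⟩ := hex x x.2
    refine ⟨⟨y, hy⟩, ?_⟩
    have h1 : y * (τ * y * τ⁻¹) ∈ E ⊓ A' := by rw [← e]; exact x.2
    exact (dif_pos h1).trans (Subtype.ext e.symm)
  have hpair := card_pairing (A := A₀) (M := M) hpp hpA (fun m hm => hMc m hm p hpM) hp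
  have hposA' : 0 < Nat.card A' := Nat.card_pos
  have hposM : 0 < Nat.card M := Nat.card_pos
  rw [hEcard] at hc2
  -- `|M|² |A'| ≤ 2 |A₀| |C_M(A₀)| = 2 |A'| |M|`
  have h1 : Nat.card M * Nat.card M * Nat.card A' ≤ 2 * (Nat.card A' * Nat.card M) := by
    calc Nat.card M * Nat.card M * Nat.card A' = Nat.card (E ⊔ A' : Subgroup G) * Nat.card (E ⊓ A' : Subgroup G) :=
          hc2.symm
      _ ≤ (2 * Nat.card A₀) * Nat.card (M ⊓ centralizer (A₀ : Set G) : Subgroup G) :=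
          Nat.mul_le_mul (hmax.trans hAcard) hle
      _ = 2 * (Nat.card A' * Nat.card M) := by rw [hpair]; ring
  have h2 : Nat.card M * (Nat.card M * Nat.card A') ≤ 2 * (Nat.card M * Nat.card A') := by
    calc Nat.card M * (Nat.card M * Nat.card A') = Nat.card M * Nat.card M * Nat.card A' := by ring
      _ ≤ _ := h1
      _ = _ := by ring
  exact Nat.le_of_mul_le_mul_right h2 (Nat.mul_pos hposM hposA')

/-! ### COROLLARY PHI -/

theorem exists_four {a b : G} (ha : a * a = 1) (hb : b * b = 1) (hab : a * b = b * a) :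
    ∃ M : Subgroup G, (∀ x, x ∈ M ↔ x = 1 ∨ x = a ∨ x = b ∨ x = a * b) ∧ IsElementaryAbelian 2 M := by
  have h1 : a * (a * b) = b := by rw [← mul_assoc, ha, one_mul]
  have h2 : b * (a * b) = a := by rw [hab, ← mul_assoc, hb, one_mul]
  have h3 : a * b * a = b := by rw [hab, mul_assoc, ha, mul_one]
  have h4 : a * b * b = a := by rw [mul_assoc, hb, mul_one]
  have h5 : a * b * (a * b) = 1 := by rw [mul_assoc, h2, ha]
  have h6 : a⁻¹ = a := inv_eq_of_mul_eq_one_left ha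
  have h7 : b⁻¹ = b := inv_eq_of_mul_eq_one_left hb
  let M : Subgroup G :=
    { carrier := {x | x = 1 ∨ x = a ∨ x = b ∨ x = a * b}
      one_mem' := Or.inl rfl
      mul_mem' := by
        rintro x y (hx | hx | hx | hx) (hy | hy | hy | hy) <;> rw [hx, hy]
        · left; exact one_mul 1
        · right; left; exact one_mul a
        · right; right; left; exact one_mul b
        · right; right; right; exact one_mul _
        · right; left; exact mul_one a
        · left; exact ha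
        · right; right; right; rfl
        · right; right; left; exact h1
        · right; right; left; exact mul_one b
        · right; right; right; exact hab.symm
        · left; exact hb
        · right; left; exact h2
        · right; right; right; exact mul_one _
        · right; right; left; exact h3
        · right; left; exact h4
        · left; exact h5
      inv_mem' := by
        rintro x (hx | hx | hx | hx) <;> rw [hx]
        · left; exact inv_one
        · right; left; exact h6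
        · right; right; left; exact h7
        · right; right; right; rw [mul_inv_rev, h6, h7, hab] }
  refine ⟨M, fun x => Iff.rfl, isElementaryAbelian_iff.2 ⟨?_, ?_⟩⟩
  · rintro x (hx | hx | hx | hx) y (hy | hy | hy | hy) <;> rw [hx, hy]
    · rw [mul_one, one_mul]
    · rw [mul_one, one_mul]
    · rw [mul_one, one_mul]
    · rw [mul_one, one_mul]
    · rw [hab]
    · rw [h1, h3]
    · rw [mul_one, one_mul]
    · rw [hab]
    · rw [h2, h4]
    · rw [mul_one, one_mul]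
    · rw [h1, h3]
    · rw [h2, h4]
  · rintro x (hx | hx | hx | hx) <;> rw [hx, pow_two]
    · exact one_mul 1
    · exact ha
    · exact hb
    · exact h5

/-- **COROLLARY PHI**, abstract form: `w ∈ O` an involution with `[w, O] ≤ ⟨v⟩`; `g` normalises `O` and maps `v` to
`p ∈ Z(O)`; `τ ∈ A ∈ A(T)`, `|A : A ∩ O| ≤ 2`, `p^τ ≠ p`. -/
theorem cor_phi [Finite G] {T A O : Subgroup G} {τ g v p w : G} (hA : IsMaxIn T A) (hτ : τ ∈ A) (hOT : O ≤ T)
    (hidx : ∀ a ∈ A, a ∈ O ∨ τ * a ∈ O) (hτO : τ ∈ normalizer (O : Set G)) (hgO : g ∈ normalizer (O : Set G))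
    (hp : p = g * v * g⁻¹) (hpO : p ∈ O) (hpc : ∀ o ∈ O, o * p = p * o) (hp2 : p * p = 1) (hp1 : p ≠ 1)
    (hpτ : τ * p * τ⁻¹ ≠ p) (hw : w ∈ O) (hw2 : w * w = 1)
    (hwc : ∀ o ∈ O, w * o * w⁻¹ * o⁻¹ = 1 ∨ w * o * w⁻¹ * o⁻¹ = v) : ∀ o ∈ O, w * o = o * w := by
  classical
  set w₂ := g * w * g⁻¹ with hw₂
  have conjO : ∀ {t : G}, t ∈ normalizer (O : Set G) → ∀ o ∈ O, t * o * t⁻¹ ∈ O := fun ht o ho =>
    (mem_normalizer_iff.1 ht o).1 ho
  have conjO' : ∀ {t : G}, t ∈ normalizer (O : Set G) → ∀ o ∈ O, t⁻¹ * o * t ∈ O := fun ht o ho => by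
    have := (mem_normalizer_iff.1 (inv_mem ht) o).1 ho
    rwa [inv_inv] at this
  have hw₂O : w₂ ∈ O := conjO hgO w hw
  -- enough: `w₂` centralises `O`
  suffices hmain : ∀ o ∈ O, w₂ * o = o * w₂ by
    intro o ho
    have h1 := hmain _ (conjO hgO o ho)
    calc w * o = g⁻¹ * (w₂ * (g * o * g⁻¹)) * g := by rw [hw₂]; group
      _ = g⁻¹ * ((g * o * g⁻¹) * w₂) * g := by rw [h1]
      _ = o * w := by rw [hw₂]; group
  by_contra hcon
  have hw₂2 : w₂ * w₂ = 1 := by
    calc w₂ * w₂ = g * (w * w) * g⁻¹ := by rw [hw₂]; group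
      _ = 1 := by rw [hw2]; group
  have hc2 : ∀ o ∈ O, w₂ * o * w₂⁻¹ * o⁻¹ = 1 ∨ w₂ * o * w₂⁻¹ * o⁻¹ = p := by
    intro o ho
    have e : w₂ * o * w₂⁻¹ * o⁻¹ = g * (w * (g⁻¹ * o * g) * w⁻¹ * (g⁻¹ * o * g)⁻¹) * g⁻¹ := by
      rw [hw₂]; group
    rw [e]
    rcases hwc _ (conjO' hgO o ho) with h | h
    · left; rw [h]; group
    · right; rw [h, hp]
  have hwp : w₂ * p = p * w₂ := hpc w₂ hw₂O
  obtain ⟨M, hM, hMe⟩ := exists_four hw₂2 hp2 hwp
  have hpM : p ∈ M := (hM p).2 (Or.inr (Or.inr (Or.inl rfl)))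
  have hwM : w₂ ∈ M := (hM w₂).2 (Or.inr (Or.inl rfl))
  have hMO : M ≤ O := by
    intro x hx
    rcases (hM x).1 hx with h | h | h | h <;> rw [h]
    · exact one_mem _
    · exact hw₂O
    · exact hpO
    · exact mul_mem hw₂O hpO
  have hMc := (isElementaryAbelian_iff.1 hMe).1
  -- commutators of `M` with `O`
  have hM1 : ∀ x ∈ M, ∀ o ∈ O, x * o * x⁻¹ * o⁻¹ = 1 ∨ x * o * x⁻¹ * o⁻¹ = p := by
    intro x hx o ho
    have hpo := hpc o ho
    have e1 : p * o * p⁻¹ = o := by rw [← hpo, mul_inv_cancel_right]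
    rcases (hM x).1 hx with h | h | h | h
    · left; rw [h]; group
    · rw [h]; exact hc2 o ho
    · left; rw [h, e1, mul_inv_cancel]
    · rw [h]
      have e : w₂ * p * o * (w₂ * p)⁻¹ * o⁻¹ = w₂ * (p * o * p⁻¹) * w₂⁻¹ * o⁻¹ := by group
      rw [e, e1]
      exact hc2 o ho
  set r := τ * p * τ⁻¹ with hr
  have hM2 : ∀ y ∈ M, ∀ o ∈ O, (τ * y * τ⁻¹) * o * (τ * y * τ⁻¹)⁻¹ * o⁻¹ = 1 ∨
      (τ * y * τ⁻¹) * o * (τ * y * τ⁻¹)⁻¹ * o⁻¹ = r := by
    intro y hy o ho
    have e : (τ * y * τ⁻¹) * o * (τ * y * τ⁻¹)⁻¹ * o⁻¹ =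
        τ * (y * (τ⁻¹ * o * τ) * y⁻¹ * (τ⁻¹ * o * τ)⁻¹) * τ⁻¹ := by group
    rw [e]
    rcases hM1 y hy _ (conjO' hτO o ho) with h | h
    · left; rw [h]; group
    · right; rw [h]
  have hpinv : p⁻¹ = p := inv_eq_of_mul_eq_one_left hp2
  have comm_of : ∀ {x o : G}, x * o * x⁻¹ * o⁻¹ = 1 → x * o = o * x := by
    intro x o h
    calc x * o = (x * o * x⁻¹ * o⁻¹) * o * x := by group
      _ = o * x := by rw [h, one_mul]
  -- an element of `M ∩ M^τ` is central in `O`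
  have hcen : ∀ x ∈ M, ∀ y ∈ M, x = τ * y * τ⁻¹ → ∀ o ∈ O, x * o = o * x := by
    intro x hx y hy e o ho
    apply comm_of
    rcases hM1 x hx o ho with h | h
    · exact h
    · rcases hM2 y hy o ho with h' | h'
      · rw [← e] at h'; exact h'
      · exfalso
        rw [← e, h] at h'
        exact hpτ h'.symm
  have hw₂of : ∀ x ∈ M, x ≠ 1 → x ≠ p → (∀ o ∈ O, x * o = o * x) → False := by
    intro x hx hx1 hxp hxc
    apply hcon
    intro o ho
    rcases (hM x).1 hx with h | h | h | h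
    · exact absurd h hx1
    · rw [← h]; exact hxc o ho
    · exact absurd h hxp
    · have h1 := hxc o ho
      rw [h] at h1
      have h2 := hpc o ho
      have e0 : w₂ * p * (p * o) = w₂ * o := by
        calc w₂ * p * (p * o) = w₂ * ((p * p) * o) := by simp only [mul_assoc]
          _ = w₂ * o := by rw [hp2, one_mul]
      calc w₂ * o = w₂ * p * (p * o) := e0.symm
        _ = (w₂ * p * o) * p := by rw [← h2]; group
        _ = o * w₂ * (p * p) := by rw [h1]; group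
        _ = o * w₂ := by rw [hp2, mul_one]
  have hinf : ∀ x ∈ M, ∀ y ∈ M, x = τ * y * τ⁻¹ → x = 1 := by
    intro x hx y hy e
    by_contra hx1
    have hxc := hcen x hx y hy e
    by_cases hxp : x = p
    · have hy1 : y ≠ 1 := by
        intro h
        apply hx1
        rw [e, h]; group
      have hyp : y ≠ p := by
        intro h
        apply hpτ
        rw [hr, ← h, ← e, hxp, h]
      refine hw₂of y hy hy1 hyp fun o ho => ?_
      have h1 := hxc _ (conjO hτO o ho)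
      rw [e] at h1
      calc y * o = τ⁻¹ * (τ * y * τ⁻¹ * (τ * o * τ⁻¹)) * τ := by group
        _ = τ⁻¹ * (τ * o * τ⁻¹ * (τ * y * τ⁻¹)) * τ := by rw [h1]
        _ = o * y := by group
    · exact hw₂of x hx hx1 hxp hxc
  have hMM : ∀ x ∈ M, ∀ y ∈ M, x * (τ * y * τ⁻¹) = τ * y * τ⁻¹ * x := by
    intro x hx y hy
    have hyO : τ * y * τ⁻¹ ∈ O := conjO hτO y (hMO hy)
    apply comm_of
    rcases hM1 x hx _ hyO with h | h
    · exact h
    · exfalso
      rcases hM2 y hy x (hMO hx) with h' | h'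
      · have h1 : x * (τ * y * τ⁻¹) * x⁻¹ * (τ * y * τ⁻¹)⁻¹ =
            ((τ * y * τ⁻¹) * x * (τ * y * τ⁻¹)⁻¹ * x⁻¹)⁻¹ := by group
        rw [h1, h', inv_one] at h
        exact hp1 h.symm
      · have h1 : x * (τ * y * τ⁻¹) * x⁻¹ * (τ * y * τ⁻¹)⁻¹ =
            ((τ * y * τ⁻¹) * x * (τ * y * τ⁻¹)⁻¹ * x⁻¹)⁻¹ := by group
        rw [h1, h', inv_eq_iff_eq_inv, hpinv] at h
        exact hpτ h
  have hcomm' : ∀ a ∈ A ⊓ O, ∀ m ∈ M, a * m * a⁻¹ * m⁻¹ = 1 ∨ a * m * a⁻¹ * m⁻¹ = p := by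
    rintro a ⟨_, haO⟩ m hm
    have e : a * m * a⁻¹ * m⁻¹ = (m * a * m⁻¹ * a⁻¹)⁻¹ := by group
    rw [e]
    rcases hM1 m hm a haO with h | h
    · left; rw [h, inv_one]
    · right; rw [h, hpinv]
  have hnM : A ⊓ O ≤ normalizer (M : Set G) := by
    have key : ∀ a ∈ A ⊓ O, ∀ m ∈ M, a * m * a⁻¹ ∈ M := by
      intro a ha m hm
      have e : a * m * a⁻¹ = (a * m * a⁻¹ * m⁻¹) * m := by group
      rw [e]
      rcases hcomm' a ha m hm with h | h
      · rw [h, one_mul]; exact hm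
      · rw [h]; exact mul_mem hpM hm
    intro a ha
    rw [mem_normalizer_iff]
    intro x
    refine ⟨key a ha x, fun hx => ?_⟩
    have h1 := key a⁻¹ (inv_mem ha) _ hx
    have e : a⁻¹ * (a * x * a⁻¹) * a⁻¹⁻¹ = x := by group
    rwa [e] at h1
  have hcard : Nat.card M ≤ 2 := by
    have hτinv : τ⁻¹ = τ := by
      refine inv_eq_of_mul_eq_one_left ?_
      rw [← pow_two]
      exact (isElementaryAbelian_iff.1 hA.2.1).2 τ hτ
    refine phi (A₀ := A ⊓ O) hA hτ inf_le_left (fun a ha => ?_) (hMO.trans hOT) hMe hMM hinf hnM hpM hcomm'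
    rcases hidx a ha with h | h
    · exact Or.inl ⟨ha, h⟩
    · exact Or.inr ⟨mul_mem hτ ha, h⟩
  have hzp : zpowers p = M := by
    refine Subgroup.eq_of_le_of_card_ge (zpowers_le.2 hpM) ?_
    have h1 : orderOf p = 2 := orderOf_eq_prime (by rw [pow_two]; exact hp2) hp1
    rw [Nat.card_zpowers, h1]
    exact hcard
  have h1 : w₂ ∈ zpowers p := by rw [hzp]; exact hwM
  apply hcon
  intro o ho
  obtain ⟨n, hn⟩ := mem_zpowers_iff.1 h1
  rw [← hn]
  have h2 : Commute o p := hpc o ho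
  exact (h2.zpow_right n).eq.symm

/-- a nontrivial section `B / A` has a nontrivial fixed point under a 2-group -/
theorem exists_fixed_mod [Finite G] {T B A : Subgroup G} (hT : IsPGroup 2 T) (hBT : B ≤ T)
    (hB : T ≤ normalizer (B : Set G)) (hA : T ≤ normalizer (A : Set G)) (hne : ¬ B ≤ A) :
    ∃ m ∈ B, m ∉ A ∧ ∀ t ∈ T, t * m * t⁻¹ * m⁻¹ ∈ A := by
  have : Fact (Nat.Prime 2) := ⟨Nat.prime_two⟩
  have hnA : (A.subgroupOf T).Normal := normal_subgroupOf_of_le_normalizer hA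
  have hnB : (B.subgroupOf T).Normal := normal_subgroupOf_of_le_normalizer hB
  have hp : IsPGroup 2 (T ⧸ A.subgroupOf T) := hT.to_quotient _
  have : Group.IsNilpotent (T ⧸ A.subgroupOf T) := hp.isNilpotent
  let N : Subgroup (T ⧸ A.subgroupOf T) := (B.subgroupOf T).map (QuotientGroup.mk' (A.subgroupOf T))
  have hN : N.Normal := hnB.map _ (QuotientGroup.mk'_surjective _)
  have hN1 : N ≠ ⊥ := by
    intro h
    apply hne
    intro x hx
    have h1 : QuotientGroup.mk' (A.subgroupOf T) ⟨x, hBT hx⟩ ∈ N := ⟨⟨x, hBT hx⟩, hx, rfl⟩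
    rw [h, mem_bot] at h1
    exact (QuotientGroup.eq_one_iff (⟨x, hBT hx⟩ : T)).1 h1
  have h2 := Lib.NormalAbelian.normal_inf_center_ne_bot N hN1
  obtain ⟨⟨y, hy⟩, hy1⟩ := Subgroup.ne_bot_iff_exists_ne_one.1 h2
  obtain ⟨⟨m, hm, rfl⟩, hyc⟩ := mem_inf.1 hy
  refine ⟨m, hm, fun h => hy1 ?_, fun t ht => ?_⟩
  · apply Subtype.ext
    exact (QuotientGroup.eq_one_iff m).2 h
  · have h3 := mem_center_iff.1 hyc (QuotientGroup.mk' (A.subgroupOf T) ⟨t, ht⟩)
    rw [← map_mul, ← map_mul] at h3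
    have h4 : QuotientGroup.mk' (A.subgroupOf T) (⟨t, ht⟩ * m * (⟨t, ht⟩ : T)⁻¹ * m⁻¹) = 1 := by
      rw [mul_assoc, map_mul, h3, ← map_mul]
      rw [show m * ⟨t, ht⟩ * ((⟨t, ht⟩ : T)⁻¹ * m⁻¹) = 1 by group, map_one]
    have h5 := (QuotientGroup.eq_one_iff ((⟨t, ht⟩ : T) * m * (⟨t, ht⟩ : T)⁻¹ * m⁻¹)).1 h4
    exact h5

/-! ### The frame -/

section frame

open Cfsg.Agent.Omega.OM.KTwo (CC QQ WU NU EU ne_add_one)
open Cfsg.Agent.ZN.ChoiceSit (Syl o2_le_syl syl_not_dvd)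

variable [Finite G] {T : Subgroup G} {V P : Fin 2 → Subgroup G} {v : Fin 2 → G} (D : Fr T V P v)

include D

theorem sylP (i : Fin 2) : Syl T (P i) :=
  ⟨D.T_le_P i, D.T_isPGroup, fun Q hQ hQ2 hTQ =>
    (D.syl (i + 1)).2.2 Q (hQ.trans (D.PC i (i + 1) (ne_add_one i))) hQ2 hTQ⟩

/-- **`O₂(P i) = C_T(V i)`** -/
theorem o2_P (i : Fin 2) : o2 (P i) = T ⊓ centralizer (V i : Set G) := by
  apply le_antisymm
  · have hoT : o2 (P i) ≤ T := o2_le_syl (sylP D i)
    refine le_inf hoT fun o ho => mem_centralizer_iff.2 fun x hx => ?_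
    by_cases hx1 : x = 1
    · rw [hx1, one_mul, mul_one]
    obtain ⟨l, hl, -, hlx⟩ := D.tr (ne_add_one i) hx hx1
    have h1 : l⁻¹ * o * l ∈ o2 (P i) := by
      have := (mem_normalizer_iff.1 (le_normalizer_o2 _ (inv_mem hl)) o).1 ho
      rwa [inv_inv] at this
    have h2 := D.comm_v i (hoT h1)
    rw [← hlx]
    calc l * v i * l⁻¹ * o = l * (v i * (l⁻¹ * o * l)) * l⁻¹ := by group
      _ = l * (l⁻¹ * o * l * v i) * l⁻¹ := by rw [h2]
      _ = o * (l * v i * l⁻¹) := by group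
  · have hfact : Fact (Nat.Prime 2) := ⟨Nat.prime_two⟩
    have hN : P i ≤ normalizer ((P i ⊓ centralizer (V i : Set G) : Subgroup G) : Set G) := by
      have key : ∀ t ∈ P i, ∀ x ∈ P i ⊓ centralizer (V i : Set G), t * x * t⁻¹ ∈ P i ⊓ centralizer (V i : Set G) := by
        intro t ht x hx
        refine ⟨(P i).mul_mem ((P i).mul_mem ht hx.1) ((P i).inv_mem ht), mem_centralizer_iff.2 fun z hz => ?_⟩
        have h1 : t⁻¹ * z * t ∈ V i := by
          have := (mem_normalizer_iff.1 (inv_mem (D.PN i i ht)) z).1 hz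
          rwa [inv_inv] at this
        have h2 := mem_centralizer_iff.1 hx.2 _ h1
        calc z * (t * x * t⁻¹) = t * (t⁻¹ * z * t * x) * t⁻¹ := by group
          _ = t * (x * (t⁻¹ * z * t)) * t⁻¹ := by rw [h2]
          _ = t * x * t⁻¹ * z := by group
      intro t ht
      rw [mem_normalizer_iff]
      intro x
      refine ⟨key t ht x, fun hx => ?_⟩
      have h1 := key t⁻¹ (inv_mem ht) _ hx
      have e : t⁻¹ * (t * x * t⁻¹) * t⁻¹⁻¹ = x := by group
      rwa [e] at h1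
    rcases (D.par i).sup_eq_or_inf_le D.T_isPGroup (syl_not_dvd (sylP D i)) inf_le_left hN with h | h
    · exfalso
      apply D.mv i
      rw [← h]
      refine sup_le (inf_le_right.trans ?_) (D.T_le_C i)
      exact centralizer_le (Set.singleton_subset_iff.2 (D.mem i))
    · exact le_trans (le_inf inf_le_left (le_inf (inf_le_left.trans (D.T_le_P i)) inf_le_right)) h

/-- an element of `T` outside `C_T(V i)` moves every `p ∈ V i - ⟨v i⟩` -/
theorem moves {i : Fin 2} {t : G} (ht : t ∈ T) (hto : t ∉ o2 (P i)) {p : G} (hp : p ∈ V i) (hp1 : p ≠ 1)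
    (hpv : p ≠ v i) : t * p * t⁻¹ = p * v i := by
  have h1 : t * p * t⁻¹ ∈ V i := (mem_normalizer_iff.1 (D.T_le_N i ht) p).1 hp
  have h2 : t * p * t⁻¹ ≠ 1 := fun h => hp1 (conj_eq_one_iff.1 h)
  rcases D.eq_of_V hp hp1 (D.mem i) (D.ne i) hpv h1 h2 with h | h | h
  · exfalso
    apply hto
    rw [o2_P D i]
    refine ⟨ht, mem_centralizer_iff.2 fun x hx => ?_⟩
    have h3 : t * p = p * t := by
      calc t * p = t * p * t⁻¹ * t := by group
        _ = p * t := by rw [h]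
    by_cases hx1 : x = 1
    · rw [hx1, one_mul, mul_one]
    rcases D.eq_of_V hp hp1 (D.mem i) (D.ne i) hpv hx hx1 with h' | h' | h'
    · rw [h', h3]
    · rw [h', D.comm_v i ht]
    · rw [h']
      calc p * v i * t = p * (t * v i) := by rw [D.comm_v i ht]; group
        _ = t * (p * v i) := by rw [← mul_assoc, ← h3]; group
  · exfalso
    apply hpv
    have h3 := D.cen i (T.inv_mem ht)
    rw [← h, inv_inv] at h3
    have e : t⁻¹ * (t * p * t⁻¹) * t = p := by group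
    rw [e] at h3
    rw [h3, h]
  · exact h

/-- `|T : O₂(P i)| = 2` -/
theorem mul_mem_o2 {i : Fin 2} {s t : G} (hs : s ∈ T) (hso : s ∉ o2 (P i)) (ht : t ∈ T) (hto : t ∉ o2 (P i)) :
    s * t ∈ o2 (P i) := by
  obtain ⟨p, hp, hp1, hpv⟩ := D.exists_ne_v i
  by_contra hcon
  have h1 := moves D (mul_mem hs ht) hcon hp hp1 hpv
  have h2 := moves D ht hto hp hp1 hpv
  have h3 := moves D hs hso hp hp1 hpv
  have h4 := D.cen i hs
  have e : s * t * p * (s * t)⁻¹ = s * (t * p * t⁻¹) * s⁻¹ := by group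
  rw [e, h2] at h1
  have e2 : s * (p * v i) * s⁻¹ = (s * p * s⁻¹) * (s * v i * s⁻¹) := by group
  rw [e2, h3, h4, mul_assoc, D.v_sq, mul_one] at h1
  exact D.ne i (by simpa using h1.symm)

theorem exists_max {i : Fin 2} (hJ : ¬ jj T ≤ o2 (P i)) : ∃ A, IsMaxIn T A ∧ ∃ τ ∈ A, τ ∉ o2 (P i) ∧
    ∀ a ∈ A, a ∈ o2 (P i) ∨ τ * a ∈ o2 (P i) := by
  obtain ⟨A, hA, hAo⟩ : ∃ A, IsMaxIn T A ∧ ¬ A ≤ o2 (P i) := by
    by_contra hcon
    push Not at hcon
    exact hJ (jj_le_of_forall hcon)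
  obtain ⟨τ, hτ, hτo⟩ := SetLike.not_le_iff_exists.1 hAo
  refine ⟨A, hA, τ, hτ, hτo, fun a ha => ?_⟩
  by_cases hao : a ∈ o2 (P i)
  · exact Or.inl hao
  · exact Or.inr (mul_mem_o2 D (hA.1 hτ) hτo (hA.1 ha) hao)

theorem v_ne {i j : Fin 2} (hij : i ≠ j) : v i ≠ v j := fun h => D.mv i (by rw [h]; exact D.PC i j hij)

theorem v_notMem {i j : Fin 2} (hij : i ≠ j) : v j ∉ V i := by
  intro h
  exact v_ne D hij (D.eq_v h (D.ne j) fun t ht => D.cen j ht).symm

/-- **COROLLARY PHI**: an involution `w ∈ O₂(P i)` with `[w, O₂(P i)] ≤ ⟨v i⟩` is in `Z(O₂(P i))`. -/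
theorem phi_comm {i : Fin 2} (hJ : ¬ jj T ≤ o2 (P i)) {w : G} (hw : w ∈ o2 (P i)) (hw2 : w * w = 1)
    (hwc : ∀ o ∈ o2 (P i), w * o * w⁻¹ * o⁻¹ ∈ zpowers (v i)) : ∀ o ∈ o2 (P i), w * o = o * w := by
  obtain ⟨A, hA, τ, hτ, hτo, hidx⟩ := exists_max D hJ
  obtain ⟨p, hp, hp1, hpv⟩ := D.exists_ne_v i
  obtain ⟨g, hg, -, hgp⟩ := D.tr (ne_add_one i) hp hp1
  have ho : o2 (P i) = T ⊓ centralizer (V i : Set G) := o2_P D i
  have hVo : V i ≤ o2 (P i) := by
    rw [ho]
    exact le_inf (D.V_le_T i) fun a ha => mem_centralizer_iff.2 fun b hb => D.V_comm hb ha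
  have hcen : ∀ o ∈ o2 (P i), ∀ x ∈ V i, o * x = x * o := by
    intro o ho' x hx
    rw [ho] at ho'
    exact (mem_centralizer_iff.1 ho'.2 x hx).symm
  refine cor_phi (v := v i) (p := p) (g := g) hA hτ (by rw [ho]; exact inf_le_left) hidx
    (le_normalizer_o2 _ (D.T_le_P i (hA.1 hτ))) (le_normalizer_o2 _ hg) hgp.symm (hVo hp)
    (fun o ho' => hcen o ho' p hp) (by rw [← pow_two]; exact D.sqV i p hp) hp1 ?_ hw hw2 fun o ho' => ?_
  · rw [moves D (hA.1 hτ) hτo hp hp1 hpv]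
    intro h
    exact D.ne i (by simpa using h)
  · obtain ⟨n, hn⟩ := mem_zpowers_iff.1 (hwc o ho')
    rw [← hn]
    rcases Int.even_or_odd' n with ⟨k, rfl | rfl⟩
    · left; rw [zpow_mul, zpow_two, D.v_sq, one_zpow]
    · right; rw [zpow_add, zpow_mul, zpow_two, D.v_sq, one_zpow, one_mul, zpow_one]

theorem card_zc_le : Nat.card (zc T) ≤ 4 := by
  have h3 : ((zc T : Subgroup G) : Set G) ⊆ {1, v 0, v 1, v 0 * v 1} := fun y hy => by
    rcases (D.zT y).1 hy with h | h | h | h <;> simp [h]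
  have h4 : Nat.card (zc T) = ((zc T : Subgroup G) : Set G).ncard := rfl
  rw [h4]
  refine (Set.ncard_le_ncard h3).trans ?_
  refine (Set.ncard_insert_le _ _).trans ?_
  have h5 := Set.ncard_insert_le (v 0) ({v 1, v 0 * v 1} : Set G)
  have h6 := Set.ncard_insert_le (v 1) ({v 0 * v 1} : Set G)
  rw [Set.ncard_singleton] at h6
  omega

/-- **`Ω₁Z(O₂(P i)) = V i ⟨v j⟩`** if `J(T) ≰ O₂(P i)` -/
theorem zc_o2 {i j : Fin 2} (hij : i ≠ j) (hJ : ¬ jj T ≤ o2 (P i)) :
    zc (o2 (P i)) = V i ⊔ zpowers (v j) := by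
  obtain ⟨A, hA, τ, hτ, hτo, hidx⟩ := exists_max D hJ
  have ho : o2 (P i) = T ⊓ centralizer (V i : Set G) := o2_P D i
  have hoT : o2 (P i) ≤ T := by rw [ho]; exact inf_le_left
  set Y := zc (o2 (P i)) with hY
  have hYo : Y ≤ o2 (P i) := zc_le _
  have hYe : IsElementaryAbelian 2 Y := isElementaryAbelian_zc _
  set A' := A ⊓ o2 (P i) with hA'
  have hA'A : A' ≤ A := inf_le_left
  have hA'Y : A' ≤ centralizer (Y : Set G) := by
    intro a ha
    exact mem_centralizer_iff.2 fun y hy => ((mem_zc.1 hy).2.1 a ha.2).symm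
  have hmax : Nat.card (Y ⊔ A' : Subgroup G) ≤ Nat.card A :=
    hA.2.2 _ (sup_le (hYo.trans hoT) (hA'A.trans hA.1))
      (isElementaryAbelian_sup hYe (isElementaryAbelian_mono hA.2.1 hA'A) hA'Y)
  have hc := card_sup_mul_card_inf hA'Y
  have hle : Y ⊓ A' ≤ zc T := by
    rintro y ⟨hy, hyA⟩
    have hy' := mem_zc.1 hy
    have hAc := (isElementaryAbelian_iff.1 hA.2.1).1
    refine mem_zc.2 ⟨hoT (hYo hy), fun t ht => ?_, hy'.2.2⟩
    by_cases hto : t ∈ o2 (P i)
    · exact hy'.2.1 t hto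
    · have h1 := hy'.2.1 _ (mul_mem_o2 D (hA.1 hτ) hτo ht hto)
      have h2 := hAc τ hτ y (hA'A hyA)
      have h3 : τ⁻¹ * y = y * τ⁻¹ := by
        calc τ⁻¹ * y = τ⁻¹ * (y * τ) * τ⁻¹ := by group
          _ = τ⁻¹ * (τ * y) * τ⁻¹ := by rw [h2]
          _ = y * τ⁻¹ := by group
      calc t * y = τ⁻¹ * (τ * t * y) := by group
        _ = τ⁻¹ * (y * (τ * t)) := by rw [h1]
        _ = (τ⁻¹ * y) * (τ * t) := by group
        _ = y * t := by rw [h3]; group
  have hAcard : Nat.card A ≤ 2 * Nat.card A' := by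
    have h1 : A'.relIndex A ≤ 2 := by
      have hτ' : τ ∉ A' := fun h => hτo h.2
      have : A'.relIndex A = 2 := by
        rw [relIndex_eq_two_iff_exists_notMem_and]
        refine ⟨τ, hτ, hτ', fun b hb => ?_⟩
        rcases hidx b hb with h2 | h2
        · exact Or.inr ⟨hb, h2⟩
        · left
          rw [(isElementaryAbelian_iff.1 hA.2.1).1 b hb τ hτ]
          exact ⟨mul_mem hτ hb, h2⟩
      rw [this]
    have h2 := relIndex_mul_relIndex (⊥ : Subgroup G) A' A bot_le hA'A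
    rw [relIndex_bot_left, relIndex_bot_left] at h2
    rw [← h2, mul_comm]
    exact Nat.mul_le_mul_right _ h1
  have hYcard : Nat.card Y ≤ 8 := by
    have h1 : Nat.card (Y ⊓ A' : Subgroup G) ≤ 4 := (Subgroup.card_le_of_le hle).trans (card_zc_le D)
    have h2 : 0 < Nat.card A' := Nat.card_pos
    have h3 : Nat.card Y * Nat.card A' ≤ 8 * Nat.card A' := by
      rw [← hc]
      calc Nat.card (Y ⊔ A' : Subgroup G) * Nat.card (Y ⊓ A' : Subgroup G) ≤ (2 * Nat.card A') * 4 :=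
            Nat.mul_le_mul (hmax.trans hAcard) h1
        _ = 8 * Nat.card A' := by ring
    exact Nat.le_of_mul_le_mul_right h3 h2
  -- `V i ⟨v j⟩ ≤ Y` has order 8
  have hVY : V i ≤ Y := by
    intro x hx
    have hxo : x ∈ o2 (P i) := by
      rw [ho]
      exact ⟨D.V_le_T i hx, mem_centralizer_iff.2 fun b hb => D.V_comm hb hx⟩
    refine mem_zc.2 ⟨hxo, fun o ho' => ?_, D.sqV i x hx⟩
    rw [ho] at ho'
    exact (mem_centralizer_iff.1 ho'.2 x hx).symm
  have hvj : v j ∈ Y := by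
    have hvo : v j ∈ o2 (P i) := by
      rw [ho]
      refine ⟨D.v_mem_T j, mem_centralizer_iff.2 fun b hb => ?_⟩
      exact D.comm_v j (D.V_le_T i hb)
    exact mem_zc.2 ⟨hvo, fun o ho' => D.comm_v j (hoT ho'), D.v_sq' j⟩
  have hWY : V i ⊔ zpowers (v j) ≤ Y := sup_le hVY (zpowers_le.2 hvj)
  have hzc : zpowers (v j) ≤ centralizer (V i : Set G) := by
    rw [zpowers_le, mem_centralizer_iff]
    intro b hb
    exact D.comm_v j (D.V_le_T i hb)
  have hinf : V i ⊓ zpowers (v j) = ⊥ := by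
    rw [eq_bot_iff]
    rintro x ⟨hx, hxz⟩
    obtain ⟨n, rfl⟩ := mem_zpowers_iff.1 hxz
    rcases Int.even_or_odd' n with ⟨k, rfl | rfl⟩
    · rw [zpow_mul, zpow_two, D.v_sq, one_zpow]; exact one_mem _
    · exfalso
      rw [zpow_add, zpow_mul, zpow_two, D.v_sq, one_zpow, one_mul, zpow_one] at hx
      exact v_notMem D hij hx
  have hW := card_sup_mul_card_inf hzc
  rw [hinf, Subgroup.card_bot, mul_one, D.four i, Nat.card_zpowers,
    orderOf_eq_prime (D.v_sq' j) (D.ne j)] at hW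
  exact (Subgroup.eq_of_le_of_card_ge hWY (by rw [hW]; exact hYcard)).symm

theorem mem_V_sup {i j : Fin 2} {x : G} (hx : x ∈ V i ⊔ zpowers (v j)) : ∃ a ∈ V i, x = a ∨ x = a * v j := by
  have hzc : zpowers (v j) ≤ centralizer (V i : Set G) := by
    rw [zpowers_le, mem_centralizer_iff]
    intro b hb
    exact D.comm_v j (D.V_le_T i hb)
  have h1 : (x : G) ∈ ((V i ⊔ zpowers (v j) : Subgroup G) : Set G) := hx
  rw [coe_sup_of_le_centralizer hzc] at h1
  obtain ⟨a, ha, b, hb, hx⟩ := h1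
  refine ⟨a, ha, ?_⟩
  have hx : x = a * b := hx.symm
  obtain ⟨n, rfl⟩ := mem_zpowers_iff.1 hb
  rcases Int.even_or_odd' n with ⟨k, rfl | rfl⟩
  · left; rw [hx, zpow_mul, zpow_two, D.v_sq, one_zpow, mul_one]
  · right; rw [hx, zpow_add, zpow_mul, zpow_two, D.v_sq, one_zpow, one_mul, zpow_one]

/-- **COROLLARY PHI**: an involution `w ∈ O₂(P i)` with `[w, O₂(P i)] ≤ ⟨v i⟩` is in `V i ∪ V i v j`. -/
theorem phi_mem {i j : Fin 2} (hij : i ≠ j) (hJ : ¬ jj T ≤ o2 (P i)) {w : G} (hw : w ∈ o2 (P i)) (hw2 : w * w = 1)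
    (hwc : ∀ o ∈ o2 (P i), w * o * w⁻¹ * o⁻¹ ∈ zpowers (v i)) : ∃ a ∈ V i, w = a ∨ w = a * v j := by
  apply mem_V_sup D
  rw [← zc_o2 D hij hJ]
  exact mem_zc.2 ⟨hw, fun o ho => (phi_comm D hJ hw hw2 hwc o ho).symm, by rw [pow_two]; exact hw2⟩

/-- `N_i ≤ O₂(P i)` -/
theorem N_le_o2 (i : Fin 2) : NU V v i ≤ o2 (P i) := by
  rw [o2_P D i]
  exact le_inf (D.N_le_T i) ((D.N_le_cent_Q i).trans (centralizer_le (D.U_le_Q i)))

/-- `W_i ≤ O₂(P i)` -/
theorem W_le_o2 (i : Fin 2) : WU V v i ≤ o2 (P i) := by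
  rw [o2_P D i]
  exact le_inf (D.W_le_T i) ((D.W_comm i).trans (centralizer_le (D.V_le_W i)))

/-- the vectors of `N_i` fixed by `C_T(V i)` modulo `v i` -/
theorem phi_N {i j : Fin 2} (hij : i ≠ j) (hJ : ¬ jj T ≤ o2 (P i)) {n : G} (hn : n ∈ NU V v i)
    (hnc : ∀ o ∈ o2 (P i), n * o * n⁻¹ * o⁻¹ ∈ zpowers (v i)) : ∃ a ∈ V i, n = a ∨ n = a * v j :=
  phi_mem D hij hJ (N_le_o2 D i hn) (by rw [← pow_two]; exact D.N_sq i n hn) hnc

/-- the vectors of `W_i` fixed by `C_T(V i)` modulo `v i` -/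
theorem phi_W {i j : Fin 2} (hij : i ≠ j) (hJ : ¬ jj T ≤ o2 (P i)) {n : G} (hn : n ∈ WU V v i)
    (hnc : ∀ o ∈ o2 (P i), n * o * n⁻¹ * o⁻¹ ∈ zpowers (v i)) : ∃ a ∈ V i, n = a ∨ n = a * v j :=
  phi_mem D hij hJ (W_le_o2 D i hn) (by rw [← pow_two]; exact D.W_sq i n hn) hnc

/-- **consequence (3)**: `V j ≰ N_j` : the elements `n ∈ N_j` with `[n, O₂(P j)] ≤ ⟨v j⟩` lie in `⟨v i, v j⟩`. -/
theorem phi_N_zc {i j : Fin 2} (hij : i ≠ j) (hJ : ¬ jj T ≤ o2 (P i)) (hV : ¬ V i ≤ NU V v i) {n : G}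
    (hn : n ∈ NU V v i) (hnc : ∀ o ∈ o2 (P i), n * o * n⁻¹ * o⁻¹ ∈ zpowers (v i)) : n ∈ zc T := by
  obtain ⟨a, ha, h⟩ := phi_N D hij hJ hn hnc
  have hvN : v j ∈ NU V v i := by
    have : j = i + 1 := Cfsg.Agent.Omega.OM.KTwo.eq_add_one hij
    rw [this]; exact D.mem_N i
  have haN : a ∈ NU V v i := by
    rcases h with h | h
    · rw [← h]; exact hn
    · have e : a = n * (v j)⁻¹ := by rw [h]; group
      rw [e]; exact mul_mem hn (inv_mem hvN)
  have haz : a ∈ zc T := by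
    by_cases ha1 : a = 1
    · rw [ha1]; exact one_mem _
    by_cases hav : a = v i
    · rw [hav]; exact D.v_mem_zc i
    exfalso
    apply hV
    -- `[a, t] = v i` for a `t ∈ T`
    obtain ⟨t, ht, hta⟩ := D.exists_swap ha ha1 hav
    have h1 : t * a * t⁻¹ ∈ NU V v i := (mem_normalizer_iff.1 (D.C_le_N_N i (D.T_le_C i ht)) a).1 haN
    rw [hta] at h1
    have h2 : v i ∈ NU V v i := by
      have e : v i = a⁻¹ * (a * v i) := by group
      rw [e]; exact mul_mem (inv_mem haN) h1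
    rcases D.le_or h2 with h3 | h3
    · exact h3
    · rcases h3 a ⟨ha, haN⟩ with h4 | h4
      · exact absurd h4 ha1
      · exact absurd h4 hav
  rcases h with h | h
  · rw [h]; exact haz
  · rw [h]; exact mul_mem haz (D.v_mem_zc j)

theorem T_le_N_v (i : Fin 2) : T ≤ normalizer ((zpowers (v i) : Subgroup G) : Set G) := by
  intro t ht
  rw [mem_normalizer_iff]
  have key : ∀ {s : G}, s ∈ T → ∀ x ∈ zpowers (v i), s * x * s⁻¹ ∈ zpowers (v i) := by
    intro s hs x hx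
    obtain ⟨n, rfl⟩ := mem_zpowers_iff.1 hx
    have h1 : Commute s (v i) := D.comm_v i hs
    rw [(h1.zpow_right n).eq, mul_inv_cancel_right]
    exact hx
  intro x
  refine ⟨key ht x, fun hx => ?_⟩
  have h1 := key (T.inv_mem ht) _ hx
  have e : t⁻¹ * (t * x * t⁻¹) * t⁻¹⁻¹ = x := by group
  rwa [e] at h1

/-- **consequence (2)**: a `P j`-submodule `X` of `N_i` with `v j ∉ X` and `V i ≰ X` is `≤ ⟨v i⟩`. -/
theorem sub_le {i j : Fin 2} (hij : i ≠ j) (hJ : ¬ jj T ≤ o2 (P i)) {X : Subgroup G} (hX : X ≤ NU V v i)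
    (hPX : P j ≤ normalizer (X : Set G)) (hvX : v j ∉ X) (hVX : ¬ V i ≤ X) : X ≤ zpowers (v i) := by
  by_contra hne
  have hTX : T ≤ normalizer (X : Set G) := (D.T_le_P j).trans hPX
  obtain ⟨u, hu, huz, hut⟩ := exists_fixed_mod D.T_isPGroup (hX.trans (D.N_le_T i)) hTX (T_le_N_v D i) hne
  have hoT : o2 (P i) ≤ T := by rw [o2_P D i]; exact inf_le_left
  obtain ⟨a, ha, h⟩ := phi_N D hij hJ (hX hu) fun o ho => by
    have h1 := inv_mem (hut o (hoT ho))
    have e : (o * u * o⁻¹ * u⁻¹)⁻¹ = u * o * u⁻¹ * o⁻¹ := by group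
    rwa [e] at h1
  -- `v i ∈ X` as soon as `T` moves an element of `X` by `v i`
  have hvi : ∀ x ∈ X, ∀ t ∈ T, t * x * t⁻¹ = x * v i → v i ∈ X := by
    intro x hx t ht e
    have h1 : t * x * t⁻¹ ∈ X := (mem_normalizer_iff.1 (hTX ht) x).1 hx
    rw [e] at h1
    have e2 : v i = x⁻¹ * (x * v i) := by group
    rw [e2]; exact mul_mem (inv_mem hx) h1
  rcases h with h | h
  · -- `u ∈ V i - ⟨v i⟩`
    rw [h] at hu huz
    have ha1 : a ≠ 1 := fun h1 => huz (by rw [h1]; exact one_mem _)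
    have hav : a ≠ v i := fun h1 => huz (by rw [h1]; exact mem_zpowers _)
    obtain ⟨t, ht, hta⟩ := D.exists_swap ha ha1 hav
    rcases D.le_or (hvi a hu t ht hta) with h3 | h3
    · exact hVX h3
    · rcases h3 a ⟨ha, hu⟩ with h4 | h4
      · exact ha1 h4
      · exact hav h4
  · -- `u = a v j`: an element of `P j` centralising `V i` moves `v j`
    rw [h] at hu
    obtain ⟨y, hy, hy1, hyv⟩ := D.exists_ne_v j
    obtain ⟨l, hl, hlV, hly⟩ := D.tr hij.symm hy hy1
    have h1 : l * (a * v j) * l⁻¹ ∈ X := (mem_normalizer_iff.1 (hPX hl) _).1 hu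
    have h2 := mem_centralizer_iff.1 hlV a ha
    have e : l * (a * v j) * l⁻¹ = a * y := by
      calc l * (a * v j) * l⁻¹ = (l * a) * l⁻¹ * (l * v j * l⁻¹) := by group
        _ = (a * l) * l⁻¹ * y := by rw [← h2, hly]
        _ = a * y := by group
    rw [e] at h1
    -- `v j y ∈ X` is a nontrivial element of `V j`
    have h3 : (v j)⁻¹ * y ∈ X := by
      have h4 := mul_mem (inv_mem hu) h1
      have e2 : (a * v j)⁻¹ * (a * y) = (v j)⁻¹ * y := by group
      rwa [e2] at h4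
    have h4 : (v j)⁻¹ * y ∈ V j := mul_mem (inv_mem (D.mem j)) hy
    have h5 : (v j)⁻¹ * y ≠ 1 := fun h6 => hyv (by rw [inv_mul_eq_one] at h6; exact h6.symm)
    obtain ⟨m, hm, -, hmy⟩ := D.tr hij.symm h4 h5
    apply hvX
    rw [← hmy] at h3
    have h6 : m⁻¹ * (m * v j * m⁻¹) * m⁻¹⁻¹ ∈ X := (mem_normalizer_iff.1 (inv_mem (hPX hm)) _).1 h3
    have e3 : m⁻¹ * (m * v j * m⁻¹) * m⁻¹⁻¹ = v j := by group
    rwa [e3] at h6

end frame

end Cfsg.Agent.Omega.TC.Phi

end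

section


/-!
# LEMMA Z (helper830 #20100 (2), (3); CARD #18791 TWO CENTRES)

`ZV V v i = ⟨v (i+1) ^ C_G(V i)⟩ ≤ N_i`, `AZ V v i = C_{N_{i+1}}(ZV)`.

* `quad_cent` : a normal subgroup of `C_i` acting trivially on `R` and on `N_i / R` centralises `N_i`;
* `lemZ` : **LEMMA Z**: `A₀ = AZ V v i` is exact on `N_i`, `C_{N_i}(A₀) = Z_i Y_i`, `|N_{i+1} : A₀| = |Z_i : C_{Z_i}(N_{i+1})|`;
* `AZ_not` : `A₀` does not centralise `N_i` (`d = 1`);
* `N_V_le` : `N_G(V i) = C_G(V i) P i` normalises `Z_i`; `AZ_inv`;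
* `FZ V v i = F₀ = ⟨A₀ ^ C_G(V i)⟩` is a 2-group normal in `N_G(V i)` and centralises `Z_i`: `FZ_le_cent`, `N_V_le_FZ`,
  `FZ_isPGroup`, `FZ_le_o2`, `FZ_not_le`;
* `fix_pt` : (3) a point `v (i+1)^c` which is fixed by `T` modulo a proper submodule is `v (i+1)`;
* `sub_le_v` : with `J(T) ≰ O₂(P i)`: every proper submodule of `N_i` is `≤ ⟨v i⟩` (`d = 1`).
-/

set_option autoImplicit false
set_option linter.unusedSectionVars false

namespace Cfsg.Agent.Omega.TC.LemZ

open Subgroup Cfsg Cfsg.Agent.ZN Cfsg.Agent.Omega.MinPar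
open Cfsg.Agent.Omega.OM.KTwo (CC QQ WU NU EU ne_add_one eq_add_one add_one_add_one le_normalizer_V le_V)
open Cfsg.Agent.Omega.NoFF.Basic (conj_conj mem_conj conj_le_iff comm_symm comm_mono Z_le_V V_le)
open Cfsg.Agent.Omega.NOThreeL.Pair (conj_eq_of_mem conj_le_normalizer)
open Cfsg.Agent.ZN.ChoiceSit (Syl syl_conj syl_not_dvd)
open scoped Pointwise commutatorElement

universe u

variable {G : Type u} [Group G]

/-- `Z_i = ⟨v (i+1) ^ C_G(V i)⟩` -/
def ZV (V : Fin 2 → Subgroup G) (v : Fin 2 → G) (i : Fin 2) : Subgroup G := NH v i (centralizer (V i : Set G))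

/-- `A₀ = C_{N_{i+1}}(Z_i)` -/
def AZ (V : Fin 2 → Subgroup G) (v : Fin 2 → G) (i : Fin 2) : Subgroup G :=
  NU V v (i + 1) ⊓ centralizer (ZV V v i : Set G)

theorem card_eq [Finite G] (A C : Subgroup G) : Nat.card A = Nat.card (A ⊓ C : Subgroup G) * C.relIndex A := by
  have h := relIndex_mul_relIndex (⊥ : Subgroup G) (A ⊓ C) A bot_le inf_le_left
  rw [relIndex_bot_left, relIndex_bot_left, inf_relIndex_left] at h
  exact h.symm

theorem le_norm_of {A : Subgroup G} {N : Subgroup G} (h : ∀ a ∈ A, ∀ n ∈ N, a * n * a⁻¹ ∈ N) :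
    A ≤ normalizer (N : Set G) := by
  intro a ha
  rw [mem_normalizer_iff]
  intro x
  refine ⟨h a ha x, fun hx => ?_⟩
  have h1 := h a⁻¹ (inv_mem ha) _ hx
  have e : a⁻¹ * (a * x * a⁻¹) * a⁻¹⁻¹ = x := by group
  rwa [e] at h1

theorem norm_cent {A N : Subgroup G} (h : A ≤ normalizer (N : Set G)) :
    A ≤ normalizer ((centralizer (N : Set G) : Subgroup G) : Set G) := by
  apply le_norm_of
  intro a ha x hx
  rw [mem_centralizer_iff] at hx ⊢
  intro n hn
  have h1 : a⁻¹ * n * a ∈ N := by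
    have := (mem_normalizer_iff.1 (inv_mem (h ha)) n).1 hn
    rwa [inv_inv] at this
  have h2 := hx _ h1
  calc n * (a * x * a⁻¹) = a * ((a⁻¹ * n * a) * x) * a⁻¹ := by group
    _ = a * (x * (a⁻¹ * n * a)) * a⁻¹ := by rw [h2]
    _ = a * x * a⁻¹ * n := by group

theorem norm_inf {A N M : Subgroup G} (h : A ≤ normalizer (N : Set G)) (h' : A ≤ normalizer (M : Set G)) :
    A ≤ normalizer ((N ⊓ M : Subgroup G) : Set G) :=
  le_norm_of fun _ ha _ hx => ⟨(mem_normalizer_iff.1 (h ha) _).1 hx.1, (mem_normalizer_iff.1 (h' ha) _).1 hx.2⟩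

variable [Finite G] {T : Subgroup G} {V P : Fin 2 → Subgroup G} {v : Fin 2 → G} (D : Fr T V P v)

include D

/-- a normal subgroup `X` of `C_i` with `[N_i, X] ≤ R`, `[R, X] = 1` centralises `N_i` (`R ≤ N_i`) -/
theorem quad_cent {i : Fin 2} {X R : Subgroup G} (hX : X ≤ CC v i) (hn : CC v i ≤ normalizer (X : Set G))
    (hR : R ≤ NU V v i) (h1 : ∀ x ∈ X, ∀ n ∈ NU V v i, x * n * x⁻¹ * n⁻¹ ∈ R) (h2 : ∀ x ∈ X, ∀ r ∈ R, x * r = r * x) :
    X ≤ centralizer (NU V v i : Set G) := by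
  have hfact : Fact (Nat.Prime 2) := ⟨Nat.prime_two⟩
  refine D.cent_N_of_le ?_ hn
  set C : Subgroup G := X ⊓ centralizer (NU V v i : Set G) with hC
  -- squares
  have hsq : ∀ x ∈ X, x * x ∈ C := by
    intro x hx
    refine ⟨mul_mem hx hx, mem_centralizer_iff.2 fun n hn' => ?_⟩
    have h3 := h1 x hx n hn'
    have h4 := h2 x hx _ h3
    have h5 : x * n * x⁻¹ = (x * n * x⁻¹ * n⁻¹) * n := by group
    have h6 : x * n * x⁻¹ * n⁻¹ * (x * n * x⁻¹ * n⁻¹) = 1 := by
      rw [← pow_two]; exact D.N_sq i _ (hR h3)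
    have h7 : x * (x * n * x⁻¹) * x⁻¹ = n := by
      calc x * (x * n * x⁻¹) * x⁻¹ = x * ((x * n * x⁻¹ * n⁻¹) * n) * x⁻¹ := by rw [← h5]
        _ = (x * (x * n * x⁻¹ * n⁻¹)) * n * x⁻¹ := by group
        _ = (x * n * x⁻¹ * n⁻¹) * (x * n * x⁻¹) := by rw [h4]; group
        _ = (x * n * x⁻¹ * n⁻¹) * ((x * n * x⁻¹ * n⁻¹) * n) := by rw [← h5]
        _ = (x * n * x⁻¹ * n⁻¹ * (x * n * x⁻¹ * n⁻¹)) * n := by group
        _ = n := by rw [h6, one_mul]
    calc n * (x * x) = (x * (x * n * x⁻¹) * x⁻¹) * (x * x) := by rw [h7]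
      _ = x * x * n := by group
  have hCn : X ≤ normalizer (C : Set G) :=
    norm_inf le_normalizer (norm_cent (hX.trans (D.C_le_N_N i)))
  have hCnor : (C.subgroupOf X).Normal := normal_subgroupOf_of_le_normalizer hCn
  have hq : IsPGroup 2 (↥X ⧸ C.subgroupOf X) := by
    intro x
    obtain ⟨y, rfl⟩ := QuotientGroup.mk_surjective x
    refine ⟨1, ?_⟩
    rw [pow_one, pow_two, ← QuotientGroup.mk_mul, QuotientGroup.eq_one_iff, mem_subgroupOf]
    exact hsq y y.2
  obtain ⟨n, hn2⟩ := IsPGroup.iff_card.1 hq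
  have hidx : C.relIndex X = 2 ^ n := hn2
  have hodd := Av.odd_inf (D.T_le_C i) (syl_not_dvd (D.syl i)) hX ((D.T_le_C i).trans hn)
  set L : Subgroup G := (T ⊓ X) ⊔ C with hL
  have hLX : L ≤ X := sup_le inf_le_right inf_le_left
  have h3 : L.relIndex X ∣ 2 ^ n := by
    rw [← hidx, ← relIndex_mul_relIndex _ _ _ (le_sup_right : C ≤ L) hLX]
    exact Dvd.intro_left _ rfl
  have h4 : L.relIndex X ∣ (T ⊓ X).relIndex X := by
    rw [← relIndex_mul_relIndex _ _ _ (le_sup_left : T ⊓ X ≤ L) hLX]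
    exact Dvd.intro_left _ rfl
  have h5 : L.relIndex X = 1 := by
    obtain ⟨m, _, hm⟩ := (Nat.dvd_prime_pow Nat.prime_two).1 h3
    rcases Nat.eq_zero_or_pos m with hm0 | hm0
    · rw [hm, hm0, pow_zero]
    · exfalso
      apply hodd
      exact ((dvd_pow_self 2 hm0.ne').trans (hm ▸ dvd_rfl)).trans h4
  refine (relIndex_eq_one.1 h5).trans (sup_le (inf_le_left.trans (D.T_le_C (i + 1))) (inf_le_right.trans ?_))
  exact centralizer_le (Set.singleton_subset_iff.2 (D.mem_N i))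

theorem cent_V_le (i : Fin 2) : centralizer (V i : Set G) ≤ CC v i :=
  centralizer_le (Set.singleton_subset_iff.2 (D.mem i))

theorem ZV_le (i : Fin 2) : ZV V v i ≤ NU V v i := D.NH_le_N (cent_V_le D i)

theorem v_mem_ZV (i : Fin 2) : v (i + 1) ∈ ZV V v i := mem_NH v i _

theorem le_N_ZV (i : Fin 2) : normalizer (V i : Set G) ⊓ CC v (i + 1) ≤ normalizer (ZV V v i : Set G) := by
  have key : ∀ g ∈ normalizer (V i : Set G) ⊓ CC v (i + 1), MulAut.conj g • ZV V v i ≤ ZV V v i := by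
    rintro g ⟨hg, hgv⟩
    rw [Subgroup.pointwise_smul_subset_iff]
    refine V_le fun k hk => ?_
    rw [← Subgroup.pointwise_smul_subset_iff, conj_conj]
    have hgk : g * k * g⁻¹ ∈ centralizer (V i : Set G) := (mem_normalizer_iff.1 (norm_cent (A := normalizer (V i : Set G))
      le_rfl hg) k).1 hk
    have hgz : MulAut.conj g • zpowers (v (i + 1)) = zpowers (v (i + 1)) := by
      apply conj_eq_of_mem
      apply centralizer_le_normalizer
      rw [mem_centralizer_iff]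
      rintro _ ⟨n, rfl⟩
      have h1 : Commute g (v (i + 1)) := mem_centralizer_singleton_iff.1 hgv
      exact (h1.zpow_right n).eq.symm
    have e : g * k = (g * k * g⁻¹) * g := by group
    rw [e, ← conj_conj, hgz]
    exact Z_le_V hgk
  intro g hg
  have hinv : MulAut.conj g⁻¹ • ZV V v i ≤ ZV V v i := key g⁻¹ (inv_mem hg)
  rw [mem_normalizer_iff]
  intro x
  constructor
  · intro hx
    apply key g hg
    rw [mem_conj]
    have e : g⁻¹ * (g * x * g⁻¹) * g = x := by group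
    rwa [e]
  · intro hx
    apply hinv
    rw [mem_conj, inv_inv]
    exact hx

theorem P_le_N_ZV (i : Fin 2) : P i ≤ normalizer (ZV V v i : Set G) :=
  (le_inf (D.PN i i) (D.PC i (i + 1) (ne_add_one i))).trans (le_N_ZV D i)

/-- `N_G(V i) = C_G(V i) P i` -/
theorem N_V_eq {i : Fin 2} {g : G} (hg : g ∈ normalizer (V i : Set G)) :
    ∃ p ∈ P i, p⁻¹ * g ∈ centralizer (V i : Set G) := by
  have h1 : g * v i * g⁻¹ ∈ V i := (mem_normalizer_iff.1 hg _).1 (D.mem i)
  have h2 : g * v i * g⁻¹ ≠ 1 := fun h => D.ne i (conj_eq_one_iff.1 h)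
  obtain ⟨p, hp, -, hpv⟩ := D.tr (ne_add_one i) h1 h2
  obtain ⟨y, hy, hy1, hyv⟩ := D.exists_ne_v i
  have hc : p⁻¹ * g * v i = v i * (p⁻¹ * g) := by
    calc p⁻¹ * g * v i = p⁻¹ * (g * v i * g⁻¹) * g := by group
      _ = p⁻¹ * (p * v i * p⁻¹) * g := by rw [hpv]
      _ = v i * (p⁻¹ * g) := by group
  have key : ∀ q : G, q * v i = v i * q → q * y * q⁻¹ = y → q ∈ centralizer (V i : Set G) := by
    intro q h3 h4
    have h4' : q * y = y * q := by
      calc q * y = q * y * q⁻¹ * q := by group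
        _ = y * q := by rw [h4]
    rw [mem_centralizer_iff]
    intro x hx
    by_cases hx1 : x = 1
    · rw [hx1, one_mul, mul_one]
    rcases D.eq_of_V (D.mem i) (D.ne i) hy hy1 (Ne.symm hyv) hx hx1 with h | h | h
    · rw [h, h3]
    · rw [h, h4']
    · rw [h]
      calc v i * y * q = v i * (q * y) := by rw [h4']; group
        _ = q * (v i * y) := by rw [← mul_assoc, ← h3]; group
  have hqN : p⁻¹ * g ∈ normalizer (V i : Set G) := mul_mem (inv_mem (D.PN i i hp)) hg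
  have h3 : (p⁻¹ * g) * y * (p⁻¹ * g)⁻¹ ∈ V i := (mem_normalizer_iff.1 hqN _).1 hy
  have h4 : (p⁻¹ * g) * y * (p⁻¹ * g)⁻¹ ≠ 1 := fun h => hy1 (conj_eq_one_iff.1 h)
  rcases D.eq_of_V hy hy1 (D.mem i) (D.ne i) hyv h3 h4 with h | h | h
  · exact ⟨p, hp, key _ hc h⟩
  · exfalso
    apply hyv
    have h5 : (p⁻¹ * g) * y * (p⁻¹ * g)⁻¹ = (p⁻¹ * g) * v i * (p⁻¹ * g)⁻¹ := by
      rw [h, hc, mul_inv_cancel_right]
    exact mul_left_cancel (mul_right_cancel h5)
  · obtain ⟨t, ht, hty⟩ := D.exists_swap hy hy1 hyv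
    refine ⟨p * t, mul_mem hp (D.T_le_P i ht), ?_⟩
    have e : (p * t)⁻¹ * g = t⁻¹ * (p⁻¹ * g) := by group
    rw [e]
    have ht2 : t⁻¹ * v i * t = v i := by
      have := D.cen i (T.inv_mem ht)
      rwa [inv_inv] at this
    have ht3 : t⁻¹ * (y * v i) * t = y := by
      rw [← hty]; group
    refine key _ ?_ ?_
    · calc t⁻¹ * (p⁻¹ * g) * v i = t⁻¹ * ((p⁻¹ * g) * v i) := by group
        _ = (t⁻¹ * v i * t) * (t⁻¹ * (p⁻¹ * g)) := by rw [hc]; group
        _ = v i * (t⁻¹ * (p⁻¹ * g)) := by rw [ht2]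
    · calc t⁻¹ * (p⁻¹ * g) * y * (t⁻¹ * (p⁻¹ * g))⁻¹ = t⁻¹ * ((p⁻¹ * g) * y * (p⁻¹ * g)⁻¹) * t := by group
        _ = y := by rw [h, ht3]

/-- `N_G(V i)` normalises `Z_i` -/
theorem N_V_le (i : Fin 2) : normalizer (V i : Set G) ≤ normalizer (ZV V v i : Set G) := by
  intro g hg
  obtain ⟨p, hp, hk⟩ := N_V_eq D hg
  have e : g = p * (p⁻¹ * g) := by group
  rw [e]
  exact mul_mem (P_le_N_ZV D i hp) (le_normalizer_NH v i _ hk)

theorem AZ_le (i : Fin 2) : AZ V v i ≤ NU V v (i + 1) := inf_le_left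

/-- `N_G(V i) ∩ C_{i+1}` normalises `A₀` -/
theorem AZ_inv (i : Fin 2) : normalizer (V i : Set G) ⊓ CC v (i + 1) ≤ normalizer (AZ V v i : Set G) :=
  norm_inf (inf_le_right.trans (D.C_le_N_N (i + 1))) (norm_cent (inf_le_left.trans (N_V_le D i)))

theorem P_le_N_AZ (i : Fin 2) : P i ≤ normalizer (AZ V v i : Set G) :=
  (le_inf (D.PN i i) (D.PC i (i + 1) (ne_add_one i))).trans (AZ_inv D i)

/-- `⟨v (i+1) ^ (C_G(V i) T)⟩ = Z_i` -/
theorem NH_eq (i : Fin 2) : NH v i (centralizer (V i : Set G) ⊔ T) = ZV V v i := by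
  apply le_antisymm
  · refine NH_le (v_mem_ZV D i) (sup_le (le_normalizer_NH v i _) ?_)
    exact (le_inf (D.T_le_N i) (D.T_le_C (i + 1))).trans (le_N_ZV D i)
  · exact NH_le (mem_NH v i _) (le_sup_left.trans (le_normalizer_NH v i _))

/-- **LEMMA Z** (helper830 #20100 (2)) -/
theorem lemZ (hML : ML.Final.MLK.{u, u}) (hK : ∀ i, IsKGroup (CC v i)) (i : Fin 2) :
    OM.PG.Int.Ex (AZ V v i) (NU V v i) ∧
      NU V v i ⊓ centralizer (AZ V v i : Set G) = ZV V v i ⊔ (NU V v i ⊓ centralizer (NU V v (i + 1) : Set G)) ∧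
      (AZ V v i).relIndex (NU V v (i + 1)) = (centralizer (NU V v (i + 1) : Set G)).relIndex (ZV V v i) := by
  set N := NU V v i with hN
  set B := NU V v (i + 1) with hB
  set Z := ZV V v i with hZ
  set Y := N ⊓ centralizer (B : Set G) with hY
  set A := AZ V v i with hA
  have hZN : Z ≤ N := ZV_le D i
  have hBO : B ≤ o2 (centralizer (zc T : Set G)) :=
    (D.N_le_Q (i + 1)).trans (D.Q_le_o2D (i + 1))
  have hBT : B ≤ T := D.N_le_T (i + 1)
  have hAB : A ≤ B := inf_le_left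
  have hB2 := D.N_sq (i + 1)
  have hHC : centralizer (V i : Set G) ⊔ T ≤ CC v i := sup_le (cent_V_le D i) (D.T_le_C i)
  -- (NO) for `Z`
  have h1 : (centralizer (Z : Set G)).relIndex B ≤ (centralizer (B : Set G)).relIndex Z := by
    have h := D.no_H hML (A := B) (hK i) (le_sup_right : T ≤ centralizer (V i : Set G) ⊔ T) hHC hBO
      (hBT.trans le_sup_right) hB2
    rwa [NH_eq D i] at h
  -- (NO) for `A` on `N`
  have h2 : (centralizer (N : Set G)).relIndex A ≤ (centralizer (A : Set G)).relIndex N :=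
    D.no_N hML (hK i) (hAB.trans hBO) fun a ha => hB2 a (hAB ha)
  have h3 : (centralizer (N : Set G)).relIndex B = (centralizer (B : Set G)).relIndex N := D.ex hML hK i (i + 1)
  -- cards
  have c1 : Nat.card B = Nat.card A * (centralizer (Z : Set G)).relIndex B := card_eq B _
  have c2 : Nat.card B = Nat.card (B ⊓ centralizer (N : Set G) : Subgroup G) * (centralizer (N : Set G)).relIndex B :=
    card_eq B _
  have hAN : A ⊓ centralizer (N : Set G) = B ⊓ centralizer (N : Set G) := by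
    apply le_antisymm
    · exact inf_le_inf_right _ hAB
    · exact le_inf (le_inf inf_le_left (inf_le_right.trans (centralizer_le hZN))) inf_le_right
  have c3 : Nat.card A = Nat.card (B ⊓ centralizer (N : Set G) : Subgroup G) * (centralizer (N : Set G)).relIndex A := by
    rw [← hAN]; exact card_eq A _
  have c4 : Nat.card N = Nat.card Y * (centralizer (B : Set G)).relIndex N := card_eq N _
  have c5 : Nat.card N = Nat.card (N ⊓ centralizer (A : Set G) : Subgroup G) * (centralizer (A : Set G)).relIndex N :=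
    card_eq N _
  have hNc : N ≤ centralizer (N : Set G) := D.N_comm i
  have hYZ : Y ≤ centralizer (Z : Set G) := (inf_le_left.trans hNc).trans (centralizer_le hZN)
  have c6 : Nat.card (Z ⊔ Y : Subgroup G) = (centralizer (B : Set G)).relIndex Z * Nat.card Y := by
    have h4 := PLocal.ElemAbSup.card_sup_mul_card_inf hYZ
    have h5 : Z ⊓ Y = Z ⊓ centralizer (B : Set G) := by
      rw [hY, ← inf_assoc, inf_eq_left.2 hZN]
    rw [h5] at h4
    have h6 : Nat.card Z = Nat.card (Z ⊓ centralizer (B : Set G) : Subgroup G) * (centralizer (B : Set G)).relIndex Z :=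
      card_eq Z _
    have hpos : 0 < Nat.card (Z ⊓ centralizer (B : Set G) : Subgroup G) := Nat.card_pos
    have h7 : Nat.card (Z ⊔ Y : Subgroup G) * Nat.card (Z ⊓ centralizer (B : Set G) : Subgroup G) =
        ((centralizer (B : Set G)).relIndex Z * Nat.card Y) * Nat.card (Z ⊓ centralizer (B : Set G) : Subgroup G) := by
      rw [h4, h6]; ring
    exact Nat.eq_of_mul_eq_mul_right hpos h7
  have hle : Z ⊔ Y ≤ N ⊓ centralizer (A : Set G) := by
    refine sup_le (le_inf hZN (comm_symm inf_le_right)) (le_inf inf_le_left ?_)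
    exact inf_le_right.trans (centralizer_le hAB)
  set a := (centralizer (Z : Set G)).relIndex B
  set b := (centralizer (B : Set G)).relIndex Z
  set r := (centralizer (N : Set G)).relIndex B
  set s := (centralizer (N : Set G)).relIndex A
  set t := (centralizer (A : Set G)).relIndex N
  set y' := Nat.card (B ⊓ centralizer (N : Set G) : Subgroup G)
  set y := Nat.card Y
  set c := Nat.card (N ⊓ centralizer (A : Set G) : Subgroup G)
  have hy' : 0 < y' := Nat.card_pos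
  have hy : 0 < y := Nat.card_pos
  have hc : 0 < c := Nat.card_pos
  have hs : 0 < s := Nat.pos_of_ne_zero (OM.PG.Int.rix_ne _ _)
  have hra : r = a * s := by
    have h4 : y' * r = y' * (a * s) := by
      calc y' * r = Nat.card B := c2.symm
        _ = y' * (a * s) := by rw [c1, c3]; ring
    exact Nat.eq_of_mul_eq_mul_left hy' h4
  have hyb : b * y ≤ c := by
    rw [← c6]; exact Subgroup.card_le_of_le hle
  have hyr : y * r = c * t := by rw [← c5, c4, h3]
  -- `y a s = c t`, `a ≤ b`, `b y ≤ c`, `s ≤ t`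
  have e1 : y * (a * s) = c * t := by rw [← hra]; exact hyr
  have l1 : y * (a * s) ≤ (b * y) * s := by
    calc y * (a * s) = a * (y * s) := by ring
      _ ≤ b * (y * s) := Nat.mul_le_mul_right _ h1
      _ = (b * y) * s := by ring
  have l2 : (b * y) * s ≤ c * s := Nat.mul_le_mul_right _ hyb
  have l3 : c * s ≤ c * t := Nat.mul_le_mul_left _ h2
  have e2 : c * s = c * t := le_antisymm l3 (by rw [← e1]; exact l1.trans l2)
  have hst : s = t := Nat.eq_of_mul_eq_mul_left hc e2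
  have e3 : (b * y) * s = c * s := le_antisymm l2 (by rw [e2, ← e1]; exact l1)
  have hbc : b * y = c := Nat.eq_of_mul_eq_mul_right hs e3
  have e4 : y * (a * s) = (b * y) * s := by rw [e1, e3, e2]
  have hab : a = b := by
    have h4 : (y * s) * a = (y * s) * b := by
      calc (y * s) * a = y * (a * s) := by ring
        _ = (y * s) * b := by rw [e4]; ring
    exact Nat.eq_of_mul_eq_mul_left (Nat.mul_pos hy hs) h4
  refine ⟨hst, ?_, ?_⟩
  · refine (Subgroup.eq_of_le_of_card_ge hle ?_).symm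
    rw [c6]
    exact hbc.ge
  · have h4 : A.relIndex B = a := by
      change (B ⊓ centralizer (Z : Set G)).relIndex B = _
      rw [inf_relIndex_left]
    rw [h4, hab]

/-- `[N_{i+1}, N_i] = [N_{i+1}, Z_i]` cannot happen: **`A₀` does not centralise `N_i`** (`d = 1`) -/
theorem AZ_not (hML : ML.Final.MLK.{u, u}) (hK : ∀ i, IsKGroup (CC v i)) {i : Fin 2}
    (hd : ¬ NU V v (i + 1) ≤ centralizer (NU V v i : Set G)) : ¬ AZ V v i ≤ centralizer (NU V v i : Set G) := by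
  intro hA
  obtain ⟨h1, h2, -⟩ := lemZ D hML hK i
  set N := NU V v i with hN
  set B := NU V v (i + 1) with hB
  set Z := ZV V v i with hZ
  set Y := N ⊓ centralizer (B : Set G) with hY
  have hNA : N ≤ centralizer (AZ V v i : Set G) := comm_symm hA
  have hNZY : N = Z ⊔ Y := by rw [← h2, inf_eq_left.2 hNA]
  -- `R = [B, N]`
  set R : Subgroup G := ⁅B, N⁆ with hR
  have hBn : B ≤ normalizer (N : Set G) := (D.N_le_C (i + 1) i).trans (D.C_le_N_N i)
  have hNn : N ≤ normalizer (B : Set G) := (D.N_le_C i (i + 1)).trans (D.C_le_N_N (i + 1))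
  have hRB : R ≤ B := by
    rw [hR, commutator_le]
    intro b hb n hn
    have e : ⁅b, n⁆ = b * (n * b⁻¹ * n⁻¹) := by simp only [commutatorElement_def]; group
    rw [e]
    exact mul_mem hb ((mem_normalizer_iff.1 (hNn hn) _).1 (inv_mem hb))
  have hRN : R ≤ N := by
    rw [hR, commutator_le]
    intro b hb n hn
    rw [commutatorElement_def]
    exact mul_mem ((mem_normalizer_iff.1 (hBn hb) n).1 hn) (inv_mem hn)
  -- invariance
  have hinv : ∀ {A : Subgroup G}, A ≤ normalizer (B : Set G) → A ≤ normalizer (N : Set G) →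
      A ≤ normalizer (R : Set G) := by
    intro A hAB hAN
    apply le_norm_of
    intro a ha x hx
    have h3 : a * x * a⁻¹ ∈ R.map (MulAut.conj a).toMonoidHom := ⟨x, hx, rfl⟩
    rw [hR, map_commutator] at h3
    have e1 : B.map (MulAut.conj a).toMonoidHom = B := conj_eq_of_mem (hAB ha)
    have e2 : N.map (MulAut.conj a).toMonoidHom = N := conj_eq_of_mem (hAN ha)
    rw [e1, e2] at h3
    exact h3
  -- `R = [B, Z]`
  have hRZ : R = ⁅B, Z⁆ := by
    apply le_antisymm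
    · rw [hR, commutator_le]
      intro b hb n hn
      rw [hNZY] at hn
      have hYc : Y ≤ centralizer (Z : Set G) := (inf_le_left.trans (D.N_comm i)).trans (centralizer_le (ZV_le D i))
      have h3 : (n : G) ∈ ((Z ⊔ Y : Subgroup G) : Set G) := hn
      rw [PLocal.ElemAbSup.coe_sup_of_le_centralizer hYc] at h3
      obtain ⟨z, hz, y, hy, hzy⟩ := h3
      have hzy : n = z * y := hzy.symm
      have h4 := mem_centralizer_iff.1 hy.2 b hb
      have e : ⁅b, n⁆ = ⁅b, z⁆ := by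
        rw [hzy]
        simp only [commutatorElement_def]
        calc b * (z * y) * b⁻¹ * (z * y)⁻¹ = b * z * (y * b⁻¹) * y⁻¹ * z⁻¹ := by group
          _ = b * z * (b⁻¹ * y) * y⁻¹ * z⁻¹ := by
            have h5 : y * b⁻¹ = b⁻¹ * y := by
              calc y * b⁻¹ = b⁻¹ * (b * y) * b⁻¹ := by group
                _ = b⁻¹ * (y * b) * b⁻¹ := by rw [h4]
                _ = b⁻¹ * y := by group
            rw [h5]
          _ = b * z * b⁻¹ * z⁻¹ := by group
      rw [e]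
      exact commutator_mem_commutator hb hz
    · exact commutator_mono le_rfl (ZV_le D i)
  have hPR : P i ≤ normalizer (R : Set G) := by
    apply le_norm_of
    intro a ha x hx
    rw [hRZ] at hx ⊢
    have h3 : a * x * a⁻¹ ∈ (⁅B, Z⁆ : Subgroup G).map (MulAut.conj a).toMonoidHom := ⟨x, hx, rfl⟩
    rw [map_commutator] at h3
    have e1 : B.map (MulAut.conj a).toMonoidHom = B :=
      conj_eq_of_mem (D.C_le_N_N (i + 1) (D.PC i (i + 1) (ne_add_one i) ha))
    have e2 : Z.map (MulAut.conj a).toMonoidHom = Z := conj_eq_of_mem (P_le_N_ZV D i ha)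
    rw [e1, e2] at h3
    exact h3
  have hDR : centralizer (zc T : Set G) ≤ normalizer (R : Set G) :=
    hinv ((D.cent_zc_le (i + 1)).trans (D.C_le_N_N (i + 1))) ((D.cent_zc_le i).trans (D.C_le_N_N i))
  have hCR : CC v (i + 1) ≤ normalizer (R : Set G) := (D.gen (ne_add_one i)).trans (sup_le hPR hDR)
  -- `R` is proper in `B`
  have hii : i + 1 + 1 = i := add_one_add_one i
  have hvR : v (i + 1 + 1) ∉ R := by
    intro hv
    have h3 : NH v (i + 1) (CC v (i + 1)) ≤ R := NH_le hv hCR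
    rw [D.NH_CC (i + 1)] at h3
    -- `B = [B, N]`, `B N` nilpotent
    have hBR : B ≤ ⁅B, N⁆ := h3
    have hT2 := D.T_isPGroup
    have hfact : Fact (Nat.Prime 2) := ⟨Nat.prime_two⟩
    have hbot : B = ⊥ := by
      have h4 : ∀ n, B ≤ T.lowerCentralSeries n := by
        intro n
        induction n with
        | zero => exact D.N_le_T (i + 1)
        | succ n ih => exact hBR.trans (commutator_mono ih (D.N_le_T i))
      have := hT2.isNilpotent
      obtain ⟨n, hn⟩ := (T.isNilpotent_iff_lowerCentralSeries).mp inferInstance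
      exact le_bot_iff.mp (hn ▸ h4 n)
    have h4 : v (i + 1 + 1) ∈ B := D.mem_N (i + 1)
    rw [hbot, mem_bot] at h4
    exact D.ne _ h4
  have hRc : R ≤ centralizer (NU V v (i + 1 + 1) : Set G) := D.sub_comm hML hK hCR hRB hvR
  rw [hii] at hRc
  -- `R_{i+1} = ⟨N_i ^ C_{i+1}⟩` centralises `N_{i+1}`
  set X : Subgroup G := RR V v i (i + 1) with hX
  have hXC : X ≤ CC v (i + 1) := D.RR_le i (i + 1)
  have hXn : CC v (i + 1) ≤ normalizer (X : Set G) := D.C_le_N_RR i (i + 1)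
  have hXR : X ≤ centralizer (R : Set G) := by
    refine V_le fun c hc => ?_
    have h3 := NoFF.Basic.conj_le_centralizer (g := c) (comm_symm hRc)
    rwa [conj_eq_of_mem (hCR hc)] at h3
  have hXB : ∀ x ∈ X, ∀ n ∈ B, x * n * x⁻¹ * n⁻¹ ∈ R := by
    let K : Subgroup G :=
      { carrier := {x | x ∈ CC v (i + 1) ∧ ∀ n ∈ B, x * n * x⁻¹ * n⁻¹ ∈ R}
        one_mem' := ⟨one_mem _, fun n _ => by
          have e : (1 : G) * n * 1⁻¹ * n⁻¹ = 1 := by group
          rw [e]; exact one_mem _⟩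
        mul_mem' := by
          rintro x y ⟨hx, hx'⟩ ⟨hy, hy'⟩
          refine ⟨mul_mem hx hy, fun n hn => ?_⟩
          have h3 := (mem_normalizer_iff.1 (hCR hx) _).1 (hy' n hn)
          have e : x * y * n * (x * y)⁻¹ * n⁻¹ = (x * (y * n * y⁻¹ * n⁻¹) * x⁻¹) * (x * n * x⁻¹ * n⁻¹) := by group
          rw [e]; exact mul_mem h3 (hx' n hn)
        inv_mem' := by
          rintro x ⟨hx, hx'⟩
          refine ⟨inv_mem hx, fun n hn => ?_⟩
          have h3 : x⁻¹ * n * x ∈ B := by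
            have := (mem_normalizer_iff.1 (D.C_le_N_N (i + 1) (inv_mem hx)) n).1 hn
            rwa [inv_inv] at this
          have h4 := inv_mem (hx' _ h3)
          have e : x⁻¹ * n * x⁻¹⁻¹ * n⁻¹ = (x * (x⁻¹ * n * x) * x⁻¹ * (x⁻¹ * n * x)⁻¹)⁻¹ := by group
          rw [e]; exact h4 }
    have hKn : CC v (i + 1) ≤ normalizer (K : Set G) := by
      apply le_norm_of
      rintro c hc x ⟨hx, hx'⟩
      refine ⟨(CC v (i + 1)).mul_mem ((CC v (i + 1)).mul_mem hc hx) ((CC v (i + 1)).inv_mem hc), fun n hn => ?_⟩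
      have h3 : c⁻¹ * n * c ∈ B := by
        have := (mem_normalizer_iff.1 (D.C_le_N_N (i + 1) (inv_mem hc)) n).1 hn
        rwa [inv_inv] at this
      have h4 := (mem_normalizer_iff.1 (hCR hc) _).1 (hx' _ h3)
      have e : c * x * c⁻¹ * n * (c * x * c⁻¹)⁻¹ * n⁻¹ = c * (x * (c⁻¹ * n * c) * x⁻¹ * (c⁻¹ * n * c)⁻¹) * c⁻¹ := by group
      rw [e]; exact h4
    have hNK : N ≤ K := by
      intro n hn
      refine ⟨D.N_le_C i (i + 1) hn, fun b hb => ?_⟩
      have h3 : ⁅b, n⁆ ∈ R := commutator_mem_commutator hb hn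
      have e : n * b * n⁻¹ * b⁻¹ = ⁅b, n⁆⁻¹ := by simp only [commutatorElement_def]; group
      rw [e]; exact inv_mem h3
    have hXK : X ≤ K := V_le fun c hc => by
      rw [← conj_eq_of_mem (hKn hc)]
      exact conj_le_iff.2 hNK
    exact fun x hx => (hXK hx).2
  have h5 := quad_cent D hXC hXn hRB hXB fun x hx r hr => (mem_centralizer_iff.1 (hXR hx) r hr).symm
  exact hd (comm_symm ((D.N_le_RR i (i + 1)).trans h5))

/-! ### The group `F₀` -/

/-- `F₀ = ⟨A₀ ^ C_G(V i)⟩` -/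
def FZ (V : Fin 2 → Subgroup G) (v : Fin 2 → G) (i : Fin 2) : Subgroup G :=
  NoFF.Basic.V (AZ V v i) (centralizer (V i : Set G))

theorem K_le_N_ZV (i : Fin 2) : centralizer (V i : Set G) ≤ normalizer (ZV V v i : Set G) := le_normalizer_NH v i _

theorem AZ_le_FZ (i : Fin 2) : AZ V v i ≤ FZ V v i := le_V _ _

theorem FZ_le_cent (i : Fin 2) : FZ V v i ≤ centralizer (ZV V v i : Set G) :=
  V_le fun k hk => by
    have h1 : AZ V v i ≤ centralizer (ZV V v i : Set G) := inf_le_right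
    have h2 := NoFF.Basic.conj_le_centralizer (g := k) h1
    rwa [conj_eq_of_mem (K_le_N_ZV D i hk)] at h2

/-- `N_G(V i)` normalises `F₀` -/
theorem N_V_le_FZ (i : Fin 2) : normalizer (V i : Set G) ≤ normalizer (FZ V v i : Set G) := by
  have hP : P i ≤ normalizer (FZ V v i : Set G) := by
    have key : ∀ g ∈ P i, MulAut.conj g • FZ V v i ≤ FZ V v i := by
      intro g hg
      rw [Subgroup.pointwise_smul_subset_iff]
      refine V_le fun k hk => ?_
      rw [← Subgroup.pointwise_smul_subset_iff, conj_conj]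
      have hgk : g * k * g⁻¹ ∈ centralizer (V i : Set G) := (mem_normalizer_iff.1 (norm_cent (D.PN i i) hg) k).1 hk
      have e : g * k = (g * k * g⁻¹) * g := by group
      rw [e, ← conj_conj, conj_eq_of_mem (P_le_N_AZ D i hg)]
      exact Z_le_V hgk
    apply le_norm_of
    intro g hg x hx
    apply key g hg
    rw [mem_conj]
    have e : g⁻¹ * (g * x * g⁻¹) * g = x := by group
    rwa [e]
  intro g hg
  obtain ⟨p, hp, hk⟩ := N_V_eq D hg
  have e : g = p * (p⁻¹ * g) := by group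
  rw [e]
  exact mul_mem (hP hp) (le_normalizer_V _ _ hk)

theorem FZ_le_N_V (i : Fin 2) : FZ V v i ≤ normalizer (V i : Set G) :=
  V_le fun k hk => by
    have h1 : AZ V v i ≤ normalizer (V i : Set G) := ((AZ_le D i).trans (D.N_le_T (i + 1))).trans (D.T_le_N i)
    have h2 := conj_le_normalizer (g := k) h1
    rwa [conj_eq_of_mem (centralizer_le_normalizer _ hk)] at h2

/-- `F₀` is a 2-group -/
theorem FZ_isPGroup (i : Fin 2) : IsPGroup 2 (FZ V v i) := by
  -- `A₀^k = C_{N_a}(Z_i)`, `a = v (i+1)^k ∈ Z_i`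
  have hconj : ∀ k ∈ centralizer (V i : Set G), MulAut.conj k • AZ V v i ≤
      (MulAut.conj k • NU V v (i + 1)) ⊓ centralizer (ZV V v i : Set G) := by
    intro k hk
    refine le_inf (conj_le_iff.2 (AZ_le D i)) ?_
    have h1 : AZ V v i ≤ centralizer (ZV V v i : Set G) := inf_le_right
    have h2 := NoFF.Basic.conj_le_centralizer (g := k) h1
    rwa [conj_eq_of_mem (K_le_N_ZV D i hk)] at h2
  have hconj' : ∀ k ∈ centralizer (V i : Set G), (MulAut.conj k • NU V v (i + 1)) ⊓ centralizer (ZV V v i : Set G) ≤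
      MulAut.conj k • AZ V v i := by
    rintro k hk x ⟨hx, hx'⟩
    have hx2 : x ∈ MulAut.conj k • NU V v (i + 1) := hx
    rw [mem_conj] at hx2 ⊢
    refine ⟨hx2, mem_centralizer_iff.2 fun z hz => ?_⟩
    have h1 : k * z * k⁻¹ ∈ ZV V v i := (mem_normalizer_iff.1 (le_normalizer_NH v i _ hk) z).1 hz
    have h2 := mem_centralizer_iff.1 hx' _ h1
    calc z * (k⁻¹ * x * k) = k⁻¹ * ((k * z * k⁻¹) * x) * k := by group
      _ = k⁻¹ * (x * (k * z * k⁻¹)) * k := by rw [h2]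
      _ = k⁻¹ * x * k * z := by group
  have hn : ∀ k ∈ centralizer (V i : Set G), FZ V v i ≤ normalizer ((MulAut.conj k • AZ V v i : Subgroup G) : Set G) := by
    intro k hk
    have heq : MulAut.conj k • AZ V v i = (MulAut.conj k • NU V v (i + 1)) ⊓ centralizer (ZV V v i : Set G) :=
      le_antisymm (hconj k hk) (hconj' k hk)
    rw [heq]
    have hF : FZ V v i ≤ centralizer (ZV V v i : Set G) := FZ_le_cent D i
    refine norm_inf ?_ (norm_cent (hF.trans (centralizer_le_normalizer _)))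
    -- `F₀` centralises `v (i+1)^k`
    have h1 : FZ V v i ≤ MulAut.conj k • CC v (i + 1) := by
      intro x hx
      rw [mem_conj, mem_centralizer_singleton_iff]
      have h2 : k * v (i + 1) * k⁻¹ ∈ ZV V v i :=
        (mem_normalizer_iff.1 (le_normalizer_NH v i _ hk) _).1 (v_mem_ZV D i)
      have h3 := mem_centralizer_iff.1 (hF hx) _ h2
      calc k⁻¹ * x * k * v (i + 1) = k⁻¹ * (x * (k * v (i + 1) * k⁻¹)) * k := by group
        _ = k⁻¹ * ((k * v (i + 1) * k⁻¹) * x) * k := by rw [h3]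
        _ = v (i + 1) * (k⁻¹ * x * k) := by group
    have h2 : MulAut.conj k • CC v (i + 1) ≤ normalizer ((MulAut.conj k • NU V v (i + 1) : Subgroup G) : Set G) := by
      exact conj_le_normalizer (D.C_le_N_N (i + 1))
    exact h1.trans h2
  have h1 : FZ V v i ≤ o2 (FZ V v i) := by
    refine V_le fun k hk => ?_
    exact ZN.le_o2 (Z_le_V hk)
      ((D.T_isPGroup.to_le ((AZ_le D i).trans (D.N_le_T (i + 1)))).map (MulAut.conj k).toMonoidHom) (hn k hk)
  exact (isPGroup_o2 (FZ V v i)).to_le h1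

theorem FZ_le_o2 (i : Fin 2) : FZ V v i ≤ o2 (normalizer (V i : Set G)) :=
  ZN.le_o2 (FZ_le_N_V D i) (FZ_isPGroup D i) (N_V_le_FZ D i)

theorem FZ_not_le (hML : ML.Final.MLK.{u, u}) (hK : ∀ i, IsKGroup (CC v i)) {i : Fin 2}
    (hd : ¬ NU V v (i + 1) ≤ centralizer (NU V v i : Set G)) : ¬ FZ V v i ≤ QQ v i := fun h =>
  AZ_not D hML hK hd (((AZ_le_FZ D i).trans h).trans (D.Q_le_cent_N i))

/-! ### (3) -/

theorem syl_conj_T {i : Fin 2} {c : G} (hc : c ∈ CC v i) : Syl (MulAut.conj c • T) (CC v i) := by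
  have h1 : MulAut.conj c • T ≤ CC v i := by
    have := conj_le_iff (g := c) |>.2 (D.T_le_C i)
    rwa [D.conj_CC hc] at this
  refine ⟨h1, D.T_isPGroup.map _, fun Q hQ hQ2 hTQ => ?_⟩
  have h2 : MulAut.conj c⁻¹ • Q ≤ CC v i := by
    have := conj_le_iff (g := c⁻¹) |>.2 hQ
    rwa [D.conj_CC (inv_mem hc)] at this
  have h3 : T ≤ MulAut.conj c⁻¹ • Q := by
    have := conj_le_iff (g := c⁻¹) |>.2 hTQ
    rwa [conj_conj, inv_mul_cancel, map_one, one_smul] at this
  have h4 : MulAut.conj c⁻¹ • Q = T := (D.syl i).2.2 _ h2 (hQ2.map _) h3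
  rw [← h4, conj_conj, mul_inv_cancel, map_one, one_smul]

/-- **(3)**: a point `v (i+1)^c` fixed by `T` modulo a proper submodule is `v (i+1)` -/
theorem fix_pt {i : Fin 2} {Y : Subgroup G} (hY : CC v i ≤ normalizer (Y : Set G)) (hv : v (i + 1) ∉ Y) {c : G}
    (hc : c ∈ CC v i) (h : ∀ t ∈ T, t * (c * v (i + 1) * c⁻¹) * t⁻¹ * (c * v (i + 1) * c⁻¹)⁻¹ ∈ Y) :
    c ∈ centralizer (zc T : Set G) := by
  have h1 : MulAut.conj c⁻¹ • T ≤ centralizer (zc T : Set G) := by
    intro x hx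
    rw [mem_conj, inv_inv] at hx
    refine D.stab_le (D.T_le_C i) le_rfl hY hv x ?_ ?_
    · have e : x = c⁻¹ * (c * x * c⁻¹) * c := by group
      rw [e]
      exact mul_mem (mul_mem (inv_mem hc) (D.T_le_C i hx)) hc
    · have h2 := (mem_normalizer_iff.1 (hY (inv_mem hc)) _).1 (h _ hx)
      have e : c⁻¹ * (c * x * c⁻¹ * (c * v (i + 1) * c⁻¹) * (c * x * c⁻¹)⁻¹ * (c * v (i + 1) * c⁻¹)⁻¹) * c⁻¹⁻¹ =
          x * v (i + 1) * x⁻¹ * (v (i + 1))⁻¹ := by group
      rwa [e] at h2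
  have h2 : Syl (MulAut.conj c⁻¹ • T) (centralizer (zc T : Set G)) :=
    ⟨h1, D.T_isPGroup.map _, fun Q hQ hQ2 hTQ =>
      (syl_conj_T D (inv_mem hc)).2.2 Q (hQ.trans (D.cent_zc_le i)) hQ2 hTQ⟩
  obtain ⟨d, hd, hdT⟩ := syl_conj h2 D.syl_D
  have h3 : MulAut.conj (d * c⁻¹) • T = T := by
    rw [← conj_conj]; exact hdT
  have h4 : d * c⁻¹ ∈ normalizer (T : Set G) := ChoiceBase.mem_normalizer_iff_cj.2 h3
  have h5 := D.norm_T_le i ⟨(CC v i).mul_mem (D.cent_zc_le i hd) ((CC v i).inv_mem hc), h4⟩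
  have e : c = (d * c⁻¹)⁻¹ * d := by group
  rw [e]
  exact mul_mem (inv_mem h5) hd

/-- **`N_i / ⟨v i⟩` is irreducible** (`J(T) ≰ O₂(P i)`, `d = 1`) -/
theorem sub_le_v (hML : ML.Final.MLK.{u, u}) (hK : ∀ i, IsKGroup (CC v i)) {i : Fin 2}
    (hJ : ¬ jj T ≤ o2 (P i)) (hd : ¬ NU V v (i + 1) ≤ centralizer (NU V v i : Set G)) {Y : Subgroup G}
    (hY : CC v i ≤ normalizer (Y : Set G)) (hYW : Y ≤ NU V v i) (hv : v (i + 1) ∉ Y) : Y ≤ zpowers (v i) := by
  have hij := ne_add_one i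
  refine Phi.sub_le D hij hJ hYW ((D.PC (i + 1) i hij.symm).trans hY) hv fun hV => ?_
  -- `N_{i+1}` centralises `Y`
  have h1 : Y ≤ centralizer (NU V v (i + 1) : Set G) := D.sub_comm hML hK hY hYW hv
  have h2 : RR V v (i + 1) i ≤ centralizer (Y : Set G) := by
    refine V_le fun c hc => ?_
    have h3 := NoFF.Basic.conj_le_centralizer (g := c) (comm_symm h1)
    rwa [conj_eq_of_mem (hY hc)] at h3
  exact D.lemR hij.symm hd (h2.trans (centralizer_le hV))

end Cfsg.Agent.Omega.TC.LemZ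

end

section


/-!
# Two centres `v 0`, `v 1` with arbitrary `V 0`, `V 1` (box R, card R-SHAPES #20713 (4); helper23 #22505): the frame

`T` is a Sylow 2-subgroup of `C_i = C_G(v i)` (`i = 0, 1`), `Ω₁Z(T) = ⟨v 0, v 1⟩`, `D = C_G(Ω₁Z(T)) = C_0 ∩ C_1`,
`O = O₂(D)`, `⟨C_0, C_1⟩` nonlocal; `V i ∋ v i` elementary abelian, normalised by `T`, `V i ≤ O₂(C_i)`, the conjugates
of `V i` under `C_i` commute; every `T`-minimal `R ≤ C_j` (`j ≠ i`) which moves `v i` normalises `V 0` and `V 1`, is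
irreducible on `V i`, its elements of odd order centralise `V j`, and the set `v i ^ R` is the same for all of them.

* `Fr` : the frame; `NN v i = ⟨v (i+1) ^ C_i⟩`, `WW V v i = ⟨V i ^ C_i⟩`, `UU V v i = ⟨v (i+1) ^ C_G(V i)⟩`;
* `Fr.gen_of` : a normal subgroup `X` of `C_i` which moves `v (i+1)` : `C_i ≤ X D`;
* `Fr.no_H`, `Fr.no_N` : (NO);
* `Mx O A` : `A` elementary abelian of maximal order in `O`; `Mx.le_of_comm`, `Mx.thom`, `Mx.sup` : Thompson;
* `Fr.mx` : `A` maximal in `O` : exact on `N_i`, `C_A(N_i) N_i` maximal in `O`, contained in `Q_i`.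
-/

set_option autoImplicit false
set_option linter.unusedSectionVars false

namespace Cfsg.Agent.Omega.KL.TwoS

open Subgroup Cfsg Cfsg.Agent.Omega.MinPar
open Cfsg.Agent.ZN (o2 zc)
open Cfsg.Agent.Omega.OM.KTwo (CC QQ ne_add_one eq_add_one add_one_add_one le_normalizer_V le_V exists_mul_of_mem_sup)
open Cfsg.Agent.MinSimple.MinParabolic (IsMinPar)
open Cfsg.Agent.Omega.NoFF.Basic (conj_conj mem_conj conj_le_iff comm_symm comm_mono Z_le_V V_le)
open Cfsg.Agent.Omega.NOThreeL.Pair (conj_eq_of_mem conj_le_normalizer)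
open Cfsg.Agent.Omega.NoFF.ThmJFam (card_sup_inf card_conj)
open Cfsg.Agent.ZN.ChoiceSit (Syl exists_syl syl_conj o2_le_syl)
open Cfsg.Agent.MinSimple.VModule (mem_zc zc_le normalizer_le_normalizer_zc le_o2
  o2_isPGroup o2_le zc_le_centralizer le_centralizer_zc le_normalizer_o2)
open Cfsg.Agent.Omega.TC (NH mem_NH le_normalizer_NH NH_le kgroup_mono)
open Cfsg.Agent.Omega.TC.LemZ (card_eq le_norm_of norm_cent norm_inf)
open scoped Pointwise

universe u

variable {G : Type u} [Group G]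

/-- the frame of two centres (helper23 #22505) -/
structure Fr [Finite G] (T : Subgroup G) (V : Fin 2 → Subgroup G) (v : Fin 2 → G) : Prop where
  char2 : ∀ i, centralizer ({v i} : Set G) ⊓ centralizer (o2 (centralizer ({v i} : Set G)) : Set G) ≤
    o2 (centralizer ({v i} : Set G))
  sqV : ∀ i, ∀ x ∈ V i, x ^ 2 = 1
  mem : ∀ i, v i ∈ V i
  ne : ∀ i, v i ≠ 1
  zT : ∀ x, x ∈ zc T ↔ x = 1 ∨ x = v 0 ∨ x = v 1 ∨ x = v 0 * v 1
  syl : ∀ i, Syl T (centralizer ({v i} : Set G))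
  nT : ∀ i, centralizer ({v i} : Set G) ⊓ normalizer (T : Set G) ≤ centralizer (zc T : Set G)
  nV : ∀ i, T ≤ normalizer (V i : Set G)
  VQ : ∀ i, V i ≤ o2 (centralizer ({v i} : Set G))
  VC : ∀ i, ∀ c ∈ centralizer ({v i} : Set G), MulAut.conj c • V i ≤ centralizer (V i : Set G)
  uni : ∀ i j, i ≠ j → ∀ R : Subgroup G, IsMinPar T R → R ≤ centralizer ({v j} : Set G) →
    ¬ R ≤ centralizer ({v i} : Set G) → ∀ k, R ≤ normalizer (V k : Set G)
  odd : ∀ i j, i ≠ j → ∀ R : Subgroup G, IsMinPar T R → R ≤ centralizer ({v j} : Set G) →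
    ¬ R ≤ centralizer ({v i} : Set G) → ∀ g ∈ R, Odd (orderOf g) → g ∈ centralizer (V j : Set G)
  irr : ∀ i j, i ≠ j → ∀ R : Subgroup G, IsMinPar T R → R ≤ centralizer ({v j} : Set G) →
    ¬ R ≤ centralizer ({v i} : Set G) → ∀ W : Subgroup G, W ≤ V i → R ≤ normalizer (W : Set G) → W ≠ ⊥ → V i ≤ W
  same : ∀ i j, i ≠ j → ∀ R : Subgroup G, IsMinPar T R → R ≤ centralizer ({v j} : Set G) →
    ¬ R ≤ centralizer ({v i} : Set G) → ∀ R' : Subgroup G, IsMinPar T R' → R' ≤ centralizer ({v j} : Set G) →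
    ¬ R' ≤ centralizer ({v i} : Set G) → ∀ r' ∈ R', ∃ r ∈ R, r' * v i * r'⁻¹ = r * v i * r⁻¹
  nonloc : NonLoc (centralizer ({v 0} : Set G)) (centralizer ({v 1} : Set G))

/-- `N_i = ⟨v (i+1) ^ C_i⟩` -/
abbrev NN (v : Fin 2 → G) (i : Fin 2) : Subgroup G := NH v i (CC v i)

/-- `W_i = ⟨V i ^ C_i⟩` -/
abbrev WW (V : Fin 2 → Subgroup G) (v : Fin 2 → G) (i : Fin 2) : Subgroup G := NoFF.Basic.V (V i) (CC v i)

/-- `U_i = ⟨v (i+1) ^ C_G(V i)⟩` -/
abbrev UU (V : Fin 2 → Subgroup G) (v : Fin 2 → G) (i : Fin 2) : Subgroup G := NH v i (centralizer (V i : Set G))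

/-- `H_i = C_G(V i) T` -/
abbrev HH (T : Subgroup G) (V : Fin 2 → Subgroup G) (i : Fin 2) : Subgroup G := centralizer (V i : Set G) ⊔ T

/-! ### Elementary abelian groups of maximal order -/

theorem comm_of_sq {A : Subgroup G} (h : ∀ a ∈ A, a ^ 2 = 1) : A ≤ centralizer (A : Set G) := by
  intro a ha
  rw [mem_centralizer_iff]
  intro b hb
  have h1 := h _ (mul_mem ha hb)
  have h2 := h _ ha
  have h3 := h _ hb
  rw [pow_two] at h1 h2 h3
  have h4 : a⁻¹ = a := inv_eq_of_mul_eq_one_right h2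
  have h5 : b⁻¹ = b := inv_eq_of_mul_eq_one_right h3
  have h6 : (a * b)⁻¹ = a * b := inv_eq_of_mul_eq_one_right h1
  rw [mul_inv_rev, h4, h5] at h6
  exact h6

theorem sq_sup {A B : Subgroup G} (hA : ∀ a ∈ A, a ^ 2 = 1) (hB : ∀ a ∈ B, a ^ 2 = 1)
    (h : A ≤ centralizer (B : Set G)) : ∀ a ∈ A ⊔ B, a ^ 2 = 1 := by
  intro x hx
  obtain ⟨a, ha, b, hb, rfl⟩ := exists_mul_of_mem_sup ((comm_symm h).trans (centralizer_le_normalizer _)) hx
  have h1 : Commute a b := (mem_centralizer_iff.1 (h ha) b hb).symm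
  rw [h1.mul_pow, hA a ha, hB b hb, one_mul]

theorem relIndex_card [Finite G] {A C : Subgroup G} : Nat.card A = Nat.card (A ⊓ C : Subgroup G) * C.relIndex A :=
  card_eq A C

theorem pos [Finite G] (A : Subgroup G) : 0 < Nat.card A := Nat.card_pos

/-- `X ≤ N (X ∩ C)` ⇒ `|X : X ∩ C| ≤ |N : N ∩ C|` -/
theorem relIndex_le_of_sup [Finite G] {X N C : Subgroup G} (hN : N ≤ X) (hX : X ≤ centralizer (X : Set G))
    (h : X ≤ N ⊔ (X ⊓ C)) : C.relIndex X ≤ C.relIndex N := by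
  have e : X = N ⊔ (X ⊓ C) := le_antisymm h (sup_le hN inf_le_left)
  have h1 := card_sup_inf (A := N) (B := X ⊓ C) (comm_mono hX hN inf_le_left)
  rw [← e] at h1
  have h2 : N ⊓ (X ⊓ C) = N ⊓ C := by rw [← inf_assoc, inf_eq_left.2 hN]
  rw [h2, card_eq X C, card_eq N C] at h1
  have h3 : C.relIndex X = C.relIndex N := by
    have p1 := pos (N ⊓ C)
    have p2 := pos (X ⊓ C)
    have p3 : 0 < Nat.card (X ⊓ C : Subgroup G) * Nat.card (N ⊓ C : Subgroup G) := Nat.mul_pos p2 p1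
    apply Nat.eq_of_mul_eq_mul_left p3
    calc Nat.card (X ⊓ C : Subgroup G) * Nat.card (N ⊓ C : Subgroup G) * C.relIndex X
        = Nat.card (X ⊓ C : Subgroup G) * C.relIndex X * Nat.card (N ⊓ C : Subgroup G) := by ring
      _ = Nat.card (N ⊓ C : Subgroup G) * C.relIndex N * Nat.card (X ⊓ C : Subgroup G) := h1
      _ = Nat.card (X ⊓ C : Subgroup G) * Nat.card (N ⊓ C : Subgroup G) * C.relIndex N := by ring
  exact h3.le

/-- `|X : X ∩ C| ≤ |N : N ∩ C|` ⇒ `X ≤ N (X ∩ C)` -/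
theorem sup_of_relIndex_le [Finite G] {X N C : Subgroup G} (hN : N ≤ X) (hX : X ≤ centralizer (X : Set G))
    (h : C.relIndex X ≤ C.relIndex N) : X ≤ N ⊔ (X ⊓ C) := by
  have h1 := card_sup_inf (A := N) (B := X ⊓ C) (comm_mono hX hN inf_le_left)
  have h2 : N ⊓ (X ⊓ C) = N ⊓ C := by rw [← inf_assoc, inf_eq_left.2 hN]
  rw [h2, card_eq N C] at h1
  have hle : N ⊔ (X ⊓ C) ≤ X := sup_le hN inf_le_left
  refine (Subgroup.eq_of_le_of_card_ge hle ?_).ge
  have p1 := pos (N ⊓ C)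
  apply Nat.le_of_mul_le_mul_right (c := Nat.card (N ⊓ C : Subgroup G)) _ p1
  calc Nat.card X * Nat.card (N ⊓ C : Subgroup G)
      = Nat.card (X ⊓ C : Subgroup G) * C.relIndex X * Nat.card (N ⊓ C : Subgroup G) := by rw [← card_eq X C]
    _ ≤ Nat.card (X ⊓ C : Subgroup G) * C.relIndex N * Nat.card (N ⊓ C : Subgroup G) :=
        Nat.mul_le_mul_right _ (Nat.mul_le_mul_left _ h)
    _ = Nat.card (N ⊓ C : Subgroup G) * C.relIndex N * Nat.card (X ⊓ C : Subgroup G) := by ring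
    _ = Nat.card (N ⊔ X ⊓ C : Subgroup G) * Nat.card (N ⊓ C : Subgroup G) := h1.symm

/-- `A` is elementary abelian of maximal order in `O` -/
structure Mx (O A : Subgroup G) : Prop where
  le : A ≤ O
  sq : ∀ a ∈ A, a ^ 2 = 1
  max : ∀ B : Subgroup G, B ≤ O → (∀ b ∈ B, b ^ 2 = 1) → Nat.card B ≤ Nat.card A

namespace Mx

variable [Finite G] {O A N : Subgroup G}

theorem exists_mx (O : Subgroup G) : ∃ A : Subgroup G, Mx O A := by
  obtain ⟨A, hA, hm⟩ := Set.exists_max_image {A : Subgroup G | A ≤ O ∧ ∀ a ∈ A, a ^ 2 = 1}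
    (fun A => Nat.card A) (Set.toFinite _) ⟨⊥, bot_le, fun a ha => by rw [mem_bot.1 ha, one_pow]⟩
  exact ⟨A, hA.1, hA.2, fun B hB hB2 => hm B ⟨hB, hB2⟩⟩

theorem comm (hA : Mx O A) : A ≤ centralizer (A : Set G) := comm_of_sq hA.sq

theorem of_card (hA : Mx O A) {B : Subgroup G} (hB : B ≤ O) (hB2 : ∀ b ∈ B, b ^ 2 = 1)
    (h : Nat.card A ≤ Nat.card B) : Mx O B := ⟨hB, hB2, fun C hC hC2 => (hA.max C hC hC2).trans h⟩

theorem conj (hA : Mx O A) {g : G} (h : MulAut.conj g • A ≤ O) : Mx O (MulAut.conj g • A) := by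
  refine hA.of_card h (fun b hb => ?_) (card_conj g A).ge
  rw [mem_conj] at hb
  have h1 := hA.sq _ hb
  have e : b = g * (g⁻¹ * b * g) * g⁻¹ := by group
  rw [e, conj_pow, h1, mul_one, mul_inv_cancel]

theorem le_of_comm (hA : Mx O A) {B : Subgroup G} (hB : B ≤ O) (hB2 : ∀ b ∈ B, b ^ 2 = 1)
    (h : B ≤ centralizer (A : Set G)) : B ≤ A := by
  have h1 := hA.max (A ⊔ B) (sup_le hA.le hB) (sq_sup hA.sq hB2 (comm_symm h))
  have h2 := Subgroup.eq_of_le_of_card_ge (le_sup_left : A ≤ A ⊔ B) h1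
  rw [h2]
  exact le_sup_right

theorem sup_le_O (hA : Mx O A) (hN : N ≤ O) (hN2 : ∀ x ∈ N, x ^ 2 = 1) :
    A ⊓ centralizer (N : Set G) ⊔ N ≤ O ∧ ∀ x ∈ A ⊓ centralizer (N : Set G) ⊔ N, x ^ 2 = 1 :=
  ⟨sup_le (inf_le_left.trans hA.le) hN, sq_sup (fun a ha => hA.sq a ha.1) hN2 inf_le_right⟩

/-- **Thompson** -/
theorem thom (hA : Mx O A) (hN : N ≤ O) (hN2 : ∀ x ∈ N, x ^ 2 = 1) :
    (centralizer (A : Set G)).relIndex N ≤ (centralizer (N : Set G)).relIndex A := by
  obtain ⟨h1, h2⟩ := hA.sup_le_O hN hN2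
  have h3 := hA.max _ h1 h2
  have h4 := card_sup_inf (A := A ⊓ centralizer (N : Set G)) (B := N) inf_le_right
  have h5 : Nat.card (A ⊓ centralizer (N : Set G) ⊓ N : Subgroup G) ≤
      Nat.card (N ⊓ centralizer (A : Set G) : Subgroup G) :=
    Subgroup.card_le_of_le (le_inf inf_le_right ((inf_le_left.trans inf_le_left).trans hA.comm))
  have p1 := pos (A ⊓ centralizer (N : Set G))
  have p2 := pos (N ⊓ centralizer (A : Set G))
  have p3 := Nat.mul_pos p1 p2
  apply Nat.le_of_mul_le_mul_left _ p3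
  calc Nat.card (A ⊓ centralizer (N : Set G) : Subgroup G) * Nat.card (N ⊓ centralizer (A : Set G) : Subgroup G) *
        (centralizer (A : Set G)).relIndex N
      = Nat.card (A ⊓ centralizer (N : Set G) : Subgroup G) * Nat.card N := by
        rw [card_eq N (centralizer (A : Set G))]; ring
    _ = _ := h4.symm
    _ ≤ Nat.card A * Nat.card (N ⊓ centralizer (A : Set G) : Subgroup G) := Nat.mul_le_mul h3 h5
    _ = _ := by rw [card_eq A (centralizer (N : Set G))]; ring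

/-- **Thompson**, equality -/
theorem sup (hA : Mx O A) (hN : N ≤ O) (hN2 : ∀ x ∈ N, x ^ 2 = 1)
    (he : (centralizer (N : Set G)).relIndex A ≤ (centralizer (A : Set G)).relIndex N) :
    Mx O (A ⊓ centralizer (N : Set G) ⊔ N) := by
  obtain ⟨h1, h2⟩ := hA.sup_le_O hN hN2
  refine hA.of_card h1 h2 ?_
  have h4 := card_sup_inf (A := A ⊓ centralizer (N : Set G)) (B := N) inf_le_right
  have h5 : Nat.card (A ⊓ centralizer (N : Set G) ⊓ N : Subgroup G) ≤
      Nat.card (N ⊓ centralizer (A : Set G) : Subgroup G) :=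
    Subgroup.card_le_of_le (le_inf inf_le_right ((inf_le_left.trans inf_le_left).trans hA.comm))
  have p2 := pos (A ⊓ centralizer (N : Set G) ⊓ N)
  apply Nat.le_of_mul_le_mul_right _ p2
  calc Nat.card A * Nat.card (A ⊓ centralizer (N : Set G) ⊓ N : Subgroup G)
      ≤ Nat.card A * Nat.card (N ⊓ centralizer (A : Set G) : Subgroup G) := Nat.mul_le_mul_left _ h5
    _ = Nat.card (A ⊓ centralizer (N : Set G) : Subgroup G) * (Nat.card (N ⊓ centralizer (A : Set G) : Subgroup G) *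
        (centralizer (N : Set G)).relIndex A) := by rw [card_eq A (centralizer (N : Set G))]; ring
    _ ≤ Nat.card (A ⊓ centralizer (N : Set G) : Subgroup G) * (Nat.card (N ⊓ centralizer (A : Set G) : Subgroup G) *
        (centralizer (A : Set G)).relIndex N) := Nat.mul_le_mul_left _ (Nat.mul_le_mul_left _ he)
    _ = Nat.card (A ⊓ centralizer (N : Set G) : Subgroup G) * Nat.card N := by
        rw [← card_eq N (centralizer (A : Set G))]
    _ = _ := h4.symm

end Mx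

namespace Fr

variable [Finite G] {T : Subgroup G} {V : Fin 2 → Subgroup G} {v : Fin 2 → G} (D : Fr T V v)

include D

/-! ### Easy facts -/

theorem T_isPGroup : IsPGroup 2 T := (D.syl 0).2.1

theorem T_le_C (i : Fin 2) : T ≤ CC v i := (D.syl i).1

theorem v_sq' (i : Fin 2) : v i ^ 2 = 1 := D.sqV i _ (D.mem i)

theorem v_sq (i : Fin 2) : v i * v i = 1 := by rw [← pow_two]; exact D.v_sq' i

theorem v_mem_zc (i : Fin 2) : v i ∈ zc T := by
  rw [D.zT]
  rcases Fin.exists_fin_two.1 ⟨i, rfl⟩ with h | h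
  · exact Or.inr (Or.inl (by rw [h]))
  · exact Or.inr (Or.inr (Or.inl (by rw [h])))

theorem Q_le_T (i : Fin 2) : QQ v i ≤ T := o2_le_syl (D.syl i)

theorem v_mem_T (i : Fin 2) : v i ∈ T := zc_le _ (D.v_mem_zc i)

theorem comm_v (i : Fin 2) {t : G} (ht : t ∈ T) : t * v i = v i * t :=
  mem_centralizer_singleton_iff.1 (D.T_le_C i ht)

theorem cen (i : Fin 2) {t : G} (ht : t ∈ T) : t * v i * t⁻¹ = v i := by
  rw [D.comm_v i ht]; group

theorem v_mem_Q (i j : Fin 2) : v j ∈ QQ v i := by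
  apply D.char2 i
  refine ⟨D.T_le_C i (D.v_mem_T j), mem_centralizer_iff.2 fun q hq => ?_⟩
  exact D.comm_v j (D.Q_le_T i hq)

theorem cent_zc_le (i : Fin 2) : centralizer (zc T : Set G) ≤ CC v i :=
  centralizer_le (Set.singleton_subset_iff.2 (D.v_mem_zc i))

theorem CC_inf : CC v 0 ⊓ CC v 1 ≤ centralizer (zc T : Set G) := by
  rintro c ⟨h0', h1'⟩
  have h0 : c * v 0 = v 0 * c := mem_centralizer_singleton_iff.1 h0'
  have h1 : c * v 1 = v 1 * c := mem_centralizer_singleton_iff.1 h1'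
  rw [mem_centralizer_iff]
  intro x hx
  rcases (D.zT x).1 hx with h | h | h | h
  · rw [h]; simp
  · rw [h]; exact h0.symm
  · rw [h]; exact h1.symm
  · rw [h]
    calc v 0 * v 1 * c = v 0 * (c * v 1) := by rw [mul_assoc, h1]
      _ = (v 0 * c) * v 1 := by group
      _ = c * (v 0 * v 1) := by rw [← h0]; group

theorem mem_D {i : Fin 2} {c : G} (h : c ∈ CC v i) (h' : c ∈ CC v (i + 1)) : c ∈ centralizer (zc T : Set G) := by
  apply D.CC_inf
  rcases Fin.exists_fin_two.1 ⟨i, rfl⟩ with e | e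
  · subst e; exact ⟨h, h'⟩
  · subst e; exact ⟨h', h⟩

theorem T_le_D : T ≤ centralizer (zc T : Set G) := le_centralizer_zc T

theorem syl_D : Syl T (centralizer (zc T : Set G)) :=
  ⟨D.T_le_D, D.T_isPGroup, fun R hR hR2 hTR => (D.syl 0).2.2 R (hR.trans (D.cent_zc_le 0)) hR2 hTR⟩

theorem O_le_T : o2 (centralizer (zc T : Set G)) ≤ T := o2_le_syl D.syl_D

theorem Q_le_O (i : Fin 2) : QQ v i ≤ o2 (centralizer (zc T : Set G)) :=
  le_o2 ((D.Q_le_T i).trans D.T_le_D) (o2_isPGroup _) ((D.cent_zc_le i).trans (le_normalizer_o2 _))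

theorem nonloc' {i : Fin 2} {W : Subgroup G} (hW : IsPGroup 2 W) (h : CC v i ≤ normalizer (W : Set G))
    (h' : CC v (i + 1) ≤ normalizer (W : Set G)) : W = ⊥ := by
  rcases Fin.exists_fin_two.1 ⟨i, rfl⟩ with e | e
  · subst e; exact D.nonloc W hW h h'
  · subst e; exact D.nonloc W hW h' h

/-! ### `N_i` -/

theorem v_cent_Q (i j : Fin 2) : v j ∈ centralizer (QQ v i : Set G) :=
  mem_centralizer_iff.2 fun _ hq => D.comm_v j (D.Q_le_T i hq)

theorem N_le (i : Fin 2) {X : Subgroup G} (hX : CC v i ≤ normalizer (X : Set G)) (h : v (i + 1) ∈ X) : NN v i ≤ X :=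
  NH_le h hX

theorem N_le_Q (i : Fin 2) : NN v i ≤ QQ v i := NH_le (D.v_mem_Q i (i + 1)) (le_normalizer_o2 _)

theorem N_le_cent_Q (i : Fin 2) : NN v i ≤ centralizer (QQ v i : Set G) :=
  NH_le (D.v_cent_Q i (i + 1)) (norm_cent (le_normalizer_o2 _))

theorem Q_le_cent_N (i : Fin 2) : QQ v i ≤ centralizer (NN v i : Set G) := comm_symm (D.N_le_cent_Q i)

theorem N_comm (i : Fin 2) : NN v i ≤ centralizer (NN v i : Set G) := (D.N_le_Q i).trans (D.Q_le_cent_N i)

theorem N_le_O (i : Fin 2) : NN v i ≤ o2 (centralizer (zc T : Set G)) := (D.N_le_Q i).trans (D.Q_le_O i)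

theorem N_le_C (i j : Fin 2) : NN v i ≤ CC v j := ((D.N_le_Q i).trans (D.Q_le_T i)).trans (D.T_le_C j)

theorem sq_conj {c : G} {A : Subgroup G} (hA : ∀ a ∈ A, a ^ 2 = 1) : ∀ a ∈ MulAut.conj c • A, a ^ 2 = 1 := by
  intro b hb
  rw [mem_conj] at hb
  have h1 := hA _ hb
  have e : b = c * (c⁻¹ * b * c) * c⁻¹ := by group
  rw [e, conj_pow, h1, mul_one, mul_inv_cancel]

/-- a subgroup generated by conjugates which commute is elementary abelian -/
theorem sq_V {A P : Subgroup G} (hA : ∀ a ∈ A, a ^ 2 = 1)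
    (h : NoFF.Basic.V A P ≤ centralizer (NoFF.Basic.V A P : Set G)) : ∀ a ∈ NoFF.Basic.V A P, a ^ 2 = 1 := by
  let K : Subgroup G :=
    { carrier := {x | x ∈ NoFF.Basic.V A P ∧ x ^ 2 = 1}
      one_mem' := ⟨one_mem _, one_pow _⟩
      mul_mem' := by
        rintro x y ⟨hx, hx'⟩ ⟨hy, hy'⟩
        refine ⟨mul_mem hx hy, ?_⟩
        have h1 : Commute x y := mem_centralizer_iff.1 (h hy) x hx
        rw [h1.mul_pow, hx', hy', one_mul]
      inv_mem' := by
        rintro x ⟨hx, hx'⟩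
        exact ⟨inv_mem hx, by rw [inv_pow, hx', inv_one]⟩ }
  have h1 : NoFF.Basic.V A P ≤ K := V_le fun p hp x hx => ⟨Z_le_V hp hx, sq_conj D hA x hx⟩
  exact fun a ha => (h1 ha).2

theorem N_sq (i : Fin 2) : ∀ x ∈ NN v i, x ^ 2 = 1 := by
  refine sq_V D (fun a ha => ?_) (D.N_comm i)
  obtain ⟨n, rfl⟩ := mem_zpowers_iff.1 ha
  have h : Commute (v (i + 1)) (v (i + 1)) := Commute.refl _
  rw [← zpow_natCast, ← zpow_mul, mul_comm, zpow_mul]
  have h2 : v (i + 1) ^ ((2 : ℕ) : ℤ) = 1 := by rw [zpow_natCast]; exact D.v_sq' (i + 1)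
  rw [h2, one_zpow]

/-- a normal subgroup of `C_i` which centralises `v (i+1)` centralises `N_i` -/
theorem cent_N_of_le {i : Fin 2} {X : Subgroup G} (hn : CC v i ≤ normalizer (X : Set G)) (hX : X ≤ CC v (i + 1)) :
    X ≤ centralizer (NN v i : Set G) := by
  refine comm_symm (NH_le ?_ (norm_cent hn))
  rw [mem_centralizer_iff]
  exact fun x hx => mem_centralizer_singleton_iff.1 (hX hx)

theorem cent_N_le (i : Fin 2) : centralizer (NN v i : Set G) ≤ CC v (i + 1) :=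
  centralizer_le (Set.singleton_subset_iff.2 (mem_NH v i _))

/-- `C_O(N_i) = Q_i` -/
theorem O_inf_le (i : Fin 2) : o2 (centralizer (zc T : Set G)) ⊓ centralizer (NN v i : Set G) ≤ QQ v i := by
  have h1 := GenTool.o2_inf_le (L := CC v i) (N := CC v i ⊓ centralizer (NN v i : Set G))
    (R := centralizer (zc T : Set G)) inf_le_left
    (fun g hg x hx => ⟨(CC v i).mul_mem ((CC v i).mul_mem hg hx.1) ((CC v i).inv_mem hg),
      (mem_normalizer_iff.1 (norm_cent (le_normalizer_NH v i (CC v i)) hg) x).1 hx.2⟩)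
    (fun x hx => D.mem_D hx.1 (D.cent_N_le i hx.2))
  refine le_trans ?_ h1
  exact le_inf inf_le_left (le_inf ((inf_le_left.trans D.O_le_T).trans (D.T_le_C i)) inf_le_right)

/-! ### Generation -/

theorem gen_of {i : Fin 2} {X : Subgroup G} (hX : X ≤ CC v i) (hm : ¬ X ≤ CC v (i + 1)) : CC v i ≤ X ⊔ centralizer (zc T : Set G) := by
  have hji := (ne_add_one i).symm
  have h1 : ∃ R : Subgroup G, IsMinPar T R ∧ R ≤ X ⊔ T ∧ ¬ R ≤ CC v (i + 1) := by
    by_contra hc
    push Not at hc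
    apply hm
    refine le_trans le_sup_left (MinSimple.MinParabolic.le_of_forall (S := T) (X := X ⊔ T) le_sup_right ?_ hc)
    exact ((inf_le_inf_right _ (sup_le hX (D.T_le_C i))).trans (D.nT i)).trans (D.cent_zc_le _)
  obtain ⟨R, hR, hRX, hRm⟩ := h1
  have hRC : R ≤ CC v i := hRX.trans (sup_le hX (D.T_le_C i))
  refine MinSimple.MinParabolic.le_of_forall (D.T_le_C i) ((D.nT i).trans le_sup_right) fun R' hR' hR'C => ?_
  by_cases hR'm : R' ≤ CC v (i + 1)
  · exact fun r hr => mem_sup_right (D.mem_D (hR'C hr) (hR'm hr))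
  · intro r' hr'
    obtain ⟨r, hr, he⟩ := D.same (i + 1) i hji R hR hRC hRm R' hR' hR'C hR'm r' hr'
    have h2 : r⁻¹ * r' ∈ centralizer (zc T : Set G) := by
      apply D.mem_D (i := i) (mul_mem (inv_mem (hRC hr)) (hR'C hr'))
      rw [mem_centralizer_singleton_iff]
      calc r⁻¹ * r' * v (i + 1) = r⁻¹ * (r' * v (i + 1) * r'⁻¹) * r' := by group
        _ = v (i + 1) * (r⁻¹ * r') := by rw [he]; group
    have e : r' = r * (r⁻¹ * r') := by group
    rw [e]
    refine mul_mem ?_ (mem_sup_right h2)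
    exact (hRX.trans (sup_le le_sup_left (D.T_le_D.trans le_sup_right))) hr

theorem exists_move (i : Fin 2) : ∃ R : Subgroup G, IsMinPar T R ∧ R ≤ CC v i ∧ ¬ R ≤ CC v (i + 1) := by
  by_contra hc
  push Not at hc
  have h1 : CC v i ≤ CC v (i + 1) :=
    MinSimple.MinParabolic.le_of_forall (D.T_le_C i) ((D.nT i).trans (D.cent_zc_le _)) hc
  have h2 := D.nonloc' (i := i) (W := QQ v (i + 1)) (o2_isPGroup _) (h1.trans (le_normalizer_o2 _))
    (le_normalizer_o2 _)
  have h3 := D.v_mem_Q (i + 1) i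
  rw [h2, mem_bot] at h3
  exact D.ne i h3

/-- `V (i+1) ≤ N_i` -/
theorem V_le_N (i : Fin 2) : V (i + 1) ≤ NN v i := by
  obtain ⟨R, hR, hRC, hRm⟩ := D.exists_move i
  have hji := (ne_add_one i).symm
  have h1 : NH v i R ≤ V (i + 1) := NH_le (D.mem _) (D.uni (i + 1) i hji R hR hRC hRm (i + 1))
  refine (D.irr (i + 1) i hji R hR hRC hRm (NH v i R) h1 (le_normalizer_NH v i R) ?_).trans ?_
  · intro h
    have h2 := mem_NH v i R
    rw [h, mem_bot] at h2
    exact D.ne _ h2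
  · exact NH_le (mem_NH v i _) (hRC.trans (le_normalizer_NH v i _))

/-! ### `W_i`, `U_i` -/

theorem cent_V_le (i : Fin 2) : centralizer (V i : Set G) ≤ CC v i :=
  centralizer_le (Set.singleton_subset_iff.2 (D.mem i))

theorem U_le_N (i : Fin 2) : UU V v i ≤ NN v i :=
  NH_le (mem_NH v i _) ((D.cent_V_le i).trans (le_normalizer_NH v i _))

theorem U_sq (i : Fin 2) : ∀ x ∈ UU V v i, x ^ 2 = 1 := fun x hx => D.N_sq i x (D.U_le_N i hx)

theorem norm_U (i : Fin 2) : normalizer (V i : Set G) ⊓ CC v (i + 1) ≤ normalizer (UU V v i : Set G) := by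
  have key : ∀ g ∈ normalizer (V i : Set G) ⊓ CC v (i + 1), MulAut.conj g • UU V v i ≤ UU V v i := by
    rintro g ⟨hg, hgv⟩
    rw [Subgroup.pointwise_smul_subset_iff]
    refine V_le fun k hk => ?_
    rw [← Subgroup.pointwise_smul_subset_iff, conj_conj]
    have hgk : g * k * g⁻¹ ∈ centralizer (V i : Set G) :=
      (mem_normalizer_iff.1 (norm_cent (A := normalizer (V i : Set G)) le_rfl hg) k).1 hk
    have hgz : MulAut.conj g • zpowers (v (i + 1)) = zpowers (v (i + 1)) := by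
      apply conj_eq_of_mem
      apply centralizer_le_normalizer
      rw [mem_centralizer_iff]
      rintro _ ⟨n, rfl⟩
      have h1 : Commute g (v (i + 1)) := mem_centralizer_singleton_iff.1 hgv
      exact (h1.zpow_right n).eq.symm
    have e : g * k = (g * k * g⁻¹) * g := by group
    rw [e, ← conj_conj, hgz]
    exact Z_le_V hgk
  refine le_norm_of fun g hg x hx => ?_
  apply key g hg
  rw [mem_conj]
  have e : g⁻¹ * (g * x * g⁻¹) * g = x := by group
  rwa [e]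

theorem H_le_C (i : Fin 2) : HH T V i ≤ CC v i := sup_le (D.cent_V_le i) (D.T_le_C i)

theorem T_le_H (i : Fin 2) : T ≤ HH T V i := le_sup_right

theorem H_le_norm_U (i : Fin 2) : HH T V i ≤ normalizer (UU V v i : Set G) :=
  sup_le (le_normalizer_NH v i _) ((le_inf (D.nV i) (D.T_le_C _)).trans (D.norm_U i))

theorem NH_H (i : Fin 2) : NH v i (HH T V i) = UU V v i := by
  apply le_antisymm
  · exact NH_le (mem_NH v i _) (D.H_le_norm_U i)
  · exact NH_le (mem_NH v i _) (le_sup_left.trans (le_normalizer_NH v i _))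

theorem W_le_Q (i : Fin 2) : WW V v i ≤ QQ v i := V_le fun c hc => by
  have e : MulAut.conj c • QQ v i = QQ v i := conj_eq_of_mem (le_normalizer_o2 (CC v i) hc)
  rw [← e]
  exact conj_le_iff.2 (D.VQ i)

theorem W_comm (i : Fin 2) : WW V v i ≤ centralizer (WW V v i : Set G) := by
  refine V_le fun c hc => comm_symm (V_le fun d hd => ?_)
  have h1 := D.VC i (c⁻¹ * d) (mul_mem (inv_mem hc) hd)
  have h2 : MulAut.conj c • (MulAut.conj (c⁻¹ * d) • V i) ≤ MulAut.conj c • centralizer (V i : Set G) :=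
    conj_le_iff.2 h1
  rw [conj_conj, mul_inv_cancel_left, NoFF.ThmJFam.conj_cent] at h2
  exact h2

theorem W_sq (i : Fin 2) : ∀ x ∈ WW V v i, x ^ 2 = 1 := sq_V D (D.sqV i) (D.W_comm i)

end Fr

end Cfsg.Agent.Omega.KL.TwoS

end

section


/-!
# THEOREM KL: the plug over `TC.Fr` (CARD #18791 `[A]`: `V i ≤ N_i`; helper909 #21588 (G), helper374 #21730)

`D : TC.Fr T V P v`, `C_i = C_G(v i)` acts on `M := N_i / ⟨v i⟩`; `x := v (i+1)`, `y := V i / ⟨v i⟩`.

* `nT_le` : `N_{C_i}(T)` normalises `V i`;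
* `minPar_map` : minimal parabolics of a subgroup;
* **`pre`** : `V i ≤ N_i`, every `T`-minimal `R ≤ C_i` which moves `v (i+1)` normalises `V i`,
  `A ≤ O₂(C_i ∩ C_{i+1}) ∩ O₂(N_{C_i}(V i))` elementary abelian, exact on `N_i`, `[N_i, A] ≠ 1`: the input of THEOREM KL;
* **`false_of`** : contradiction from THEOREM KL.
-/

set_option autoImplicit false
set_option linter.unusedSectionVars false

namespace Cfsg.Agent.Omega.KL.Plug

open Subgroup Cfsg Cfsg.Agent.ZN Cfsg.Agent.Omega.MinPar Cfsg.Agent.Omega.TC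
open Cfsg.Agent.Omega.OM.KTwo (CC QQ WU NU EU ne_add_one eq_add_one add_one_add_one le_normalizer_V le_V)
open Cfsg.Agent.ClassTwoFusion.Quad Cfsg.Agent.Omega.ML.MinFrame
open Cfsg.Agent.MinSimple.MinParabolic (IsMinPar)
open Cfsg.Agent.Omega.NoFF.Basic (conj_conj mem_conj conj_le_iff comm_symm comm_mono Z_le_V V_le)
open Cfsg.Agent.Omega.NOThreeL.Pair (conj_eq_of_mem conj_le_normalizer)
open Cfsg.Agent.ZN.ChoiceSit (Syl syl_conj syl_not_dvd)
open Cfsg.Agent.MinSimple.VModule (o2_isPGroup)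
open scoped Pointwise

universe u

variable {G : Type u} [Group G]

/-! ### Tools -/

/-- minimal parabolics of a subgroup -/
theorem minPar_map {C T : Subgroup G} (hTC : T ≤ C) {P : Subgroup C} (hP : IsMinPar (T.subgroupOf C) P) :
    IsMinPar T (P.map C.subtype) := by
  have hTP : T ≤ P.map C.subtype := fun t ht => ⟨⟨t, hTC ht⟩, hP.le (mem_subgroupOf.2 ht), rfl⟩
  refine ⟨hTP, fun h => hP.not_le fun p hp => ?_, ?_⟩
  · have h1 := h (mem_map_of_mem C.subtype hp)
    rw [mem_normalizer_iff] at h1 ⊢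
    exact fun t => h1 t
  · obtain ⟨M, hMP, hM⟩ := hP.exists_max
    refine ⟨M.map C.subtype, (map_lt_map_iff_of_injective C.subtype_injective).2 hMP, fun K hTK hKP => ?_⟩
    have hKC : K ≤ C := hKP.le.trans (map_subtype_le P)
    have e : (K.subgroupOf C).map C.subtype = K := by rw [subgroupOf_map_subtype, inf_eq_left.2 hKC]
    rw [← e] at hKP ⊢
    refine map_mono (hM _ ?_ ((map_lt_map_iff_of_injective C.subtype_injective).1 hKP))
    exact fun t ht => mem_subgroupOf.2 (hTK (mem_subgroupOf.1 ht))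

/-- `O₂` of a subgroup of `C` -/
theorem sub_o2 [Finite G] {C S B : Subgroup G} {S' : Subgroup C} (hS : ∀ c : C, c ∈ S' ↔ (c : G) ∈ S) (hB : B ≤ o2 S) :
    B.subgroupOf C ≤ o2 S' := by
  have h1 : B.subgroupOf C ≤ (o2 S).subgroupOf C := fun b hb => mem_subgroupOf.2 (hB (mem_subgroupOf.1 hb))
  refine h1.trans (le_o2 (fun c hc => (hS c).2 (o2_le _ (mem_subgroupOf.1 hc)))
    ((o2_isPGroup S).comap_of_injective C.subtype C.subtype_injective) fun s hs => ?_)
  have h2 := le_normalizer_o2 S ((hS s).1 hs)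
  rw [mem_normalizer_iff] at h2 ⊢
  exact fun t => h2 t

/-! ### `N_{C_i}(T)` normalises `V i` -/

section fr

variable [Finite G] {T : Subgroup G} {V P : Fin 2 → Subgroup G} {v : Fin 2 → G} (D : Fr T V P v)

include D

theorem nT_le (i : Fin 2) : CC v i ⊓ normalizer (T : Set G) ≤ normalizer (V i : Set G) := by
  have hij := ne_add_one i
  -- `V i ^ n ≤ V i`
  have key : ∀ n ∈ CC v i ⊓ normalizer (T : Set G), ∀ x ∈ V i, n * x * n⁻¹ ∈ V i := by
    rintro n hn x hx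
    have hnD := D.norm_T_le i hn
    have hnT : MulAut.conj n • T = T := conj_eq_of_mem hn.2
    have hni : n * v i = v i * n := mem_centralizer_singleton_iff.1 hn.1
    have hnj : n * v (i + 1) = v (i + 1) * n := mem_centralizer_singleton_iff.1 (D.cent_zc_le (i + 1) hnD)
    by_cases hx1 : x = 1
    · rw [hx1, mul_one, mul_inv_cancel]; exact one_mem _
    obtain ⟨l, hl, -, hlx⟩ := D.tr hij hx hx1
    -- `R = (P i) ^ n`
    set R : Subgroup G := MulAut.conj n • P i with hR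
    have hRp : IsMinPar T R := by
      have h1 := NOThree.NoOver.isMinPar_cj n (D.par i)
      change IsMinPar (MulAut.conj n • T) (MulAut.conj n • P i) at h1
      rwa [hnT] at h1
    have hRC : R ≤ CC v (i + 1) := by
      intro r hr
      rw [mem_conj] at hr
      have h1 : n⁻¹ * r * n * v (i + 1) = v (i + 1) * (n⁻¹ * r * n) :=
        mem_centralizer_singleton_iff.1 (D.PC i (i + 1) hij hr)
      rw [mem_centralizer_singleton_iff]
      have e : n⁻¹ * (v (i + 1) * n) = v (i + 1) := by rw [← hnj]; group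
      calc r * v (i + 1) = n * ((n⁻¹ * r * n) * (n⁻¹ * (v (i + 1) * n))) * n⁻¹ := by group
        _ = (n * v (i + 1)) * (n⁻¹ * r) := by rw [e, h1]; group
        _ = v (i + 1) * r := by rw [hnj]; group
    have hRm : ¬ R ≤ CC v i := by
      intro h
      apply D.mv i
      intro p hp
      have h1 : n * p * n⁻¹ ∈ R := by
        rw [hR, mem_conj]
        have e : n⁻¹ * (n * p * n⁻¹) * n = p := by group
        rwa [e]
      have h2 : n * p * n⁻¹ * v i = v i * (n * p * n⁻¹) := mem_centralizer_singleton_iff.1 (h h1)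
      have hni' : n⁻¹ * v i = v i * n⁻¹ := by
        calc n⁻¹ * v i = n⁻¹ * (v i * n) * n⁻¹ := by group
          _ = v i * n⁻¹ := by rw [← hni]; group
      rw [mem_centralizer_singleton_iff]
      calc p * v i = n⁻¹ * (n * p * n⁻¹ * (n * v i)) := by group
        _ = n⁻¹ * ((n * p * n⁻¹ * v i) * n) := by rw [hni]; group
        _ = n⁻¹ * v i * (n * p) := by rw [h2]; group
        _ = v i * p := by rw [hni']; group
    have hRN := D.uni i (i + 1) hij R hRp hRC hRm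
    -- `n x n⁻¹ = (n l n⁻¹) v i (n l n⁻¹)⁻¹`
    have h1 : n * l * n⁻¹ ∈ R := by
      rw [hR, mem_conj]
      have e : n⁻¹ * (n * l * n⁻¹) * n = l := by group
      rwa [e]
    have h2 := (mem_normalizer_iff.1 (hRN h1) _).1 (D.mem i)
    have e : n * l * n⁻¹ * v i * (n * l * n⁻¹)⁻¹ = n * (l * (n⁻¹ * (v i * n)) * l⁻¹) * n⁻¹ := by group
    have e2 : n⁻¹ * (v i * n) = v i := by rw [← hni]; group
    rwa [e, e2, hlx] at h2
  intro n hn
  rw [mem_normalizer_iff]
  intro x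
  refine ⟨key n hn x, fun h => ?_⟩
  have h1 := key n⁻¹ (inv_mem hn) _ h
  have e : n⁻¹ * (n * x * n⁻¹) * n⁻¹⁻¹ = x := by group
  rwa [e] at h1

/-- **the input of THEOREM KL** -/
theorem pre {i : Fin 2} (hK : IsKGroup (CC v i)) (hV : V i ≤ NU V v i)
    (hU : ∀ R : Subgroup G, IsMinPar T R → R ≤ CC v i → ¬ R ≤ CC v (i + 1) → R ≤ normalizer (V i : Set G))
    {A : Subgroup G} (hA2 : ∀ a ∈ A, a ^ 2 = 1) (hAD : A ≤ o2 (centralizer (zc T : Set G)))
    (hAV : A ≤ o2 (normalizer (V i : Set G) ⊓ CC v i)) (hEx : OM.PG.Int.Ex A (NU V v i))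
    (hAn : ¬ A ≤ centralizer (NU V v i : Set G)) :
    ∃ (M : Type u) (_ : Group M) (_ : Finite M) (_ : MulDistribMulAction (CC v i) M) (W : Subgroup M) (x y : M),
      Quo.Pre (T.subgroupOf (CC v i)) (A.subgroupOf (CC v i)) W x y := by
  have hij := ne_add_one i
  have hji := hij.symm
  set C : Subgroup G := CC v i with hC
  set N : Subgroup G := NU V v i with hN
  set Z : Subgroup G := zpowers (v i) with hZ
  have hCN : C ≤ normalizer (N : Set G) := D.C_le_N_N i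
  have hCv : ∀ c ∈ C, c * v i = v i * c := fun c hc => mem_centralizer_singleton_iff.1 hc
  have hCZc : ∀ c ∈ C, ∀ z ∈ Z, c * z * c⁻¹ = z := by
    intro c hc z hz
    obtain ⟨n, rfl⟩ := mem_zpowers_iff.1 hz
    have h1 : Commute c (v i) := hCv c hc
    rw [(h1.zpow_right n).eq, mul_inv_cancel_right]
  have hCZ : C ≤ normalizer (Z : Set G) := by
    intro c hc
    rw [mem_normalizer_iff]
    intro z
    refine ⟨fun hz => by rw [hCZc c hc z hz]; exact hz, fun hz => ?_⟩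
    have h1 := hCZc c⁻¹ (inv_mem hc) _ hz
    have e : c⁻¹ * (c * z * c⁻¹) * c⁻¹⁻¹ = z := by group
    rw [e] at h1
    rw [h1]
    exact hz
  have hNC : N ≤ C := D.N_le_C i i
  have hZmem : ∀ z ∈ Z, z = 1 ∨ z = v i := by
    intro z hz
    obtain ⟨n, rfl⟩ := mem_zpowers_iff.1 hz
    rcases Int.even_or_odd' n with ⟨k, rfl | rfl⟩
    · left; rw [zpow_mul, zpow_two, D.v_sq, one_zpow]
    · right; rw [zpow_add, zpow_mul, zpow_two, D.v_sq, one_zpow, one_mul, zpow_one]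
  have hvZ : v (i + 1) ∉ Z := by
    intro h
    rcases hZmem _ h with h1 | h1
    · exact D.ne _ h1
    · exact Phi.v_ne D hji h1
  have hnor : (Z.subgroupOf N).Normal := normal_subgroupOf_of_le_normalizer (hNC.trans hCZ)
  let _ := ML.Final.conjAct hCN hCZ
  let mk : N →* N ⧸ Z.subgroupOf N := QuotientGroup.mk' (Z.subgroupOf N)
  have hmk : Function.Surjective mk := QuotientGroup.mk'_surjective _
  have hmem : ∀ (g : C) (n : N), (g : G) * n * (g : G)⁻¹ ∈ N := fun g n =>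
    (mem_normalizer_iff.1 (hCN g.2) n).1 n.2
  have hsm : ∀ (g : C) (n : N), g • mk n = mk ⟨(g : G) * n * (g : G)⁻¹, hmem g n⟩ := fun _ _ => rfl
  have hone : ∀ a b : N, mk a = mk b ↔ (a : G) * (b : G)⁻¹ ∈ Z := by
    intro a b
    rw [← mul_inv_eq_one, ← map_inv, ← map_mul, ← MonoidHom.mem_ker, QuotientGroup.ker_mk']
    exact Iff.rfl
  have hfix : ∀ (g : C) (n : N), g • mk n = mk n ↔ (g : G) * n * (g : G)⁻¹ * (n : G)⁻¹ ∈ Z := by
    intro g n
    rw [hsm, hone]
  obtain ⟨p, hp, hp1, hpv⟩ := D.exists_ne_v i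
  set x : N ⧸ Z.subgroupOf N := mk ⟨v (i + 1), D.mem_N i⟩ with hx
  set y : N ⧸ Z.subgroupOf N := mk ⟨p, hV hp⟩ with hy
  set W : Subgroup (N ⧸ Z.subgroupOf N) := ((V (i + 1)).subgroupOf N).map mk with hW
  have hAT : A ≤ T := hAD.trans D.o2D_le_T
  have hAC : A ≤ C := hAT.trans (D.T_le_C i)
  -- `⟨v (i+1) ^ C⟩ = N`
  have hgenG : ∀ U : Subgroup G, v (i + 1) ∈ U → C ≤ normalizer (U : Set G) → N ≤ U := by
    intro U h1 h2
    rw [hN, ← D.NH_CC i]
    exact NH_le h1 h2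
  -- the kernel
  have hker : ∀ c : C, (∀ m : N ⧸ Z.subgroupOf N, c • m = m) ↔ (c : G) ∈ centralizer (N : Set G) := by
    intro c
    constructor
    · intro h
      have h1 := D.ker_le (i := i) (H := C) (Y := Z) (D.T_le_C i) le_rfl hCZ hvZ c.2 (by
        rw [D.NH_CC]
        intro n hn
        exact (hfix c ⟨n, hn⟩).1 (h _))
      rwa [D.NH_CC] at h1
    · intro h m
      obtain ⟨n, rfl⟩ := hmk m
      rw [hfix, ← mem_centralizer_iff.1 h n n.2, mul_inv_cancel_right, mul_inv_cancel]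
      exact one_mem _
  -- the stabilisers
  have hsx : ∀ c : C, c ∈ MulAction.stabilizer C x ↔ (c : G) ∈ centralizer (zc T : Set G) := by
    intro c
    rw [MulAction.mem_stabilizer_iff, hfix]
    constructor
    · exact fun h => D.stab_le (D.T_le_C i) le_rfl hCZ hvZ c c.2 h
    · intro h
      have h1 : (c : G) * v (i + 1) = v (i + 1) * c := mem_centralizer_singleton_iff.1 (D.cent_zc_le (i + 1) h)
      change (c : G) * v (i + 1) * (c : G)⁻¹ * (v (i + 1))⁻¹ ∈ Z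
      rw [h1, mul_inv_cancel_right, mul_inv_cancel]
      exact one_mem _
  have hsy : ∀ c : C, c ∈ MulAction.stabilizer C y ↔ (c : G) ∈ normalizer (V i : Set G) ⊓ C := by
    intro c
    constructor
    · intro hc
      refine mem_inf.2 ⟨?_, c.2⟩
      have key : ∀ d : C, d ∈ MulAction.stabilizer C y → ∀ w ∈ V i, (d : G) * w * (d : G)⁻¹ ∈ V i := by
        intro d hd w hw
        have h1 : (d : G) * p * (d : G)⁻¹ * p⁻¹ ∈ Z := (hfix d _).1 hd
        have h2 : (d : G) * p * (d : G)⁻¹ ∈ V i := by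
          have h3 : (d : G) * p * (d : G)⁻¹ * p⁻¹ ∈ V i := by
            rcases hZmem _ h1 with h4 | h4
            · rw [h4]; exact one_mem _
            · rw [h4]; exact D.mem i
          have e : (d : G) * p * (d : G)⁻¹ = ((d : G) * p * (d : G)⁻¹ * p⁻¹) * p := by group
          rw [e]
          exact mul_mem h3 hp
        have h3 : (d : G) * v i * (d : G)⁻¹ = v i := by rw [hCv d d.2, mul_inv_cancel_right]
        by_cases hw1 : w = 1
        · rw [hw1, mul_one, mul_inv_cancel]; exact one_mem _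
        rcases D.eq_of_V (D.mem i) (D.ne i) hp hp1 (Ne.symm hpv) hw hw1 with h | h | h
        · rw [h, h3]; exact D.mem i
        · rw [h]; exact h2
        · have e : (d : G) * w * (d : G)⁻¹ = ((d : G) * v i * (d : G)⁻¹) * ((d : G) * p * (d : G)⁻¹) := by
            rw [h]; group
          rw [e, h3]
          exact mul_mem (D.mem i) h2
      rw [mem_normalizer_iff]
      intro w
      refine ⟨key c hc w, fun hw => ?_⟩
      have h1 := key c⁻¹ (inv_mem hc) _ hw
      have e : ((c⁻¹ : C) : G) * ((c : G) * w * (c : G)⁻¹) * ((c⁻¹ : C) : G)⁻¹ = w := by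
        push_cast; group
      rwa [e] at h1
    · rintro ⟨hc, -⟩
      rw [MulAction.mem_stabilizer_iff, hfix]
      change (c : G) * p * (c : G)⁻¹ * p⁻¹ ∈ Z
      have h1 : (c : G) * p * (c : G)⁻¹ ∈ V i := (mem_normalizer_iff.1 hc p).1 hp
      have h2 : (c : G) * p * (c : G)⁻¹ ≠ 1 := fun h => hp1 (conj_eq_one_iff.1 h)
      rcases D.eq_of_V (D.mem i) (D.ne i) hp hp1 (Ne.symm hpv) h1 h2 with h | h | h
      · exfalso
        apply hpv
        have h3 : (c : G) * v i * (c : G)⁻¹ = v i := by rw [hCv c c.2, mul_inv_cancel_right]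
        rw [← h3] at h
        exact mul_left_cancel (mul_right_cancel h)
      · rw [h, mul_inv_cancel]; exact one_mem _
      · rw [h, mul_inv_cancel_right]; exact mem_zpowers _
  -- `N_C(T)`
  have hnT : ∀ g ∈ normalizer (T.subgroupOf C : Set C), (g : G) ∈ C ⊓ normalizer (T : Set G) := by
    intro g hg
    refine mem_inf.2 ⟨g.2, ?_⟩
    rw [mem_normalizer_iff]
    intro t
    constructor
    · intro ht
      exact (mem_normalizer_iff.1 hg ⟨t, D.T_le_C i ht⟩).1 ht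
    · intro ht
      have h1 : (g : G)⁻¹ * ((g : G) * t * (g : G)⁻¹) * (g : G)⁻¹⁻¹ ∈ T :=
        (mem_normalizer_iff.1 (inv_mem hg) ⟨(g : G) * t * (g : G)⁻¹, D.T_le_C i ht⟩).1 ht
      have e : (g : G)⁻¹ * ((g : G) * t * (g : G)⁻¹) * (g : G)⁻¹⁻¹ = t := by group
      rwa [e] at h1
  -- the index of the fixed space
  have hcvle : (centralizer (A : Set G)).subgroupOf N ≤ (cv (N ⧸ Z.subgroupOf N) (A.subgroupOf C : Set C)).comap mk := by
    intro n hn a ha
    refine (hfix a n).2 ?_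
    have h1 := mem_centralizer_iff.1 (mem_subgroupOf.1 hn) a (mem_subgroupOf.1 ha)
    rw [h1, mul_inv_cancel_right, mul_inv_cancel]
    exact one_mem _
  have hfxr : fxr C (⊤ : Subgroup (N ⧸ Z.subgroupOf N)) = (centralizer (N : Set G)).subgroupOf C := by
    ext c
    rw [mem_subgroupOf, ← hker]
    exact ⟨fun h m => h m (mem_top m), fun h m _ => h m⟩
  have hle : (cv (N ⧸ Z.subgroupOf N) (A.subgroupOf C : Set C)).index ≤
      (fxr C (⊤ : Subgroup (N ⧸ Z.subgroupOf N))).relIndex (A.subgroupOf C) := by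
    rw [hfxr, relIndex_subgroupOf hAC, ← index_comap_of_surjective _ hmk]
    refine (index_antitone hcvle).trans ?_
    exact hEx.ge
  have huni : ∀ R : Subgroup C, IsMinPar (T.subgroupOf C) R → (∃ r ∈ R, r • x ≠ x) →
      (∀ r ∈ R, ∀ w ∈ W, r • w ∈ W) ∧ ∀ r ∈ R, r • y = y := by
    intro R hR hmv
    have hR' := minPar_map (D.T_le_C i) hR
    have hRC : R.map C.subtype ≤ C := map_subtype_le R
    have hRm : ¬ R.map C.subtype ≤ CC v (i + 1) := by
      intro h
      obtain ⟨r, hr, hrx⟩ := hmv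
      apply hrx
      have h1 : (r : G) * v (i + 1) = v (i + 1) * r := mem_centralizer_singleton_iff.1 (h (mem_map_of_mem C.subtype hr))
      rw [hfix]
      change (r : G) * v (i + 1) * (r : G)⁻¹ * (v (i + 1))⁻¹ ∈ Z
      rw [h1, mul_inv_cancel_right, mul_inv_cancel]
      exact one_mem _
    have h1 := D.uni (i + 1) i hji _ hR' hRC hRm
    have h2 := hU _ hR' hRC hRm
    refine ⟨?_, ?_⟩
    · rintro r hr _ ⟨w, hw, rfl⟩
      rw [hsm]
      refine ⟨_, ?_, rfl⟩
      exact mem_subgroupOf.2 ((mem_normalizer_iff.1 (h1 (mem_map_of_mem C.subtype hr)) _).1 (mem_subgroupOf.1 hw))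
    · intro r hr
      exact MulAction.mem_stabilizer_iff.1 ((hsy r).2 (mem_inf.2 ⟨h2 (mem_map_of_mem C.subtype hr), r.2⟩))
  refine ⟨N ⧸ Z.subgroupOf N, inferInstance, inferInstance, inferInstance, W, x, y, ?_⟩
  refine Quo.Pre.mk ?_ ?_ ?_ ?_ ?_ ?_ ?_ ?_ ?_ ?_ ?_ huni ?_ ?_ ?_ ?_ hle hK
  · intro m
    obtain ⟨n, rfl⟩ := hmk m
    rw [← map_mul, ← map_one mk, hone]
    have h1 : (n : G) * n = 1 := by rw [← pow_two]; exact D.N_sq i n n.2
    simp [h1]
  · -- generation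
    set U : Subgroup G := ((orb (⊤ : Subgroup C) x).comap mk).map N.subtype with hUd
    have hUmem : ∀ a : N, (a : G) ∈ U ↔ mk a ∈ orb (⊤ : Subgroup C) x := by
      intro a
      constructor
      · rintro ⟨b, hb, hba⟩
        rw [← (Subtype.ext hba : b = a)]
        exact hb
      · exact fun ha => ⟨a, ha, rfl⟩
    have h1 : N ≤ U := by
      refine hgenG U ((hUmem ⟨v (i + 1), D.mem_N i⟩).2 (mem_orb_self _ x)) ?_
      have key : ∀ g ∈ C, ∀ a ∈ U, g * a * g⁻¹ ∈ U := by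
        rintro g hg a ⟨b, hb, rfl⟩
        have h2 := smul_mem_orb (g := (⟨g, hg⟩ : C)) (mem_top _) hb
        rw [hsm ⟨g, hg⟩ b] at h2
        exact (hUmem ⟨_, hmem ⟨g, hg⟩ b⟩).2 h2
      intro g hg
      rw [mem_normalizer_iff]
      intro a
      refine ⟨key g hg a, fun ha => ?_⟩
      have h2 := key g⁻¹ (inv_mem hg) _ ha
      have e : g⁻¹ * (g * a * g⁻¹) * g⁻¹⁻¹ = a := by group
      rwa [e] at h2
    rw [eq_top_iff]
    intro m _
    obtain ⟨n, rfl⟩ := hmk m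
    exact (hUmem n).1 (h1 n.2)
  · exact D.T_isPGroup.comap_of_injective C.subtype C.subtype_injective
  · exact syl_not_dvd (D.syl i)
  · intro h
    rw [hx, ← map_one mk, hone] at h
    exact hvZ (by simpa using h)
  · intro h
    rw [hy, ← map_one mk, hone] at h
    rcases hZmem p (by simpa using h) with h1 | h1
    · exact hp1 h1
    · exact hpv h1
  · intro h
    rw [hx, hy, hone] at h
    apply Phi.v_notMem D hij
    have e : v (i + 1) = (v (i + 1) * p⁻¹) * p := by group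
    rw [e]
    refine mul_mem ?_ hp
    rcases hZmem _ h with h1 | h1
    · change v (i + 1) * p⁻¹ = 1 at h1
      rw [h1]; exact one_mem _
    · change v (i + 1) * p⁻¹ = v i at h1
      rw [h1]; exact D.mem i
  · intro g hg
    exact MulAction.mem_stabilizer_iff.1 ((hsx g).2 (D.norm_T_le i (hnT g hg)))
  · intro g hg
    exact MulAction.mem_stabilizer_iff.1 ((hsy g).2 (mem_inf.2 ⟨nT_le D i (hnT g hg), g.2⟩))
  · -- `|W| = 4`
    have h1 : ∀ a ∈ (V (i + 1)).subgroupOf N, mk a = 1 → a = 1 := by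
      intro a ha h2
      rw [← map_one mk, hone] at h2
      have h3 : (a : G) ∈ Z := by simpa using h2
      rcases hZmem _ h3 with h4 | h4
      · exact Subtype.ext h4
      · exfalso
        apply Phi.v_notMem D hji
        rw [← h4]
        exact mem_subgroupOf.1 ha
    have h2 : Nat.card ((V (i + 1)).subgroupOf N) = 4 := by
      rw [← D.four (i + 1)]
      exact Nat.card_congr (subgroupOfEquivOfLe (D.V_le_N i)).toEquiv
    rw [← h2]
    have hinj : Function.Injective (mk.subgroupMap ((V (i + 1)).subgroupOf N)) := by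
      rw [injective_iff_map_eq_one]
      rintro ⟨a, ha⟩ h3
      exact Subtype.ext (h1 a ha (congrArg Subtype.val h3))
    exact (Nat.card_congr (Equiv.ofBijective _ ⟨hinj, mk.subgroupMap_surjective _⟩)).symm
  · exact ⟨⟨v (i + 1), D.mem_N i⟩, mem_subgroupOf.2 (D.mem (i + 1)), rfl⟩
  · intro a ha
    have h1 := hA2 a (mem_subgroupOf.1 ha)
    rw [← pow_two]
    exact Subtype.ext h1
  · exact sub_o2 hsx hAD
  · exact sub_o2 hsy hAV
  · by_contra hcon
    push Not at hcon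
    apply hAn
    intro a ha
    exact (hker ⟨a, hAC ha⟩).1 fun m => hcon ⟨a, hAC ha⟩ (mem_subgroupOf.2 ha) m

/-- **THEOREM KL kills `V i ≤ N_i` as soon as there is an exact group in `O₂(D) ∩ O₂(N_{C_i}(V i))`.** -/
theorem false_of (hML : ML.Final.MLK.{u, u}) (hKL : Quo.NoInp.{u, u}) {i : Fin 2} (hK : IsKGroup (CC v i))
    (hV : V i ≤ NU V v i)
    (hU : ∀ R : Subgroup G, IsMinPar T R → R ≤ CC v i → ¬ R ≤ CC v (i + 1) → R ≤ normalizer (V i : Set G))
    {A : Subgroup G} (hA2 : ∀ a ∈ A, a ^ 2 = 1) (hAD : A ≤ o2 (centralizer (zc T : Set G)))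
    (hAV : A ≤ o2 (normalizer (V i : Set G) ⊓ CC v i)) (hEx : OM.PG.Int.Ex A (NU V v i))
    (hAn : ¬ A ≤ centralizer (NU V v i : Set G)) : False := by
  obtain ⟨M, _, _, _, W, x, y, h⟩ := pre D hK hV hU hA2 hAD hAV hEx hAn
  exact h.false hML hKL

end fr

end Cfsg.Agent.Omega.KL.Plug

end
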