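import Cfsg.Agent.Mrg.Omega.OM.KTwo.LemX
import Mathlib
import Cfsg.Agent.Mrg.Omega.OM.KTwo.OneSymp

section


/-!
# CARD #18791, [D] (helper918 #19487, helper791 #20268): a critical pair at distance `≥ 3` with `|[N_a, N_b]| = 2`

Inputs as hypotheses: `TCp` (LEMMA TC over `Fr`), `Sec0` (section 0 over `Fr`), `hz` : `v 0 * v 1` is not conjugate
to a `v i`.

* `Fr.swap`, `Fr.N_congr` : `N` of a vertex depends only on its element;
* `Fr.pt` : vertices with a common neighbour (as elements) commute if the critical distance is `≥ 3`;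
* `Fr.crit2` : LEMMA P, critical pair with representatives;
* `Fr.W_le`, `Fr.W_le_last` : (3.4);
* `Fr.thmD` : **THEOREM D**.
-/

set_option autoImplicit false
set_option linter.unusedSectionVars false

namespace Cfsg.Agent.Omega.TC

open Subgroup Cfsg Cfsg.Agent.ZN Cfsg.Agent.Omega.MinPar
open Cfsg.Agent.Omega.OM.KTwo (CC QQ WU NU EU FF ne_add_one eq_add_one add_one_add_one le_normalizer_V le_V
  le_o2_of_commutator)
open Cfsg.Agent.Omega.NoFF.Basic (conj_conj mem_conj conj_le_iff conj_le_centralizer comm_symm comm_mono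
  Z_le_V V_le conj_V_mul)
open Cfsg.Agent.Omega.NOThreeL.Pair (conj_eq_of_mem)
open Cfsg.Agent.Omega.NO3L.LemP (Near Same Adj Comm vx vx_eq vx_same vx_mono vx_mk conj_comm_iff)
open Cfsg.Agent.ZN.ChoiceSit (Syl exists_syl syl_conj o2_le_syl)
open Cfsg.Agent.MinSimple.VModule (mem_zc zc_le normalizer_le_normalizer_zc le_normalizer_o2 le_o2 o2_le
  o2_isPGroup)
open scoped Pointwise

universe u

variable {G : Type u} [Group G]

/-- **LEMMA TC** over `Fr`, as a hypothesis -/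
def TCp (T : Subgroup G) (V : Fin 2 → Subgroup G) (v : Fin 2 → G) : Prop :=
  ∀ (i : Fin 2) (t b : G), t ∈ o2 (centralizer (zc T : Set G)) →
    (∀ n ∈ NU V v i, t * n * t⁻¹ = n ∨ t * n * t⁻¹ = n * b) → ¬ (∀ n ∈ NU V v i, t * n * t⁻¹ = n) →
    b = v (i + 1) ∨ (v i ∈ NU V v i ∧ b = v (i + 1) * v i)

/-- **section 0** over `Fr`, as a hypothesis -/
def Sec0 (T : Subgroup G) (V : Fin 2 → Subgroup G) (v : Fin 2 → G) : Prop :=
  ∀ (i : Fin 2) (r : G), (r = v (i + 1) ∨ r = v (i + 1) * v i) → ∀ x ∈ CC v i, x ∉ centralizer (NU V v i : Set G) →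
    (∀ n ∈ NU V v i, n * x * n⁻¹ * x⁻¹ ∈ zpowers r) →
    (NU V v i = HU V T i ∧ v i ∉ NU V v i) ∨ (SpF T V v i r ∧ (r = v (i + 1) → v i ∉ NU V v i))

/-- `F^x = F^y` -/
theorem conj_congr {C F : Subgroup G} (hCF : C ≤ normalizer (F : Set G)) {x y : G} (h : y⁻¹ * x ∈ C) :
    MulAut.conj x • F = MulAut.conj y • F := by
  have h1 := congrArg (fun A => MulAut.conj y • A) (conj_eq_of_mem (hCF h))
  simp only [conj_conj, mul_inv_cancel_left] at h1
  exact h1

section graph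

variable {H : Fin 2 → Subgroup G}

theorem near_same_right {n : ℕ} {a b c : Fin 2 × G} (h : Near H n a b) (h' : Same H b c) : Near H n a c := by
  cases n with
  | zero => exact NO3L.LemP.Same.trans h h'
  | succ n =>
    obtain ⟨e, h1, h2⟩ := h
    exact ⟨e, h1, h'.trans_adj h2⟩

theorem near_same_left {n : ℕ} {a b c : Fin 2 × G} (h : Near H n a b) (h' : Same H a c) : Near H n c b :=
  (near_same_right h.symm h').symm

theorem near_adj (i j : Fin 2) (x : G) : Near H 1 (i, x) (j, x) :=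
  ⟨(i, x), Same.refl _, x, by simp, by simp⟩

theorem near_two {k l : Fin 2} {x y : G} (h : x⁻¹ * y ∈ H l) : Near H 2 (k, x) (k, y) := by
  refine ⟨(l, x), near_adj k l x, ?_⟩
  exact ⟨y, h, by simp⟩

end graph

namespace Fr

variable [Finite G] {T : Subgroup G} {V P : Fin 2 → Subgroup G} {v : Fin 2 → G} (D : Fr T V P v)

include D

theorem v_mul_v (i : Fin 2) : v 0 * v 1 = v (i + 1) * v i := by
  have hc : v 0 * v 1 = v 1 * v 0 := D.comm_v 1 (D.v_mem_T 0)
  rcases Fin.exists_fin_two.1 ⟨i, rfl⟩ with hi | hi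
  · rw [hi]; exact hc
  · rw [hi]; rfl

omit [Finite G] D in
/-- `Q` depends only on the element -/
theorem conj_Q {i j : Fin 2} {x : G} (h : x * v i * x⁻¹ = v j) : MulAut.conj x • QQ v i = QQ v j := by
  change MulAut.conj x • o2 (centralizer ({v i} : Set G)) = o2 (centralizer ({v j} : Set G))
  have h8 : ZN.ChoiceBase.cj x (o2 (centralizer ({v i} : Set G))) =
    o2 (ZN.ChoiceBase.cj x (centralizer ({v i} : Set G))) := (ChoiceSit.o2_cj _ _).symm
  have h9 : ZN.ChoiceBase.cj x (centralizer ({v i} : Set G)) = centralizer ({v j} : Set G) := by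
    change MulAut.conj x • centralizer ({v i} : Set G) = _
    ext y
    rw [mem_conj, mem_centralizer_singleton_iff, mem_centralizer_singleton_iff, ← h]
    constructor
    · intro h1
      have h2 := congrArg (fun t => x * t * x⁻¹) h1
      have e1 : x * (x⁻¹ * y * x * v i) * x⁻¹ = y * (x * v i * x⁻¹) := by group
      have e2 : x * (v i * (x⁻¹ * y * x)) * x⁻¹ = x * v i * x⁻¹ * y := by group
      simp only [e1, e2] at h2
      exact h2
    · intro h1
      have h2 := congrArg (fun t => x⁻¹ * t * x) h1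
      have e1 : x⁻¹ * (y * (x * v i * x⁻¹)) * x = x⁻¹ * y * x * v i := by group
      have e2 : x⁻¹ * (x * v i * x⁻¹ * y) * x = v i * (x⁻¹ * y * x) := by group
      simp only [e1, e2] at h2
      exact h2
  rw [h9] at h8
  exact h8

/-- `N_i` is generated by the conjugates of `v (i+1)` -/
theorem N_le_of_mem (i : Fin 2) {U : Subgroup G} (hv : v (i + 1) ∈ U) (hC : CC v i ≤ normalizer (U : Set G)) :
    NU V v i ≤ U := by
  refine V_le fun c hc w hw => ?_
  rw [mem_conj] at hw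
  by_cases hw1 : w = 1
  · rw [hw1]; exact one_mem U
  have hw1' : c⁻¹ * w * c ≠ 1 := by
    intro h
    apply hw1
    have h3 := congrArg (fun t => c * t * c⁻¹) h
    simpa [mul_assoc] using h3
  obtain ⟨l, hl, -, hlw⟩ := D.tr (ne_add_one i).symm hw hw1'
  have hlC : l ∈ CC v i := D.PC (i + 1) i (ne_add_one i).symm hl
  have h3 : w = (c * l) * v (i + 1) * (c * l)⁻¹ := by
    have e : (c * l) * v (i + 1) * (c * l)⁻¹ = c * (l * v (i + 1) * l⁻¹) * c⁻¹ := by group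
    rw [e, hlw]; group
  rw [h3]
  exact (mem_normalizer_iff.1 (hC (mul_mem hc hlC)) _).1 hv

/-- elements `s` interchanging `v 0`, `v 1` interchange `N 0`, `N 1` -/
theorem conj_N_le {k : Fin 2} {s : G} (h1 : s * v k * s⁻¹ = v (k + 1)) (h2 : s * v (k + 1) * s⁻¹ = v k) :
    MulAut.conj s • NU V v k ≤ NU V v (k + 1) := by
  have h3 : NU V v k ≤ MulAut.conj s⁻¹ • NU V v (k + 1) := by
    refine D.N_le_of_mem k ?_ fun c hc => ?_
    · rw [mem_conj, inv_inv, h2]
      have := D.mem_N (k + 1)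
      rwa [add_one_add_one] at this
    · have h4 : s * c * s⁻¹ ∈ CC v (k + 1) := by
        rw [mem_centralizer_singleton_iff, ← h1]
        have h5 : c * v k = v k * c := mem_centralizer_singleton_iff.1 hc
        calc s * c * s⁻¹ * (s * v k * s⁻¹) = s * (c * v k) * s⁻¹ := by group
          _ = s * v k * s⁻¹ * (s * c * s⁻¹) := by rw [h5]; group
      have h6 := D.C_le_N_N (k + 1) h4
      refine ChoiceBase.mem_normalizer_iff_cj.2 ?_
      change MulAut.conj c • (MulAut.conj s⁻¹ • NU V v (k + 1)) = _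
      have h7 : MulAut.conj (s * c * s⁻¹) • NU V v (k + 1) = NU V v (k + 1) := conj_eq_of_mem h6
      rw [conj_conj]
      have e : c * s⁻¹ = s⁻¹ * (s * c * s⁻¹) := by group
      rw [e, ← conj_conj, h7]
  have h4 := conj_le_iff (g := s) |>.2 h3
  rwa [conj_conj, mul_inv_cancel, map_one, one_smul] at h4

/-- **the swap** -/
theorem swap (hz : ∀ (j : Fin 2) (g : G), g * (v 0 * v 1) * g⁻¹ ≠ v j) {k : Fin 2} {h : G}
    (hh : h * v k * h⁻¹ = v (k + 1)) :
    ∃ q ∈ CC v (k + 1), MulAut.conj (q * h) • NU V v k = NU V v (k + 1) ∧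
      MulAut.conj (q * h) • NU V v (k + 1) = NU V v k := by
  -- `T^h` is Sylow in `C_(k+1)`
  have hCh : MulAut.conj h • CC v k = CC v (k + 1) := by
    ext x
    rw [mem_conj, CC, CC, mem_centralizer_singleton_iff, mem_centralizer_singleton_iff, ← hh]
    constructor
    · intro h1
      have h2 := congrArg (fun t => h * t * h⁻¹) h1
      have e1 : h * (h⁻¹ * x * h * v k) * h⁻¹ = x * (h * v k * h⁻¹) := by group
      have e2 : h * (v k * (h⁻¹ * x * h)) * h⁻¹ = h * v k * h⁻¹ * x := by group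
      simp only [e1, e2] at h2
      exact h2
    · intro h1
      have h2 := congrArg (fun t => h⁻¹ * t * h) h1
      have e1 : h⁻¹ * (x * (h * v k * h⁻¹)) * h = h⁻¹ * x * h * v k := by group
      have e2 : h⁻¹ * (h * v k * h⁻¹ * x) * h = v k * (h⁻¹ * x * h) := by group
      simp only [e1, e2] at h2
      exact h2
  have hS : Syl (MulAut.conj h • T) (CC v (k + 1)) := by
    rw [← hCh]
    refine ⟨conj_le_iff.2 (D.T_le_C k), D.T_isPGroup.map _, fun Q hQ hQ2 hTQ => ?_⟩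
    have h1 : MulAut.conj h⁻¹ • Q ≤ CC v k := by
      have := conj_le_iff (g := h⁻¹) |>.2 hQ
      rwa [conj_conj, inv_mul_cancel, map_one, one_smul] at this
    have h2 : T ≤ MulAut.conj h⁻¹ • Q := by
      have := conj_le_iff (g := h⁻¹) |>.2 hTQ
      rwa [conj_conj, inv_mul_cancel, map_one, one_smul] at this
    have h3 := (D.syl k).2.2 _ h1 (hQ2.map _) h2
    rw [← h3, conj_conj, mul_inv_cancel, map_one, one_smul]
  obtain ⟨q, hq, hqT⟩ := syl_conj hS (D.syl (k + 1))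
  have hqT' : MulAut.conj (q * h) • T = T := by
    rw [← conj_conj]
    exact hqT
  have hN : q * h ∈ normalizer (T : Set G) := ChoiceBase.mem_normalizer_iff_cj.2 hqT'
  have hnz := normalizer_le_normalizer_zc _ hN
  have h1 : q * h * v k * (q * h)⁻¹ = v (k + 1) := by
    have e : q * h * v k * (q * h)⁻¹ = q * (h * v k * h⁻¹) * q⁻¹ := by group
    rw [e, hh]
    exact D.conj_v _ hq
  have h2 : q * h * v (k + 1) * (q * h)⁻¹ = v k := by
    have h3 : q * h * v (k + 1) * (q * h)⁻¹ ∈ zc T := (mem_normalizer_iff.1 hnz _).1 (D.v_mem_zc _)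
    have h4 : q * h * v (k + 1) * (q * h)⁻¹ ≠ 1 := fun h => D.ne _ (conj_eq_one_iff.1 h)
    have h5 : q * h * v (k + 1) * (q * h)⁻¹ ≠ v (k + 1) := by
      intro h6
      rw [← h1] at h6
      have h7 := congrArg (fun t => (q * h)⁻¹ * t * (q * h)) h6
      have e1 : (q * h)⁻¹ * (q * h * (q * h * v k * (q * h)⁻¹) * (q * h)⁻¹) * (q * h) = q * h * v k * (q * h)⁻¹ := by
        group
      have e2 : (q * h)⁻¹ * (q * h * v k * (q * h)⁻¹) * (q * h) = v k := by group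
      simp only [e1, e2] at h7
      rw [h1] at h7
      exact D.v_ne_v (ne_add_one k) h7.symm
    have h6 : q * h * v (k + 1) * (q * h)⁻¹ ≠ v 0 * v 1 := by
      intro h7
      apply hz (k + 1) (q * h)⁻¹
      rw [← h7]; group
    rcases (D.zT _).1 h3 with h | h | h | h
    · exact absurd h h4
    · rcases Fin.exists_fin_two.1 ⟨k, rfl⟩ with hk | hk
      · rw [h, hk]
      · have e : v (k + 1) = v 0 := by rw [hk]; rfl
        exact absurd (h.trans e.symm) h5
    · rcases Fin.exists_fin_two.1 ⟨k, rfl⟩ with hk | hk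
      · have e : v (k + 1) = v 1 := by rw [hk]; rfl
        exact absurd (h.trans e.symm) h5
      · rw [h, hk]
    · exact absurd h h6
  refine ⟨q, hq, le_antisymm (D.conj_N_le h1 h2) ?_, ?_⟩
  · -- `N_(k+1) ≤ N_k^s`
    have h3 : (q * h)⁻¹ * v (k + 1) * (q * h)⁻¹⁻¹ = v (k + 1 + 1) := by
      rw [add_one_add_one, ← h1]; group
    have h4 : (q * h)⁻¹ * v (k + 1 + 1) * (q * h)⁻¹⁻¹ = v (k + 1) := by
      rw [add_one_add_one, ← h2]; group
    have h5 := D.conj_N_le h3 h4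
    rw [add_one_add_one] at h5
    have h6 := conj_le_iff (g := q * h) |>.2 h5
    rwa [conj_conj, mul_inv_cancel, map_one, one_smul] at h6
  · apply le_antisymm
    · have h3 : q * h * v (k + 1) * (q * h)⁻¹ = v (k + 1 + 1) := by rw [add_one_add_one, h2]
      have h4 : q * h * v (k + 1 + 1) * (q * h)⁻¹ = v (k + 1) := by rw [add_one_add_one, h1]
      have h5 := D.conj_N_le h3 h4
      rwa [add_one_add_one] at h5
    · have h3 : (q * h)⁻¹ * v k * (q * h)⁻¹⁻¹ = v (k + 1) := by rw [← h2]; group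
      have h4 : (q * h)⁻¹ * v (k + 1) * (q * h)⁻¹⁻¹ = v k := by rw [← h1]; group
      have h5 := D.conj_N_le h3 h4
      have h6 := conj_le_iff (g := q * h) |>.2 h5
      rwa [conj_conj, mul_inv_cancel, map_one, one_smul] at h6

/-- `N` depends only on the element of the vertex -/
theorem N_congr (hz : ∀ (j : Fin 2) (g : G), g * (v 0 * v 1) * g⁻¹ ≠ v j) {i j : Fin 2} {x y : G}
    (h : x * v i * x⁻¹ = y * v j * y⁻¹) : MulAut.conj x • NU V v i = MulAut.conj y • NU V v j := by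
  rcases eq_or_ne i j with hij | hij
  · subst hij
    have h1 : y⁻¹ * x ∈ CC v i := by
      rw [CC, mem_centralizer_singleton_iff]
      calc y⁻¹ * x * v i = y⁻¹ * (x * v i * x⁻¹) * x := by group
        _ = v i * (y⁻¹ * x) := by rw [h]; group
    exact conj_congr (D.C_le_N_N i) h1
  · have hj := eq_add_one hij
    subst hj
    have hh : y⁻¹ * x * v i * (y⁻¹ * x)⁻¹ = v (i + 1) := by
      have e : y⁻¹ * x * v i * (y⁻¹ * x)⁻¹ = y⁻¹ * (x * v i * x⁻¹) * y := by group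
      rw [e, h]; group
    obtain ⟨q, hq, h1, -⟩ := D.swap hz hh
    have h2 := conj_eq_of_mem (D.C_le_N_N (i + 1) (inv_mem hq))
    rw [← h2, ← h1, conj_conj, conj_conj]
    congr 2
    group

theorem comm_N {n : ℕ} (hC : Comm (CC v) (EU T v) (n + 1)) {m : ℕ} (hm : m ≤ n) {i j : Fin 2} {x y : G}
    (h : Near (CC v) m (i, x) (j, y)) :
    MulAut.conj x • NU V v i ≤ centralizer ((MulAut.conj y • NU V v j : Subgroup G) : Set G) :=
  comm_mono (hC m (Nat.lt_succ_of_le hm) _ _ h) (conj_le_iff.2 (D.N_le_E i)) (conj_le_iff.2 (D.N_le_E j))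

/-- vertices with a common neighbour -/
theorem pt (hz : ∀ (j : Fin 2) (g : G), g * (v 0 * v 1) * g⁻¹ ≠ v j) {n : ℕ} (hn : 2 ≤ n)
    (hC : Comm (CC v) (EU T v) (n + 1)) {k i : Fin 2} {x y : G}
    (h : x * v (k + 1) * x⁻¹ = y * v (i + 1) * y⁻¹) :
    MulAut.conj x • NU V v k ≤ centralizer ((MulAut.conj y • NU V v i : Subgroup G) : Set G) := by
  rcases eq_or_ne k i with hki | hki
  · subst hki
    have h1 : x⁻¹ * y ∈ CC v (k + 1) := by
      rw [CC, mem_centralizer_singleton_iff]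
      calc x⁻¹ * y * v (k + 1) = x⁻¹ * (y * v (k + 1) * y⁻¹) * y := by group
        _ = v (k + 1) * (x⁻¹ * y) := by rw [← h]; group
    exact D.comm_N hC hn (near_two h1)
  · have hi := eq_add_one hki
    subst hi
    rw [add_one_add_one] at h
    have hh : x⁻¹ * y * v k * (x⁻¹ * y)⁻¹ = v (k + 1) := by
      have e : x⁻¹ * y * v k * (x⁻¹ * y)⁻¹ = x⁻¹ * (y * v k * y⁻¹) * x := by group
      rw [e, ← h]; group
    obtain ⟨q, hq, -, h1⟩ := D.swap hz hh
    have h2 : MulAut.conj y • NU V v (k + 1) = MulAut.conj (x * q⁻¹) • NU V v k := by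
      rw [← h1, conj_conj]
      congr 2
      group
    rw [h2]
    refine D.comm_N hC hn (near_two (l := k + 1) ?_)
    rw [inv_mul_cancel_left]
    exact inv_mem hq

/-- **LEMMA P**: a critical pair with representatives -/
theorem crit2 :
    ∃ n, Comm (CC v) (EU T v) (n + 1) ∧
      (∀ m ≤ n, ∀ a c : Fin 2 × G, Near (CC v) m a c → vx (EU T v) a ≤ vx (QQ v) c) ∧
      ∃ (i j : Fin 2) (g : G), Near (CC v) n (i, g) (j + 1, 1) ∧ Near (CC v) n (i + 1, g) (j, 1) ∧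
        ¬ MulAut.conj g • NU V v i ≤ centralizer (NU V v j : Set G) := by
  obtain ⟨n, h1, h2, i, j, g, -, h4, -, -, h5⟩ := D.crit
  refine ⟨n, h1, h2, ?_⟩
  have hne : ¬ Near (CC v) n (i, g) (j, 1) := by
    intro h
    have := D.comm_N h1 le_rfl h
    rw [map_one, one_smul] at this
    exact h5 this
  obtain ⟨e, he, x, hx, hx'⟩ := h4
  have h4' : Near (CC v) (n + 1) (j, 1) (i, g) := NO3L.LemP.Near.symm ⟨e, he, x, hx, hx'⟩
  have hej : e.1 = j + 1 := by
    refine eq_add_one fun h => hne (near_same_right he ?_)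
    exact NO3L.LemP.Adj.same ⟨x, hx, hx'⟩ h.symm
  obtain ⟨f, hf, y, hy, hy'⟩ := h4'
  have hfi : f.1 = i + 1 := by
    refine eq_add_one fun h => hne (near_same_right hf ?_).symm
    exact NO3L.LemP.Adj.same ⟨y, hy, hy'⟩ h.symm
  -- representatives
  have s1 : Same (CC v) e (j + 1, x) := ⟨hej, hx⟩
  have s2 : Same (CC v) (j, 1) (j, x) := ⟨rfl, hx'⟩
  have s3 : Same (CC v) f (i + 1, y) := ⟨hfi, hy⟩
  have s4 : Same (CC v) (i, g) (i, y) := ⟨rfl, hy'⟩
  have n1 : Near (CC v) n (i, y) (j + 1, x) := near_same_left (near_same_right he s1) s4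
  have n2 : Near (CC v) n (i + 1, y) (j, x) := (near_same_left (near_same_right hf s3) s2).symm
  have n1' := n1.smul x⁻¹
  have n2' := n2.smul x⁻¹
  simp only [inv_mul_cancel] at n1' n2'
  refine ⟨i, j, x⁻¹ * y, n1', n2', fun h => h5 ?_⟩
  have h6 := conj_le_centralizer (g := x) h
  rw [conj_conj, mul_inv_cancel_left] at h6
  have e1 : MulAut.conj y • NU V v i = MulAut.conj g • NU V v i := by
    have h7 : g⁻¹ * y ∈ CC v i := hy'
    exact conj_congr (D.C_le_N_N i) h7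
  have e2 : MulAut.conj x • NU V v j = NU V v j := by
    have h7 : (1 : G)⁻¹ * x ∈ CC v j := hx'
    rw [inv_one, one_mul] at h7
    exact conj_eq_of_mem (D.C_le_N_N j h7)
  rwa [e1, e2] at h6

/-- LEMMA TC in commutator form -/
theorem tc' (htc : TCp T V v) {i : Fin 2} {t b : G} (ht : t ∈ o2 (centralizer (zc T : Set G))) (hb : b * b = 1)
    (h : ∀ n ∈ NU V v i, n * t * n⁻¹ * t⁻¹ ∈ zpowers b) (hne : t ∉ centralizer (NU V v i : Set G)) :
    b = v (i + 1) ∨ (v i ∈ NU V v i ∧ b = v (i + 1) * v i) := by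
  refine htc i t b ht (fun n hn => ?_) fun hc => hne ?_
  · have h1 := h n⁻¹ (inv_mem hn)
    have h2 : n⁻¹ * t * n⁻¹⁻¹ * t⁻¹ = 1 ∨ n⁻¹ * t * n⁻¹⁻¹ * t⁻¹ = b := by
      obtain ⟨k, hk⟩ := mem_zpowers_iff.1 h1
      have h3 : b ^ (2 : ℤ) = 1 := by rw [zpow_two]; exact hb
      rcases Int.even_or_odd k with he | ho
      · obtain ⟨l, hl⟩ := he
        left
        rw [← hk, hl, ← two_mul, zpow_mul, h3, one_zpow]
      · obtain ⟨l, hl⟩ := ho
        right
        rw [← hk, hl, zpow_add, zpow_mul, zpow_one, h3, one_zpow, one_mul]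
    have e : t * n * t⁻¹ = n * (n⁻¹ * t * n⁻¹⁻¹ * t⁻¹) := by group
    rcases h2 with h2 | h2
    · left; rw [e, h2, mul_one]
    · right; rw [e, h2]
  · rw [mem_centralizer_iff]
    intro n hn
    have h1 := hc n hn
    calc n * t = t * n * t⁻¹ * t := by rw [h1]
      _ = t * n := by group

/-- (3.4), distance `≤ n - 1` -/
theorem W_le {n : ℕ} (hC : Comm (CC v) (EU T v) (n + 1)) (j : Fin 2) :
    ∀ m, m + 1 ≤ n → ∀ c : Fin 2 × G, Near (CC v) m (j, 1) c → WU V v j ≤ vx (QQ v) c := by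
  have hR : ∀ i, CC v i ≤ normalizer (QQ v i : Set G) := fun i => le_normalizer_o2 _
  intro m
  induction m with
  | zero =>
    intro _ c hc
    have h1 : vx (QQ v) (j, 1) = vx (QQ v) c := vx_same hR hc
    rw [← h1, vx_mk, map_one, one_smul]
    exact D.W_le_Q j
  | succ m ih =>
    intro hm c hc
    have hc' := hc
    obtain ⟨e, he, x, hx, hx'⟩ := hc
    have h1 := ih (by omega) e he
    rw [vx_eq hR hx] at h1
    rw [vx_eq hR hx']
    -- `W_j` centralises `N_c`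
    have h2 : WU V v j ≤ centralizer ((MulAut.conj x • NU V v c.1 : Subgroup G) : Set G) := by
      refine V_le fun c' hc'' => ?_
      have h3 : MulAut.conj c' • V j ≤ MulAut.conj c' • NU V v (j + 1) := by
        have h4 := D.V_le_N (j + 1)
        rw [add_one_add_one] at h4
        exact conj_le_iff.2 h4
      refine h3.trans ?_
      refine D.comm_N hC (m := m + 2) (by omega) ?_
      have h5 : Near (CC v) 1 (j + 1, c') (j, 1) := by
        refine ⟨(j + 1, c'), Same.refl _, c', ?_, ?_⟩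
        · simp
        · simpa using hc''
      have h6 : Near (CC v) (m + 1) (j, 1) (c.1, x) := near_same_right hc' ⟨rfl, hx'⟩
      -- concatenation
      exact NO3L.LemP.Near.cons (by
        refine ⟨c', ?_, ?_⟩
        · simp
        · simpa using hc'') h6
    have h3 : WU V v j ≤ MulAut.conj x • (o2 (centralizer (zc T : Set G)) ⊓ centralizer (NU V v c.1 : Set G)) := by
      intro w hw
      rw [mem_conj]
      refine mem_inf.2 ⟨D.Q_le_o2D e.1 ?_, ?_⟩
      · have := h1 hw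
        rwa [mem_conj] at this
      · have h4 := h2 hw
        rw [mem_centralizer_iff] at h4 ⊢
        intro y hy
        have h5 : x * y * x⁻¹ ∈ MulAut.conj x • NU V v c.1 := by
          rw [mem_conj]
          have e : x⁻¹ * (x * y * x⁻¹) * x = y := by group
          rwa [e]
        have h6 := h4 _ h5
        have h7 := congrArg (fun t => x⁻¹ * t * x) h6
        have e1 : x⁻¹ * (x * y * x⁻¹ * w) * x = y * (x⁻¹ * w * x) := by group
        have e2 : x⁻¹ * (w * (x * y * x⁻¹)) * x = x⁻¹ * w * x * y := by group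
        simp only [e1, e2] at h7
        exact h7
    exact h3.trans (conj_le_iff.2 (D.f3 c.1))

/-- (3.4), the last step (COROLLARY 1 of #20268) -/
theorem W_le_last (htc : TCp T V v) (hz : ∀ (j : Fin 2) (g : G), g * (v 0 * v 1) * g⁻¹ ≠ v j) {n : ℕ} (hn : 2 ≤ n)
    (hC : Comm (CC v) (EU T v) (n + 1))
    (h2 : ∀ m ≤ n, ∀ a c : Fin 2 × G, Near (CC v) m a c → vx (EU T v) a ≤ vx (QQ v) c) {i j : Fin 2} {g : G}
    (hN : Near (CC v) n (i + 1, g) (j, 1)) (hne : ¬ MulAut.conj g • NU V v i ≤ centralizer (NU V v j : Set G)) :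
    WU V v j ≤ MulAut.conj g • QQ v (i + 1) := by
  have hR : ∀ i, CC v i ≤ normalizer (QQ v i : Set G) := fun i => le_normalizer_o2 _
  obtain ⟨m, rfl⟩ : ∃ m, n = m + 1 := ⟨n - 1, by omega⟩
  obtain ⟨e, he, x, hx, hx'⟩ := hN.symm
  have h1 := D.W_le hC j m le_rfl e he
  rw [vx_eq hR hx] at h1
  have hx2 : g⁻¹ * x ∈ CC v (i + 1) := hx'
  -- `Q_c = Q_(i+1)^x`
  have h3 : MulAut.conj g • QQ v (i + 1) = MulAut.conj x • QQ v (i + 1) := (conj_congr (hR (i + 1)) hx2).symm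
  rw [h3]
  suffices h4 : WU V v j ≤ centralizer ((MulAut.conj x • NU V v (i + 1) : Subgroup G) : Set G) by
    have h5 : WU V v j ≤ MulAut.conj x • (o2 (centralizer (zc T : Set G)) ⊓
        centralizer (NU V v (i + 1) : Set G)) := by
      intro w hw
      rw [mem_conj]
      refine mem_inf.2 ⟨D.Q_le_o2D e.1 ?_, ?_⟩
      · have := h1 hw
        rwa [mem_conj] at this
      · have h4 := h4 hw
        rw [mem_centralizer_iff] at h4 ⊢
        intro y hy
        have h5 : x * y * x⁻¹ ∈ MulAut.conj x • NU V v (i + 1) := by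
          rw [mem_conj]
          have e : x⁻¹ * (x * y * x⁻¹) * x = y := by group
          rwa [e]
        have h6 := h4 _ h5
        have h7 := congrArg (fun t => x⁻¹ * t * x) h6
        have e1 : x⁻¹ * (x * y * x⁻¹ * w) * x = y * (x⁻¹ * w * x) := by group
        have e2 : x⁻¹ * (w * (x * y * x⁻¹)) * x = x⁻¹ * w * x * y := by group
        simp only [e1, e2] at h7
        exact h7
    exact h5.trans (conj_le_iff.2 (D.f3 (i + 1)))
  by_contra hcon
  obtain ⟨w, hw, hwc⟩ := SetLike.not_le_iff_exists.1 hcon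
  -- `[w, N_c] ≤ ⟨v j⟩`
  have h4 : MulAut.conj x • NU V v (i + 1) ≤ QQ v j := by
    have h5 : Near (CC v) (m + 1) (i + 1, x) (j, 1) := near_same_left hN ⟨rfl, hx2⟩
    have h6 := h2 (m + 1) le_rfl _ _ h5
    rw [vx_mk, vx_mk, map_one, one_smul] at h6
    exact (conj_le_iff.2 (D.N_le_E (i + 1))).trans h6
  have ht : x⁻¹ * w * x ∈ o2 (centralizer (zc T : Set G)) := by
    apply D.Q_le_o2D e.1
    have := h1 hw
    rwa [mem_conj] at this
  have hb : x⁻¹ * v j * x * (x⁻¹ * v j * x) = 1 := by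
    have e : x⁻¹ * v j * x * (x⁻¹ * v j * x) = x⁻¹ * (v j * v j) * x := by group
    rw [e, D.v_sq]; group
  have h5 : ∀ y ∈ NU V v (i + 1), y * (x⁻¹ * w * x) * y⁻¹ * (x⁻¹ * w * x)⁻¹ ∈ zpowers (x⁻¹ * v j * x) := by
    intro y hy
    have h6 : x * y * x⁻¹ ∈ QQ v j := by
      apply h4
      rw [mem_conj]
      have e : x⁻¹ * (x * y * x⁻¹) * x = y := by group
      rwa [e]
    have h7 := D.comm_W_Q j w hw _ h6
    have h8 : y * (x⁻¹ * w * x) * y⁻¹ * (x⁻¹ * w * x)⁻¹ =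
        x⁻¹ * (w * (x * y * x⁻¹) * w⁻¹ * (x * y * x⁻¹)⁻¹)⁻¹ * x := by group
    rw [h8]
    rcases D.mem_zpv h7 with h | h
    · rw [h]; simp
    · rw [h]
      have e : x⁻¹ * (v j)⁻¹ * x = (x⁻¹ * v j * x)⁻¹ := by group
      rw [e]
      exact inv_mem (mem_zpowers _)
  have h6 : x⁻¹ * w * x ∉ centralizer (NU V v (i + 1) : Set G) := by
    intro h7
    apply hwc
    rw [mem_centralizer_iff] at h7 ⊢
    intro y hy
    rw [SetLike.mem_coe, mem_conj] at hy
    have h8 := h7 _ hy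
    have h9 := congrArg (fun t => x * t * x⁻¹) h8
    have e1 : x * (x⁻¹ * y * x * (x⁻¹ * w * x)) * x⁻¹ = y * w := by group
    have e2 : x * (x⁻¹ * w * x * (x⁻¹ * y * x)) * x⁻¹ = w * y := by group
    simp only [e1, e2] at h9
    exact h9
  rcases D.tc' htc ht hb h5 h6 with h7 | ⟨-, h7⟩
  · -- `v j = v_i^x`
    rw [add_one_add_one] at h7
    have h8 : x * v i * x⁻¹ = 1 * v j * 1⁻¹ := by rw [← h7]; group
    have h9 := D.N_congr hz h8
    rw [map_one, one_smul] at h9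
    apply hne
    rw [← h9]
    exact D.comm_N hC hn (near_two hx2)
  · apply hz j x
    have h8 : v 0 * v 1 = v (i + 1 + 1) * v (i + 1) := D.v_mul_v _
    rw [h8, ← h7]
    group

omit D in
theorem mem_zp_of_sq {r x : G} (hr : r * r = 1) (hx : x ∈ zpowers r) : x = 1 ∨ x = r := by
  obtain ⟨k, hk⟩ := mem_zpowers_iff.1 hx
  have h3 : r ^ (2 : ℤ) = 1 := by rw [zpow_two]; exact hr
  rcases Int.even_or_odd k with he | ho
  · obtain ⟨l, hl⟩ := he
    left
    rw [← hk, hl, ← two_mul, zpow_mul, h3, one_zpow]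
  · obtain ⟨l, hl⟩ := ho
    right
    rw [← hk, hl, zpow_add, zpow_mul, zpow_one, h3, one_zpow, one_mul]

/-- the two sides of a critical pair with `|[N_a, N_b]| = 2`: LEMMA TC on side `b` -/
theorem tc_b (htc : TCp T V v) {j : Fin 2} {X : Subgroup G} {r : G} (hr2 : r * r = 1)
    (hX : X ≤ QQ v (j + 1)) (hr : ∀ x ∈ X, ∀ y ∈ NU V v j, x * y * x⁻¹ * y⁻¹ ∈ zpowers r)
    (hne : ¬ X ≤ centralizer (NU V v j : Set G)) :
    r = v (j + 1) ∨ (v j ∈ NU V v j ∧ r = v (j + 1) * v j) := by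
  obtain ⟨x, hx, hxc⟩ := SetLike.not_le_iff_exists.1 hne
  refine D.tc' htc (D.Q_le_o2D _ (hX hx)) hr2 (fun n hn => ?_) hxc
  have h1 := inv_mem (hr x hx n hn)
  have e : (x * n * x⁻¹ * n⁻¹)⁻¹ = n * x * n⁻¹ * x⁻¹ := by group
  rwa [e] at h1

/-- LEMMA TC on side `a` -/
theorem tc_a (htc : TCp T V v) {i : Fin 2} {Y : Subgroup G} {g r : G} (hr2 : r * r = 1)
    (hY : Y ≤ MulAut.conj g • QQ v (i + 1))
    (hr : ∀ x ∈ MulAut.conj g • NU V v i, ∀ y ∈ Y, x * y * x⁻¹ * y⁻¹ ∈ zpowers r)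
    (hne : ¬ MulAut.conj g • NU V v i ≤ centralizer (Y : Set G)) :
    r = g * v (i + 1) * g⁻¹ ∨ (v i ∈ NU V v i ∧ r = g * (v (i + 1) * v i) * g⁻¹) := by
  have h1 : MulAut.conj g⁻¹ • Y ≤ QQ v (i + 1) := by
    have := conj_le_iff (g := g⁻¹) |>.2 hY
    rwa [conj_conj, inv_mul_cancel, map_one, one_smul] at this
  have h2 : g⁻¹ * r * g * (g⁻¹ * r * g) = 1 := by
    have e : g⁻¹ * r * g * (g⁻¹ * r * g) = g⁻¹ * (r * r) * g := by group
    rw [e, hr2]; group
  have h3 := D.tc_b htc (j := i) (X := MulAut.conj g⁻¹ • Y) (r := g⁻¹ * r * g) h2 h1 (fun y hy x hx => ?_) fun h => ?_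
  · rcases h3 with h3 | ⟨h3, h4⟩
    · left; rw [← h3]; group
    · right
      refine ⟨h3, ?_⟩
      rw [← h4]; group
  · rw [mem_conj, inv_inv] at hy
    have h4 : g * x * g⁻¹ ∈ MulAut.conj g • NU V v i := by
      rw [mem_conj]
      have e : g⁻¹ * (g * x * g⁻¹) * g = x := by group
      rwa [e]
    have h5 := inv_mem (hr _ h4 _ hy)
    have e : (g * x * g⁻¹ * (g * y * g⁻¹) * (g * x * g⁻¹)⁻¹ * (g * y * g⁻¹)⁻¹)⁻¹ =
      g * (y * x * y⁻¹ * x⁻¹) * g⁻¹ := by group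
    rw [e] at h5
    rcases mem_zp_of_sq hr2 h5 with h6 | h6
    · have h7 : y * x * y⁻¹ * x⁻¹ = 1 := conj_eq_one_iff.1 h6
      rw [h7]; exact one_mem _
    · have h7 : y * x * y⁻¹ * x⁻¹ = g⁻¹ * r * g := by rw [← h6]; group
      rw [h7]; exact mem_zpowers _
  · apply hne
    have h4 := conj_le_centralizer (g := g) h
    rw [conj_conj, mul_inv_cancel, map_one, one_smul] at h4
    exact comm_symm h4

/-- **THEOREM D**: a critical pair at distance `n + 1 ≥ 3` does not have `|[N_a, N_b]| = 2`. -/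
theorem thmD (htc : TCp T V v) (hsec : Sec0 T V v) (hz : ∀ (j : Fin 2) (g : G), g * (v 0 * v 1) * g⁻¹ ≠ v j)
    {n : ℕ} (hn : 2 ≤ n) (hC : Comm (CC v) (EU T v) (n + 1)) {i j : Fin 2} {g : G}
    (hN1 : Near (CC v) n (i, g) (j + 1, 1)) (hN2 : Near (CC v) n (i + 1, g) (j, 1))
    (hne : ¬ MulAut.conj g • NU V v i ≤ centralizer (NU V v j : Set G)) {r : G} (hr2 : r * r = 1)
    (hr : ∀ x ∈ MulAut.conj g • NU V v i, ∀ y ∈ NU V v j, x * y * x⁻¹ * y⁻¹ ∈ zpowers r) : False := by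
  have h2 := D.data.le_R hC
  have h2' : ∀ m ≤ n, ∀ a c : Fin 2 × G, Near (CC v) m a c → vx (EU T v) a ≤ vx (QQ v) c := fun m hm =>
    h2 m (Nat.lt_succ_of_le hm)
  have hQ1 : MulAut.conj g • NU V v i ≤ QQ v (j + 1) := by
    have h3 := h2' n le_rfl _ _ hN1
    rw [vx_mk, vx_mk, map_one, one_smul] at h3
    exact (conj_le_iff.2 (D.N_le_E i)).trans h3
  have hQ2 : NU V v j ≤ MulAut.conj g • QQ v (i + 1) := by
    have h3 := h2' n le_rfl _ _ hN2.symm
    rw [vx_mk, vx_mk, map_one, one_smul] at h3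
    exact (D.N_le_E j).trans h3
  have hb := D.tc_b htc hr2 hQ1 hr hne
  have ha := D.tc_a htc hr2 hQ2 hr hne
  have hzb : r = v (j + 1) * v j ∧ v j ∈ NU V v j ∧ r = g * (v (i + 1) * v i) * g⁻¹ ∧ v i ∈ NU V v i := by
    rcases hb with hb | ⟨hb1, hb⟩
    · rcases ha with ha | ⟨ha1, ha⟩
      · exfalso
        apply hne
        have h3 := D.pt hz hn hC (k := i) (i := j) (x := g) (y := 1) (by rw [← ha, hb]; group)
        rwa [map_one, one_smul] at h3
      · exfalso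
        apply hz (j + 1) g
        rw [D.v_mul_v i, ← ha, hb]
    · rcases ha with ha | ⟨ha1, ha⟩
      · exfalso
        apply hz (i + 1) g⁻¹
        rw [D.v_mul_v j, ← hb, ha]; group
      · exact ⟨hb, hb1, ha, ha1⟩
  obtain ⟨hb, hb1, ha, ha1⟩ := hzb
  -- section 0 on both sides
  have Sb : SpF T V v j r := by
    obtain ⟨x, hx, hxc⟩ := SetLike.not_le_iff_exists.1 hne
    rcases hsec j r (Or.inr hb) x ((hQ1.trans ((D.Q_le_T _).trans (D.T_le_C j))) hx) hxc (fun m hm => by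
      have h1 := inv_mem (hr x hx m hm)
      have e : (x * m * x⁻¹ * m⁻¹)⁻¹ = m * x * m⁻¹ * x⁻¹ := by group
      rwa [e] at h1) with h | h
    · exact absurd hb1 h.2
    · exact h.1
  have Sa : SpF T V v i (v (i + 1) * v i) := by
    have hne' : ¬ NU V v j ≤ centralizer ((MulAut.conj g • NU V v i : Subgroup G) : Set G) := fun h =>
      hne (comm_symm h)
    obtain ⟨y, hy, hyc⟩ := SetLike.not_le_iff_exists.1 hne'
    have hyg : g⁻¹ * y * g ∈ QQ v (i + 1) := by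
      have := hQ2 hy
      rwa [mem_conj] at this
    have h5 : ∀ x ∈ NU V v i, x * (g⁻¹ * y * g) * x⁻¹ * (g⁻¹ * y * g)⁻¹ ∈ zpowers (v (i + 1) * v i) := by
      intro x hx
      have h4 : g * x * g⁻¹ ∈ MulAut.conj g • NU V v i := by
        rw [mem_conj]
        have e : g⁻¹ * (g * x * g⁻¹) * g = x := by group
        rwa [e]
      have h5 := hr _ h4 y hy
      have e : g * x * g⁻¹ * y * (g * x * g⁻¹)⁻¹ * y⁻¹ = g * (x * (g⁻¹ * y * g) * x⁻¹ * (g⁻¹ * y * g)⁻¹) * g⁻¹ := by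
        group
      rw [e] at h5
      rcases mem_zp_of_sq hr2 h5 with h6 | h6
      · rw [conj_eq_one_iff.1 h6]; exact one_mem _
      · have h7 : x * (g⁻¹ * y * g) * x⁻¹ * (g⁻¹ * y * g)⁻¹ = v (i + 1) * v i := by
          rw [ha] at h6
          have h8 := congrArg (fun t => g⁻¹ * t * g) h6
          have e1 : g⁻¹ * (g * (x * (g⁻¹ * y * g) * x⁻¹ * (g⁻¹ * y * g)⁻¹) * g⁻¹) * g =
            x * (g⁻¹ * y * g) * x⁻¹ * (g⁻¹ * y * g)⁻¹ := by group
          have e2 : g⁻¹ * (g * (v (i + 1) * v i) * g⁻¹) * g = v (i + 1) * v i := by group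
          simp only [e1, e2] at h8
          exact h8
        rw [h7]; exact mem_zpowers _
    have h6 : g⁻¹ * y * g ∉ centralizer (NU V v i : Set G) := by
      intro h
      apply hyc
      rw [mem_centralizer_iff] at h ⊢
      intro x hx
      rw [SetLike.mem_coe, mem_conj] at hx
      have h8 := h _ hx
      have h9 := congrArg (fun t => g * t * g⁻¹) h8
      have e1 : g * (g⁻¹ * x * g * (g⁻¹ * y * g)) * g⁻¹ = x * y := by group
      have e2 : g * (g⁻¹ * y * g * (g⁻¹ * x * g)) * g⁻¹ = y * x := by group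
      simp only [e1, e2] at h9
      exact h9
    rcases hsec i _ (Or.inr rfl) (g⁻¹ * y * g) ((D.T_le_C i) (D.Q_le_T _ hyg)) h6 h5 with h | h
    · exact absurd ha1 h.2
    · exact h.1
  -- (3.4)
  have hQT : ∀ l k, QQ v l ≤ CC v k := fun l k => (D.Q_le_T l).trans (D.T_le_C k)
  have hW := D.W_le_last htc hz hn hC h2' hN2 hne
  have hWC : WU V v j ≤ MulAut.conj g • CC v i := hW.trans (conj_le_iff.2 (hQT _ _))
  have hvj1 : v (j + 1) ≠ 1 := D.ne _
  refine D.fin hQ1 (hQ2.trans (conj_le_iff.2 (hQT _ _))) hWC hne Sa Sb ha.symm ?_ ?_ hr ?_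
  · rw [hb]
    exact mul_mem (D.mem_N j) hb1
  · intro h
    rcases mem_zp_of_sq hr2 h with h | h
    · exact D.ne j h
    · apply hvj1
      rw [hb] at h
      simpa using h
  · -- `v j ∉ N_a`
    intro h
    rw [mem_conj] at h
    by_cases h3 : g⁻¹ * v j * g ∈ zpowers (v i)
    · rcases D.mem_zpv h3 with h4 | h4
      · apply D.ne j
        have : v j = g * (g⁻¹ * v j * g) * g⁻¹ := by group
        rw [this, h4]; group
      · have h5 : g * v i * g⁻¹ = 1 * v j * 1⁻¹ := by rw [← h4]; group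
        have h6 := D.N_congr hz h5
        rw [map_one, one_smul] at h6
        apply hne
        rw [h6]
        exact D.N_comm j
    · obtain ⟨c, hc, h4 | h4⟩ := Sa.pts _ h h3
      · -- `v j` is a neighbour of `a`
        have h5 : g * c * v (i + 1) * (g * c)⁻¹ = v j := by
          have e : g * c * v (i + 1) * (g * c)⁻¹ = g * (c * v (i + 1) * c⁻¹) * g⁻¹ := by group
          rw [e, ← h4]; group
        have h6 : NU V v i ≤ QQ v (i + 1) := by
          have h7 := h2' 1 (by omega) (i, 1) (i + 1, 1) (near_adj _ _ _)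
          rw [vx_mk, vx_mk, map_one, one_smul, one_smul] at h7
          exact (D.N_le_E i).trans h7
        have h7 : MulAut.conj (g * c) • QQ v (i + 1) = QQ v j := conj_Q h5
        apply hne
        have h8 : MulAut.conj g • NU V v i = MulAut.conj (g * c) • NU V v i := by
          rw [← conj_conj, conj_eq_of_mem (D.C_le_N_N i hc)]
        rw [h8]
        exact ((conj_le_iff.2 h6).trans h7.le).trans (D.Q_le_cent_N j)
      · apply hz j (g * c)
        rw [D.v_mul_v i]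
        have e : g * c * (v (i + 1) * v i) * (g * c)⁻¹ = g * (c * v (i + 1) * c⁻¹ * (c * v i * c⁻¹)) * g⁻¹ := by group
        rw [e, D.conj_v i hc, ← h4]; group

end Fr

end Cfsg.Agent.Omega.TC

end

section


/-!
# CARD #18791, [C] (helper918 #19487, section 2): `d = 2`, `[N_a, N_b] = ⟨u⟩`

* `Fr.rep2` : a critical pair at distance 2 is `(N_j^g, N_j)` with `g ∈ C_(j+1)`;
* `Fr.c22` : (2.2) `[W_(j+1), N_j] = 1`;
* `Fr.c23` : (2.3) `[W_j, N_(j+1)] = 1`;
* `Fr.thmC` : **THEOREM C**;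
* `Fr.no_trans` : **COROLLARY 2 of #20268 for `d ≥ 2`**.
-/

set_option autoImplicit false
set_option linter.unusedSectionVars false

namespace Cfsg.Agent.Omega.TC

open Subgroup Cfsg Cfsg.Agent.ZN Cfsg.Agent.Omega.MinPar
open Cfsg.Agent.Omega.OM.KTwo (CC QQ WU NU EU FF ne_add_one eq_add_one add_one_add_one le_normalizer_V le_V
  le_o2_of_commutator)
open Cfsg.Agent.Omega.NoFF.Basic (conj_conj mem_conj conj_le_iff conj_le_centralizer comm_symm comm_mono
  Z_le_V V_le conj_V_mul)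
open Cfsg.Agent.Omega.NOThreeL.Pair (conj_eq_of_mem)
open Cfsg.Agent.Omega.NO3L.LemP (Near Same Adj Comm vx vx_eq vx_same vx_mono vx_mk conj_comm_iff)
open Cfsg.Agent.ZN.ChoiceSit (Syl exists_syl syl_conj o2_le_syl)
open Cfsg.Agent.MinSimple.VModule (mem_zc zc_le normalizer_le_normalizer_zc le_normalizer_o2 le_o2 o2_le
  o2_isPGroup)
open scoped Pointwise

universe u

variable {G : Type u} [Group G]

theorem kp_inv {x y : G} {Z : Subgroup G} (h : x * y * x⁻¹ * y⁻¹ ∈ Z) : y * x * y⁻¹ * x⁻¹ ∈ Z := by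
  have := inv_mem h
  have e : (x * y * x⁻¹ * y⁻¹)⁻¹ = y * x * y⁻¹ * x⁻¹ := by group
  rwa [e] at this

theorem kp_conj_mem {g x y : G} {Z : Subgroup G} (h : g⁻¹ * x * g * (g⁻¹ * y * g) * (g⁻¹ * x * g)⁻¹ *
    (g⁻¹ * y * g)⁻¹ ∈ Z) : x * y * x⁻¹ * y⁻¹ ∈ MulAut.conj g • Z := by
  rw [mem_conj]
  have e : g⁻¹ * (x * y * x⁻¹ * y⁻¹) * g =
    g⁻¹ * x * g * (g⁻¹ * y * g) * (g⁻¹ * x * g)⁻¹ * (g⁻¹ * y * g)⁻¹ := by group
  rwa [e]

namespace Fr

variable [Finite G] {T : Subgroup G} {V P : Fin 2 → Subgroup G} {v : Fin 2 → G} (D : Fr T V P v)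

include D

theorem conj_zpv {i : Fin 2} {c : G} (hc : c ∈ CC v i) : MulAut.conj c • zpowers (v i) = zpowers (v i) :=
  conj_eq_of_mem (D.C_le_N_Z i hc)

/-- `[N_j, X] ≤ ⟨v_(j+1)⟩`, `X ≤ N_j^c ≤ Q_(j+1)` : section 0 for a transvection with centre `v_(j+1)` -/
theorem sec_v (hsec : Sec0 T V v) {j : Fin 2} {x : G} (hx : x ∈ CC v j) (hxc : x ∉ centralizer (NU V v j : Set G))
    (h : ∀ n ∈ NU V v j, n * x * n⁻¹ * x⁻¹ ∈ zpowers (v (j + 1))) :
    v j ∉ NU V v j ∧ (NU V v j = HU V T j ∨ SpF T V v j (v (j + 1))) := by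
  rcases hsec j _ (Or.inl rfl) x hx hxc h with h1 | h1
  · exact ⟨h1.2, Or.inl h1.1⟩
  · exact ⟨h1.2 rfl, Or.inr h1.1⟩

theorem W_cent_H (j : Fin 2) : WU V v (j + 1) ≤ centralizer (HU V T j : Set G) :=
  (D.W_comm (j + 1)).trans (centralizer_le (D.H_le_W j))

/-- (2.2): `[W_(j+1), N_j] = 1` -/
theorem c22 {j : Fin 2} (hd : NU V v j ≤ QQ v (j + 1)) (S : SpF T V v j (v (j + 1))) (hvj : v j ∉ NU V v j) :
    WU V v (j + 1) ≤ centralizer (NU V v j : Set G) := by
  have hQC : QQ v (j + 1) ≤ CC v j := (D.Q_le_T _).trans (D.T_le_C j)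
  -- `[N_j, W_(j+1)] ≤ ⟨v_(j+1)⟩`
  have hNW : ∀ w ∈ WU V v (j + 1), ∀ n ∈ NU V v j, n * w * n⁻¹ * w⁻¹ ∈ zpowers (v (j + 1)) := fun w hw n hn =>
    S.cenH w (D.W_le_C (j + 1) j hw) (D.W_cent_H j hw) n hn
  -- the points of `N_j`
  have hpt : ∀ n ∈ NU V v j, n ≠ 1 → ∃ c ∈ CC v j, n = c * v (j + 1) * c⁻¹ := by
    intro n hn hn1
    have h1 : n ∉ zpowers (v j) := by
      intro h
      rcases D.mem_zpv h with h | h
      · exact hn1 h
      · exact hvj (h ▸ hn)
    obtain ⟨c, hc, h2 | h2⟩ := S.pts n hn h1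
    · exact ⟨c, hc, h2⟩
    · exfalso
      apply hvj
      have h3 : c * v (j + 1) * c⁻¹ ∈ NU V v j := (mem_normalizer_iff.1 (D.C_le_N_N j hc) _).1 (D.mem_N j)
      have h4 := mul_mem (inv_mem h3) hn
      rwa [h2, inv_mul_cancel_left] at h4
  refine V_le fun c hc => ?_
  suffices hsuff : MulAut.conj c • HU V T j ≤ centralizer (NU V v j : Set G) from
    (conj_le_iff.2 (D.V_le_H j)).trans hsuff
  by_contra hcon
  obtain ⟨e, he, hec⟩ := SetLike.not_le_iff_exists.1 hcon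
  -- `N' = N_j^c ≤ Q_(j+1)`
  have hN' : MulAut.conj c • NU V v j ≤ QQ v (j + 1) := by
    rw [← D.conj_QQ hc]
    exact conj_le_iff.2 hd
  have heW : e ∈ WU V v (j + 1) := by
    have h1 := conj_le_iff (g := c) |>.2 (D.H_le_W j)
    rw [conj_eq_of_mem (D.C_le_N_W (j + 1) hc)] at h1
    exact h1 he
  have heN : e ∈ MulAut.conj c • NU V v j := conj_le_iff.2 (D.H_le_N j) he
  by_cases hA : ∀ x ∈ MulAut.conj c • NU V v j, ∀ n ∈ NU V v j, n * x * n⁻¹ * x⁻¹ ∈ zpowers (v (j + 1))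
  · -- `N_j` centralises `HU^c`
    apply hec
    rw [mem_centralizer_iff]
    intro y hy
    have hy1 : c⁻¹ * y * c ∈ CC v j := by
      have h1 := hd hy
      rw [← D.conj_QQ hc, mem_conj] at h1
      exact hQC h1
    have hy2 := S.Hcen _ hy1 fun n hn => ?_
    · rw [mem_conj] at he
      have h1 := mem_centralizer_iff.1 hy2 _ he
      have h2 := congrArg (fun t => c * t * c⁻¹) h1
      have e1 : c * (c⁻¹ * e * c * (c⁻¹ * y * c)) * c⁻¹ = e * y := by group
      have e2 : c * (c⁻¹ * y * c * (c⁻¹ * e * c)) * c⁻¹ = y * e := by group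
      simp only [e1, e2] at h2
      exact h2.symm
    · have h1 : c * n * c⁻¹ ∈ MulAut.conj c • NU V v j := by
        rw [mem_conj]
        have e : c⁻¹ * (c * n * c⁻¹) * c = n := by group
        rwa [e]
      have h2 := kp_inv (hA _ h1 y hy)
      have h3 : MulAut.conj c • zpowers (v (j + 1)) = zpowers (v (j + 1)) := D.conj_zpv hc
      rw [← h3, mem_conj] at h2
      have e : c⁻¹ * (c * n * c⁻¹ * y * (c * n * c⁻¹)⁻¹ * y⁻¹) * c = n * (c⁻¹ * y * c) * n⁻¹ * (c⁻¹ * y * c)⁻¹ := by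
        group
      rwa [e] at h2
  · push Not at hA
    obtain ⟨x, hx, n, hn, hρ⟩ := hA
    -- `ρ = [n, x] ∈ N_j ∩ N'`
    set ρ := n * x * n⁻¹ * x⁻¹ with hρdef
    have hρN : ρ ∈ NU V v j := by
      have h1 : x * n⁻¹ * x⁻¹ ∈ NU V v j :=
        (mem_normalizer_iff.1 (D.C_le_N_N j (hQC (hN' hx))) _).1 (inv_mem hn)
      have e : ρ = n * (x * n⁻¹ * x⁻¹) := by rw [hρdef]; group
      rw [e]
      exact mul_mem hn h1
    have hρN' : ρ ∈ MulAut.conj c • NU V v j := by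
      have h1 : c⁻¹ * n * c ∈ CC v j := by
        have h1 := hd hn
        rw [← D.conj_QQ hc, mem_conj] at h1
        exact hQC h1
      have h2 := hx
      rw [mem_conj] at h2 ⊢
      have h3 := (mem_normalizer_iff.1 (D.C_le_N_N j h1) _).1 h2
      have e : c⁻¹ * ρ * c = c⁻¹ * n * c * (c⁻¹ * x * c) * (c⁻¹ * n * c)⁻¹ * (c⁻¹ * x * c)⁻¹ := by
        rw [hρdef]; group
      rw [e]
      exact mul_mem h3 (inv_mem h2)
    have hρ1 : ρ ≠ 1 := fun h => hρ (by rw [h]; exact one_mem _)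
    obtain ⟨c₁, hc₁, hρc⟩ := hpt ρ hρN hρ1
    obtain ⟨c₂, hc₂, hρc'⟩ := hpt (c⁻¹ * ρ * c) (by rwa [mem_conj] at hρN') (by
      intro h
      apply hρ1
      have : ρ = c * (c⁻¹ * ρ * c) * c⁻¹ := by group
      rw [this, h]; group)
    -- `N' ≤ Q_ρ = Q_(j+1)^c₁`
    have hQ1 : MulAut.conj c • NU V v j ≤ MulAut.conj c₁ • QQ v (j + 1) := by
      have h1 : MulAut.conj (c * c₂) • NU V v j = MulAut.conj c • NU V v j := by
        rw [← conj_conj, conj_eq_of_mem (D.C_le_N_N j hc₂)]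
      have h2 : MulAut.conj (c₁⁻¹ * (c * c₂)) • QQ v (j + 1) = QQ v (j + 1) := by
        apply conj_Q
        have e : c₁⁻¹ * (c * c₂) * v (j + 1) * (c₁⁻¹ * (c * c₂))⁻¹ =
          c₁⁻¹ * (c * (c₂ * v (j + 1) * c₂⁻¹) * c⁻¹) * c₁ := by group
        rw [e, ← hρc']
        have e2 : c₁⁻¹ * (c * (c⁻¹ * ρ * c) * c⁻¹) * c₁ = c₁⁻¹ * ρ * c₁ := by group
        rw [e2, hρc]; group
      rw [← h1]
      refine (conj_le_iff.2 hd).trans ?_
      have h3 := congrArg (fun A => MulAut.conj c₁ • A) h2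
      simp only [conj_conj, mul_inv_cancel_left] at h3
      exact h3.le
    -- `e` centralises `HU^c₁`
    have hρz : MulAut.conj c₁ • zpowers (v (j + 1)) = zpowers ρ := by
      rw [hρc]
      ext y
      rw [mem_conj, mem_zpowers_iff, mem_zpowers_iff]
      constructor
      · rintro ⟨k, hk⟩
        exact ⟨k, by rw [conj_zpow, hk]; group⟩
      · rintro ⟨k, hk⟩
        exact ⟨k, by rw [← hk, conj_zpow]; group⟩
    have hρρ : ρ * ρ = 1 := by
      have := D.N_sq j ρ hρN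
      rwa [pow_two] at this
    have he1 : ∀ m ∈ MulAut.conj c₁ • HU V T j, m * e = e * m := by
      intro m hm
      have h1 : m * e * m⁻¹ * e⁻¹ ∈ zpowers ρ := by
        rw [← hρz]
        refine kp_conj_mem (D.comm_W_Q (j + 1) _ (D.H_le_W j ?_) _ ?_)
        · rwa [mem_conj] at hm
        · have := hQ1 heN
          rwa [mem_conj] at this
      have h2 : m * e * m⁻¹ * e⁻¹ ∈ zpowers (v (j + 1)) := by
        refine hNW e heW m ?_
        have h3 := conj_le_iff (g := c₁) |>.2 (D.H_le_N j)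
        rw [conj_eq_of_mem (D.C_le_N_N j hc₁)] at h3
        exact h3 hm
      rcases D.mem_zpv h2 with h3 | h3
      · exact comm_of_kp h3
      · exfalso
        rcases mem_zp_of_sq hρρ h1 with h4 | h4
        · rw [h3] at h4
          exact D.ne _ h4
        · apply hρ
          rw [← h4, h3]
          exact mem_zpowers _
    have he0 : ∀ m ∈ HU V T j, m * e = e * m := fun m hm => mem_centralizer_iff.1 (D.W_cent_H j heW) m hm
    by_cases heq : MulAut.conj c₁ • HU V T j = HU V T j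
    · -- `c₁ ∈ D`
      have h1 := D.cent_zc_le (j + 1) (S.inj c₁ hc₁ heq)
      apply hρ
      rw [hρc, D.conj_v _ h1]
      exact mem_zpowers _
    · apply hec
      obtain ⟨m₀, hm₀, hm₀'⟩ : ∃ m₀ ∈ MulAut.conj c₁ • HU V T j, m₀ ∉ HU V T j := by
        by_contra hcon2
        push Not at hcon2
        apply heq
        refine Subgroup.eq_of_le_of_card_ge hcon2 ?_
        exact (Nat.card_congr (Subgroup.equivSMul (MulAut.conj c₁) (HU V T j)).toEquiv).le
      have hm₀N : m₀ ∈ NU V v j := by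
        have h3 := conj_le_iff (g := c₁) |>.2 (D.H_le_N j)
        rw [conj_eq_of_mem (D.C_le_N_N j hc₁)] at h3
        exact h3 hm₀
      rw [mem_centralizer_iff]
      intro y hy
      by_cases hyH : y ∈ HU V T j
      · exact he0 y hyH
      · have h1 := he0 _ (mul_mem_of_idx S.idx hy hm₀N hyH hm₀')
        have h2 := he1 m₀ hm₀
        calc y * e = y * (e * m₀) * m₀⁻¹ := by group
          _ = y * m₀ * e * m₀⁻¹ := by rw [← h2]; group
          _ = e * (y * m₀) * m₀⁻¹ := by rw [h1]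
          _ = e * y := by group

/-- (2.3): `[W_j, N_(j+1)] = 1` -/
theorem c23 (hsec : Sec0 T V v) {j : Fin 2} (hd : NU V v (j + 1) ≤ QQ v j) (hWQ : WU V v (j + 1) ≤ QQ v j) :
    WU V v j ≤ centralizer (NU V v (j + 1) : Set G) := by
  by_contra hcon
  obtain ⟨w, hw, hwc⟩ := SetLike.not_le_iff_exists.1 hcon
  have hvv : v (j + 1 + 1) = v j := by rw [add_one_add_one]
  have hcomm : ∀ x ∈ WU V v j, ∀ n ∈ NU V v (j + 1), n * x * n⁻¹ * x⁻¹ ∈ zpowers (v j) := fun x hx n hn =>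
    kp_inv (D.comm_W_Q j x hx n (hd hn))
  obtain ⟨h1, h2⟩ := D.sec_v hsec (j := j + 1) (D.W_le_C j (j + 1) hw) hwc (fun n hn => by
    rw [hvv]; exact hcomm w hw n hn)
  rcases h2 with h2 | S
  · apply hwc
    rw [h2]
    have h3 := D.W_cent_H (j + 1)
    rw [add_one_add_one] at h3
    exact h3 hw
  · rw [hvv] at S
    set R := NoFF.Basic.V (WU V v j) (CC v (j + 1)) with hR
    have hRC : R ≤ CC v (j + 1) := by
      refine V_le fun c hc => ?_
      rw [← NoFF.Basic.conj_self hc]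
      exact conj_le_iff.2 (D.W_le_C j (j + 1))
    refine D.lemX (i := j + 1) (R := R) hRC (le_normalizer_V _ _) (fun h => hcon ((le_V _ _).trans h)) ?_ S.fixT
      (D.fixR S (D.W_le_C j (j + 1)) hcon (fun n hn x hx => hcomm x hx n hn) ?_)
    · intro r hr' u hu
      have h1 := comm_V (B := NU V v (j + 1)) (Q := WU V v (j + 1)) (D.W_le_C j (j + 1)) (D.C_le_N_N (j + 1))
        (D.C_le_N_W (j + 1)) (fun x hx y hy => by
          have h4 := D.comm_W_Q j x hx y (hWQ hy)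
          have h5 : zpowers (v j) ≤ NU V v (j + 1) := by
            rw [zpowers_le, ← hvv]
            exact D.mem_N (j + 1)
          exact h5 h4) r hr' u⁻¹ (inv_mem (D.V_le_W (j + 1) hu))
      have e : u⁻¹ * r * u * r⁻¹ = (r * u⁻¹ * r⁻¹ * u⁻¹⁻¹)⁻¹ := by group
      rw [e]
      exact D.N_le_E (j + 1) (inv_mem h1)
    · intro h
      rcases D.mem_zpv h with h | h
      · exact D.ne _ h
      · exact D.v_ne_v (ne_add_one j) h.symm

/-- **THEOREM C**, `(N_j^g, N_j)`, `g ∈ C_(j+1)` -/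
theorem thmC' (htc : TCp T V v) (hsec : Sec0 T V v) (hz : ∀ (j : Fin 2) (g : G), g * (v 0 * v 1) * g⁻¹ ≠ v j)
    (hd : ∀ i, NU V v i ≤ QQ v (i + 1)) {j : Fin 2} {g : G} (hg : g ∈ CC v (j + 1))
    (hne : ¬ MulAut.conj g • NU V v j ≤ centralizer (NU V v j : Set G)) {r : G} (hr2 : r * r = 1)
    (hr : ∀ x ∈ MulAut.conj g • NU V v j, ∀ y ∈ NU V v j, x * y * x⁻¹ * y⁻¹ ∈ zpowers r) : False := by
  have hQg : MulAut.conj g • QQ v (j + 1) = QQ v (j + 1) := D.conj_QQ hg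
  have hQT : ∀ l k, QQ v l ≤ CC v k := fun l k => (D.Q_le_T l).trans (D.T_le_C k)
  have hQ1 : MulAut.conj g • NU V v j ≤ QQ v (j + 1) := by
    rw [← hQg]
    exact conj_le_iff.2 (hd j)
  have hQ2 : NU V v j ≤ MulAut.conj g • QQ v (j + 1) := by rw [hQg]; exact hd j
  have hb := D.tc_b htc hr2 hQ1 hr hne
  have ha := D.tc_a htc hr2 hQ2 hr hne
  have hgv : g * v (j + 1) * g⁻¹ = v (j + 1) := D.conj_v _ hg
  -- the centre is `v (j+1)`
  have hrv : r = v (j + 1) := by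
    rcases hb with hb | ⟨-, hb⟩
    · exact hb
    · exfalso
      rcases ha with ha | ⟨-, ha⟩
      · rw [ha, hgv] at hb
        exact D.ne j (by simpa using hb.symm)
      · -- `g` fixes `v j`
        apply hne
        have h1 : g * v j * g⁻¹ = v j := by
          have h2 : g * (v (j + 1) * v j) * g⁻¹ = v (j + 1) * (g * v j * g⁻¹) := by
            calc g * (v (j + 1) * v j) * g⁻¹ = (g * v (j + 1) * g⁻¹) * (g * v j * g⁻¹) := by group
              _ = v (j + 1) * (g * v j * g⁻¹) := by rw [hgv]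
          rw [h2, hb] at ha
          exact (mul_left_cancel ha).symm
        have h3 : g ∈ CC v j := by
          rw [CC, mem_centralizer_singleton_iff]
          calc g * v j = g * v j * g⁻¹ * g := by group
            _ = v j * g := by rw [h1]
        rw [conj_eq_of_mem (D.C_le_N_N j h3)]
        exact D.N_comm j
  subst hrv
  -- section 0
  obtain ⟨x, hx, hxc⟩ := SetLike.not_le_iff_exists.1 hne
  obtain ⟨hvj, hS⟩ := D.sec_v hsec (j := j) (hQT _ _ (hQ1 hx)) hxc fun n hn => kp_inv (hr x hx n hn)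
  rcases hS with hS | S
  · -- (gl)
    have h1 : NU V v j ≤ WU V v (j + 1) := by rw [hS]; exact D.H_le_W j
    apply hne
    have h2 := conj_le_iff (g := g) |>.2 h1
    rw [conj_eq_of_mem (D.C_le_N_W (j + 1) hg)] at h2
    exact comm_mono (D.W_comm (j + 1)) h2 h1
  · have hW1 : WU V v (j + 1) ≤ QQ v j :=
      (le_inf ((D.W_le_Q (j + 1)).trans (D.Q_le_o2D (j + 1))) (D.c22 (hd j) S hvj)).trans (D.f3 j)
    have hd' : NU V v (j + 1) ≤ QQ v j := by
      have := hd (j + 1)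
      rwa [add_one_add_one] at this
    have hW2 : WU V v j ≤ QQ v (j + 1) :=
      (le_inf ((D.W_le_Q j).trans (D.Q_le_o2D j)) (D.c23 hsec hd' hW1)).trans (D.f3 (j + 1))
    refine D.fin hQ1 (hQ2.trans (conj_le_iff.2 (hQT _ _))) ?_ hne S S hgv (D.mem_N j) ?_ hr ?_
    · rw [← hQg] at hW2
      exact hW2.trans (conj_le_iff.2 (hQT _ _))
    · intro h
      rcases D.mem_zpv h with h | h
      · exact D.ne j h
      · exact D.v_ne_v (ne_add_one j) h
    · intro h
      rw [mem_conj] at h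
      have h3 : g⁻¹ * v j * g ∉ zpowers (v j) := by
        intro h3
        rcases D.mem_zpv h3 with h4 | h4
        · apply D.ne j
          have : v j = g * (g⁻¹ * v j * g) * g⁻¹ := by group
          rw [this, h4]; group
        · apply hvj
          rwa [h4] at h
      obtain ⟨c, hc, h4 | h4⟩ := S.pts _ h h3
      · have h5 : g * c * v (j + 1) * (g * c)⁻¹ = v j := by
          have e : g * c * v (j + 1) * (g * c)⁻¹ = g * (c * v (j + 1) * c⁻¹) * g⁻¹ := by group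
          rw [e, ← h4]; group
        have h7 : MulAut.conj (g * c) • QQ v (j + 1) = QQ v j := conj_Q h5
        apply hne
        have h8 : MulAut.conj g • NU V v j = MulAut.conj (g * c) • NU V v j := by
          rw [← conj_conj, conj_eq_of_mem (D.C_le_N_N j hc)]
        rw [h8]
        exact ((conj_le_iff.2 (hd j)).trans h7.le).trans (D.Q_le_cent_N j)
      · apply hz j (g * c)
        rw [D.v_mul_v j]
        have e : g * c * (v (j + 1) * v j) * (g * c)⁻¹ = g * (c * v (j + 1) * c⁻¹ * (c * v j * c⁻¹)) * g⁻¹ := by group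
        rw [e, D.conj_v j hc, ← h4]; group

/-- a critical pair at distance `2` -/
theorem rep2 (hC : Comm (CC v) (EU T v) 2) {i j : Fin 2} {g : G} (hN1 : Near (CC v) 1 (i, g) (j + 1, 1))
    (hne : ¬ MulAut.conj g • NU V v i ≤ centralizer (NU V v j : Set G)) :
    i = j ∧ ∃ g' ∈ CC v (j + 1), MulAut.conj g' • NU V v j = MulAut.conj g • NU V v i := by
  obtain ⟨e, he, x, hx, hx'⟩ := hN1
  obtain ⟨he1, he2⟩ := he
  have he1' : i = e.1 := he1
  have he2' : g⁻¹ * e.2 ∈ CC v i := he2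
  have hx2 : x ∈ CC v (j + 1) := by simpa using hx'
  have h1 : g⁻¹ * x ∈ CC v i := by
    rw [← he1'] at hx
    have := mul_mem he2' hx
    have e3 : g⁻¹ * e.2 * (e.2⁻¹ * x) = g⁻¹ * x := by group
    rwa [e3] at this
  have h2 : MulAut.conj x • NU V v i = MulAut.conj g • NU V v i := conj_congr (D.C_le_N_N i) h1
  have hij : i = j := by
    by_contra hij
    have hi : i = j + 1 := eq_add_one (Ne.symm hij)
    apply hne
    rw [← h2, hi, conj_eq_of_mem (D.C_le_N_N (j + 1) hx2)]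
    have h3 := D.comm_N (i := j + 1) (j := j) (x := 1) (y := 1) hC le_rfl (near_adj _ _ _)
    rwa [map_one, one_smul, one_smul] at h3
  refine ⟨hij, x, hx2, ?_⟩
  rw [← h2, hij]

/-- **THEOREM C**: a critical pair at distance `2` does not have `|[N_a, N_b]| = 2`. -/
theorem thmC (htc : TCp T V v) (hsec : Sec0 T V v) (hz : ∀ (j : Fin 2) (g : G), g * (v 0 * v 1) * g⁻¹ ≠ v j)
    (hC : Comm (CC v) (EU T v) 2) {i j : Fin 2} {g : G} (hN1 : Near (CC v) 1 (i, g) (j + 1, 1))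
    (hne : ¬ MulAut.conj g • NU V v i ≤ centralizer (NU V v j : Set G)) {r : G} (hr2 : r * r = 1)
    (hr : ∀ x ∈ MulAut.conj g • NU V v i, ∀ y ∈ NU V v j, x * y * x⁻¹ * y⁻¹ ∈ zpowers r) : False := by
  obtain ⟨rfl, g', hg', h1⟩ := D.rep2 hC hN1 hne
  rw [← h1] at hne hr
  refine D.thmC' htc hsec hz (fun k => ?_) hg' hne hr2 hr
  have h2 := D.data.le_R hC 1 (by norm_num) (k, 1) (k + 1, 1) (near_adj _ _ _)
  rw [vx_mk, vx_mk, map_one, one_smul, one_smul] at h2
  exact (D.N_le_E k).trans h2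

/-- **[C] + [D]** (COROLLARY 2 of #20268, `d ≥ 2`): no critical pair at distance `n + 1 ≥ 2` has
`|[N_a, N_b]| = 2`. -/
theorem no_trans (htc : TCp T V v) (hsec : Sec0 T V v) (hz : ∀ (j : Fin 2) (g : G), g * (v 0 * v 1) * g⁻¹ ≠ v j)
    {n : ℕ} (hn : 1 ≤ n) (hC : Comm (CC v) (EU T v) (n + 1)) {i j : Fin 2} {g : G}
    (hN1 : Near (CC v) n (i, g) (j + 1, 1)) (hN2 : Near (CC v) n (i + 1, g) (j, 1))
    (hne : ¬ MulAut.conj g • NU V v i ≤ centralizer (NU V v j : Set G)) {r : G} (hr2 : r * r = 1)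
    (hr : ∀ x ∈ MulAut.conj g • NU V v i, ∀ y ∈ NU V v j, x * y * x⁻¹ * y⁻¹ ∈ zpowers r) : False := by
  rcases Nat.lt_or_ge n 2 with h | h
  · have h1 : n = 1 := by omega
    subst h1
    exact D.thmC htc hsec hz hC hN1 hne hr2 hr
  · exact D.thmD htc hsec hz h hC hN1 hN2 hne hr2 hr

end Fr

end Cfsg.Agent.Omega.TC

end

section


/-!
# THEOREM PC (helper691 #20995 (A)): two transvections `a`, `b` with `a b a = b a b`

`s3` : `M` abelian of exponent 2, `a`, `b` induce transvections (or 1) of order `≤ 2` on `M` with `(ab)³ = 1`; then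
`a = b` on `M` or every vector moved by `a` and by `b` is fixed by `b a b`.
-/

set_option autoImplicit false

namespace Cfsg.Agent.Omega.TC.PC

theorem s3' {M : Type*} [AddCommGroup M] (h2 : ∀ x : M, x + x = 0) (A B : M →+ M) (hA : ∀ x, A (A x) = x)
    (hB : ∀ x, B (B x) = x) (Ta : ∀ y y', A y ≠ y → A y' ≠ y' → A y + y = A y' + y')
    (Tb : ∀ y y', B y ≠ y → B y' ≠ y' → B y + y = B y' + y') (hc : ∀ y, A (B (A y)) = B (A (B y))) {m : M}
    (h1 : A m ≠ m) (h1' : B m ≠ m) : B (A (B m)) = m ∨ ∀ y, A y = B y := by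
  have hcan : ∀ x y : M, x + (x + y) = y := fun x y => by rw [← add_assoc, h2, zero_add]
  have hz : ∀ x y : M, x + y = 0 → x = y := fun x y h => by
    calc x = x + (x + y) := by rw [h, add_zero]
      _ = y := hcan x y
  obtain ⟨k, hk⟩ : ∃ k, k = A m + m := ⟨_, rfl⟩
  obtain ⟨l, hl⟩ : ∃ l, l = B m + m := ⟨_, rfl⟩
  have hk0 : k ≠ 0 := fun h => h1 (hz _ _ (hk.symm.trans h))
  have hl0 : l ≠ 0 := fun h => h1' (hz _ _ (hl.symm.trans h))
  have hAm : A m = k + m := by rw [hk, add_assoc, h2, add_zero]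
  have hBm : B m = l + m := by rw [hl, add_assoc, h2, add_zero]
  have hAk : A k = k := by rw [hk, map_add, hA, add_comm]
  have hBl : B l = l := by rw [hl, map_add, hB, add_comm]
  have hAy : ∀ y, A y = y ∨ A y = k + y := by
    intro y
    by_cases h : A y = y
    · exact Or.inl h
    · right
      rw [hk, ← Ta y m h h1, add_assoc, h2, add_zero]
  have hBy : ∀ y, B y = y ∨ B y = l + y := by
    intro y
    by_cases h : B y = y
    · exact Or.inl h
    · right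
      rw [hl, ← Tb y m h h1', add_assoc, h2, add_zero]
  have hcm := hc m
  rcases hAy l with hAl | hAl <;> rcases hBy k with hBk | hBk
  · -- `k = l`
    have e1 : A (B (A m)) = l + m := by
      rw [hAm, map_add, hBk, hBm, map_add, map_add, hAk, hAl, hAm]
      rw [add_left_comm l k m, hcan]
    have e2 : B (A (B m)) = k + m := by
      rw [hBm, map_add, hAl, hAm, map_add, map_add, hBl, hBk, hBm]
      rw [add_left_comm k l m, hcan]
    rw [e1, e2] at hcm
    have hlk : l = k := add_right_cancel hcm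
    subst hlk
    right
    intro y
    have hcy := hc y
    rcases hAy y with h | h <;> rcases hBy y with h' | h'
    · rw [h, h']
    · exfalso
      apply hk0
      rw [h, h', map_add, map_add, hAk, h, hBl, h', hcan] at hcy
      exact add_eq_right.1 hcy
    · exfalso
      apply hk0
      rw [h, h', map_add, hBl, h', map_add, hAk, h, hcan, map_add, hBl, h'] at hcy
      exact add_eq_right.1 hcy.symm
    · rw [h, h']
  · left
    rw [← hcm, hAm, map_add, hBk, hBm]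
    have e : l + k + (l + m) = k + m := by
      rw [add_comm l k, add_assoc, hcan]
    rw [e, map_add, hAk, hAm, hcan]
  · left
    rw [hBm, map_add, hAl, hAm]
    have e : k + l + (k + m) = l + m := by
      rw [add_comm k l, add_assoc, hcan]
    rw [e, map_add, hBl, hBm, hcan]
  · left
    rw [hBm, map_add, hAl, hAm]
    have e : k + l + (k + m) = l + m := by
      rw [add_comm k l, add_assoc, hcan]
    rw [e, map_add, hBl, hBm, hcan]

/-- the same for elements of a group acting by conjugation on `M` modulo `E` -/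
theorem s3 {G : Type*} [Group G] {S E : Subgroup G} (hSc : ∀ x ∈ S, ∀ y ∈ S, x * y = y * x)
    (hS2 : ∀ x ∈ S, x * x = 1) {a b : G} (haS : ∀ y ∈ S, a * y * a⁻¹ ∈ S)
    (hbS : ∀ y ∈ S, b * y * b⁻¹ ∈ S) (haE : ∀ y ∈ E, a * y * a⁻¹ ∈ E) (hbE : ∀ y ∈ E, b * y * b⁻¹ ∈ E)
    (ha2 : a * a = 1) (hb2 : b * b = 1)
    (Ta : ∀ y ∈ S, ∀ y' ∈ S, a * y * a⁻¹ * y⁻¹ ∉ E → a * y' * a⁻¹ * y'⁻¹ ∉ E → a * (y * y') * a⁻¹ * (y * y')⁻¹ ∈ E)
    (Tb : ∀ y ∈ S, ∀ y' ∈ S, b * y * b⁻¹ * y⁻¹ ∉ E → b * y' * b⁻¹ * y'⁻¹ ∉ E → b * (y * y') * b⁻¹ * (y * y')⁻¹ ∈ E)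
    (hc : ∀ y ∈ S, (a * b * a * y * (a * b * a)⁻¹) * (b * a * b * y * (b * a * b)⁻¹)⁻¹ ∈ E) {m : G} (hm : m ∈ S)
    (h1 : a * m * a⁻¹ * m⁻¹ ∉ E) (h2 : b * m * b⁻¹ * m⁻¹ ∉ E) :
    b * a * b * m * (b * a * b)⁻¹ * m⁻¹ ∈ E ∨ ∀ y ∈ S, (a * y * a⁻¹) * (b * y * b⁻¹)⁻¹ ∈ E := by
  let _ : CommGroup S := { (inferInstance : Group S) with
    mul_comm := fun x y => Subtype.ext (hSc x x.2 y y.2) }
  let E' : Subgroup S := E.subgroupOf S
  let cg : ∀ {c : G}, (∀ y ∈ S, c * y * c⁻¹ ∈ S) → (S →* S) := fun {c} h =>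
    { toFun := fun y => ⟨c * y * c⁻¹, h y y.2⟩
      map_one' := Subtype.ext (by simp)
      map_mul' := fun x y => Subtype.ext (by
        change c * ((x : G) * y) * c⁻¹ = c * x * c⁻¹ * (c * y * c⁻¹)
        group) }
  have hcE : ∀ {c : G} (h : ∀ y ∈ S, c * y * c⁻¹ ∈ S), (∀ y ∈ E, c * y * c⁻¹ ∈ E) → E' ≤ E'.comap (cg h) := by
    intro c h h' x hx
    rw [Subgroup.mem_comap]
    exact h' _ hx
  let A : Additive (S ⧸ E') →+ Additive (S ⧸ E') := (QuotientGroup.map E' E' (cg haS) (hcE haS haE)).toAdditive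
  let B : Additive (S ⧸ E') →+ Additive (S ⧸ E') := (QuotientGroup.map E' E' (cg hbS) (hcE hbS hbE)).toAdditive
  let q : S → Additive (S ⧸ E') := fun y => Additive.ofMul (QuotientGroup.mk y)
  have hq : ∀ x : Additive (S ⧸ E'), ∃ y : S, q y = x := fun x => by
    obtain ⟨y, hy⟩ := QuotientGroup.mk_surjective (Additive.toMul x)
    exact ⟨y, congrArg Additive.ofMul hy⟩
  have hAq : ∀ y : S, A (q y) = q (cg haS y) := fun y => rfl
  have hBq : ∀ y : S, B (q y) = q (cg hbS y) := fun y => rfl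
  have hqadd : ∀ x y : S, q x + q y = q (x * y) := fun x y => rfl
  have hq0 : ∀ x y : S, q x = q y ↔ (x : G) * (y : G)⁻¹ ∈ E := by
    intro x y
    have h3 : q x = q y ↔ (QuotientGroup.mk x : S ⧸ E') = QuotientGroup.mk y := Iff.rfl
    rw [h3, QuotientGroup.eq_iff_div_mem, Subgroup.mem_subgroupOf, div_eq_mul_inv]
    rfl
  have hxx : ∀ x : S, x * x = 1 := fun x => Subtype.ext (hS2 x x.2)
  have h22 : ∀ x : Additive (S ⧸ E'), x + x = 0 := by
    intro x
    obtain ⟨y, rfl⟩ := hq x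
    rw [hqadd, hxx]
    rfl
  have hTr : ∀ {c : G} (h : ∀ y ∈ S, c * y * c⁻¹ ∈ S), (∀ y ∈ S, ∀ y' ∈ S, c * y * c⁻¹ * y⁻¹ ∉ E →
      c * y' * c⁻¹ * y'⁻¹ ∉ E → c * (y * y') * c⁻¹ * (y * y')⁻¹ ∈ E) → ∀ y y' : S, q (cg h y) ≠ q y →
      q (cg h y') ≠ q y' → q (cg h y) + q y = q (cg h y') + q y' := by
    intro c h hT y y' h3 h4
    have h5 := hT y y.2 y' y'.2 (fun h => h3 ((hq0 _ _).2 h)) fun h => h4 ((hq0 _ _).2 h)
    have h6 : q (cg h (y * y')) = q (y * y') := (hq0 _ _).2 h5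
    rw [map_mul, ← hqadd, ← hqadd] at h6
    -- `A y + A y' = y + y'`
    have h7 : ∀ s t u w : Additive (S ⧸ E'), s + t = u + w → s + u = t + w := by
      intro s t u w h8
      calc s + u = s + (t + t) + u := by rw [h22, add_zero]
        _ = (s + t) + (t + u) := by abel
        _ = (u + w) + (t + u) := by rw [h8]
        _ = (u + u) + (t + w) := by abel
        _ = t + w := by rw [h22, zero_add]
    exact h7 _ _ _ _ h6
  have hinv : ∀ {c : G} (h : ∀ y ∈ S, c * y * c⁻¹ ∈ S), c * c = 1 → ∀ y : S, cg h (cg h y) = y := by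
    intro c h hcc y
    apply Subtype.ext
    change c * (c * y * c⁻¹) * c⁻¹ = y
    have e : c * (c * (y : G) * c⁻¹) * c⁻¹ = (c * c) * y * (c * c)⁻¹ := by group
    rw [e, hcc]; group
  have key := s3' h22 A B (fun x => by
      obtain ⟨y, rfl⟩ := hq x
      rw [hAq, hAq, hinv haS ha2]) (fun x => by
      obtain ⟨y, rfl⟩ := hq x
      rw [hBq, hBq, hinv hbS hb2]) (fun x x' => by
      obtain ⟨y, rfl⟩ := hq x
      obtain ⟨y', rfl⟩ := hq x'
      exact hTr haS Ta y y') (fun x x' => by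
      obtain ⟨y, rfl⟩ := hq x
      obtain ⟨y', rfl⟩ := hq x'
      exact hTr hbS Tb y y') (fun x => by
      obtain ⟨y, rfl⟩ := hq x
      rw [hAq, hBq, hAq, hBq, hAq, hBq]
      apply (hq0 _ _).2
      have h3 := hc y y.2
      have e : ((cg haS (cg hbS (cg haS y)) : S) : G) * ((cg hbS (cg haS (cg hbS y)) : S) : G)⁻¹ =
          (a * b * a * y * (a * b * a)⁻¹) * (b * a * b * y * (b * a * b)⁻¹)⁻¹ := by
        change a * (b * (a * (y : G) * a⁻¹) * b⁻¹) * a⁻¹ * (b * (a * (b * (y : G) * b⁻¹) * a⁻¹) * b⁻¹)⁻¹ = _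
        group
      rwa [e]) (m := q ⟨m, hm⟩) (fun h => h1 ((hq0 _ _).1 h)) (fun h => h2 ((hq0 _ _).1 h))
  rcases key with h | h
  · left
    rw [hBq, hAq, hBq] at h
    have h3 := (hq0 _ _).1 h
    have e : ((cg hbS (cg haS (cg hbS ⟨m, hm⟩)) : S) : G) * (m : G)⁻¹ =
        b * a * b * m * (b * a * b)⁻¹ * m⁻¹ := by
      change b * (a * (b * m * b⁻¹) * a⁻¹) * b⁻¹ * m⁻¹ = _
      group
    rwa [← e]
  · right
    intro y hy
    exact (hq0 _ _).1 (h (q ⟨y, hy⟩))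

end Cfsg.Agent.Omega.TC.PC

end

section


/-!
# CARD #18791, THEOREM PC (helper691 #20995 (A)): `d ≥ 2 ⟹ [W_a, N_b] = 1` for all `a ~ b`

`Fr.pc` : `N_k ≤ Q_(k+1)` for both `k` implies `[W_j, N_(j+1)] = 1`.  Inputs: `Sec0` (section 0), `FrmP` (the
invariant form, representability).
-/

set_option autoImplicit false
set_option linter.unusedSectionVars false

namespace Cfsg.Agent.Omega.TC

open Subgroup Cfsg Cfsg.Agent.ZN Cfsg.Agent.Omega.MinPar
open Cfsg.Agent.Omega.OM.KTwo (CC QQ WU NU EU FF ne_add_one eq_add_one add_one_add_one le_normalizer_V le_V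
  le_o2_of_commutator)
open Cfsg.Agent.Omega.OM.KTwo.StrSp (Pts Tr Frm)
open Cfsg.Agent.Omega.NoFF.Basic (conj_conj mem_conj conj_le_iff conj_le_centralizer comm_symm comm_mono
  Z_le_V V_le conj_V_mul)
open Cfsg.Agent.Omega.NOThreeL.Pair (conj_eq_of_mem)
open Cfsg.Agent.MinSimple.VModule (mem_zc zc_le normalizer_le_normalizer_zc le_normalizer_o2 le_o2 o2_le
  o2_isPGroup)
open scoped Pointwise

universe u

variable {G : Type u} [Group G]

/-- the invariant form on `N_i`, no radical -/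
structure BForm (T : Subgroup G) (V : Fin 2 → Subgroup G) (v : Fin 2 → G) (i : Fin 2) (B : G → G → ℤˣ) : Prop where
  F : Frm (CC v i) (NU V v i) 1 (v (i + 1)) B
  H_iff : ∀ n ∈ NU V v i, n ∈ HU V T i ↔ B (v (i + 1)) n = 1
  nd : ∀ u ∈ NU V v i, (∀ w ∈ NU V v i, B u w = 1) → u = 1
  rep : ∀ f : G → ℤˣ, f 1 = 1 → (∀ x ∈ NU V v i, ∀ y ∈ NU V v i, B x y = -1 → f (x * y) = f x * f y) →
    (∀ x ∈ V (i + 1), f x = 1) → ∃ z ∈ NU V v i, ∀ x ∈ NU V v i, f x = B z x

/-- section 0 with the form, as a hypothesis -/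
def FrmP (T : Subgroup G) (V : Fin 2 → Subgroup G) (v : Fin 2 → G) : Prop :=
  ∀ (i : Fin 2), ∀ x ∈ CC v i, x ∉ centralizer (NU V v i : Set G) →
    (∀ n ∈ NU V v i, n * x * n⁻¹ * x⁻¹ ∈ zpowers (v (i + 1))) → NU V v i = HU V T i ∨ ∃ B, BForm T V v i B

/-- `W_x`, `x = v_j^c` -/
def Wx (V : Fin 2 → Subgroup G) (v : Fin 2 → G) (i : Fin 2) (x : G) : Set G :=
  {w | ∃ c ∈ CC v i, c * v (i + 1) * c⁻¹ = x ∧ c⁻¹ * w * c ∈ WU V v (i + 1)}

/-- `x` fixes `y` modulo `E` -/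
def Fx (E : Subgroup G) (x y : G) : Prop := x * y * x⁻¹ * y⁻¹ ∈ E

/-- the situation: `[W_j, N_i] = ⟨v_j⟩`, `[W_i, N_j] = ⟨v_i⟩`, `j = i + 1` -/
structure PS [Finite G] (T : Subgroup G) (V P : Fin 2 → Subgroup G) (v : Fin 2 → G) (i : Fin 2)
    (B : G → G → ℤˣ) : Prop where
  D : Fr T V P v
  hd : ∀ k, NU V v k ≤ QQ v (k + 1)
  hmv : ¬ WU V v (i + 1) ≤ centralizer (NU V v i : Set G)
  hmv' : ¬ WU V v i ≤ centralizer (NU V v (i + 1) : Set G)
  hv : v i ∉ NU V v i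
  Si : SpF T V v i (v (i + 1))
  Sj : SpF T V v (i + 1) (v i)
  bf : BForm T V v i B

namespace PS

variable [Finite G] {T : Subgroup G} {V P : Fin 2 → Subgroup G} {v : Fin 2 → G} {i : Fin 2} {B : G → G → ℤˣ}
  (h : PS T V P v i B)

include h

/-- the abelian group `S = W_i N_i` -/
theorem S_comm : ∀ x ∈ WU V v i ⊔ NU V v i, ∀ y ∈ WU V v i ⊔ NU V v i, x * y = y * x := fun x hx _ hy =>
  (mem_centralizer_iff.1 (h.D.WN_comm i hy) x hx)

theorem S_sq : ∀ x ∈ WU V v i ⊔ NU V v i, x * x = 1 := fun x hx => by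
  have := h.D.WN_sq i x hx
  rwa [pow_two] at this

theorem C_le_N_S : CC v i ≤ normalizer ((WU V v i ⊔ NU V v i : Subgroup G) : Set G) := by
  intro c hc
  refine ChoiceBase.mem_normalizer_iff_cj.2 ?_
  change MulAut.conj c • (WU V v i ⊔ NU V v i) = _
  rw [Subgroup.smul_sup, conj_eq_of_mem (h.D.C_le_N_N i hc), conj_eq_of_mem (h.D.C_le_N_W i hc)]

theorem conj_S {c y : G} (hc : c ∈ CC v i) (hy : y ∈ WU V v i ⊔ NU V v i) : c * y * c⁻¹ ∈ WU V v i ⊔ NU V v i :=
  (mem_normalizer_iff.1 (h.C_le_N_S hc) y).1 hy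

theorem conj_E {c y : G} (hc : c ∈ CC v i) (hy : y ∈ EU T v i) : c * y * c⁻¹ ∈ EU T v i :=
  (mem_normalizer_iff.1 (h.D.C_le_N_E i hc) y).1 hy

theorem conj_N {c y : G} (hc : c ∈ CC v i) (hy : y ∈ NU V v i) : c * y * c⁻¹ ∈ NU V v i :=
  (mem_normalizer_iff.1 (h.D.C_le_N_N i hc) y).1 hy

theorem S_le_C : WU V v i ⊔ NU V v i ≤ CC v i := sup_le (h.D.W_le_C i i) (h.D.N_le_C i i)

omit h in
theorem fx_mul {E : Subgroup G} {x y z : G} (hE : x * (y * z * y⁻¹ * z⁻¹) * x⁻¹ ∈ E) (h2 : Fx E x z) : Fx E (x * y) z := by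
  have e : x * y * z * (x * y)⁻¹ * z⁻¹ = (x * (y * z * y⁻¹ * z⁻¹) * x⁻¹) * (x * z * x⁻¹ * z⁻¹) := by group
  unfold Fx at *
  rw [e]
  exact mul_mem hE h2

theorem fx_mul' {x y z : G} (hx : x ∈ CC v i) (h1 : Fx (EU T v i) y z) (h2 : Fx (EU T v i) x z) :
    Fx (EU T v i) (x * y) z := fx_mul (h.conj_E hx h1) h2

/-- modulo `E`, for `y`, `z ∈ S` -/
theorem fx_mul_right {x y z : G} (hy : y ∈ WU V v i ⊔ NU V v i) (h1 : Fx (EU T v i) x y)
    (h2 : Fx (EU T v i) x z) : Fx (EU T v i) x (y * z) := by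
  have e : x * (y * z) * x⁻¹ * (y * z)⁻¹ = (x * y * x⁻¹ * y⁻¹) * (y * (x * z * x⁻¹ * z⁻¹) * y⁻¹) := by group
  unfold Fx at *
  rw [e]
  exact mul_mem h1 (h.conj_E (h.S_le_C hy) h2)

theorem fx_conj {g x y : G} (hg : g ∈ CC v i) (h1 : Fx (EU T v i) x y) :
    Fx (EU T v i) (g * x * g⁻¹) (g * y * g⁻¹) := by
  have e : g * x * g⁻¹ * (g * y * g⁻¹) * (g * x * g⁻¹)⁻¹ * (g * y * g⁻¹)⁻¹ = g * (x * y * x⁻¹ * y⁻¹) * g⁻¹ := by group
  unfold Fx at *
  rw [e]
  exact h.conj_E hg h1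

/-- `Q_i` is trivial on `W_i N_i` modulo `E` -/
theorem fx_Q {x y : G} (hx : x ∈ QQ v i) (hy : y ∈ WU V v i ⊔ NU V v i) : Fx (EU T v i) x y := by
  obtain ⟨s, hs, n, hn, rfl⟩ := OM.KTwo.exists_mul_of_mem_sup ((h.D.N_le_C i i).trans (h.D.C_le_N_W i)) hy
  refine h.fx_mul_right (mem_sup_left hs) ?_ ?_
  · exact (zpowers_le.2 (h.D.v_mem_E i i)) (kp_inv (h.D.comm_W_Q i s hs x hx))
  · have h1 : x * n = n * x := (mem_centralizer_iff.1 (h.D.Q_le_cent_N i hx) n hn).symm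
    unfold Fx
    rw [kp_of_comm h1]
    exact one_mem _

theorem fx_N {x n : G} (hx : x ∈ CC v i) (hn : n ∈ NU V v i) : Fx (EU T v i) x n :=
  h.D.N_le_E i (mul_mem (h.conj_N hx hn) (inv_mem hn))

/-! ### the groups `W_x` -/

theorem wx_C {x w : G} (hw : w ∈ Wx V v i x) : w ∈ CC v i := by
  obtain ⟨c, hc, -, h1⟩ := hw
  have h2 := mul_mem (mul_mem hc (h.D.W_le_C (i + 1) i h1)) (inv_mem hc)
  have e : c * (c⁻¹ * w * c) * c⁻¹ = w := by group
  rwa [e] at h2

theorem wx_sq {x w : G} (hw : w ∈ Wx V v i x) : w * w = 1 := by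
  obtain ⟨c, hc, -, h1⟩ := hw
  have h2 := h.D.W_sq (i + 1) _ h1
  rw [pow_two] at h2
  have e : w * w = c * (c⁻¹ * w * c * (c⁻¹ * w * c)) * c⁻¹ := by group
  rw [e, h2]; group

theorem wx_conj {x w g : G} (hg : g ∈ CC v i) (hw : w ∈ Wx V v i x) : g * w * g⁻¹ ∈ Wx V v i (g * x * g⁻¹) := by
  obtain ⟨c, hc, h1, h2⟩ := hw
  refine ⟨g * c, mul_mem hg hc, ?_, ?_⟩
  · rw [← h1]; group
  · have e : (g * c)⁻¹ * (g * w * g⁻¹) * (g * c) = c⁻¹ * w * c := by group
    rwa [e]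

theorem wx_rep {c w : G} (hc : c ∈ CC v i) (hw : w ∈ Wx V v i (c * v (i + 1) * c⁻¹)) :
    c⁻¹ * w * c ∈ WU V v (i + 1) := by
  obtain ⟨c', hc', h1, h2⟩ := hw
  have h3 : c⁻¹ * c' ∈ CC v (i + 1) := by
    rw [CC, mem_centralizer_singleton_iff]
    calc c⁻¹ * c' * v (i + 1) = c⁻¹ * (c' * v (i + 1) * c'⁻¹) * c' := by group
      _ = v (i + 1) * (c⁻¹ * c') := by rw [h1]; group
  have h4 := (mem_normalizer_iff.1 (h.D.C_le_N_W (i + 1) h3) _).1 h2
  have e : c⁻¹ * c' * (c'⁻¹ * w * c') * (c⁻¹ * c')⁻¹ = c⁻¹ * w * c := by group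
  rwa [e] at h4

theorem wx_mul {x w w' : G} (hw : w ∈ Wx V v i x) (hw' : w' ∈ Wx V v i x) : w * w' ∈ Wx V v i x := by
  obtain ⟨c, hc, h1, h2⟩ := hw
  rw [← h1] at hw'
  have h3 := h.wx_rep hc hw'
  refine ⟨c, hc, h1, ?_⟩
  have h4 := mul_mem h2 h3
  have e : c⁻¹ * w * c * (c⁻¹ * w' * c) = c⁻¹ * (w * w') * c := by group
  rwa [e] at h4

/-- `[N_i, w] ≤ ⟨x⟩` -/
theorem wx_N {x w n : G} (hw : w ∈ Wx V v i x) (hn : n ∈ NU V v i) : w * n * w⁻¹ = n ∨ w * n * w⁻¹ = n * x := by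
  obtain ⟨c, hc, h1, h2⟩ := hw
  have hn' : c⁻¹ * n * c ∈ NU V v i := by
    have := h.conj_N (inv_mem hc) hn
    rwa [inv_inv] at this
  have hnQ : c⁻¹ * n * c ∈ QQ v (i + 1) := h.hd i hn'
  have h3 := h.D.comm_W_Q (i + 1) _ h2 _ (inv_mem hnQ)
  -- `[w', n'⁻¹] ∈ ⟨v j⟩`
  rcases h.D.mem_zpv (kp_inv h3) with h4 | h4
  · left
    have h5 := comm_of_kp h4
    have h6 : (c⁻¹ * n * c) * (c⁻¹ * w * c) = c⁻¹ * w * c * (c⁻¹ * n * c) := by
      have h7 : Commute (c⁻¹ * n * c)⁻¹ (c⁻¹ * w * c) := h5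
      have h8 := h7.inv_left
      rw [inv_inv] at h8
      exact h8.eq
    have h7 := congrArg (fun t => c * t * c⁻¹) h6
    have e1 : c * (c⁻¹ * n * c * (c⁻¹ * w * c)) * c⁻¹ = n * w := by group
    have e2 : c * (c⁻¹ * w * c * (c⁻¹ * n * c)) * c⁻¹ = w * n := by group
    simp only [e1, e2] at h7
    rw [← h7]; group
  · right
    have h7 := congrArg (fun t => c * t * c⁻¹) h4
    have e1 : c * ((c⁻¹ * n * c)⁻¹ * (c⁻¹ * w * c) * (c⁻¹ * n * c)⁻¹⁻¹ * (c⁻¹ * w * c)⁻¹) * c⁻¹ =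
      n⁻¹ * (w * n * w⁻¹) := by group
    simp only [e1] at h7
    rw [h1] at h7
    rw [← h7]; group

/-- elements of `W_x` which centralise `N_i` are in `Q_i` -/
theorem wx_Q {x w : G} (hw : w ∈ Wx V v i x) (h1 : w ∈ centralizer (NU V v i : Set G)) : w ∈ QQ v i := by
  obtain ⟨c, hc, -, h2⟩ := hw
  have h3 : c⁻¹ * w * c ∈ centralizer (NU V v i : Set G) := by
    rw [mem_centralizer_iff] at h1 ⊢
    intro n hn
    have h4 := h1 _ (h.conj_N hc hn)
    have h5 := congrArg (fun t => c⁻¹ * t * c) h4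
    have e1 : c⁻¹ * (c * n * c⁻¹ * w) * c = n * (c⁻¹ * w * c) := by group
    have e2 : c⁻¹ * (w * (c * n * c⁻¹)) * c = c⁻¹ * w * c * n := by group
    simp only [e1, e2] at h5
    exact h5
  have h4 : c⁻¹ * w * c ∈ QQ v i :=
    h.D.f3 i ⟨h.D.Q_le_o2D (i + 1) (h.D.W_le_Q (i + 1) h2), h3⟩
  have h5 : c * (c⁻¹ * w * c) * c⁻¹ ∈ QQ v i := (mem_normalizer_iff.1 (le_normalizer_o2 _ hc) _).1 h4
  have e : c * (c⁻¹ * w * c) * c⁻¹ = w := by group
  rwa [e] at h5

theorem wx_fx {x w y : G} (hw : w ∈ Wx V v i x) (h1 : w ∈ centralizer (NU V v i : Set G))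
    (hy : y ∈ WU V v i ⊔ NU V v i) : Fx (EU T v i) w y := h.fx_Q (h.wx_Q hw h1) hy

/-- two elements of `W_i` not centralising `N_j` -/
theorem idx_W {s s' : G} (hs : s ∈ WU V v i) (hs' : s' ∈ WU V v i) (h1 : s ∉ centralizer (NU V v (i + 1) : Set G))
    (h2 : s' ∉ centralizer (NU V v (i + 1) : Set G)) : s * s' ∈ centralizer (NU V v (i + 1) : Set G) := by
  have hjj : i + 1 + 1 = i := add_one_add_one i
  have hH : WU V v i ≤ centralizer (HU V T (i + 1) : Set G) := by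
    have := h.D.W_cent_H (i + 1)
    rwa [hjj] at this
  have hNQ : NU V v (i + 1) ≤ QQ v i := by
    have := h.hd (i + 1)
    rwa [hjj] at this
  -- `[s, n] = v i` for `n ∉ H_j`
  have key : ∀ t ∈ WU V v i, t ∉ centralizer (NU V v (i + 1) : Set G) → ∀ n ∈ NU V v (i + 1), n ∉ HU V T (i + 1) →
      t * n * t⁻¹ * n⁻¹ = v i := by
    intro t ht htc n hn hnH
    rcases h.D.mem_zpv (h.D.comm_W_Q i t ht n (hNQ hn)) with h3 | h3
    · exfalso
      apply hnH
      refine h.D.mem_H h.Sj.idx (X := zpowers t) ?_ ?_ hn fun x hx => ?_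
      · rw [zpowers_le]; exact hH ht
      · intro h4; exact htc (h4 (mem_zpowers _))
      · obtain ⟨k, rfl⟩ := mem_zpowers_iff.1 hx
        have h4 : Commute t n := comm_of_kp h3
        exact (h4.zpow_left k).eq
    · exact h3
  rw [mem_centralizer_iff]
  intro n hn
  by_cases hnH : n ∈ HU V T (i + 1)
  · have h3 := mem_centralizer_iff.1 (hH hs) n hnH
    have h4 := mem_centralizer_iff.1 (hH hs') n hnH
    calc n * (s * s') = (n * s) * s' := by group
      _ = s * (n * s') := by rw [h3]; group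
      _ = s * s' * n := by rw [h4]; group
  · have h3 := key s hs h1 n hn hnH
    have h4 := key s' hs' h2 n hn hnH
    have h5 : s' * n * s'⁻¹ = v i * n := by rw [← h4]; group
    have h6 : s * n * s⁻¹ = v i * n := by rw [← h3]; group
    have h7 : s * v i * s⁻¹ = v i := h.D.conj_v i (h.D.W_le_C i i hs)
    have h8 : s * s' * n * (s * s')⁻¹ = n := by
      calc s * s' * n * (s * s')⁻¹ = s * (s' * n * s'⁻¹) * s⁻¹ := by group
        _ = (s * v i * s⁻¹) * (s * n * s⁻¹) := by rw [h5]; group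
        _ = n := by rw [h7, h6, ← mul_assoc, h.D.v_sq, one_mul]
    calc n * (s * s') = s * s' * n * (s * s')⁻¹ * (s * s') := by rw [h8]
      _ = s * s' * n := by group

/-- every `w ∈ W_x` acts as `1` or as a transvection on `W_i N_i / E` -/
theorem wx_T1 {x w y y' : G} (hw : w ∈ Wx V v i x) (hy : y ∈ WU V v i ⊔ NU V v i) (hy' : y' ∈ WU V v i ⊔ NU V v i)
    (h1 : ¬ Fx (EU T v i) w y) (h2 : ¬ Fx (EU T v i) w y') : Fx (EU T v i) w (y * y') := by
  have hwC := h.wx_C hw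
  obtain ⟨c, hc, -, hwW⟩ := hw
  have hjj : i + 1 + 1 = i := add_one_add_one i
  -- reduce to `c = 1`
  have hci := inv_mem hc
  set w' := c⁻¹ * w * c with hw'
  have hw'C : w' ∈ CC v i := by
    have := mul_mem (mul_mem hci hwC) hc
    exact this
  have tr1 : ∀ z : G, Fx (EU T v i) w' (c⁻¹ * z * c) → Fx (EU T v i) w z := by
    intro z hz
    have h3 := h.fx_conj hc hz
    have e1 : c * w' * c⁻¹ = w := by rw [hw']; group
    have e2 : c * (c⁻¹ * z * c) * c⁻¹ = z := by group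
    rwa [e1, e2] at h3
  have hcS : ∀ z ∈ WU V v i ⊔ NU V v i, c⁻¹ * z * c ∈ WU V v i ⊔ NU V v i := by
    intro z hz
    have := h.conj_S hci hz
    rwa [inv_inv] at this
  -- elements of `W_i ∩ C(N_j)` are fixed by `w'`
  have hfix : ∀ s ∈ WU V v i, s ∈ centralizer (NU V v (i + 1) : Set G) → Fx (EU T v i) w' s := by
    intro s hs hsc
    have hsQ : s ∈ QQ v (i + 1) := h.D.f3 (i + 1) ⟨h.D.Q_le_o2D i (h.D.W_le_Q i hs), hsc⟩
    have h3 := h.D.comm_W_Q (i + 1) w' hwW s hsQ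
    have h4 : zpowers (v (i + 1)) ≤ EU T v i := zpowers_le.2 (h.D.v_mem_E i (i + 1))
    exact h4 h3
  have hstep : ∀ z ∈ WU V v i ⊔ NU V v i, ¬ Fx (EU T v i) w' z → ∃ s ∈ WU V v i, ∃ n ∈ NU V v i, z = s * n ∧
      s ∉ centralizer (NU V v (i + 1) : Set G) := by
    intro z hz hnz
    obtain ⟨s, hs, n, hn, rfl⟩ := OM.KTwo.exists_mul_of_mem_sup ((h.D.N_le_C i i).trans (h.D.C_le_N_W i)) hz
    refine ⟨s, hs, n, hn, rfl, fun hsc => hnz ?_⟩
    exact h.fx_mul_right (mem_sup_left hs) (hfix s hs hsc) (h.fx_N hw'C hn)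
  apply tr1
  have h3 : ¬ Fx (EU T v i) w' (c⁻¹ * y * c) := fun h3 => h1 (tr1 _ h3)
  have h4 : ¬ Fx (EU T v i) w' (c⁻¹ * y' * c) := fun h3 => h2 (tr1 _ h3)
  obtain ⟨s, hs, n, hn, e, hsc⟩ := hstep _ (hcS y hy) h3
  obtain ⟨s', hs', n', hn', e', hsc'⟩ := hstep _ (hcS y' hy') h4
  have e3 : c⁻¹ * (y * y') * c = s * s' * (n * n') := by
    have h5 : n * s' = s' * n := h.S_comm n (mem_sup_right hn) s' (mem_sup_left hs')
    calc c⁻¹ * (y * y') * c = (c⁻¹ * y * c) * (c⁻¹ * y' * c) := by group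
      _ = s * (n * s') * n' := by rw [e, e']; group
      _ = s * s' * (n * n') := by rw [h5]; group
  rw [e3]
  exact h.fx_mul_right (mem_sup_left (mul_mem hs hs')) (hfix _ (mul_mem hs hs') (h.idx_W hs hs' hsc hsc'))
    (h.fx_N hw'C (mul_mem hn hn'))

/-! ### faithfulness -/

theorem pt_of {x : G} (hx : x ∈ NU V v i) (hx1 : x ≠ 1) : ∃ c ∈ CC v i, x = c * v (i + 1) * c⁻¹ := by
  have h1 : x ∉ zpowers (v i) := by
    intro h2
    rcases h.D.mem_zpv h2 with h3 | h3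
    · exact hx1 h3
    · exact h.hv (h3 ▸ hx)
  obtain ⟨c, hc, h2 | h2⟩ := h.Si.pts x hx h1
  · exact ⟨c, hc, h2⟩
  · exfalso
    apply h.hv
    have h3 : c * v (i + 1) * c⁻¹ ∈ NU V v i := h.conj_N hc (h.D.mem_N i)
    have h4 := mul_mem (inv_mem h3) hx
    rwa [h2, inv_mul_cancel_left] at h4

/-- a normal subgroup of `C_i` which moves `N_i` has no fixed point on `E / ⟨v_i⟩` -/
theorem fixK {K : Subgroup G} (hKC : K ≤ CC v i) (hCK : CC v i ≤ normalizer (K : Set G))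
    (hm : ¬ K ≤ centralizer (NU V v i : Set G)) :
    ∀ n ∈ EU T v i, (∀ x ∈ K, n⁻¹ * x * n * x⁻¹ ∈ zpowers (v i)) → n ∈ zpowers (v i) := by
  intro n hn hfix
  obtain ⟨m, hmN, w, hw, rfl⟩ := h.D.mem_E hn
  refine mul_mem ?_ hw
  by_cases hm1 : m = 1
  · rw [hm1]; exact one_mem _
  exfalso
  -- `m` commutes with `K`
  have hmK : ∀ x ∈ K, m * x = x * m := by
    intro x hx
    have hwx : w * x = x * w := mem_centralizer_iff.1 (Fr.CC_le_cent_zpowers i (hKC hx)) w hw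
    have hwm : w * m = m * w := mem_centralizer_iff.1 (Fr.CC_le_cent_zpowers i (h.D.N_le_C i i hmN)) w hw
    have h1 := hfix x hx
    have e : (m * w)⁻¹ * x * (m * w) * x⁻¹ = m⁻¹ * x * m * x⁻¹ := by
      calc (m * w)⁻¹ * x * (m * w) * x⁻¹ = (m * w)⁻¹ * x * (w * m) * x⁻¹ := by rw [hwm]
        _ = (m * w)⁻¹ * (x * w) * m * x⁻¹ := by group
        _ = (w * m)⁻¹ * (w * x) * m * x⁻¹ := by rw [hwx, hwm]
        _ = m⁻¹ * x * m * x⁻¹ := by group
    rw [e] at h1
    have h2 : m⁻¹ * x * m * x⁻¹ ∈ NU V v i := by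
      have e2 : m⁻¹ * x * m * x⁻¹ = m⁻¹ * (x * m * x⁻¹) := by group
      rw [e2]
      exact mul_mem (inv_mem hmN) (h.conj_N (hKC hx) hmN)
    rcases h.D.mem_zpv h1 with h3 | h3
    · calc m * x = m * (m⁻¹ * x * m * x⁻¹)⁻¹ * (m⁻¹ * x * m * x⁻¹) * x := by group
        _ = m * (m⁻¹ * x * m * x⁻¹) * x := by rw [h3]; simp
        _ = x * m := by group
    · exact absurd (h3 ▸ h2) h.hv
  obtain ⟨c, hc, hmc⟩ := h.pt_of hmN hm1
  apply hm
  apply comm_symm
  refine h.D.N_le_of_mem i ?_ fun g hg => ?_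
  · rw [mem_centralizer_iff]
    intro x hx
    have h1 : c * x * c⁻¹ ∈ K := (mem_normalizer_iff.1 (hCK hc) x).1 hx
    have h2 := hmK _ h1
    rw [hmc] at h2
    have h3 := congrArg (fun t => c⁻¹ * t * c) h2
    have e1 : c⁻¹ * (c * v (i + 1) * c⁻¹ * (c * x * c⁻¹)) * c = v (i + 1) * x := by group
    have e2 : c⁻¹ * (c * x * c⁻¹ * (c * v (i + 1) * c⁻¹)) * c = x * v (i + 1) := by group
    simp only [e1, e2] at h3
    exact h3.symm
  · rw [mem_normalizer_iff]
    have key : ∀ g ∈ CC v i, ∀ y ∈ centralizer (K : Set G), g * y * g⁻¹ ∈ centralizer (K : Set G) := by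
      intro g hg y hy
      rw [mem_centralizer_iff] at hy ⊢
      intro x hx
      have h1 : g⁻¹ * x * g ∈ K := by
        have := (mem_normalizer_iff.1 (hCK (inv_mem hg)) x).1 hx
        rwa [inv_inv] at this
      have h2 := hy _ h1
      calc x * (g * y * g⁻¹) = g * (g⁻¹ * x * g * y) * g⁻¹ := by group
        _ = g * (y * (g⁻¹ * x * g)) * g⁻¹ := by rw [h2]
        _ = g * y * g⁻¹ * x := by group
    intro y
    refine ⟨key g hg y, fun hy => ?_⟩
    have h1 := key g⁻¹ (inv_mem hg) _ hy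
    have e : g⁻¹ * (g * y * g⁻¹) * g⁻¹⁻¹ = y := by group
    rwa [e] at h1

/-- **(FAITH)** -/
theorem faith {k : G} (hk : k ∈ CC v i) (h1 : ∀ y ∈ WU V v i ⊔ NU V v i, Fx (EU T v i) k y) :
    k ∈ centralizer (NU V v i : Set G) := by
  let K : Subgroup G :=
    { carrier := {k | k ∈ CC v i ∧ ∀ y ∈ WU V v i ⊔ NU V v i, Fx (EU T v i) k y}
      one_mem' := ⟨one_mem _, fun y _ => by unfold Fx; simp⟩
      mul_mem' := fun {a b} ha hb => ⟨mul_mem ha.1 hb.1, fun y hy => h.fx_mul' ha.1 (hb.2 y hy) (ha.2 y hy)⟩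
      inv_mem' := fun {a} ha => by
        refine ⟨inv_mem ha.1, fun y hy => ?_⟩
        have h2 := h.conj_E (inv_mem ha.1) (inv_mem (ha.2 y hy))
        unfold Fx
        have e : a⁻¹ * (a * y * a⁻¹ * y⁻¹)⁻¹ * a⁻¹⁻¹ = a⁻¹ * y * a⁻¹⁻¹ * y⁻¹ := by group
        rwa [e] at h2 }
  have hCK : CC v i ≤ normalizer (K : Set G) := by
    have key : ∀ g ∈ CC v i, ∀ a ∈ K, g * a * g⁻¹ ∈ K := by
      rintro g hg a ⟨ha, ha'⟩
      refine ⟨mul_mem (mul_mem hg ha) (inv_mem hg), fun y hy => ?_⟩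
      have h2 := h.fx_conj hg (ha' _ (h.conj_S (inv_mem hg) hy))
      have e : g * (g⁻¹ * y * g⁻¹⁻¹) * g⁻¹ = y := by group
      rwa [e] at h2
    intro g hg
    rw [mem_normalizer_iff]
    intro y
    refine ⟨key g hg y, fun hy => ?_⟩
    have h1 := key g⁻¹ (inv_mem hg) _ hy
    have e : g⁻¹ * (g * y * g⁻¹) * g⁻¹⁻¹ = y := by group
    rwa [e] at h1
  have hKC : K ≤ CC v i := fun _ hx => hx.1
  have hKK : K ≤ centralizer (NU V v i : Set G) := by
    by_contra hcon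
    refine h.D.lemX hKC hCK hcon ?_ h.Si.fixT (h.fixK hKC hCK hcon)
    intro r hr u hu
    have h2 := hr.2 u⁻¹ (mem_sup_left (inv_mem (h.D.V_le_W i hu)))
    unfold Fx at h2
    have e : u⁻¹ * r * u * r⁻¹ = (r * u⁻¹ * r⁻¹ * u⁻¹⁻¹)⁻¹ := by group
    rw [e]
    exact inv_mem h2
  exact hKK ⟨hk, h1⟩

/-! ### the transvections -/

theorem wx_tr {x w : G} (hw : w ∈ Wx V v i x) (hwc : w ∉ centralizer (NU V v i : Set G)) :
    Tr (CC v i) (NU V v i) 1 x w := by
  refine ⟨h.wx_C hw, fun n hn => ?_, ?_⟩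
  · rw [mul_one]; exact h.wx_N hw hn
  · by_contra hcon
    push Not at hcon
    apply hwc
    rw [mem_centralizer_iff]
    intro n hn
    have h1 := hcon n hn
    calc n * w = w * n * w⁻¹ * w := by rw [h1]
      _ = w * n := by group

theorem wx_pt {x w : G} (hw : w ∈ Wx V v i x) : x ∈ Pts (CC v i) (v (i + 1)) := by
  obtain ⟨c, hc, h1, -⟩ := hw
  exact ⟨c, hc, h1.symm⟩

theorem wx_fix {x w n : G} (hw : w ∈ Wx V v i x) (hwc : w ∉ centralizer (NU V v i : Set G)) (hn : n ∈ NU V v i) :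
    B x n = 1 ↔ w * n * w⁻¹ = n := h.bf.F.tv x (h.wx_pt hw) w (h.wx_tr hw hwc) n hn

theorem wx_mv {x w n : G} (hw : w ∈ Wx V v i x) (hwc : w ∉ centralizer (NU V v i : Set G)) (hn : n ∈ NU V v i)
    (hB : B x n = -1) : w * n * w⁻¹ = n * x := by
  rcases h.wx_N hw hn with h1 | h1
  · have h2 := (h.wx_fix hw hwc hn).2 h1
    rw [hB] at h2
    exact absurd h2 (by decide)
  · exact h1

theorem wx_ex {x : G} (hx : x ∈ NU V v i) (hx1 : x ≠ 1) : ∃ w ∈ Wx V v i x, w ∉ centralizer (NU V v i : Set G) := by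
  obtain ⟨c, hc, rfl⟩ := h.pt_of hx hx1
  obtain ⟨w, hw, hwc⟩ := SetLike.not_le_iff_exists.1 h.hmv
  refine ⟨c * w * c⁻¹, ⟨c, hc, rfl, ?_⟩, fun h1 => hwc ?_⟩
  · have e : c⁻¹ * (c * w * c⁻¹) * c = w := by group
    rwa [e]
  · rw [mem_centralizer_iff] at h1 ⊢
    intro n hn
    have h2 := h1 _ (h.conj_N hc hn)
    have h3 := congrArg (fun t => c⁻¹ * t * c) h2
    have e1 : c⁻¹ * (c * n * c⁻¹ * (c * w * c⁻¹)) * c = n * w := by group
    have e2 : c⁻¹ * (c * w * c⁻¹ * (c * n * c⁻¹)) * c = w * n := by group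
    simp only [e1, e2] at h3
    exact h3

theorem conj_cent {g w : G} (hg : g ∈ CC v i) (hw : w ∉ centralizer (NU V v i : Set G)) :
    g * w * g⁻¹ ∉ centralizer (NU V v i : Set G) := by
  intro h1
  apply hw
  rw [mem_centralizer_iff] at h1 ⊢
  intro n hn
  have h2 := h1 _ (h.conj_N hg hn)
  have h3 := congrArg (fun t => g⁻¹ * t * g) h2
  have e1 : g⁻¹ * (g * n * g⁻¹ * (g * w * g⁻¹)) * g = n * w := by group
  have e2 : g⁻¹ * (g * w * g⁻¹ * (g * n * g⁻¹)) * g = w * n := by group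
  simp only [e1, e2] at h3
  exact h3

/-- two transvections with the same centre -/
theorem wx_two {x w w' : G} (hw : w ∈ Wx V v i x) (hwc : w ∉ centralizer (NU V v i : Set G))
    (hw' : w' ∈ Wx V v i x) (hwc' : w' ∉ centralizer (NU V v i : Set G)) :
    w * w' ∈ centralizer (NU V v i : Set G) := by
  rw [mem_centralizer_iff]
  intro n hn
  have hN : ∀ u ∈ Wx V v i x, ∀ m ∈ NU V v i, u * m * u⁻¹ = m ∨ u * m * u⁻¹ = m * x := fun u hu m hm => h.wx_N hu hm
  have hxN : x ∈ NU V v i := by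
    obtain ⟨c, hc, h1, -⟩ := hw
    rw [← h1]
    exact h.conj_N hc (h.D.mem_N i)
  have hBx : B x x = 1 := h.bf.F.self x hxN
  have hwx : w * x * w⁻¹ = x := (h.wx_fix hw hwc hxN).1 hBx
  have key : w * w' * n * (w * w')⁻¹ = n := by
    have e : w * w' * n * (w * w')⁻¹ = w * (w' * n * w'⁻¹) * w⁻¹ := by group
    rw [e]
    by_cases hB : B x n = 1
    · rw [(h.wx_fix hw' hwc' hn).1 hB, (h.wx_fix hw hwc hn).1 hB]
    · have hB' : B x n = -1 := (Int.units_eq_one_or _).resolve_left hB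
      rw [h.wx_mv hw' hwc' hn hB']
      have e2 : w * (n * x) * w⁻¹ = (w * n * w⁻¹) * (w * x * w⁻¹) := by group
      have hxx : x * x = 1 := h.S_sq x (mem_sup_right hxN)
      rw [e2, h.wx_mv hw hwc hn hB', hwx, mul_assoc, hxx, mul_one]
  calc n * (w * w') = w * w' * n * (w * w')⁻¹ * (w * w') := by rw [key]
    _ = w * w' * n := by group

omit h in
/-- `W_x` fixes `u` modulo `E` -/
def Pf (T : Subgroup G) (V : Fin 2 → Subgroup G) (v : Fin 2 → G) (i : Fin 2) (u x : G) : Prop :=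
  ∀ w ∈ Wx V v i x, Fx (EU T v i) w u

theorem ne_one_of {x y : G} (hy : y ∈ NU V v i) (hB : B x y = -1) : x ≠ 1 := by
  rintro rfl
  have h1 : B 1 y = 1 := by
    have h2 := h.bf.F.symm 1 (one_mem _) y hy
    have h3 := h.bf.F.mul y hy 1 (one_mem _) 1 (one_mem _)
    rw [mul_one] at h3
    rw [h2]
    rcases Int.units_eq_one_or (B y 1) with h4 | h4
    · exact h4
    · rw [h4] at h3; exact absurd h3 (by decide)
  rw [h1] at hB
  exact absurd hB (by decide)

theorem pf_A {u x y : G} (hx : x ∈ NU V v i) (hy : y ∈ NU V v i) (hB : B x y = -1)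
    (h1 : Pf T V v i u x) (h2 : Pf T V v i u y) : Pf T V v i u (x * y) := by
  have hB' : B y x = -1 := by rw [h.bf.F.symm y hy x hx]; exact hB
  obtain ⟨b, hb, hbc⟩ := h.wx_ex hy (h.ne_one_of hx hB')
  have hbx := h.wx_mv hb hbc hx hB'
  have hbC := h.wx_C hb
  have hbb := h.wx_sq hb
  have hbi : b⁻¹ = b := inv_eq_of_mul_eq_one_left hbb
  intro w hw
  rw [← hbx] at hw
  have hw' := h.wx_conj (inv_mem hbC) hw
  have e : b⁻¹ * (b * x * b⁻¹) * b⁻¹⁻¹ = x := by group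
  rw [e] at hw'
  have h3 := h1 _ hw'
  have h4 := h2 b hb
  -- `w = b (b⁻¹ w b) b⁻¹`
  have h5 : Fx (EU T v i) (b * (b⁻¹ * w * b⁻¹⁻¹) * b) u :=
    h.fx_mul' (mul_mem hbC (h.wx_C hw')) h4 (h.fx_mul' hbC h3 h4)
  have e2 : b * (b⁻¹ * w * b⁻¹⁻¹) * b = w * (b * b) := by group
  rwa [e2, hbb, mul_one] at h5

theorem pf_B {u x y : G} (hu : u ∈ WU V v i ⊔ NU V v i) (hx : x ∈ NU V v i) (hy : y ∈ NU V v i) (hB : B x y = -1)
    (h1 : ¬ Pf T V v i u x) (h2 : ¬ Pf T V v i u y) : Pf T V v i u (x * y) := by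
  have hB' : B y x = -1 := by rw [h.bf.F.symm y hy x hx]; exact hB
  unfold Pf at h1 h2
  push Not at h1 h2
  obtain ⟨a, ha, hau⟩ := h1
  obtain ⟨b, hb, hbu⟩ := h2
  have hac : a ∉ centralizer (NU V v i : Set G) := fun h3 => hau (h.wx_fx ha h3 hu)
  have hbc : b ∉ centralizer (NU V v i : Set G) := fun h3 => hbu (h.wx_fx hb h3 hu)
  have haC := h.wx_C ha
  have hbC := h.wx_C hb
  have haa := h.wx_sq ha
  have hbb := h.wx_sq hb
  have hai : a⁻¹ = a := inv_eq_of_mul_eq_one_left haa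
  have hbi : b⁻¹ = b := inv_eq_of_mul_eq_one_left hbb
  have hxy : y * x = x * y := h.S_comm y (mem_sup_right hy) x (mem_sup_right hx)
  have hc : b * a * b ∈ Wx V v i (x * y) := by
    have h3 := h.wx_conj hbC ha
    rwa [h.wx_mv hb hbc hx hB', hbi] at h3
  have hc' : a * b * a ∈ Wx V v i (x * y) := by
    have h3 := h.wx_conj haC hb
    rwa [h.wx_mv ha hac hy hB, hai, hxy] at h3
  have hcc : b * a * b ∉ centralizer (NU V v i : Set G) := by
    have h3 := h.conj_cent hbC hac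
    rwa [hbi] at h3
  have hcc' : a * b * a ∉ centralizer (NU V v i : Set G) := by
    have h3 := h.conj_cent haC hbc
    rwa [hai] at h3
  have hccC := h.wx_C hc
  -- `c c'` is trivial on `S / E`
  have hci : (b * a * b)⁻¹ = b * a * b := inv_eq_of_mul_eq_one_left (h.wx_sq hc)
  have htriv : ∀ s ∈ WU V v i ⊔ NU V v i,
      (a * b * a * s * (a * b * a)⁻¹) * (b * a * b * s * (b * a * b)⁻¹)⁻¹ ∈ EU T v i := by
    intro s hs
    have h3 := h.wx_fx (h.wx_mul hc hc') (h.wx_two hc hcc hc' hcc') hs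
    have h4 := h.conj_E hccC h3
    have e : b * a * b * (b * a * b * (a * b * a) * s * (b * a * b * (a * b * a))⁻¹ * s⁻¹) * (b * a * b)⁻¹ =
        ((b * a * b) * (b * a * b)) * (a * b * a) * s * (a * b * a)⁻¹ * ((b * a * b) * (b * a * b))⁻¹ *
        (b * a * b * s * (b * a * b)⁻¹)⁻¹ := by group
    rw [e, h.wx_sq hc] at h4
    have e2 : 1 * (a * b * a) * s * (a * b * a)⁻¹ * (1 : G)⁻¹ * (b * a * b * s * (b * a * b)⁻¹)⁻¹ =
      (a * b * a * s * (a * b * a)⁻¹) * (b * a * b * s * (b * a * b)⁻¹)⁻¹ := by group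
    rwa [e2] at h4
  have hs3 := PC.s3 (E := EU T v i) h.S_comm h.S_sq (a := a) (b := b) (fun s hs => h.conj_S haC hs)
    (fun s hs => h.conj_S hbC hs) (fun s hs => h.conj_E haC hs) (fun s hs => h.conj_E hbC hs) haa hbb
    (fun s hs s' hs' => h.wx_T1 ha hs hs') (fun s hs s' hs' => h.wx_T1 hb hs hs') htriv hu hau hbu
  rcases hs3 with hs3 | hs3
  · intro w hw
    by_cases hwc : w ∈ centralizer (NU V v i : Set G)
    · exact h.wx_fx hw hwc hu
    · have h3 := h.wx_fx (h.wx_mul hw hc) (h.wx_two hw hwc hc hcc) hu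
      have h4 := h.fx_mul' (mul_mem (h.wx_C hw) hccC) hs3 h3
      have e : w * (b * a * b) * (b * a * b) = w * ((b * a * b) * (b * a * b)) := by group
      rwa [e, h.wx_sq hc, mul_one] at h4
  · exfalso
    have h3 : b⁻¹ * a ∈ centralizer (NU V v i : Set G) := by
      refine h.faith (mul_mem (inv_mem hbC) haC) fun s hs => ?_
      have h4 := h.conj_E (inv_mem hbC) (hs3 s hs)
      unfold Fx
      have e : b⁻¹ * (a * s * a⁻¹ * (b * s * b⁻¹)⁻¹) * b⁻¹⁻¹ = b⁻¹ * a * s * (b⁻¹ * a)⁻¹ * s⁻¹ := by group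
      rwa [e] at h4
    have h4 := mem_centralizer_iff.1 h3 x hx
    have hax : a * x * a⁻¹ = x := (h.wx_fix ha hac hx).1 (h.bf.F.self x hx)
    have hbx := h.wx_mv hb hbc hx hB'
    have h5 : b * x * b⁻¹ = x := by
      calc b * x * b⁻¹ = b * (x * (b⁻¹ * a)) * a⁻¹ := by group
        _ = b * (b⁻¹ * a * x) * a⁻¹ := by rw [h4]
        _ = a * x * a⁻¹ := by group
        _ = x := hax
    rw [h5] at hbx
    apply h.ne_one_of hx hB'
    calc y = x⁻¹ * (x * y) := by group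
      _ = 1 := by rw [← hbx]; group

theorem pf_conj {u g x : G} (hu : u ∈ WU V v i ⊔ NU V v i) (hg : g ∈ CC v i) (hgu : Fx (EU T v i) g u)
    (h1 : Pf T V v i u x) : Pf T V v i u (g * x * g⁻¹) := by
  intro w hw
  have hw' := h.wx_conj (inv_mem hg) hw
  have e : g⁻¹ * (g * x * g⁻¹) * g⁻¹⁻¹ = x := by group
  rw [e] at hw'
  have h2 := h.fx_conj hg (h1 _ hw')
  have e2 : g * (g⁻¹ * w * g⁻¹⁻¹) * g⁻¹ = w := by group
  rw [e2] at h2
  -- `u = e⁻¹ (g u g⁻¹)`, `e = g u g⁻¹ u⁻¹ ∈ E`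
  have hE : (g * u * g⁻¹ * u⁻¹)⁻¹ ∈ EU T v i := inv_mem hgu
  have hwC := h.wx_C hw
  have h3 : Fx (EU T v i) w (g * u * g⁻¹ * u⁻¹)⁻¹ := mul_mem (h.conj_E hwC hE) (inv_mem hE)
  have hES : (g * u * g⁻¹ * u⁻¹)⁻¹ ∈ WU V v i ⊔ NU V v i := h.D.E_le_WN i hE
  have h4 := h.fx_mul_right hES h3 h2
  have hcomm : (g * u * g⁻¹ * u⁻¹)⁻¹ * (g * u * g⁻¹) = u := by group
  rwa [hcomm] at h4

open Classical in
/-- **the kernel of the proof**: all `W_x` fix `u ∈ V_i` modulo `E` -/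
theorem pf_all {u : G} (hu : u ∈ V i) {x : G} (hx : x ∈ NU V v i) : Pf T V v i u x := by
  have huS : u ∈ WU V v i ⊔ NU V v i := mem_sup_left (h.D.V_le_W i hu)
  let f : G → ℤˣ := fun x => if Pf T V v i u x then 1 else -1
  have f1 : ∀ x, f x = 1 ↔ Pf T V v i u x := by
    intro x
    constructor
    · intro hf
      by_contra hc
      have : f x = -1 := if_neg hc
      rw [this] at hf
      exact absurd hf (by decide)
    · exact fun hc => if_pos hc
  have f2 : ∀ x, f x = -1 ↔ ¬ Pf T V v i u x := by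
    intro x
    constructor
    · intro hf hc
      have : f x = 1 := if_pos hc
      rw [this] at hf
      exact absurd hf (by decide)
    · exact fun hc => if_neg hc
  have hsym : ∀ x ∈ NU V v i, ∀ y ∈ NU V v i, B x y = B y x := fun x hx y hy => h.bf.F.symm x hx y hy
  have hxy : ∀ x ∈ NU V v i, ∀ y ∈ NU V v i, x * y = y * x := fun x hx y hy =>
    h.S_comm x (mem_sup_right hx) y (mem_sup_right hy)
  have hsq : ∀ x ∈ NU V v i, x * x = 1 := fun x hx => h.S_sq x (mem_sup_right hx)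
  -- `C`: one fixed, one not
  have hC : ∀ x ∈ NU V v i, ∀ y ∈ NU V v i, B x y = -1 → Pf T V v i u x → ¬ Pf T V v i u y →
      ¬ Pf T V v i u (x * y) := by
    intro x hx y hy hB h1 h2 h3
    apply h2
    have hB2 : B x (x * y) = -1 := by
      rw [h.bf.F.mul x hx x hx y hy, h.bf.F.self x hx, one_mul]; exact hB
    have h4 := h.pf_A hx (mul_mem hx hy) hB2 h1 h3
    rwa [← mul_assoc, hsq x hx, one_mul] at h4
  have hadd : ∀ x ∈ NU V v i, ∀ y ∈ NU V v i, B x y = -1 → f (x * y) = f x * f y := by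
    intro x hx y hy hB
    by_cases h1 : Pf T V v i u x <;> by_cases h2 : Pf T V v i u y
    · rw [(f1 _).2 h1, (f1 _).2 h2, (f1 _).2 (h.pf_A hx hy hB h1 h2)]; rfl
    · rw [(f1 _).2 h1, (f2 _).2 h2, (f2 _).2 (hC x hx y hy hB h1 h2)]; rfl
    · have hB' : B y x = -1 := by rw [← hsym x hx y hy]; exact hB
      have h3 := hC y hy x hx hB' h2 h1
      rw [hxy y hy x hx] at h3
      rw [(f2 _).2 h1, (f1 _).2 h2, (f2 _).2 h3]; rfl
    · rw [(f2 _).2 h1, (f2 _).2 h2, (f1 _).2 (h.pf_B huS hx hy hB h1 h2)]; rfl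
  have hf1 : f 1 = 1 := by
    rw [f1]
    intro w hw
    obtain ⟨c, hc, h1, -⟩ := hw
    exact absurd (conj_eq_one_iff.1 h1) (h.D.ne (i + 1))
  have hij := ne_add_one i
  -- elements of `V_(i+1)`
  have hTfix : ∀ t ∈ T, Fx (EU T v i) t u := fun t ht =>
    (zpowers_le.2 (h.D.v_mem_E i i)) (kp_inv (h.D.comm_VQ i hu ht))
  have hVf : ∀ x ∈ V (i + 1), f x = 1 := by
    intro x hx
    by_cases hx1 : x = 1
    · rw [hx1]; exact hf1
    rw [f1]
    obtain ⟨l, hl, hlV, hlx⟩ := h.D.tr hij.symm hx hx1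
    have hlC : l ∈ CC v i := h.D.PC (i + 1) i hij.symm hl
    intro w hw
    rw [← hlx] at hw
    have hw' := h.wx_rep hlC hw
    have h1 := hTfix _ (h.D.W_le_T (i + 1) hw')
    have h2 := h.fx_conj hlC h1
    have e1 : l * (l⁻¹ * w * l) * l⁻¹ = w := by group
    have e2 : l * u * l⁻¹ = u := by
      have := mem_centralizer_iff.1 hlV u hu
      rw [← this]; group
    rwa [e1, e2] at h2
  obtain ⟨z, hz, hfz⟩ := h.bf.rep f hf1 hadd hVf
  -- `z` is fixed by the elements which fix `u` modulo `E`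
  have hzfix : ∀ g ∈ CC v i, Fx (EU T v i) g u → Fx (EU T v i) g⁻¹ u → g * z * g⁻¹ = z := by
    intro g hg hgu hgu'
    have hfg : ∀ x ∈ NU V v i, f (g * x * g⁻¹) = f x := by
      intro x hx
      by_cases h1 : Pf T V v i u x
      · rw [(f1 _).2 h1, (f1 _).2 (h.pf_conj huS hg hgu h1)]
      · rw [(f2 _).2 h1, (f2 _).2]
        intro h2
        apply h1
        have h3 := h.pf_conj huS (inv_mem hg) hgu' h2
        have e : g⁻¹ * (g * x * g⁻¹) * g⁻¹⁻¹ = x := by group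
        rwa [e] at h3
    have hgz : g * z * g⁻¹ ∈ NU V v i := h.conj_N hg hz
    have h1 : z * (g * z * g⁻¹) = 1 := by
      refine h.bf.nd _ (mul_mem hz hgz) fun y hy => ?_
      have hy' : g⁻¹ * y * g ∈ NU V v i := by
        have := h.conj_N (inv_mem hg) hy
        rwa [inv_inv] at this
      have h2 : B (g * z * g⁻¹) y = B z y := by
        have h3 := h.bf.F.inv g hg z hz (g⁻¹ * y * g) hy'
        have e : g * (g⁻¹ * y * g) * g⁻¹ = y := by group
        rw [e] at h3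
        rw [h3, ← hfz _ hy', ← hfz y hy, ← hfg _ hy', e]
      rw [hsym _ (mul_mem hz hgz) y hy, h.bf.F.mul y hy z hz _ hgz, hsym y hy z hz, hsym y hy _ hgz, h2]
      rcases Int.units_eq_one_or (B z y) with h4 | h4 <;> rw [h4] <;> rfl
    calc g * z * g⁻¹ = z * z * (g * z * g⁻¹) := by rw [hsq z hz, one_mul]
      _ = z := by rw [mul_assoc, h1, mul_one]
  have hinvT : ∀ t ∈ T, t * z = z * t := by
    intro t ht
    have h1 := hzfix t (h.D.T_le_C i ht) (hTfix t ht) (hTfix _ (inv_mem ht))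
    calc t * z = t * z * t⁻¹ * t := by group
      _ = z * t := by rw [h1]
  have hzT : z ∈ zc T := mem_zc.2 ⟨h.D.N_le_T i hz, hinvT, h.D.N_sq i z hz⟩
  have hz1 : z = 1 := by
    by_contra hz1
    have hzv : z = v (i + 1) := by
      have hvv : v 0 * v 1 = v (i + 1) * v i := h.D.v_mul_v i
      rcases (h.D.zT z).1 hzT with h1 | h1 | h1 | h1
      · exact absurd h1 hz1
      · rcases Fin.exists_fin_two.1 ⟨i, rfl⟩ with hi | hi
        · exfalso; apply h.hv; rw [hi] at hz ⊢; rw [← h1]; exact hz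
        · rw [h1, hi]; rfl
      · rcases Fin.exists_fin_two.1 ⟨i, rfl⟩ with hi | hi
        · rw [h1, hi]; rfl
        · exfalso; apply h.hv; rw [hi] at hz ⊢; rw [← h1]; exact hz
      · exfalso
        apply h.hv
        rw [hvv] at h1
        rw [h1] at hz
        have h2 := mul_mem (inv_mem (h.D.mem_N i)) hz
        rwa [inv_mul_cancel_left] at h2
    obtain ⟨y, hy, hy1, hyv⟩ := h.D.exists_ne_v (i + 1)
    obtain ⟨l, hl, hlV, hly⟩ := h.D.tr hij.symm hy hy1
    have hlC : l ∈ CC v i := h.D.PC (i + 1) i hij.symm hl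
    have hlu : l * u = u * l := (mem_centralizer_iff.1 hlV u hu).symm
    have hlfx : Fx (EU T v i) l u := by
      unfold Fx
      rw [kp_of_comm hlu]; exact one_mem _
    have hlfx' : Fx (EU T v i) l⁻¹ u := by
      have h1 : l⁻¹ * u = u * l⁻¹ := by
        calc l⁻¹ * u = l⁻¹ * (u * l) * l⁻¹ := by group
          _ = u * l⁻¹ := by rw [← hlu]; group
      unfold Fx
      rw [kp_of_comm h1]; exact one_mem _
    have h1 := hzfix l hlC hlfx hlfx'
    rw [hzv, hly] at h1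
    exact hyv h1
  rw [← f1, hfz x hx, hz1]
  by_contra hcon
  exact h.ne_one_of hx ((Int.units_eq_one_or _).resolve_left hcon) rfl

/-- the situation is impossible -/
theorem false_of : False := by
  set R := NoFF.Basic.V (WU V v (i + 1)) (CC v i) with hR
  have hRC : R ≤ CC v i := by
    refine V_le fun c hc => ?_
    rw [← NoFF.Basic.conj_self hc]
    exact conj_le_iff.2 (h.D.W_le_C (i + 1) i)
  have hm : ¬ R ≤ centralizer (NU V v i : Set G) := fun h1 => h.hmv ((le_V _ _).trans h1)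
  refine h.D.lemX hRC (le_normalizer_V _ _) hm ?_ h.Si.fixT (h.fixK hRC (le_normalizer_V _ _) hm)
  -- `[R, u] ≤ E`
  have key : ∀ u ∈ V i, ∀ r ∈ R, Fx (EU T v i) r u := by
    intro u hu
    let K : Subgroup G :=
      { carrier := {k | k ∈ CC v i ∧ Fx (EU T v i) k u}
        one_mem' := ⟨one_mem _, by unfold Fx; simp⟩
        mul_mem' := fun {a b} ha hb => ⟨mul_mem ha.1 hb.1, h.fx_mul' ha.1 hb.2 ha.2⟩
        inv_mem' := fun {a} ha => by
          refine ⟨inv_mem ha.1, ?_⟩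
          have h2 := h.conj_E (inv_mem ha.1) (inv_mem ha.2)
          unfold Fx
          have e : a⁻¹ * (a * u * a⁻¹ * u⁻¹)⁻¹ * a⁻¹⁻¹ = a⁻¹ * u * a⁻¹⁻¹ * u⁻¹ := by group
          rwa [e] at h2 }
    have hK : R ≤ K := by
      refine V_le fun c hc w hw => ?_
      rw [mem_conj] at hw
      have hw' : w ∈ Wx V v i (c * v (i + 1) * c⁻¹) := ⟨c, hc, rfl, hw⟩
      exact ⟨h.wx_C hw', h.pf_all hu (h.conj_N hc (h.D.mem_N i)) w hw'⟩
    exact fun r hr => (hK hr).2
  intro r hr u hu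
  have h2 := key u⁻¹ (inv_mem hu) r hr
  unfold Fx at h2
  have e : u⁻¹ * r * u * r⁻¹ = (r * u⁻¹ * r⁻¹ * u⁻¹⁻¹)⁻¹ := by group
  rw [e]
  exact inv_mem h2

end PS

namespace Fr

variable [Finite G] {T : Subgroup G} {V P : Fin 2 → Subgroup G} {v : Fin 2 → G} (D : Fr T V P v)

include D

/-- **THEOREM PC** (691 #20995 (A)), form of the result with `i`: `[W_(i+1), N_i] = 1` -/
theorem pc' (hsec : Sec0 T V v) (hfr : FrmP T V v) (hd : ∀ k, NU V v k ≤ QQ v (k + 1)) (i : Fin 2) :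
    WU V v (i + 1) ≤ centralizer (NU V v i : Set G) := by
  by_contra hcon
  have hjj : i + 1 + 1 = i := add_one_add_one i
  have hcomm : ∀ k, ∀ x ∈ WU V v (k + 1), ∀ n ∈ NU V v k, n * x * n⁻¹ * x⁻¹ ∈ zpowers (v (k + 1)) :=
    fun k x hx n hn => kp_inv (D.comm_W_Q (k + 1) x hx n (hd k hn))
  have hside : ∀ k, ¬ WU V v (k + 1) ≤ centralizer (NU V v k : Set G) → v k ∉ NU V v k ∧
      SpF T V v k (v (k + 1)) ∧ ∃ B, BForm T V v k B := by
    intro k hk
    obtain ⟨w, hw, hwc⟩ := SetLike.not_le_iff_exists.1 hk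
    have hgl : NU V v k ≠ HU V T k := by
      intro h
      apply hwc
      rw [h]
      exact D.W_cent_H k hw
    obtain ⟨h1, h2⟩ := D.sec_v hsec (D.W_le_C (k + 1) k hw) hwc (fun n hn => hcomm k w hw n hn)
    refine ⟨h1, h2.resolve_left hgl, ?_⟩
    exact (hfr k w (D.W_le_C (k + 1) k hw) hwc (fun n hn => hcomm k w hw n hn)).resolve_left hgl
  obtain ⟨hv, Si, B, hB⟩ := hside i hcon
  by_cases hcon' : WU V v i ≤ centralizer (NU V v (i + 1) : Set G)
  · -- `W_i ≤ Q_(i+1)`, (2.3)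
    have h1 : WU V v i ≤ QQ v (i + 1) :=
      (le_inf ((D.W_le_Q i).trans (D.Q_le_o2D i)) hcon').trans (D.f3 (i + 1))
    have h2 := D.c23 hsec (j := i + 1) (by rw [hjj]; exact hd i) (by rw [hjj]; exact h1)
    rw [hjj] at h2
    exact hcon h2
  · obtain ⟨-, Sj, -⟩ := hside (i + 1) (by rw [hjj]; exact hcon')
    rw [hjj] at Sj
    exact PS.false_of (h := { D := D, hd := hd, hmv := hcon, hmv' := hcon', hv := hv, Si := Si, Sj := Sj, bf := hB })

/-- **THEOREM PC** -/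
theorem pc (hsec : Sec0 T V v) (hfr : FrmP T V v) (hd : ∀ k, NU V v k ≤ QQ v (k + 1)) (j : Fin 2) :
    WU V v j ≤ centralizer (NU V v (j + 1) : Set G) := by
  have := D.pc' hsec hfr hd (j + 1)
  rwa [add_one_add_one] at this

end Fr

end Cfsg.Agent.Omega.TC

end
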