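import Cfsg.Agent.Mrg.Omega.OM.KTwo.Cut
import Cfsg.Agent.Mrg.Omega.Assembly
import Cfsg.Agent.Mrg.Omega.OM.PG.Base

section


/-!
# CARD #18791 "(E) = TWO CENTRES", `q = 2`: LEMMA P and a critical pair

`D : Fr T V P v`.

* `Fr.data` : LEMMA P (#14019) applies to `(C_0, C_1; C_G(Ω₁Z(T)))`;
* `Fr.E_le` : `E_i = N_i ⟨v i⟩`, `Fr.N_le_E`, `Fr.W_le_E`-facts, `Fr.E_comm`, `Fr.E_sq`;
* `Fr.crit` : a critical pair: `n` with: all `E_a`, `E_b` at distance `≤ n` commute, `E_a ≤ Q_c` at distance `≤ n`, and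
  `i`, `j`, `g` with `(i, g)`, `(j, 1)` at distance `≤ n + 1`, `E_i^g ≤ Q_{j+1}`, `E_j ≤ (Q_{i+1})^g`, `[N_i^g, N_j] ≠ 1`;
* `Fr.X`-part: (f3) `C_{O₂(D)}(N_i) ≤ Q_i`.
-/

set_option autoImplicit false
set_option linter.unusedSectionVars false

namespace Cfsg.Agent.Omega.TC

open Subgroup Cfsg Cfsg.Agent.ZN Cfsg.Agent.Omega.MinPar
open Cfsg.Agent.Omega.OM.KTwo (CC QQ WU NU EU FF ne_add_one eq_add_one add_one_add_one le_normalizer_V le_V
  le_o2_of_commutator)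
open Cfsg.Agent.MinSimple.MinParabolic (IsMinPar)
open Cfsg.Agent.Omega.NoFF.Basic (conj_conj mem_conj conj_le_iff conj_le_centralizer comm_symm comm_mono
  Z_le_V V_le conj_V_mul)
open Cfsg.Agent.Omega.NoFF.Main (normalizer_conj)
open Cfsg.Agent.Omega.NOThreeL.Pair (conj_eq_of_mem conj_le_normalizer clo le_clo le_clo' clo_le
  le_normalizer_clo clo_comm clo_isPGroup)
open Cfsg.Agent.Omega.NO3L (LemP.Data LemP.Crit LemP.Comm LemP.Near LemP.vx)
open Cfsg.Agent.ZN.ChoiceSit (Syl exists_syl syl_conj o2_le_syl)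
open Cfsg.Agent.MinSimple.VModule (mem_zc zc_le normalizer_le_normalizer_zc le_normalizer_o2 le_o2 o2_le
  o2_isPGroup zc_le_centralizer le_centralizer_zc)
open scoped Pointwise

universe u

variable {G : Type u} [Group G]

namespace Fr

variable [Finite G] {T : Subgroup G} {V P : Fin 2 → Subgroup G} {v : Fin 2 → G} (D : Fr T V P v)

include D

/-! ### `E_i = N_i ⟨v i⟩` -/

theorem E_le_Q (i : Fin 2) : EU T v i ≤ QQ v i :=
  V_le fun _ hc => by
    rw [← D.conj_QQ hc]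
    exact conj_le_iff.2 (D.zc_le_Q i)

/-- `V (i+1) ≤ E i` -/
theorem V_le_E (i : Fin 2) : V (i + 1) ≤ EU T v i := by
  intro x hx
  by_cases hx1 : x = 1
  · rw [hx1]; exact one_mem _
  obtain ⟨l, hl, -, hlx⟩ := D.tr (ne_add_one i).symm hx hx1
  have hl' : l ∈ CC v i := D.PC (i + 1) i (ne_add_one i).symm hl
  apply Z_le_V hl'
  rw [mem_conj, ← hlx]
  have e : l⁻¹ * (l * v (i + 1) * l⁻¹) * l = v (i + 1) := by group
  rw [e]
  exact D.v_mem_zc _

theorem N_le_E (i : Fin 2) : NU V v i ≤ EU T v i :=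
  V_le fun c hc => by
    have h1 := conj_le_iff (g := c) |>.2 (D.V_le_E i)
    rwa [conj_eq_of_mem (D.C_le_N_E i hc)] at h1

theorem v_mem_E (i j : Fin 2) : v j ∈ EU T v i := le_V _ _ (D.v_mem_zc j)

omit D in
theorem CC_le_cent_zpowers (i : Fin 2) : CC v i ≤ centralizer (zpowers (v i) : Set G) := by
  intro c hc
  rw [mem_centralizer_iff]
  rintro _ ⟨n, rfl⟩
  have h5 : Commute c (v i) := mem_centralizer_singleton_iff.1 hc
  exact (h5.zpow_right n).eq.symm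

theorem C_le_N_NZ (i : Fin 2) : CC v i ≤ normalizer ((NU V v i ⊔ zpowers (v i) : Subgroup G) : Set G) := by
  intro c hc
  refine ChoiceBase.mem_normalizer_iff_cj.2 ?_
  change MulAut.conj c • (NU V v i ⊔ zpowers (v i)) = _
  rw [Subgroup.smul_sup, conj_eq_of_mem (D.C_le_N_N i hc)]
  congr 1
  exact conj_eq_of_mem (centralizer_le_normalizer _ (CC_le_cent_zpowers i hc))

/-- `E i = N i ⟨v i⟩` -/
theorem E_le (i : Fin 2) : EU T v i ≤ NU V v i ⊔ zpowers (v i) := by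
  have h1 : ∀ j, v j ∈ NU V v i ⊔ zpowers (v i) := by
    intro j
    rcases eq_or_ne i j with h | h
    · rw [← h]; exact mem_sup_right (mem_zpowers _)
    · rw [eq_add_one h]; exact mem_sup_left (D.mem_N i)
  have h2 : zc T ≤ NU V v i ⊔ zpowers (v i) := by
    intro x hx
    rcases (D.zT x).1 hx with h1' | h1' | h1' | h1'
    · rw [h1']; exact one_mem _
    · rw [h1']; exact h1 0
    · rw [h1']; exact h1 1
    · rw [h1']; exact mul_mem (h1 0) (h1 1)
  refine V_le fun c hc => ?_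
  have h4 := conj_le_iff (g := c) |>.2 h2
  rwa [conj_eq_of_mem (D.C_le_N_NZ i hc)] at h4

theorem E_eq (i : Fin 2) : EU T v i = NU V v i ⊔ zpowers (v i) := by
  refine le_antisymm (D.E_le i) (sup_le (D.N_le_E i) ?_)
  rw [zpowers_le]
  exact D.v_mem_E i i

theorem E_le_WN (i : Fin 2) : EU T v i ≤ WU V v i ⊔ NU V v i := by
  refine (D.E_le i).trans (sup_le le_sup_right ?_)
  rw [zpowers_le]
  exact mem_sup_left (le_V _ _ (D.mem i))

theorem E_comm (i : Fin 2) : EU T v i ≤ centralizer (EU T v i : Set G) :=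
  comm_mono (D.WN_comm i) (D.E_le_WN i) (D.E_le_WN i)

theorem E_sq (i : Fin 2) : ∀ x ∈ EU T v i, x ^ 2 = 1 := fun x hx => D.WN_sq i x (D.E_le_WN i hx)

theorem Q_le_cent_E (i : Fin 2) : QQ v i ≤ centralizer (EU T v i : Set G) := by
  refine comm_symm ((D.E_le i).trans (sup_le (D.N_le_cent_Q i) ?_))
  refine comm_symm ?_
  exact ((D.Q_le_T i).trans (D.T_le_C i)).trans (CC_le_cent_zpowers i)

theorem cent_E_le (i : Fin 2) : centralizer (EU T v i : Set G) ≤ centralizer (zc T : Set G) :=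
  centralizer_le (le_V _ _)

/-- `C_{C_i}(N_i) ≤ D` -/
theorem cent_N_le (i : Fin 2) : CC v i ⊓ centralizer (NU V v i : Set G) ≤ centralizer (zc T : Set G) := by
  rintro c ⟨h1, h2⟩
  refine (D.mem_D_iff (ne_add_one i)).2 ⟨h1, ?_⟩
  rw [mem_centralizer_singleton_iff]
  exact ((mem_centralizer_iff.1 h2) _ (D.mem_N i)).symm

theorem cent_E (i : Fin 2) : centralizer (EU T v i : Set G) = CC v i ⊓ centralizer (NU V v i : Set G) := by
  apply le_antisymm
  · exact le_inf ((D.cent_E_le i).trans (D.cent_zc_le i)) (centralizer_le (D.N_le_E i))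
  · refine comm_symm ((D.E_le i).trans (sup_le (comm_symm inf_le_right) (comm_symm ?_)))
    exact inf_le_left.trans (CC_le_cent_zpowers i)

/-- **(f3)**: `C_{O₂(D)}(N_i) ≤ Q_i`. -/
theorem f3 (i : Fin 2) : o2 (centralizer (zc T : Set G)) ⊓ centralizer (NU V v i : Set G) ≤ QQ v i := by
  refine le_trans ?_ (NO3L.LemP.o2_inf_centralizer_le (D.cent_E_le i) (D.cent_zc_le i) (D.C_le_N_E i))
  refine le_inf inf_le_left ?_
  rw [D.cent_E i]
  exact le_inf (inf_le_left.trans ((o2_le _).trans (D.cent_zc_le i))) inf_le_right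

/-- `Q_i ≤ O₂(D)` -/
theorem Q_le_o2D (i : Fin 2) : QQ v i ≤ o2 (centralizer (zc T : Set G)) :=
  MinSimple.Basic.o2_normal_le_o2 ((D.Q_le_T i).trans (le_centralizer_zc T)) (D.cent_zc_le i)

theorem o2D_le_T : o2 (centralizer (zc T : Set G)) ≤ T := by
  have hS : Syl T (centralizer (zc T : Set G)) :=
    ⟨le_centralizer_zc T, D.T_isPGroup, fun R hR hR2 hTR => (D.syl 0).2.2 R (hR.trans (D.cent_zc_le 0)) hR2 hTR⟩
  exact o2_le_syl hS

theorem syl_D : Syl T (centralizer (zc T : Set G)) :=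
  ⟨le_centralizer_zc T, D.T_isPGroup, fun R hR hR2 hTR => (D.syl 0).2.2 R (hR.trans (D.cent_zc_le 0)) hR2 hTR⟩

/-! ### LEMMA P -/

/-- **LEMMA P applies** to `(C_G(v 0), C_G(v 1); C_G(Y))`. -/
theorem data : NO3L.LemP.Data (zc T) (centralizer (zc T : Set G)) (o2 (centralizer (zc T : Set G))) (CC v)
    (EU T v) (QQ v) where
  cen := le_rfl
  CH := D.cent_zc_le
  ZU := fun _ => le_V _ _
  HU := D.C_le_N_E
  HR := fun _ => le_normalizer_o2 _
  UR := D.E_le_Q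
  RQ := D.Q_le_o2D
  QR := fun i => NO3L.LemP.o2_inf_centralizer_le ((centralizer_le (le_V _ _)).trans le_rfl) (D.cent_zc_le i)
    (D.C_le_N_E i)

/-- LEMMA P for `E 0`, `E 1` -/
theorem exists_crit :
    ∃ n, NO3L.LemP.Comm (CC v) (EU T v) (n + 1) ∧
      (∀ m ≤ n, ∀ a c : Fin 2 × G, NO3L.LemP.Near (CC v) m a c →
        NO3L.LemP.vx (EU T v) a ≤ NO3L.LemP.vx (QQ v) c) ∧
      ∃ (i j k l : Fin 2) (g : G), NO3L.LemP.Crit (o2 (centralizer (zc T : Set G))) (CC v) (EU T v) (QQ v) i j k l g ∧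
        NO3L.LemP.Near (CC v) (n + 1) (i, g) (j, 1) := by
  refine D.data.exists_crit D.E_comm fun hcon => ?_
  have hle : ∀ i, CC v i ≤ (⨆ i, CC v i : Subgroup G) := fun i => le_iSup (CC v) i
  have h1 := D.nonloc (clo (⨆ i, CC v i) (EU T v)) (fun a => ⟨1, ?_⟩) ((hle 0).trans (le_normalizer_clo _ _))
    ((hle 1).trans (le_normalizer_clo _ _))
  · have h2 : v 0 ∈ clo (⨆ i, CC v i) (EU T v) := le_clo' 0 (le_V _ _ (D.v_mem_zc 0))
    rw [h1, mem_bot] at h2
    exact D.ne 0 h2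
  · exact Subtype.ext (clo_isPGroup D.E_sq (clo_comm hcon) a a.2)

/-- **LEMMA P**: a critical pair `(N_i^g, N_j)`. -/
theorem crit :
    ∃ n, NO3L.LemP.Comm (CC v) (EU T v) (n + 1) ∧
      (∀ m ≤ n, ∀ a c : Fin 2 × G, NO3L.LemP.Near (CC v) m a c →
        NO3L.LemP.vx (EU T v) a ≤ NO3L.LemP.vx (QQ v) c) ∧
      ∃ (i j : Fin 2) (g : G), g ∈ (⨆ i, CC v i : Subgroup G) ∧ NO3L.LemP.Near (CC v) (n + 1) (i, g) (j, 1) ∧
        MulAut.conj g • EU T v i ≤ QQ v (j + 1) ∧ EU T v j ≤ MulAut.conj g • QQ v (i + 1) ∧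
        ¬ MulAut.conj g • NU V v i ≤ centralizer (NU V v j : Set G) := by
  obtain ⟨n, h1, h2, i, j, k, l, g, h3, h4⟩ := D.exists_crit
  have hk : k = j + 1 := eq_add_one h3.kj.symm
  have hl : l = i + 1 := eq_add_one h3.li.symm
  subst hk hl
  refine ⟨n, h1, h2, i, j, g, h3.mem, h4, h3.le, h3.ge, fun hcomm => h3.ne ?_⟩
  have hE1 : MulAut.conj g • EU T v i ≤ CC v j := h3.le.trans ((D.Q_le_T _).trans (D.T_le_C j))
  have hE2 : EU T v j ≤ MulAut.conj g • CC v i := h3.ge.trans (conj_le_iff.2 ((D.Q_le_T _).trans (D.T_le_C i)))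
  -- `E_i^g = N_i^g ⟨v_i^g⟩`
  have hEg : MulAut.conj g • EU T v i ≤ MulAut.conj g • NU V v i ⊔ MulAut.conj g • zpowers (v i) := by
    rw [← Subgroup.smul_sup]
    exact conj_le_iff.2 (D.E_le i)
  have hNj : NU V v j ≤ EU T v j := D.N_le_E j
  have hz1 : MulAut.conj g • zpowers (v i) ≤ centralizer (EU T v j : Set G) := by
    refine comm_symm (hE2.trans ?_)
    exact conj_le_centralizer (CC_le_cent_zpowers i)
  have h5 : MulAut.conj g • EU T v i ≤ centralizer (NU V v j : Set G) :=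
    hEg.trans (sup_le hcomm (hz1.trans (centralizer_le hNj)))
  refine comm_symm ((D.E_le j).trans (sup_le (comm_symm h5) ?_))
  exact comm_symm (hE1.trans (CC_le_cent_zpowers j))

end Fr

end Cfsg.Agent.Omega.TC

end

section


/-!
# CARD #18791 "(E) = TWO CENTRES", `q = 2`: helper716 #19420, LEMMA R

`D : Fr T V P v`, `RR v i j = ⟨N_i ^ C_j⟩` (`i ≠ j`).

* `Fr.RR_le`, `Fr.C_le_N_RR`, `Fr.N_le_RR` : `N_i ≤ RR v V i j ⊴ C_j`;
* `Fr.RR_mul` : `C_j = (RR) D` and `RR_self` : `RR = ⟨N_i ^ RR⟩` (`[N_0, N_1] ≠ 1`);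
* `Fr.lemR` : **LEMMA R**: `[N_0, N_1] ≠ 1` implies `[RR, V_j] ≠ 1`.
-/

set_option autoImplicit false
set_option linter.unusedSectionVars false

namespace Cfsg.Agent.Omega.TC

open Subgroup Cfsg Cfsg.Agent.ZN Cfsg.Agent.Omega.MinPar
open Cfsg.Agent.Omega.OM.KTwo (CC QQ WU NU EU FF ne_add_one eq_add_one add_one_add_one le_normalizer_V le_V)
open Cfsg.Agent.Omega.NoFF.Basic (conj_conj mem_conj conj_le_iff conj_le_centralizer comm_symm comm_mono
  Z_le_V V_le conj_V_mul)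
open Cfsg.Agent.Omega.NOThreeL.Pair (conj_eq_of_mem)
open Cfsg.Agent.MinSimple.VModule (mem_zc zc_le le_normalizer_o2 le_o2 o2_le o2_isPGroup)
open scoped Pointwise

universe u

variable {G : Type u} [Group G]

/-- `R_j = ⟨N_i ^ C_j⟩` -/
def RR (V : Fin 2 → Subgroup G) (v : Fin 2 → G) (i j : Fin 2) : Subgroup G :=
  NoFF.Basic.V (NU V v i) (CC v j)

theorem card_conj [Finite G] (x : G) (H : Subgroup G) : Nat.card (MulAut.conj x • H : Subgroup G) = Nat.card H := by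
  rw [← SetLike.coe_sort_coe, Subgroup.coe_pointwise_smul]
  exact Set.ncard_smul_set _ _

namespace Fr

variable [Finite G] {T : Subgroup G} {V P : Fin 2 → Subgroup G} {v : Fin 2 → G} (D : Fr T V P v)

include D

theorem N_le_RR (i j : Fin 2) : NU V v i ≤ RR V v i j := le_V _ _

theorem RR_le (i j : Fin 2) : RR V v i j ≤ CC v j := V_le fun c hc => by
  have h1 := conj_le_iff (g := c) |>.2 (D.N_le_C i j)
  rwa [D.conj_CC hc] at h1

theorem C_le_N_RR (i j : Fin 2) : CC v j ≤ normalizer (RR V v i j : Set G) := le_normalizer_V _ _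

/-- the hypothesis `d = 1` for the pair `(i, j)` -/
theorem not_comm_of {i j : Fin 2} (hij : i ≠ j) (h : ¬ NU V v 0 ≤ centralizer (NU V v 1 : Set G)) :
    ¬ NU V v i ≤ centralizer (NU V v j : Set G) := by
  intro h2
  apply h
  rcases Fin.exists_fin_two.1 ⟨i, rfl⟩ with hi | hi
  · have hj : j = 1 := by rw [eq_add_one hij, hi]; rfl
    rw [hi, hj] at h2
    exact h2
  · have hj : j = 0 := by rw [eq_add_one hij, hi]; rfl
    rw [hi, hj] at h2
    exact comm_symm h2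

/-- `C_j = R_j D` -/
theorem RR_mul {i j : Fin 2} (h : ¬ NU V v i ≤ centralizer (NU V v j : Set G)) :
    ∀ c ∈ CC v j, ∃ x ∈ RR V v i j, ∃ d ∈ centralizer (zc T : Set G), c = x * d :=
  D.lem0 (D.RR_le i j) (D.C_le_N_RR i j) fun h' => h ((D.N_le_RR i j).trans h')

/-- `R_j = ⟨N_i ^ R_j⟩` -/
theorem RR_self {i j : Fin 2} (h : ¬ NU V v i ≤ centralizer (NU V v j : Set G)) :
    RR V v i j ≤ NoFF.Basic.V (NU V v i) (RR V v i j) := V_le fun c hc => by
  obtain ⟨x, hx, d, hd, rfl⟩ := D.RR_mul h c hc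
  rw [← conj_conj, conj_eq_of_mem (D.C_le_N_N i (D.cent_zc_le i hd))]
  exact Z_le_V hx

/-- **LEMMA R** of #19420: `R_j` does not centralise `V_j`. -/
theorem lemR {i j : Fin 2} (hij : i ≠ j) (h : ¬ NU V v i ≤ centralizer (NU V v j : Set G)) :
    ¬ RR V v i j ≤ centralizer (V j : Set G) := by
  intro hR
  set R : Subgroup G := RR V v i j with hRdef
  -- `P j` normalises `R`
  have hP : P j ≤ normalizer (R : Set G) := by
    intro x hx
    have hxC : x ∈ CC v i := D.PC j i hij.symm hx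
    have hxN : MulAut.conj x • NU V v i = NU V v i := conj_eq_of_mem (D.C_le_N_N i hxC)
    have hVC : centralizer (V j : Set G) ≤ MulAut.conj x • CC v j := by
      intro c hc
      rw [mem_conj]
      rw [mem_centralizer_singleton_iff]
      have h1 : x * v j * x⁻¹ ∈ V j := (mem_normalizer_iff.1 (D.PN j j hx) _).1 (D.mem j)
      have h2 : (x * v j * x⁻¹) * c = c * (x * v j * x⁻¹) := mem_centralizer_iff.1 hc _ h1
      calc x⁻¹ * c * x * v j = x⁻¹ * (c * (x * v j * x⁻¹)) * x := by group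
        _ = x⁻¹ * ((x * v j * x⁻¹) * c) * x := by rw [h2]
        _ = v j * (x⁻¹ * c * x) := by group
    have hn : MulAut.conj x • CC v j ≤ normalizer ((MulAut.conj x • R : Subgroup G) : Set G) := by
      have h1 : MulAut.conj x • CC v j ≤ MulAut.conj x • normalizer (R : Set G) := conj_le_iff.2 (D.C_le_N_RR i j)
      exact h1.trans (Cfsg.Agent.Omega.NoFF.Main.normalizer_conj _ _).ge
    have hRn : R ≤ normalizer ((MulAut.conj x • R : Subgroup G) : Set G) := (hR.trans hVC).trans hn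
    have hNR : NU V v i ≤ MulAut.conj x • R := by
      rw [← hxN]
      exact conj_le_iff.2 (D.N_le_RR i j)
    have hle : R ≤ MulAut.conj x • R := (D.RR_self h).trans (V_le fun c hc => by
      rw [← conj_eq_of_mem (hRn hc)]
      exact conj_le_iff.2 hNR)
    have heq : R = MulAut.conj x • R := Subgroup.eq_of_le_of_card_ge hle (card_conj x R).le
    exact ChoiceBase.mem_normalizer_iff_cj.2 heq.symm
  have hC : CC v i ≤ normalizer (R : Set G) :=
    (D.gen hij.symm).trans (sup_le hP ((D.cent_zc_le j).trans (D.C_le_N_RR i j)))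
  have hC' : CC v j ≤ normalizer (R : Set G) := D.C_le_N_RR i j
  -- `O₂(R) = 1`
  have ho : o2 R = ⊥ := by
    have a1 : CC v i ≤ normalizer (o2 R : Set G) := hC.trans (Cfsg.Agent.Omega.normalizer_le_normalizer_o2' R)
    have a2 : CC v j ≤ normalizer (o2 R : Set G) := hC'.trans (Cfsg.Agent.Omega.normalizer_le_normalizer_o2' R)
    refine D.nonloc _ (o2_isPGroup R) ?_ ?_
    · rcases Fin.exists_fin_two.1 ⟨i, rfl⟩ with hi | hi
      · rw [hi] at a1; exact a1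
      · have hj : j = 0 := by rw [eq_add_one hij, hi]; rfl
        rw [hj] at a2; exact a2
    · rcases Fin.exists_fin_two.1 ⟨i, rfl⟩ with hi | hi
      · have hj : j = 1 := by rw [eq_add_one hij, hi]; rfl
        rw [hj] at a2; exact a2
      · rw [hi] at a1; exact a1
  have hRC : R ≤ CC v j := D.RR_le i j
  have hRQ : R ⊓ QQ v j ≤ o2 R := by
    refine le_o2 inf_le_left (D.T_isPGroup.to_le (inf_le_right.trans (D.Q_le_T j))) ?_
    intro x hx
    have ha : x ∈ normalizer (R : Set G) := le_normalizer hx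
    have hb : x ∈ normalizer (QQ v j : Set G) := le_normalizer_o2 _ (hRC hx)
    rw [mem_normalizer_iff] at ha hb ⊢
    intro y
    exact ⟨fun hy => ⟨(ha y).1 hy.1, (hb y).1 hy.2⟩, fun hy => ⟨(ha y).2 hy.1, (hb y).2 hy.2⟩⟩
  have hcomm : R ≤ centralizer (QQ v j : Set G) := by
    intro r hr
    rw [mem_centralizer_iff]
    intro q hq
    replace hq : q ∈ QQ v j := hq
    have h1 : r * q * r⁻¹ * q⁻¹ ∈ R ⊓ QQ v j := by
      refine ⟨?_, ?_⟩
      · have h2 : q * r⁻¹ * q⁻¹ ∈ R :=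
          (mem_normalizer_iff.1 (hC' (o2_le _ hq)) _).1 (inv_mem hr)
        have e : r * q * r⁻¹ * q⁻¹ = r * (q * r⁻¹ * q⁻¹) := by group
        rw [e]
        exact mul_mem hr h2
      · show r * q * r⁻¹ * q⁻¹ ∈ QQ v j
        exact mul_mem ((mem_normalizer_iff.1 (le_normalizer_o2 _ (hRC hr)) q).1 hq) (inv_mem hq)
    have h2 := hRQ h1
    rw [ho, mem_bot] at h2
    calc q * r = (r * q * r⁻¹ * q⁻¹)⁻¹ * (r * q) := by group
      _ = r * q := by rw [h2]; group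
  have hle : R ≤ QQ v j := fun r hr => D.isChar2 j ⟨hRC hr, hcomm hr⟩
  have h3 : R ≤ ⊥ := by
    rw [← ho]
    exact (le_inf le_rfl hle).trans hRQ
  have h4 : v j ∈ R := by
    apply D.N_le_RR i j
    rw [eq_add_one hij]
    exact D.mem_N i
  exact D.ne j ((mem_bot).1 (h3 h4))

end Fr

end Cfsg.Agent.Omega.TC

end

section


/-!
# LEMMA AV (averaging; helper815 #19738, referee helper37 #19928; CARD #18791 TWO CENTRES)

`U` abelian, `V ≤ U` normalised by the 2-group `T`, `Z = C_V(T)`, `[V, T] ≤ Z`, `M ∩ T ≤ O := C_T(V)`, `X := C_M(Z)`.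

* `exists_norm` : the norm map `σ : V → C_U(X)`, `a ↦ ∏_{x ∈ X / C_X(V)} x a x⁻¹`, and its equivariance;
* `av` : **(AV)** `C_U(O) ≤ V C₀`, `C₀` centralised by `T` and `X`: `C_M(Z)` centralises `V`;
* `av_cent` : then `C_M(Z)` centralises `Z^{⟨P, D⟩}`;
* `cor` : **(COR)** `C₂ = M D`; `cor_orbit` : `v^{C₂} = v^M`;
* `Set2.of_four` : the setting for `q = 2`;
* `caseA` : **(A)** all 2-lines on `v₂` are `D`-conjugate to `V₂`: `v₂^{⟨C₁, C₂⟩} = v₂^{C₁}`; `Set2.caseA_dead`.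
-/

set_option autoImplicit false
set_option linter.unusedSectionVars false

namespace Cfsg.Agent.Omega.TC.Av

open Subgroup Cfsg Cfsg.Agent.ZN Cfsg.Agent.MinSimple.MinParabolic
open Cfsg.Agent.MinSimple.VModule (o2_isPGroup)

variable {G : Type*} [Group G]

section norm

/-- conjugation on a subgroup -/
def cg {U : Subgroup G} {g : G} (hg : g ∈ normalizer (U : Set G)) : U →* U where
  toFun u := ⟨g * u * g⁻¹, (mem_normalizer_iff.1 hg u).1 u.2⟩
  map_one' := Subtype.ext (by simp)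
  map_mul' a b := Subtype.ext (by
    change g * ((a : G) * b) * g⁻¹ = g * a * g⁻¹ * (g * b * g⁻¹)
    group)

theorem coe_cg {U : Subgroup G} {g : G} (hg : g ∈ normalizer (U : Set G)) (u : U) :
    ((cg hg u : U) : G) = g * u * g⁻¹ := rfl

/-- **The norm map.** -/
theorem exists_norm [Finite G] {U V X : Subgroup G} (hU : ∀ x ∈ U, ∀ y ∈ U, x * y = y * x) (hVU : V ≤ U)
    (hX : X ≤ normalizer (U : Set G)) (hodd : ¬ 2 ∣ (X ⊓ centralizer (V : Set G)).relIndex X) :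
    ∃ σ : G → G, (∀ a ∈ V, σ a ∈ U) ∧ (∀ x ∈ X, ∀ a ∈ V, x * σ a * x⁻¹ = σ a) ∧
      (∀ a ∈ V, ∀ b ∈ V, σ (a * b) = σ a * σ b) ∧
      (∀ z ∈ V, z * z = 1 → (∀ x ∈ X, x * z = z * x) → σ z = z) ∧
      ∀ s : G, s ∈ normalizer (U : Set G) → s ∈ normalizer (V : Set G) → s ∈ normalizer (X : Set G) →
        ∀ a ∈ V, s * σ a * s⁻¹ = σ (s * a * s⁻¹) := by
  classical
  let _ : CommGroup U := { (inferInstance : Group U) with
    mul_comm := fun a b => Subtype.ext (hU a a.2 b b.2) }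
  let ι : V → U := fun a => ⟨a, hVU a.2⟩
  let f : X → V → U := fun x a => ⟨x * a * (x : G)⁻¹, (mem_normalizer_iff.1 (hX x.2) a).1 (hVU a.2)⟩
  have hf : ∀ x a, ((f x a : U) : G) = x * a * (x : G)⁻¹ := fun _ _ => rfl
  let Ω := Set.range f
  have hfin : Finite Ω := Finite.Set.finite_range f
  let _ : Fintype Ω := Fintype.ofFinite Ω
  -- `|Ω|` is odd
  have hcard : Nat.card Ω = ((X ⊓ centralizer (V : Set G)).subgroupOf X).index := by
    rw [index]
    refine Nat.card_congr ((Setoid.quotientKerEquivRange f).symm.trans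
      (Quotient.congr (Equiv.refl X) fun a b => ?_))
    change f a = f b ↔ (QuotientGroup.leftRel _) a b
    rw [QuotientGroup.leftRel_apply, mem_subgroupOf]
    have key : f a = f b ↔ ∀ v ∈ V, (a : G)⁻¹ * b * v = v * ((a : G)⁻¹ * b) := by
      constructor
      · intro h v hv
        have h1 : (a : G) * v * (a : G)⁻¹ = b * v * (b : G)⁻¹ := by
          rw [← hf a ⟨v, hv⟩, ← hf b ⟨v, hv⟩, h]
        calc (a : G)⁻¹ * b * v = (a : G)⁻¹ * (b * v * (b : G)⁻¹) * b := by group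
          _ = (a : G)⁻¹ * (a * v * (a : G)⁻¹) * b := by rw [h1]
          _ = v * ((a : G)⁻¹ * b) := by group
      · intro h
        funext v
        apply Subtype.ext
        rw [hf, hf]
        have h1 := h v v.2
        calc (a : G) * v * (a : G)⁻¹ = a * (v * ((a : G)⁻¹ * b)) * (b : G)⁻¹ := by group
          _ = a * ((a : G)⁻¹ * b * v) * (b : G)⁻¹ := by rw [h1]
          _ = b * v * (b : G)⁻¹ := by group
    rw [key]
    constructor
    · intro h
      exact ⟨(a⁻¹ * b : X).2, mem_centralizer_iff.2 fun v hv => (h v hv).symm⟩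
    · intro h v hv
      exact (mem_centralizer_iff.1 h.2 v hv).symm
  have hodd' : Odd (Fintype.card Ω) := by
    rw [← Nat.card_eq_fintype_card, hcard, ← Nat.not_even_iff_odd]
    exact fun h => hodd (even_iff_two_dvd.1 h)
  let N : V → U := fun a => ∏ φ : Ω, φ.1 a
  let σ : G → G := fun a => if h : a ∈ V then (N ⟨a, h⟩ : G) else 1
  have hσ : ∀ a (h : a ∈ V), σ a = (N ⟨a, h⟩ : G) := fun a h => dif_pos h
  refine ⟨σ, fun a ha => ?_, fun x hx a ha => ?_, fun a ha b hb => ?_, fun z hz hz2 hzX => ?_,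
    fun s hsU hsV hsX a ha => ?_⟩
  · rw [hσ a ha]
    exact (N ⟨a, ha⟩).2
  · rw [hσ a ha, ← coe_cg (hX hx)]
    congr 1
    change cg (hX hx) (∏ φ : Ω, φ.1 ⟨a, ha⟩) = ∏ φ : Ω, φ.1 ⟨a, ha⟩
    rw [map_prod]
    let e : Ω → Ω := fun φ => ⟨fun b => cg (hX hx) (φ.1 b), by
      obtain ⟨φ, y, rfl⟩ := φ
      refine ⟨⟨x, hx⟩ * y, ?_⟩
      funext b
      apply Subtype.ext
      rw [hf, coe_cg, hf, coe_mul]
      group⟩
    have he : Function.Bijective e := by
      rw [← Finite.injective_iff_bijective]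
      intro φ ψ h
      apply Subtype.ext
      funext b
      have h1 := congrArg (fun w : Ω => ((w.1 b : U) : G)) h
      change x * (φ.1 b : G) * x⁻¹ = x * (ψ.1 b : G) * x⁻¹ at h1
      exact Subtype.ext (mul_left_cancel (mul_right_cancel h1))
    exact he.prod_comp (fun φ : Ω => φ.1 ⟨a, ha⟩)
  · rw [hσ _ (mul_mem ha hb), hσ a ha, hσ b hb, ← coe_mul]
    congr 1
    change ∏ φ : Ω, φ.1 ⟨a * b, _⟩ = (∏ φ : Ω, φ.1 ⟨a, ha⟩) * ∏ φ : Ω, φ.1 ⟨b, hb⟩
    rw [← Finset.prod_mul_distrib]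
    refine Finset.prod_congr rfl fun φ _ => ?_
    obtain ⟨φ, y, rfl⟩ := φ
    apply Subtype.ext
    change (y : G) * (a * b) * (y : G)⁻¹ = y * a * (y : G)⁻¹ * (y * b * (y : G)⁻¹)
    group
  · rw [hσ z hz]
    have h1 : ∀ φ : Ω, φ.1 ⟨z, hz⟩ = ι ⟨z, hz⟩ := by
      rintro ⟨φ, y, rfl⟩
      apply Subtype.ext
      change (y : G) * z * (y : G)⁻¹ = z
      rw [hzX y y.2, mul_inv_cancel_right]
    have h2 : N ⟨z, hz⟩ = ι ⟨z, hz⟩ := by
      change ∏ φ : Ω, φ.1 ⟨z, hz⟩ = _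
      rw [Finset.prod_congr rfl fun φ _ => h1 φ, Finset.prod_const, Finset.card_univ]
      obtain ⟨n, hn⟩ := hodd'
      rw [hn, pow_succ, pow_mul]
      have h3 : (ι ⟨z, hz⟩) ^ 2 = 1 := by
        rw [pow_two]
        exact Subtype.ext hz2
      rw [h3, one_pow, one_mul]
    rw [h2]
  · have hsa : s * a * s⁻¹ ∈ V := (mem_normalizer_iff.1 hsV a).1 ha
    rw [hσ a ha, hσ _ hsa, ← coe_cg hsU]
    congr 1
    change cg hsU (∏ φ : Ω, φ.1 ⟨a, ha⟩) = ∏ φ : Ω, φ.1 ⟨s * a * s⁻¹, hsa⟩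
    rw [map_prod]
    have hsV' : ∀ b ∈ V, s⁻¹ * b * s ∈ V := fun b hb => by
      have := (mem_normalizer_iff.1 (inv_mem hsV) b).1 hb
      rwa [inv_inv] at this
    let e : Ω → Ω := fun φ => ⟨fun b => cg hsU (φ.1 ⟨s⁻¹ * b * s, hsV' b b.2⟩), by
      obtain ⟨φ, y, rfl⟩ := φ
      refine ⟨⟨s * y * s⁻¹, (mem_normalizer_iff.1 hsX y).1 y.2⟩, ?_⟩
      funext b
      apply Subtype.ext
      rw [hf, coe_cg, hf]
      group⟩
    have he : Function.Bijective e := by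
      rw [← Finite.injective_iff_bijective]
      intro φ ψ h
      apply Subtype.ext
      funext b
      have hb : s * (b : G) * s⁻¹ ∈ V := (mem_normalizer_iff.1 hsV b).1 b.2
      have h1 := congrArg (fun w : Ω => ((w.1 ⟨s * b * s⁻¹, hb⟩ : U) : G)) h
      change s * (φ.1 ⟨s⁻¹ * (s * b * s⁻¹) * s, _⟩ : G) * s⁻¹ = s * (ψ.1 ⟨s⁻¹ * (s * b * s⁻¹) * s, _⟩ : G) * s⁻¹ at h1
      have e2 : (⟨s⁻¹ * (s * b * s⁻¹) * s, hsV' _ hb⟩ : V) = b := Subtype.ext (by
        change s⁻¹ * (s * (b : G) * s⁻¹) * s = b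
        group)
      rw [e2] at h1
      exact Subtype.ext (mul_left_cancel (mul_right_cancel h1))
    rw [← he.prod_comp (fun φ : Ω => φ.1 ⟨s * a * s⁻¹, hsa⟩)]
    refine Finset.prod_congr rfl fun φ _ => ?_
    change cg hsU (φ.1 ⟨a, ha⟩) = cg hsU (φ.1 ⟨s⁻¹ * (s * a * s⁻¹) * s, _⟩)
    have e2 : (⟨s⁻¹ * (s * a * s⁻¹) * s, hsV' _ hsa⟩ : V) = ⟨a, ha⟩ := Subtype.ext (by
      change s⁻¹ * (s * a * s⁻¹) * s = a
      group)
    rw [e2]

end norm

/-! ### (AV) -/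

section av

theorem comm_of_conj {g x : G} (h : g * x * g⁻¹ = x) : g * x = x * g := mul_inv_eq_iff_eq_mul.1 h

theorem le_normalizer_inf' {M P : Subgroup G} (hPM : P ≤ normalizer (M : Set G)) :
    P ≤ normalizer ((M ⊓ P : Subgroup G) : Set G) := by
  intro t ht
  rw [mem_normalizer_iff]
  intro x
  constructor
  · rintro ⟨h1, h2⟩
    exact ⟨(mem_normalizer_iff.1 (hPM ht) x).1 h1, P.mul_mem (P.mul_mem ht h2) (P.inv_mem ht)⟩
  · rintro ⟨h1, h2⟩
    refine ⟨(mem_normalizer_iff.1 (hPM ht) x).2 h1, ?_⟩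
    have h3 := P.mul_mem (P.mul_mem (P.inv_mem ht) h2) ht
    have e : t⁻¹ * (t * x * t⁻¹) * t = x := by group
    rwa [e] at h3

theorem relIndex_sup_av [Finite G] {S K : Subgroup G} (hK : S ≤ normalizer (K : Set G)) :
    S.relIndex K = S.relIndex (S ⊔ K) := by
  set J := S ⊔ K with hJ
  have hJN : J ≤ normalizer (K : Set G) := sup_le hK le_normalizer
  have : (K.subgroupOf J).Normal := normal_subgroupOf_of_le_normalizer hJN
  have hSJ : S ≤ J := le_sup_left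
  have hKJ : K ≤ J := le_sup_right
  have h1 : (K.subgroupOf J).relIndex ((S.subgroupOf J) ⊔ (K.subgroupOf J)) =
      (K.subgroupOf J).relIndex (S.subgroupOf J) := relIndex_sup_right _ _
  have h2 : (S.subgroupOf J) ⊔ (K.subgroupOf J) = ⊤ := by
    rw [← subgroupOf_sup hSJ hKJ, ← hJ, subgroupOf_self]
  rw [h2, relIndex_top_right, relIndex_subgroupOf hSJ] at h1
  have e1 : K.relIndex J = K.relIndex S := h1
  have c1 : Nat.card K * K.relIndex J = Nat.card J := by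
    rw [← relIndex_bot_left, ← relIndex_bot_left]
    exact relIndex_mul_relIndex _ _ _ bot_le hKJ
  have c2 : Nat.card S * S.relIndex J = Nat.card J := by
    rw [← relIndex_bot_left, ← relIndex_bot_left]
    exact relIndex_mul_relIndex _ _ _ bot_le hSJ
  have c3 : Nat.card (K ⊓ S : Subgroup G) * K.relIndex S = Nat.card S := by
    rw [← inf_relIndex_right, ← relIndex_bot_left, ← relIndex_bot_left]
    exact relIndex_mul_relIndex _ _ _ bot_le inf_le_right
  have c4 : Nat.card (K ⊓ S : Subgroup G) * S.relIndex K = Nat.card K := by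
    rw [inf_comm, ← inf_relIndex_right, ← relIndex_bot_left, ← relIndex_bot_left]
    exact relIndex_mul_relIndex _ _ _ bot_le inf_le_right
  have hpos : 0 < Nat.card (K ⊓ S : Subgroup G) := Nat.card_pos
  have hpos3 : 0 < K.relIndex S := by
    have hposS : 0 < Nat.card S := Nat.card_pos
    rcases Nat.eq_zero_or_pos (K.relIndex S) with h | h
    · rw [h, mul_zero] at c3; omega
    · exact h
  rw [e1, ← c2] at c1
  rw [← c4, ← c3] at c1
  have h5 : (Nat.card (K ⊓ S : Subgroup G) * K.relIndex S) * S.relIndex K =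
      (Nat.card (K ⊓ S : Subgroup G) * K.relIndex S) * S.relIndex J := by
    rw [← c1]; ring
  exact Nat.eq_of_mul_eq_mul_left (Nat.mul_pos hpos hpos3) h5

/-- `|M : T ∩ M|` is odd for `M ≤ H` normalised by `T`, `T` Sylow in `H` -/
theorem odd_inf [Finite G] {T H M : Subgroup G} (hTH : T ≤ H) (hodd : ¬ 2 ∣ T.relIndex H) (hMH : M ≤ H)
    (hTM : T ≤ normalizer (M : Set G)) : ¬ 2 ∣ (T ⊓ M).relIndex M := by
  have h2 : T.relIndex M ∣ T.relIndex H := by
    rw [relIndex_sup_av hTM]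
    exact Dvd.intro _ (relIndex_mul_relIndex _ _ _ le_sup_left (sup_le hTH hMH))
  rw [inf_relIndex_right]
  exact fun h => hodd (h.trans h2)

variable [Finite G] {U V Z T M : Subgroup G}

/-- **LEMMA AV.** -/
theorem av (hU : ∀ x ∈ U, ∀ y ∈ U, x * y = y * x) (hVU : V ≤ U) (hZV : Z ≤ V) (hZ2 : ∀ z ∈ Z, z * z = 1)
    (hTU : T ≤ normalizer (U : Set G)) (hTV : T ≤ normalizer (V : Set G)) (hTM : T ≤ normalizer (M : Set G))
    (hcomm : ∀ t ∈ T, ∀ a ∈ V, t * a * t⁻¹ * a⁻¹ ∈ Z)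
    (hfix : ∀ a ∈ V, (∀ t ∈ T, t * a = a * t) → a ∈ Z)
    (hMU : M ⊓ centralizer (Z : Set G) ≤ normalizer (U : Set G))
    (hTMV : T ⊓ M ≤ centralizer (V : Set G)) (hodd : ¬ 2 ∣ (T ⊓ M).relIndex M)
    (hC : ∀ u ∈ U, (∀ o ∈ T ⊓ centralizer (V : Set G), o * u = u * o) → ∃ w ∈ V, ∃ c, u = w * c ∧
      (∀ t ∈ T, t * c = c * t) ∧ ∀ x ∈ M ⊓ centralizer (Z : Set G), x * c = c * x) :
    M ⊓ centralizer (Z : Set G) ≤ centralizer (V : Set G) := by
  set X := M ⊓ centralizer (Z : Set G) with hXdef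
  have hVc : ∀ x ∈ V, ∀ y ∈ V, x * y = y * x := fun x hx y hy => hU x (hVU hx) y (hVU hy)
  have hTZ : ∀ t ∈ T, ∀ z ∈ Z, t * z * t⁻¹ ∈ Z := by
    intro t ht z hz
    have h1 := mul_mem (hcomm t ht z (hZV hz)) hz
    have e : t * z * t⁻¹ * z⁻¹ * z = t * z * t⁻¹ := by group
    rwa [e] at h1
  have hTX : T ≤ normalizer (X : Set G) := by
    have key : ∀ t ∈ T, ∀ x ∈ X, t * x * t⁻¹ ∈ X := by
      intro t ht x hx
      refine ⟨(mem_normalizer_iff.1 (hTM ht) x).1 hx.1, mem_centralizer_iff.2 fun z hz => ?_⟩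
      have h1 : t⁻¹ * z * t ∈ Z := by
        have := hTZ t⁻¹ (inv_mem ht) z hz
        rwa [inv_inv] at this
      have h2 := mem_centralizer_iff.1 hx.2 _ h1
      calc z * (t * x * t⁻¹) = t * (t⁻¹ * z * t * x) * t⁻¹ := by group
        _ = t * (x * (t⁻¹ * z * t)) * t⁻¹ := by rw [h2]
        _ = t * x * t⁻¹ * z := by group
    intro t ht
    rw [mem_normalizer_iff]
    intro x
    refine ⟨key t ht x, fun hx => ?_⟩
    have h1 := key t⁻¹ (inv_mem ht) _ hx
    have e : t⁻¹ * (t * x * t⁻¹) * t⁻¹⁻¹ = x := by group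
    rwa [e] at h1
  have hoddX : ¬ 2 ∣ (X ⊓ centralizer (V : Set G)).relIndex X := by
    have a1 : T ⊓ M ≤ X ⊓ centralizer (V : Set G) :=
      le_inf (le_inf inf_le_right (hTMV.trans (centralizer_le hZV))) hTMV
    have a2 : (X ⊓ centralizer (V : Set G)).relIndex X ∣ (T ⊓ M).relIndex M := by
      rw [← relIndex_mul_relIndex _ _ _ (a1.trans inf_le_left) (inf_le_left : X ≤ M),
        ← relIndex_mul_relIndex _ _ _ a1 (inf_le_left : X ⊓ centralizer (V : Set G) ≤ X)]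
      exact Dvd.dvd.mul_right (Dvd.intro_left _ rfl) _
    exact fun h => hodd (h.trans a2)
  obtain ⟨σ, h1, h2, h3, h4, h5⟩ := exists_norm hU hVU hMU hoddX
  intro x hx
  rw [mem_centralizer_iff]
  intro a ha
  have hT : ∀ t ∈ T, t * σ a * t⁻¹ = t * a * t⁻¹ * a⁻¹ * σ a := by
    intro t ht
    have hz := hcomm t ht a ha
    have hσz : σ (t * a * t⁻¹ * a⁻¹) = t * a * t⁻¹ * a⁻¹ :=
      h4 _ (hZV hz) (hZ2 _ hz) fun y hy => (mem_centralizer_iff.1 hy.2 _ hz).symm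
    rw [h5 t (hTU ht) (hTV ht) (hTX ht) a ha]
    have e : t * a * t⁻¹ = t * a * t⁻¹ * a⁻¹ * a := by group
    calc σ (t * a * t⁻¹) = σ (t * a * t⁻¹ * a⁻¹ * a) := by rw [← e]
      _ = σ (t * a * t⁻¹ * a⁻¹) * σ a := h3 _ (hZV hz) a ha
      _ = t * a * t⁻¹ * a⁻¹ * σ a := by rw [hσz]
  obtain ⟨w, hw, c, hwc, hcT, hcX⟩ := hC (σ a) (h1 a ha) (by
    rintro o ⟨ho, hoV⟩
    apply comm_of_conj
    rw [hT o ho]
    have h6 := mem_centralizer_iff.1 hoV a ha
    have e : o * a * o⁻¹ * a⁻¹ = 1 := by rw [← h6]; group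
    rw [e, one_mul])
  -- `w a⁻¹ ∈ Z`
  have hwa : w * a⁻¹ ∈ Z := by
    refine hfix _ (mul_mem hw (inv_mem ha)) fun t ht => comm_of_conj ?_
    have h6 := hT t ht
    rw [hwc] at h6
    have h7 : t * w * t⁻¹ = t * a * t⁻¹ * a⁻¹ * w := by
      have h8 : t * (w * c) * t⁻¹ = t * w * t⁻¹ * c := by
        have h9 : c * t⁻¹ = t⁻¹ * c := by
          calc c * t⁻¹ = t⁻¹ * (t * c) * t⁻¹ := by group
            _ = t⁻¹ * (c * t) * t⁻¹ := by rw [hcT t ht]
            _ = t⁻¹ * c := by group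
        calc t * (w * c) * t⁻¹ = t * w * (c * t⁻¹) := by group
          _ = t * w * t⁻¹ * c := by rw [h9]; group
      rw [h8, ← mul_assoc] at h6
      exact mul_right_cancel h6
    have hz := hZV (hcomm t ht a ha)
    calc t * (w * a⁻¹) * t⁻¹ = (t * w * t⁻¹) * (t * a * t⁻¹)⁻¹ := by group
      _ = (t * a * t⁻¹ * a⁻¹ * w) * (t * a * t⁻¹ * a⁻¹ * a)⁻¹ := by
        rw [h7]
        congr 2
        group
      _ = (t * a * t⁻¹ * a⁻¹) * (w * a⁻¹) * (t * a * t⁻¹ * a⁻¹)⁻¹ := by group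
      _ = w * a⁻¹ := by
        rw [hVc _ hz _ (mul_mem hw (inv_mem ha)), mul_inv_cancel_right]
  have h6 : x * σ a = σ a * x := comm_of_conj (h2 x hx a ha)
  have h7 : x * w = w * x := by
    rw [hwc] at h6
    have h8 := hcX x hx
    have h9 : x * w * c = w * x * c := by
      calc x * w * c = x * (w * c) := by group
        _ = w * (c * x) := by rw [h6]; group
        _ = w * x * c := by rw [← h8]; group
    exact mul_right_cancel h9
  have h8 := mem_centralizer_iff.1 hx.2 _ hwa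
  have e : a = (w * a⁻¹)⁻¹ * w := by group
  have h9 : x * (w * a⁻¹)⁻¹ = (w * a⁻¹)⁻¹ * x := by
    calc x * (w * a⁻¹)⁻¹ = (w * a⁻¹)⁻¹ * (w * a⁻¹ * x) * (w * a⁻¹)⁻¹ := by group
      _ = (w * a⁻¹)⁻¹ * (x * (w * a⁻¹)) * (w * a⁻¹)⁻¹ := by rw [h8]
      _ = (w * a⁻¹)⁻¹ * x := by group
  symm
  calc x * a = (x * (w * a⁻¹)⁻¹) * w := by
        rw [mul_assoc, ← e]
    _ = (w * a⁻¹)⁻¹ * (x * w) := by rw [h9]; group
    _ = ((w * a⁻¹)⁻¹ * w) * x := by rw [h7]; group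
    _ = a * x := by rw [← e]

/-- `K = C_M(Z) = C_M(V)` is normalised by `P ≤ N(V)` and `D ≤ N(Z)`, so it centralises `Z^{⟨P, D⟩}`. -/
theorem av_cent {P D : Subgroup G} (hZV : Z ≤ V)
    (h : M ⊓ centralizer (Z : Set G) ≤ centralizer (V : Set G)) (hPM : P ≤ normalizer (M : Set G))
    (hDM : D ≤ normalizer (M : Set G)) (hPV : P ≤ normalizer (V : Set G)) (hDZ : D ≤ normalizer (Z : Set G)) :
    P ⊔ D ≤ normalizer ((M ⊓ centralizer (Z : Set G) : Subgroup G) : Set G) ∧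
      ∀ g ∈ P ⊔ D, ∀ z ∈ Z, ∀ x ∈ M ⊓ centralizer (Z : Set G), x * (g * z * g⁻¹) = g * z * g⁻¹ * x := by
  have key : ∀ {A W : Subgroup G}, A ≤ normalizer (M : Set G) → A ≤ normalizer (W : Set G) →
      A ≤ normalizer ((M ⊓ centralizer (W : Set G) : Subgroup G) : Set G) := by
    intro A W h1 h2
    have key2 : ∀ t ∈ A, ∀ x ∈ M ⊓ centralizer (W : Set G), t * x * t⁻¹ ∈ M ⊓ centralizer (W : Set G) := by
      intro t ht x hx
      refine ⟨(mem_normalizer_iff.1 (h1 ht) x).1 hx.1, mem_centralizer_iff.2 fun z hz => ?_⟩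
      have h3 : t⁻¹ * z * t ∈ W := by
        have := (mem_normalizer_iff.1 (inv_mem (h2 ht)) z).1 hz
        rwa [inv_inv] at this
      have h4 := mem_centralizer_iff.1 hx.2 _ h3
      calc z * (t * x * t⁻¹) = t * (t⁻¹ * z * t * x) * t⁻¹ := by group
        _ = t * (x * (t⁻¹ * z * t)) * t⁻¹ := by rw [h4]
        _ = t * x * t⁻¹ * z := by group
    intro t ht
    rw [mem_normalizer_iff]
    intro x
    refine ⟨key2 t ht x, fun hx => ?_⟩
    have h3 := key2 t⁻¹ (inv_mem ht) _ hx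
    have e : t⁻¹ * (t * x * t⁻¹) * t⁻¹⁻¹ = x := by group
    rwa [e] at h3
  have hKeq : M ⊓ centralizer (Z : Set G) = M ⊓ centralizer (V : Set G) :=
    le_antisymm (le_inf inf_le_left h) (inf_le_inf_left _ (centralizer_le hZV))
  have hN : P ⊔ D ≤ normalizer ((M ⊓ centralizer (Z : Set G) : Subgroup G) : Set G) := by
    refine sup_le ?_ (key hDM hDZ)
    rw [hKeq]
    exact key hPM hPV
  refine ⟨hN, fun g hg z hz x hx => ?_⟩
  have h1 : g⁻¹ * x * g ∈ M ⊓ centralizer (Z : Set G) := by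
    have := (mem_normalizer_iff.1 (inv_mem (hN hg)) x).1 hx
    rwa [inv_inv] at this
  have h2 := mem_centralizer_iff.1 h1.2 z hz
  calc x * (g * z * g⁻¹) = g * (g⁻¹ * x * g * z) * g⁻¹ := by group
    _ = g * (z * (g⁻¹ * x * g)) * g⁻¹ := by rw [← h2]
    _ = g * z * g⁻¹ * x := by group

/-- The setting of LEMMA AV in `C₂ = ⟨P, D⟩`: `T` Sylow in `C₂`, `P` minimal over `T`, `Z = C_V(T)`, `V` `P`-invariant,
`U ≥ V` abelian and normal in `C₂`, `Ω₁Z(C_T(V)) ∩ U ≤ V C₀`, `C₀ ≤ Z(C₂)`. -/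
structure Set2 (T P D C₂ U V Z : Subgroup G) : Prop where
  T2 : IsPGroup 2 T
  TD : T ≤ D
  TP : T ≤ P
  min : IsMinPar T P
  gen : C₂ = P ⊔ D
  syl : ¬ 2 ∣ T.relIndex C₂
  U_comm : ∀ x ∈ U, ∀ y ∈ U, x * y = y * x
  U_norm : C₂ ≤ normalizer (U : Set G)
  VU : V ≤ U
  ZV : Z ≤ V
  Z_sq : ∀ z ∈ Z, z * z = 1
  PV : P ≤ normalizer (V : Set G)
  DZ : D ≤ normalizer (Z : Set G)
  comm : ∀ t ∈ T, ∀ a ∈ V, t * a * t⁻¹ * a⁻¹ ∈ Z
  fix : ∀ a ∈ V, (∀ t ∈ T, t * a = a * t) → a ∈ Z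
  oV : o2 P ≤ centralizer (V : Set G)
  half : ∀ u ∈ U, (∀ o ∈ T ⊓ centralizer (V : Set G), o * u = u * o) → ∃ w ∈ V, ∃ c, u = w * c ∧
    ∀ x ∈ C₂, x * c = c * x

namespace Set2

variable {P D C₂ : Subgroup G} (h : Set2 T P D C₂ U V Z)
include h

theorem PC : P ≤ C₂ := by rw [h.gen]; exact le_sup_left

theorem DC : D ≤ C₂ := by rw [h.gen]; exact le_sup_right

theorem T_le : T ≤ C₂ := h.TP.trans h.PC

/-- **(AV)** for `M ⊴ C₂` (or only `T`-invariant) with `M ∩ T ≤ C_T(V)` -/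
theorem av (hM : M ≤ C₂) (hTM : T ≤ normalizer (M : Set G)) (hTMV : T ⊓ M ≤ centralizer (V : Set G)) :
    M ⊓ centralizer (Z : Set G) ≤ centralizer (V : Set G) := by
  refine Av.av h.U_comm h.VU h.ZV h.Z_sq (h.T_le.trans h.U_norm) (h.TP.trans h.PV) hTM h.comm h.fix
    ((inf_le_left.trans hM).trans h.U_norm) hTMV (odd_inf h.T_le h.syl hM hTM) fun u hu huo => ?_
  obtain ⟨w, hw, c, e, hc⟩ := h.half u hu huo
  exact ⟨w, hw, c, e, fun t ht => hc t (h.T_le ht), fun x hx => hc x (hM hx.1)⟩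

/-- **(AV)**: `C_M(Z)` centralises `Z^{C₂}` for `M ⊴ C₂` with `M ∩ T ≤ C_T(V)` -/
theorem av_cent (hM : M ≤ C₂) (hCM : C₂ ≤ normalizer (M : Set G)) (hTMV : T ⊓ M ≤ centralizer (V : Set G)) :
    ∀ g ∈ C₂, ∀ z ∈ Z, ∀ x ∈ M ⊓ centralizer (Z : Set G), x * (g * z * g⁻¹) = g * z * g⁻¹ * x := by
  have h1 := (Av.av_cent h.ZV (h.av hM (h.T_le.trans hCM) hTMV) (h.PC.trans hCM) (h.DC.trans hCM) h.PV h.DZ).2
  rwa [← h.gen] at h1

/-- **(AV')**: `D* ≤ D` normalised by `T` with `T ∩ D* ≤ C_T(V)` centralises `V` -/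
theorem av_sub (hMD : M ≤ D) (hMZ : M ≤ centralizer (Z : Set G)) (hTM : T ≤ normalizer (M : Set G))
    (hTMV : T ⊓ M ≤ centralizer (V : Set G)) : M ≤ centralizer (V : Set G) := by
  have h1 := h.av (hMD.trans h.DC) hTM hTMV
  rwa [inf_eq_left.2 hMZ] at h1

/-- **(AV')** for subgroups of odd order -/
theorem av_odd (hMD : M ≤ D) (hMZ : M ≤ centralizer (Z : Set G)) (hTM : T ≤ normalizer (M : Set G))
    (hodd : ¬ 2 ∣ Nat.card M) : M ≤ centralizer (V : Set G) := by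
  refine h.av_sub hMD hMZ hTM ?_
  have hfact : Fact (Nat.Prime 2) := ⟨Nat.prime_two⟩
  have h1 : T ⊓ M = ⊥ := by
    obtain ⟨n, hn⟩ := IsPGroup.iff_card.1 (h.T2.to_le (inf_le_left : T ⊓ M ≤ T))
    rcases Nat.eq_zero_or_pos n with hn0 | hn0
    · rw [hn0, pow_zero] at hn
      exact card_eq_one.1 hn
    · exact absurd (((dvd_pow_self 2 hn0.ne').trans (Dvd.intro_left _ rfl : 2 ^ n ∣ 1 * 2 ^ n)).trans
        (by rw [one_mul, ← hn]; exact card_dvd_of_le inf_le_right)) hodd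
  rw [h1]
  exact bot_le

/-- **(COR)** -/
theorem cor (hM : M ≤ C₂) (hCM : C₂ ≤ normalizer (M : Set G))
    (hne : ∃ m ∈ T ⊓ M, ∃ g ∈ C₂, ∃ z ∈ Z, m * (g * z * g⁻¹) ≠ g * z * g⁻¹ * m) :
    (M ⊓ P) ⊔ T = P ∧ C₂ = M ⊔ D := by
  have hfact : Fact (Nat.Prime 2) := ⟨Nat.prime_two⟩
  have hsylP : ¬ 2 ∣ T.relIndex P := by
    intro hd
    apply h.syl
    rw [← relIndex_mul_relIndex _ _ _ h.TP h.PC]
    exact hd.mul_right _
  have h1 : (M ⊓ P) ⊔ T = P := by
    rcases h.min.sup_eq_or_inf_le h.T2 hsylP (N := M ⊓ P) inf_le_right (le_normalizer_inf' (h.PC.trans hCM)) with h1 | h1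
    · exact h1
    · exfalso
      have hTMV : T ⊓ M ≤ centralizer (V : Set G) := by
        refine le_trans ?_ (h1.trans h.oV)
        exact le_inf inf_le_left (le_inf inf_le_right (inf_le_left.trans h.TP))
      obtain ⟨m, hm, g, hg, z, hz, hmz⟩ := hne
      exact hmz (h.av_cent hM hCM hTMV g hg z hz m ⟨hm.2, centralizer_le h.ZV (hTMV hm)⟩)
  refine ⟨h1, le_antisymm ?_ (sup_le hM h.DC)⟩
  rw [h.gen]
  refine sup_le ?_ le_sup_right
  rw [← h1]
  exact sup_le (inf_le_left.trans le_sup_left) (h.TD.trans le_sup_right)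

/-- `v^{C₂} = v^M` -/
theorem cor_orbit (hCM : C₂ ≤ normalizer (M : Set G)) (hMD : C₂ = M ⊔ D) {v : G}
    (hv : ∀ d ∈ D, d * v = v * d) : ∀ c ∈ C₂, ∃ m ∈ M, c * v * c⁻¹ = m * v * m⁻¹ := by
  intro c hc
  have hDM : D ≤ normalizer (M : Set G) := h.DC.trans hCM
  rw [hMD, ← SetLike.mem_coe, coe_mul_of_right_le_normalizer_left _ _ hDM] at hc
  obtain ⟨m, hm, d, hd, rfl⟩ := hc
  refine ⟨m, hm, ?_⟩
  change m * d * v * (m * d)⁻¹ = m * v * m⁻¹
  calc m * d * v * (m * d)⁻¹ = m * (d * v) * d⁻¹ * m⁻¹ := by group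
    _ = m * v * m⁻¹ := by rw [hv d hd]; group

end Set2

end av

/-- **The setting for `q = 2`**: `V = {1, v₁, a, v₁ a}`, `U ≥ V` abelian, `C_U(C_T(V)) ≤ V ⟨v₂⟩`, `C₂` fixes `v₂`. -/
theorem Set2.of_four [Finite G] {T P D C₂ U V : Subgroup G} {v₁ v₂ a : G} (hT2 : IsPGroup 2 T) (hTD : T ≤ D)
    (hTP : T ≤ P) (hmin : IsMinPar T P) (gen : C₂ = P ⊔ D) (syl : ¬ 2 ∣ T.relIndex C₂)
    (hU : ∀ x ∈ U, ∀ y ∈ U, x * y = y * x) (hUn : C₂ ≤ normalizer (U : Set G)) (hVU : V ≤ U)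
    (hV : ∀ x, x ∈ V ↔ x = 1 ∨ x = v₁ ∨ x = a ∨ x = v₁ * a) (hsq : v₁ * v₁ = 1)
    (hPV : P ≤ normalizer (V : Set G)) (hDv : ∀ d ∈ D, d * v₁ = v₁ * d) (hmove : ∃ t ∈ T, t * a ≠ a * t)
    (hoV : o2 P ≤ centralizer (V : Set G))
    (half : ∀ u ∈ U, (∀ o ∈ T ⊓ centralizer (V : Set G), o * u = u * o) → ∃ w ∈ V, u = w ∨ u = w * v₂)
    (hv₂ : ∀ c ∈ C₂, c * v₂ = v₂ * c) : Set2 T P D C₂ U V (zpowers v₁) := by
  have hZ : ∀ x, x ∈ zpowers v₁ ↔ x = 1 ∨ x = v₁ := by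
    intro x
    constructor
    · rintro ⟨n, rfl⟩
      rcases Int.even_or_odd' n with ⟨k, rfl | rfl⟩
      · left
        change v₁ ^ (2 * k) = 1
        rw [zpow_mul, zpow_two, hsq, one_zpow]
      · right
        change v₁ ^ (2 * k + 1) = v₁
        rw [zpow_add, zpow_mul, zpow_two, hsq, one_zpow, one_mul, zpow_one]
    · rintro (rfl | rfl)
      · exact one_mem _
      · exact mem_zpowers _
  have hv₁V : v₁ ∈ V := (hV _).2 (Or.inr (Or.inl rfl))
  have haV : a ∈ V := (hV _).2 (Or.inr (Or.inr (Or.inl rfl)))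
  have hcV : ∀ x ∈ V, ∀ y ∈ V, x * y = y * x := fun x hx y hy => hU x (hVU hx) y (hVU hy)
  have hTv : ∀ t ∈ T, t * v₁ * t⁻¹ = v₁ := fun t ht => by rw [hDv t (hTD ht), mul_inv_cancel_right]
  have hcomm : ∀ t ∈ T, t * a * t⁻¹ * a⁻¹ ∈ zpowers v₁ := by
    intro t ht
    have h1 : t * a * t⁻¹ ∈ V := (mem_normalizer_iff.1 (hPV (hTP ht)) a).1 haV
    rcases (hV _).1 h1 with h2 | h2 | h2 | h2
    · have h3 := conj_eq_one_iff.1 h2
      rw [h2, h3, inv_one, mul_one]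
      exact one_mem _
    · have h3 : a = v₁ := by
        have h4 : t * a * t⁻¹ = t * v₁ * t⁻¹ := by rw [h2, hTv t ht]
        exact mul_left_cancel (mul_right_cancel h4)
      rw [h2, h3, mul_inv_cancel]
      exact one_mem _
    · rw [h2, mul_inv_cancel]
      exact one_mem _
    · rw [h2, mul_inv_cancel_right]
      exact mem_zpowers _
  refine ⟨hT2, hTD, hTP, hmin, gen, syl, hU, hUn, hVU, ?_, ?_, hPV, ?_, ?_, ?_, hoV, ?_⟩
  · rw [zpowers_le]
    exact hv₁V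
  · intro z hz
    rcases (hZ z).1 hz with rfl | rfl
    · exact one_mul _
    · exact hsq
  · intro d hd
    rw [mem_normalizer_iff]
    intro x
    have hd1 : ∀ {e : G}, e ∈ D → ∀ z ∈ zpowers v₁, e * z * e⁻¹ ∈ zpowers v₁ := by
      intro e he z hz
      rcases (hZ z).1 hz with rfl | rfl
      · rw [mul_one, mul_inv_cancel]; exact one_mem _
      · rw [hDv e he, mul_inv_cancel_right]; exact mem_zpowers _
    refine ⟨hd1 hd x, fun h => ?_⟩
    have h1 := hd1 (inv_mem hd) _ h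
    have e : d⁻¹ * (d * x * d⁻¹) * d⁻¹⁻¹ = x := by group
    rwa [e] at h1
  · intro t ht x hx
    rcases (hV x).1 hx with rfl | rfl | rfl | rfl
    · have e : t * 1 * t⁻¹ * 1⁻¹ = 1 := by group
      rw [e]; exact one_mem _
    · rw [hTv t ht, mul_inv_cancel]; exact one_mem _
    · exact hcomm t ht
    · have h1 : (t * a * t⁻¹ * a⁻¹) * v₁⁻¹ = v₁⁻¹ * (t * a * t⁻¹ * a⁻¹) :=
        hcV _ (mul_mem ((mem_normalizer_iff.1 (hPV (hTP ht)) a).1 haV) (inv_mem haV)) _ (inv_mem hv₁V)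
      have e : t * (v₁ * a) * t⁻¹ * (v₁ * a)⁻¹ = t * a * t⁻¹ * a⁻¹ := by
        calc t * (v₁ * a) * t⁻¹ * (v₁ * a)⁻¹ = t * v₁ * t⁻¹ * ((t * a * t⁻¹ * a⁻¹) * v₁⁻¹) := by group
          _ = v₁ * (v₁⁻¹ * (t * a * t⁻¹ * a⁻¹)) := by rw [hTv t ht, h1]
          _ = t * a * t⁻¹ * a⁻¹ := by group
      rw [e]
      exact hcomm t ht
  · intro x hx hfix
    obtain ⟨t, ht, hta⟩ := hmove
    rcases (hV x).1 hx with rfl | rfl | rfl | rfl
    · exact one_mem _
    · exact mem_zpowers _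
    · exact absurd (hfix t ht) hta
    · exfalso
      apply hta
      have h1 := hfix t ht
      have h2 := hDv t (hTD ht)
      calc t * a = v₁⁻¹ * (v₁ * t) * a := by group
        _ = v₁⁻¹ * (t * (v₁ * a)) := by rw [← h2]; group
        _ = a * t := by rw [h1]; group
  · intro u hu huo
    obtain ⟨w, hw, h1 | h1⟩ := half u hu huo
    · exact ⟨w, hw, 1, by rw [h1, mul_one], fun x _ => by rw [mul_one, one_mul]⟩
    · exact ⟨w, hw, v₂, h1, hv₂⟩

/-! ### (A) -/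

section caseA

variable {C₁ C₂ P₂ D V₂ : Subgroup G} {v₂ : G}

/-- collinear points: two nontrivial elements of an `L`-conjugate of `V₂` -/
def Col (L V₂ : Subgroup G) (x y : G) : Prop := ∃ g ∈ L, ∃ a ∈ V₂, ∃ b ∈ V₂, a ≠ 1 ∧ b ≠ 1 ∧ x = g * a * g⁻¹ ∧ y = g * b * g⁻¹

theorem Col.symm {L V₂ : Subgroup G} {x y : G} (h : Col L V₂ x y) : Col L V₂ y x := by
  obtain ⟨g, hg, a, ha, b, hb, ha1, hb1, hx, hy⟩ := h
  exact ⟨g, hg, b, hb, a, ha, hb1, ha1, hy, hx⟩

theorem Col.conj {L V₂ : Subgroup G} {x y : G} (h : Col L V₂ x y) {t : G} (ht : t ∈ L) :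
    Col L V₂ (t * x * t⁻¹) (t * y * t⁻¹) := by
  obtain ⟨g, hg, a, ha, b, hb, ha1, hb1, rfl, rfl⟩ := h
  exact ⟨t * g, mul_mem ht hg, a, ha, b, hb, ha1, hb1, by group, by group⟩

/-- **(A)**: if all 2-lines on `v₂` are `D`-conjugate to `V₂`, then `v₂^{⟨C₁, C₂⟩} = v₂^{C₁}`. -/
theorem caseA (gen : C₁ = P₂ ⊔ D) (hC₂ : ∀ g ∈ C₁ ⊔ C₂, g * v₂ = v₂ * g → g ∈ C₂)
    (hC₂v : ∀ c ∈ C₂, c * v₂ = v₂ * c) (hDv : ∀ d ∈ D, d * v₂ = v₂ * d) (hv₂ : v₂ ∈ V₂) (hv1 : v₂ ≠ 1)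
    (hPV : P₂ ≤ normalizer (V₂ : Set G)) (htr : ∀ a ∈ V₂, a ≠ 1 → ∃ p ∈ P₂, a = p * v₂ * p⁻¹)
    (hlines : ∀ c ∈ C₂, ∃ d ∈ D, ∀ a ∈ V₂, ∃ b ∈ V₂, c * a * c⁻¹ = d * b * d⁻¹) :
    ∀ g ∈ C₁ ⊔ C₂, ∃ c ∈ C₁, g * v₂ * g⁻¹ = c * v₂ * c⁻¹ := by
  set L := C₁ ⊔ C₂ with hL
  have hP₂ : P₂ ≤ C₁ := by rw [gen]; exact le_sup_left
  have hD : D ≤ C₁ := by rw [gen]; exact le_sup_right
  have hC₁L : C₁ ≤ L := le_sup_left
  have conj1 : ∀ {t x : G}, x ≠ 1 → t * x * t⁻¹ ≠ 1 := by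
    intro t x hx h
    exact hx (conj_eq_one_iff.1 h)
  -- (1) `v₂^{C₁}` is closed under collinearity
  have hcl : ∀ {x y : G}, Col L V₂ x y → (∃ c ∈ C₁, x = c * v₂ * c⁻¹) → ∃ c ∈ C₁, y = c * v₂ * c⁻¹ := by
    rintro x y ⟨g, hg, a, ha, b, hb, ha1, hb1, hx, rfl⟩ ⟨c, hc, hxc⟩
    obtain ⟨p, hp, hap⟩ := htr a ha ha1
    have hk : c⁻¹ * g * p ∈ L := mul_mem (mul_mem (inv_mem (hC₁L hc)) hg) (hC₁L (hP₂ hp))
    have h1 : (c⁻¹ * g * p) * v₂ = v₂ * (c⁻¹ * g * p) := by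
      have e1 : g * (p * v₂ * p⁻¹) * g⁻¹ = c * v₂ * c⁻¹ := by rw [← hap, ← hx, hxc]
      calc (c⁻¹ * g * p) * v₂ = c⁻¹ * (g * (p * v₂ * p⁻¹) * g⁻¹) * g * p := by group
        _ = c⁻¹ * (c * v₂ * c⁻¹) * g * p := by rw [e1]
        _ = v₂ * (c⁻¹ * g * p) := by group
    have hkC := hC₂ _ hk h1
    obtain ⟨d, hd, hdl⟩ := hlines _ hkC
    have hb' : p⁻¹ * b * p ∈ V₂ := by
      have := (mem_normalizer_iff.1 (inv_mem (hPV hp)) b).1 hb
      rwa [inv_inv] at this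
    obtain ⟨w, hw, e⟩ := hdl _ hb'
    have hw1 : w ≠ 1 := by
      rintro rfl
      rw [mul_one, mul_inv_cancel] at e
      have h2 := conj_eq_one_iff.1 e
      apply hb1
      calc b = p * (p⁻¹ * b * p) * p⁻¹ := by group
        _ = 1 := by rw [h2]; group
    obtain ⟨q, hq, hwq⟩ := htr w hw hw1
    refine ⟨c * d * q, mul_mem (mul_mem hc (hD hd)) (hP₂ hq), ?_⟩
    calc g * b * g⁻¹ = c * (c⁻¹ * g * p * (p⁻¹ * b * p) * (c⁻¹ * g * p)⁻¹) * c⁻¹ := by group
      _ = c * (d * (q * v₂ * q⁻¹) * d⁻¹) * c⁻¹ := by rw [e, hwq]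
      _ = c * d * q * v₂ * (c * d * q)⁻¹ := by group
  have hcl2 : ∀ {y : G}, Relation.ReflTransGen (Col L V₂) v₂ y → ∃ c ∈ C₁, y = c * v₂ * c⁻¹ := by
    intro y h
    induction h with
    | refl => exact ⟨1, one_mem _, by group⟩
    | tail _ h1 h2 => exact hcl h1 h2
  -- (2) the component of `v₂` is invariant
  have hconj : ∀ {x y t : G}, Relation.ReflTransGen (Col L V₂) x y → t ∈ L →
      Relation.ReflTransGen (Col L V₂) (t * x * t⁻¹) (t * y * t⁻¹) := by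
    intro x y t h ht
    induction h with
    | refl => exact Relation.ReflTransGen.refl
    | tail _ h1 h2 => exact h2.tail (h1.conj ht)
  have hsymm : ∀ {x y : G}, Relation.ReflTransGen (Col L V₂) x y → Relation.ReflTransGen (Col L V₂) y x := by
    intro x y h
    induction h with
    | refl => exact Relation.ReflTransGen.refl
    | tail _ h1 h2 => exact (Relation.ReflTransGen.single h1.symm).trans h2
  let N : Subgroup G :=
    { carrier := {g | g ∈ L ∧ Relation.ReflTransGen (Col L V₂) v₂ (g * v₂ * g⁻¹)}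
      one_mem' := ⟨one_mem _, by
        have e : (1 : G) * v₂ * 1⁻¹ = v₂ := by group
        rw [e]⟩
      mul_mem' := by
        rintro a b ⟨ha, ha'⟩ ⟨hb, hb'⟩
        refine ⟨mul_mem ha hb, ha'.trans ?_⟩
        have e : a * b * v₂ * (a * b)⁻¹ = a * (b * v₂ * b⁻¹) * a⁻¹ := by group
        rw [e]
        exact hconj hb' ha
      inv_mem' := by
        rintro a ⟨ha, ha'⟩
        refine ⟨inv_mem ha, ?_⟩
        have h1 := hconj ha' (inv_mem ha)
        have e : a⁻¹ * (a * v₂ * a⁻¹) * a⁻¹⁻¹ = v₂ := by group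
        rw [e] at h1
        exact hsymm h1 }
  have hfixN : ∀ g ∈ L, g * v₂ = v₂ * g → g ∈ N := by
    intro g hg h
    refine ⟨hg, ?_⟩
    rw [h, mul_inv_cancel_right]
  have hN : L ≤ N := by
    refine sup_le ?_ fun c hc => hfixN c ((le_sup_right : C₂ ≤ L) hc) (hC₂v c hc)
    rw [gen]
    refine sup_le (fun p hp => ⟨hC₁L (hP₂ hp), ?_⟩) fun d hd => hfixN d (hC₁L (hD hd)) (hDv d hd)
    exact Relation.ReflTransGen.single ⟨1, one_mem _, v₂, hv₂, p * v₂ * p⁻¹,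
      (mem_normalizer_iff.1 (hPV hp) v₂).1 hv₂, hv1, conj1 hv1, by group, by group⟩
  exact fun g hg => hcl2 (hN hg).2

/-- **(A)**, second form: `⟨C₁, C₂⟩` normalises `N₁ = ⟨v₂^{C₁}⟩`. -/
theorem caseA_normalizer (h : ∀ g ∈ C₁ ⊔ C₂, ∃ c ∈ C₁, g * v₂ * g⁻¹ = c * v₂ * c⁻¹) :
    C₁ ⊔ C₂ ≤ normalizer ((closure {x | ∃ c ∈ C₁, x = c * v₂ * c⁻¹} : Subgroup G) : Set G) := by
  set N := closure {x | ∃ c ∈ C₁, x = c * v₂ * c⁻¹} with hN
  have key : ∀ g ∈ C₁ ⊔ C₂, ∀ x ∈ N, g * x * g⁻¹ ∈ N := by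
    intro g hg x hx
    induction hx using closure_induction with
    | mem x hx =>
      obtain ⟨c, hc, rfl⟩ := hx
      obtain ⟨c', hc', e⟩ := h (g * c) (mul_mem hg ((le_sup_left : C₁ ≤ C₁ ⊔ C₂) hc))
      refine subset_closure ⟨c', hc', ?_⟩
      rw [← e]; group
    | one => rw [mul_one, mul_inv_cancel]; exact one_mem _
    | mul x y _ _ hx hy =>
      have e : g * (x * y) * g⁻¹ = g * x * g⁻¹ * (g * y * g⁻¹) := by group
      rw [e]; exact mul_mem hx hy
    | inv x _ hx =>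
      have e : g * x⁻¹ * g⁻¹ = (g * x * g⁻¹)⁻¹ := by group
      rw [e]; exact inv_mem hx
  intro g hg
  rw [mem_normalizer_iff]
  intro x
  refine ⟨key g hg x, fun hx => ?_⟩
  have h1 := key g⁻¹ (inv_mem hg) _ hx
  have e : g⁻¹ * (g * x * g⁻¹) * g⁻¹⁻¹ = x := by group
  rwa [e] at h1

/-- the 2-lines on `v₂` when `C₂ = M D`, `M ⊴ C₂` centralising `V₂` -/
theorem lines_of_sup {M : Subgroup G} (hDM : D ≤ normalizer (M : Set G)) (hMD : C₂ = M ⊔ D)
    (hMV : M ≤ centralizer (V₂ : Set G)) :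
    ∀ c ∈ C₂, ∃ d ∈ D, ∀ a ∈ V₂, ∃ b ∈ V₂, c * a * c⁻¹ = d * b * d⁻¹ := by
  intro c hc
  rw [hMD, sup_comm, ← SetLike.mem_coe, coe_mul_of_left_le_normalizer_right _ _ hDM] at hc
  obtain ⟨d, hd, m, hm, rfl⟩ := hc
  refine ⟨d, hd, fun a ha => ⟨a, ha, ?_⟩⟩
  have h1 := mem_centralizer_iff.1 (hMV hm) a ha
  change d * m * a * (d * m)⁻¹ = d * a * d⁻¹
  calc d * m * a * (d * m)⁻¹ = d * (m * a) * m⁻¹ * d⁻¹ := by group
    _ = d * a * d⁻¹ := by rw [← h1]; group

end caseA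

/-- **(A) IS DEAD**: `M ⊴ C₂` with `[⟨Z^{C₂}⟩, T ∩ M] ≠ 1` does not centralise `V₂`, unless `⟨C₁, C₂⟩` normalises
`⟨v₂^{C₁}⟩`. -/
theorem Set2.caseA_dead [Finite G] {T P D C₂ U V Z M C₁ P₂ V₂ : Subgroup G} {v₂ : G} (h : Set2 T P D C₂ U V Z)
    (hM : M ≤ C₂) (hCM : C₂ ≤ normalizer (M : Set G))
    (hne : ∃ m ∈ T ⊓ M, ∃ g ∈ C₂, ∃ z ∈ Z, m * (g * z * g⁻¹) ≠ g * z * g⁻¹ * m)
    (gen : C₁ = P₂ ⊔ D) (hC₂ : ∀ g ∈ C₁ ⊔ C₂, g * v₂ = v₂ * g → g ∈ C₂)
    (hC₂v : ∀ c ∈ C₂, c * v₂ = v₂ * c) (hv₂ : v₂ ∈ V₂) (hv1 : v₂ ≠ 1)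
    (hPV : P₂ ≤ normalizer (V₂ : Set G)) (htr : ∀ a ∈ V₂, a ≠ 1 → ∃ p ∈ P₂, a = p * v₂ * p⁻¹)
    (hMV : M ≤ centralizer (V₂ : Set G)) :
    (∀ g ∈ C₁ ⊔ C₂, ∃ c ∈ C₁, g * v₂ * g⁻¹ = c * v₂ * c⁻¹) ∧
      C₁ ⊔ C₂ ≤ normalizer ((closure {x | ∃ c ∈ C₁, x = c * v₂ * c⁻¹} : Subgroup G) : Set G) := by
  have h1 := caseA gen hC₂ hC₂v (fun d hd => hC₂v d (h.DC hd)) hv₂ hv1 hPV htr
    (lines_of_sup (h.DC.trans hCM) (h.cor hM hCM hne).2 hMV)
  exact ⟨h1, caseA_normalizer h1⟩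

end Cfsg.Agent.Omega.TC.Av

end

section


/-!
# Two centres, `d = 1`, `[N₀, N₁] = 1` (helper609, TEXT R4 #19278 (5)) over the frame `TC.Fr`
-/

set_option autoImplicit false
set_option linter.unusedSectionVars false

namespace Cfsg.Agent.Omega.TC.DOne

open Subgroup Cfsg Cfsg.Agent.ZN Cfsg.Agent.Omega.MinPar
open Cfsg.Agent.Omega.OM.KTwo (CC QQ WU NU EU FF ne_add_one eq_add_one add_one_add_one le_normalizer_V le_V)
open Cfsg.Agent.Omega.NoFF.Basic (conj_conj mem_conj conj_le_iff conj_le_centralizer comm_symm comm_mono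
  Z_le_V V_le conj_V_mul)
open Cfsg.Agent.ZN.ChoiceSit (Syl)
open Cfsg.Agent.MinSimple.VModule (mem_zc zc_le normalizer_le_normalizer_zc le_normalizer_o2 le_o2 o2_le
  o2_isPGroup zc_le_centralizer le_centralizer_zc)
open scoped Pointwise

universe u

/-- the section `E / Z` as a module for `H` -/
structure Sec {G : Type u} [Group G] (E Z H : Subgroup G) (M : Type u) [AddCommGroup M] [DistribMulAction H M]
    (p : G → M) : Prop where
  mul : ∀ x ∈ E, ∀ y ∈ E, p (x * y) = p x + p y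
  ker : ∀ x ∈ E, (p x = 0 ↔ x ∈ Z)
  surj : ∀ m, ∃ x ∈ E, p x = m
  act : ∀ (h : H), ∀ x ∈ E, h • p x = p (h * x * (h : G)⁻¹)

theorem exists_sec {G : Type u} [Group G] {E Z H : Subgroup G} (hcomm : ∀ a ∈ E, ∀ b ∈ E, a * b * a⁻¹ * b⁻¹ ∈ Z)
    (hEZ : E ≤ normalizer (Z : Set G)) (hHE : H ≤ normalizer (E : Set G)) (hHZ : H ≤ normalizer (Z : Set G)) :
    ∃ (M : Type u) (_ : AddCommGroup M) (_ : DistribMulAction H M) (p : G → M), Sec E Z H M p := by
  classical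
  let Z' : Subgroup E := Z.subgroupOf E
  have hZ' : ∀ x : E, x ∈ Z' ↔ (x : G) ∈ Z := fun x => Iff.rfl
  have hN : Z'.Normal := ⟨fun z hz g => by
    rw [hZ'] at hz ⊢
    exact (mem_normalizer_iff.1 (hEZ g.2) _).1 hz⟩
  let cM : CommGroup (E ⧸ Z') :=
    { (inferInstance : Group (E ⧸ Z')) with
      mul_comm := by
        intro x y
        induction x using QuotientGroup.induction_on with
        | H x =>
          induction y using QuotientGroup.induction_on with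
          | H y =>
            change (QuotientGroup.mk (x * y) : E ⧸ Z') = QuotientGroup.mk (y * x)
            rw [QuotientGroup.eq, hZ']
            have h1 := hcomm _ (inv_mem y.2) _ (inv_mem x.2)
            have e : (((x * y)⁻¹ * (y * x) : E) : G) = (y : G)⁻¹ * (x : G)⁻¹ * (y : G)⁻¹⁻¹ * (x : G)⁻¹⁻¹ := by
              push_cast; group
            rw [e]
            exact h1 }
  let cj : H → E →* E := fun h =>
    { toFun := fun x => ⟨h * x * (h : G)⁻¹, (mem_normalizer_iff.1 (hHE h.2) _).1 x.2⟩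
      map_one' := Subtype.ext (by simp)
      map_mul' := fun x y => Subtype.ext (by push_cast; group) }
  have cj_apply : ∀ (h : H) (x : E), ((cj h x : E) : G) = h * x * (h : G)⁻¹ := fun _ _ => rfl
  have cjZ : ∀ h : H, Z' ≤ Z'.comap (cj h) := fun h x hx => by
    rw [mem_comap, hZ', cj_apply]
    exact (mem_normalizer_iff.1 (hHZ h.2) _).1 hx
  let φ : H → (E ⧸ Z') →* (E ⧸ Z') := fun h => QuotientGroup.map Z' Z' (cj h) (cjZ h)
  have hφ : ∀ (h : H) (x : E), φ h (QuotientGroup.mk x) = QuotientGroup.mk (cj h x) := fun _ _ => rfl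
  let act : DistribMulAction H (Additive (E ⧸ Z')) :=
    { smul := fun h m => Additive.ofMul (φ h m.toMul)
      one_smul := fun m => by
        change Additive.ofMul (φ 1 m.toMul) = m
        have key : ∀ m : E ⧸ Z', φ 1 m = m := by
          intro m
          induction m using QuotientGroup.induction_on with
          | H x =>
            rw [hφ]
            congr 1
            apply Subtype.ext
            rw [cj_apply]
            simp
        rw [key]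
        rfl
      mul_smul := fun h k m => by
        change Additive.ofMul (φ (h * k) m.toMul) = Additive.ofMul (φ h (φ k m.toMul))
        have key : ∀ m : E ⧸ Z', φ (h * k) m = φ h (φ k m) := by
          intro m
          induction m using QuotientGroup.induction_on with
          | H x =>
            rw [hφ, hφ, hφ]
            congr 1
            apply Subtype.ext
            rw [cj_apply, cj_apply, cj_apply]
            push_cast
            group
        rw [key]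
      smul_zero := fun h => by
        change Additive.ofMul (φ h 1) = 0
        rw [map_one]
        rfl
      smul_add := fun h a b => by
        change Additive.ofMul (φ h (a.toMul * b.toMul)) = Additive.ofMul (φ h a.toMul * φ h b.toMul)
        rw [map_mul] }
  let p : G → Additive (E ⧸ Z') := fun g => if hg : g ∈ E then Additive.ofMul (QuotientGroup.mk ⟨g, hg⟩) else 0
  have hp : ∀ (g : G) (hg : g ∈ E), p g = Additive.ofMul (QuotientGroup.mk ⟨g, hg⟩) := fun g hg => dif_pos hg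
  refine ⟨Additive (E ⧸ Z'), inferInstance, act, p, ?_, ?_, ?_, ?_⟩
  · intro x hx y hy
    rw [hp _ hx, hp _ hy, hp _ (mul_mem hx hy)]
    rfl
  · intro x hx
    rw [hp _ hx]
    change (QuotientGroup.mk ⟨x, hx⟩ : E ⧸ Z') = 1 ↔ _
    rw [QuotientGroup.eq_one_iff]
    exact Iff.rfl
  · intro m
    obtain ⟨x, hx⟩ := QuotientGroup.mk_surjective (Additive.toMul m)
    refine ⟨x, x.2, ?_⟩
    rw [hp _ x.2]
    exact congrArg Additive.ofMul hx
  · intro h x hx
    rw [hp _ hx, hp _ ((mem_normalizer_iff.1 (hHE h.2) _).1 hx)]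
    rfl

namespace Sec

variable {G : Type u} [Group G] {E Z H : Subgroup G} {M : Type u} [AddCommGroup M] [DistribMulAction H M] {p : G → M}
  (s : Sec E Z H M p)

include s

theorem one : p 1 = 0 := by
  have := s.mul 1 (one_mem _) 1 (one_mem _)
  rw [mul_one] at this
  simpa using this

theorem inv {x : G} (hx : x ∈ E) : p x⁻¹ = - p x := by
  have := s.mul _ (inv_mem hx) _ hx
  rw [inv_mul_cancel, s.one] at this
  exact (neg_eq_of_add_eq_zero_left this.symm).symm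

theorem eq_iff {x y : G} (hx : x ∈ E) (hy : y ∈ E) : p x = p y ↔ x * y⁻¹ ∈ Z := by
  rw [← s.ker _ (mul_mem hx (inv_mem hy)), s.mul _ hx _ (inv_mem hy), s.inv hy, ← sub_eq_add_neg, sub_eq_zero]

theorem finite [Finite G] : Finite M := by
  refine Finite.of_surjective (fun x : E => p x) fun m => ?_
  obtain ⟨x, hx, rfl⟩ := s.surj m
  exact ⟨⟨x, hx⟩, rfl⟩

theorem add_self (hsq : ∀ x ∈ E, x * x ∈ Z) (m : M) : m + m = 0 := by
  obtain ⟨x, hx, rfl⟩ := s.surj m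
  rw [← s.mul _ hx _ hx]
  exact (s.ker _ (mul_mem hx hx)).2 (hsq x hx)

theorem exists_lift {A : Type*} [AddCommGroup A] (f : G → A) (hf : ∀ x ∈ E, ∀ y ∈ E, f (x * y) = f x + f y)
    (h0 : ∀ x ∈ E, x ∈ Z → f x = 0) : ∃ F : M →+ A, ∀ x ∈ E, F (p x) = f x := by
  classical
  have h1 : f 1 = 0 := by
    have := hf 1 (one_mem _) 1 (one_mem _)
    rw [mul_one] at this
    simpa using this
  have hinv : ∀ x ∈ E, f x⁻¹ = - f x := by
    intro x hx
    have := hf _ (inv_mem hx) _ hx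
    rw [inv_mul_cancel, h1] at this
    exact (neg_eq_of_add_eq_zero_left this.symm).symm
  have key : ∀ x ∈ E, ∀ y ∈ E, p x = p y → f x = f y := by
    intro x hx y hy h
    rw [s.eq_iff hx hy] at h
    have h2 := h0 _ (mul_mem hx (inv_mem hy)) h
    rw [hf _ hx _ (inv_mem hy), hinv y hy, ← sub_eq_add_neg, sub_eq_zero] at h2
    exact h2
  choose c hc hpc using s.surj
  refine ⟨{ toFun := fun m => f (c m), map_zero' := ?_, map_add' := fun a b => ?_ }, fun x hx => ?_⟩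
  · rw [key _ (hc 0) 1 (one_mem _) (by rw [hpc, s.one]), h1]
  · rw [← hf _ (hc a) _ (hc b)]
    refine key _ (hc _) _ (mul_mem (hc a) (hc b)) ?_
    rw [hpc, s.mul _ (hc a) _ (hc b), hpc, hpc]
  · exact key _ (hc _) _ hx (hpc _)

/-- the image of a subgroup -/
def im (F : Subgroup G) (hF : F ≤ E) : AddSubgroup M where
  carrier := {m | ∃ x ∈ F, p x = m}
  zero_mem' := ⟨1, one_mem _, s.one⟩
  add_mem' := by
    rintro _ _ ⟨x, hx, rfl⟩ ⟨y, hy, rfl⟩
    exact ⟨x * y, mul_mem hx hy, s.mul _ (hF hx) _ (hF hy)⟩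
  neg_mem' := by
    rintro _ ⟨x, hx, rfl⟩
    exact ⟨x⁻¹, inv_mem hx, s.inv (hF hx)⟩

omit s in
theorem mem_im (s : Sec E Z H M p) {F : Subgroup G} {hF : F ≤ E} {m : M} : m ∈ s.im F hF ↔ ∃ x ∈ F, p x = m := Iff.rfl

end Sec

/-! ### the plug -/

variable {G : Type u} [Group G] [Finite G] {T : Subgroup G} {V P : Fin 2 → Subgroup G} {v : Fin 2 → G}

theorem cz_comm (i : Fin 2) {c : G} (hc : c ∈ CC v i) {z : G} (hz : z ∈ zpowers (v i)) : c * z * c⁻¹ = z := by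
  obtain ⟨n, rfl⟩ := mem_zpowers_iff.1 hz
  have h1 : Commute c (v i) := mem_centralizer_singleton_iff.1 hc
  have h2 : c * v i ^ n = v i ^ n * c := h1.zpow_right n
  rw [h2, mul_inv_cancel_right]

variable (D : Fr T V P v)

include D

theorem mem_zp {i : Fin 2} {x : G} (h : x ∈ zpowers (v i)) : x = 1 ∨ x = v i := by
  obtain ⟨n, rfl⟩ := mem_zpowers_iff.1 h
  have h2 : v i ^ (2 : ℤ) = 1 := by
    have := D.v_sq' i
    exact_mod_cast this
  rcases Int.even_or_odd' n with ⟨k, hk | hk⟩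
  · left
    rw [hk, zpow_mul, h2, one_zpow]
  · right
    rw [hk, zpow_add, zpow_mul, h2, one_zpow, one_mul, zpow_one]

/-- `v i ∉ V (i+1)` -/
theorem notin_V {i : Fin 2} {x : G} (hx : x ∈ V (i + 1)) (hxz : x ∈ zpowers (v i)) : x = 1 := by
  rcases mem_zp D hxz with h | h
  · exact h
  · exfalso
    have h1 : v i = v (i + 1) := D.eq_v (h ▸ hx) (D.ne i) (fun t ht => D.cen i ht)
    exact D.mv i (h1 ▸ D.PC i (i + 1) (ne_add_one i))

theorem zp_inf {i : Fin 2} {x : G} (h1 : x ∈ zpowers (v i)) (h2 : x ∈ zpowers (v (i + 1))) : x = 1 := by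
  refine notin_V D ?_ h1
  exact (zpowers_le.2 (D.mem (i + 1))) h2

theorem V_le_N' (i : Fin 2) : V i ≤ NU V v (i + 1) := by
  have h := D.V_le_N (i + 1)
  rwa [add_one_add_one] at h

theorem mem_N' (i : Fin 2) : v i ∈ NU V v (i + 1) := V_le_N' D i (D.mem i)

/-- `[W_i, Q_i] ≤ ⟨v i⟩` -/
theorem comm_WQ (i : Fin 2) {x q : G} (hx : x ∈ WU V v i) (hq : q ∈ QQ v i) :
    x * q * x⁻¹ * q⁻¹ ∈ zpowers (v i) := by
  let K : Subgroup G :=
    { carrier := {x | x ∈ CC v i ∧ ∀ q ∈ QQ v i, x * q * x⁻¹ * q⁻¹ ∈ zpowers (v i)}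
      one_mem' := ⟨one_mem _, fun q _ => by simp⟩
      mul_mem' := by
        rintro a b ⟨ha, ha'⟩ ⟨hb, hb'⟩
        refine ⟨mul_mem ha hb, fun q hq => ?_⟩
        have h1 := hb' q hq
        have e : a * b * q * (a * b)⁻¹ * q⁻¹ = a * (b * q * b⁻¹ * q⁻¹) * a⁻¹ * (a * q * a⁻¹ * q⁻¹) := by group
        rw [e, cz_comm i ha h1]
        exact mul_mem h1 (ha' q hq)
      inv_mem' := by
        rintro a ⟨ha, ha'⟩
        refine ⟨inv_mem ha, fun q hq => ?_⟩
        have h1 := ha' q hq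
        have e : a⁻¹ * q * a⁻¹⁻¹ * q⁻¹ = a⁻¹ * (a * q * a⁻¹ * q⁻¹)⁻¹ * a⁻¹⁻¹ := by group
        rw [e, cz_comm i (inv_mem ha) (inv_mem h1)]
        exact inv_mem h1 }
  have h1 : WU V v i ≤ K := by
    refine V_le fun c hc => ?_
    intro x hx
    rw [mem_conj] at hx
    refine ⟨?_, fun q hq => ?_⟩
    · have h2 := (D.V_le_T i).trans (D.T_le_C i) hx
      have h3 := mul_mem (mul_mem hc h2) (inv_mem hc)
      have e : c * (c⁻¹ * x * c) * c⁻¹ = x := by group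
      rwa [e] at h3
    · have h2 : c⁻¹ * q * c ∈ QQ v i := by
        have := (mem_normalizer_iff.1 (le_normalizer_o2 _ (inv_mem hc)) q).1 hq
        rwa [inv_inv] at this
      have h3 := D.comm_VQ i hx (D.Q_le_T i h2)
      have h4 := cz_comm i hc h3
      have e : c * (c⁻¹ * x * c * (c⁻¹ * q * c) * (c⁻¹ * x * c)⁻¹ * (c⁻¹ * q * c)⁻¹) * c⁻¹ = x * q * x⁻¹ * q⁻¹ := by
        group
      rw [e] at h4
      rw [h4]
      exact h3
  exact (h1 hx).2 q hq

/-- an element of `Q_{i+1}` centralising `N_i` lies in `Q_i` -/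
theorem f3' (i : Fin 2) {x : G} (hx : x ∈ QQ v (i + 1)) (hc : x ∈ centralizer (NU V v i : Set G)) : x ∈ QQ v i :=
  D.f3 i ⟨D.Q_le_o2D (i + 1) hx, hc⟩

theorem f3'' (i : Fin 2) {x : G} (hx : x ∈ QQ v i) (hc : x ∈ centralizer (NU V v (i + 1) : Set G)) :
    x ∈ QQ v (i + 1) :=
  D.f3 (i + 1) ⟨D.Q_le_o2D i hx, hc⟩

/-- `c v_{i+1} c⁻¹ ∈ v_{i+1} ⟨v i⟩`, `c ∈ C_i`, implies `c ∈ D` -/
theorem mem_D_of {i : Fin 2} {c : G} (hc : c ∈ CC v i)
    (h : c * v (i + 1) * c⁻¹ * (v (i + 1))⁻¹ ∈ zpowers (v i)) : c ∈ centralizer (zc T : Set G) := by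
  have hij := ne_add_one i
  rcases mem_zp D h with h1 | h1
  · refine (D.mem_D_iff hij).2 ⟨hc, ?_⟩
    rw [mem_centralizer_singleton_iff]
    have h2 := mul_inv_eq_one.1 h1
    exact mul_inv_eq_iff_eq_mul.1 h2
  · -- `T` and `T^c` are Sylow subgroups of `D`
    have h2 : c * v (i + 1) * c⁻¹ = v i * v (i + 1) := mul_inv_eq_iff_eq_mul.1 h1
    have h3 : MulAut.conj c • T ≤ centralizer (zc T : Set G) := by
      intro x hx
      rw [mem_conj] at hx
      have k1 : x ∈ CC v i := by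
        have := mul_mem (mul_mem hc (D.T_le_C i hx)) (inv_mem hc)
        have e : c * (c⁻¹ * x * c) * c⁻¹ = x := by group
        rwa [e] at this
      refine (D.mem_D_iff hij).2 ⟨k1, ?_⟩
      have k2 := mem_centralizer_singleton_iff.1 (D.T_le_C (i + 1) hx)
      have k3 : x * (c * v (i + 1) * c⁻¹) = c * v (i + 1) * c⁻¹ * x := by
        have e1 : x * (c * v (i + 1) * c⁻¹) = c * (c⁻¹ * x * c * v (i + 1)) * c⁻¹ := by group
        have e2 : c * v (i + 1) * c⁻¹ * x = c * (v (i + 1) * (c⁻¹ * x * c)) * c⁻¹ := by group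
        rw [e1, e2, k2]
      rw [h2] at k3
      have k4 : x * v i = v i * x := mem_centralizer_singleton_iff.1 k1
      rw [mem_centralizer_singleton_iff]
      have k5 : v i * (x * v (i + 1)) = v i * (v (i + 1) * x) := by
        rw [← mul_assoc, ← k4, mul_assoc, k3, mul_assoc]
      exact mul_left_cancel k5
    have h4 : Syl (MulAut.conj c • T) (centralizer (zc T : Set G)) := by
      refine ⟨h3, D.T_isPGroup.map _, ?_⟩
      intro R hR hR2 hTR
      symm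
      refine Subgroup.eq_of_le_of_card_ge hTR ?_
      have h5 : Nat.card (MulAut.conj c • T : Subgroup G) = Nat.card T :=
        Subgroup.card_map_of_injective (MulAut.conj c).injective
      rw [h5]
      obtain ⟨S, hS, hRS⟩ := ChoiceSit.exists_syl hR2 hR
      obtain ⟨y, -, hy⟩ := ChoiceSit.syl_conj hS D.syl_D
      have h6 : Nat.card S = Nat.card T := by
        rw [← hy]
        exact (Subgroup.card_map_of_injective (MulAut.conj y).injective).symm
      rw [← h6]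
      exact Subgroup.card_le_of_le hRS
    obtain ⟨y, hy, hyT⟩ := ChoiceSit.syl_conj h4 D.syl_D
    have h5 : y * c ∈ normalizer (T : Set G) := by
      refine ChoiceBase.mem_normalizer_iff_cj.2 ?_
      change MulAut.conj (y * c) • T = T
      rw [← conj_conj]
      exact hyT
    have h6 := D.norm_T_le i ⟨mul_mem (D.cent_zc_le i hy) hc, h5⟩
    have h7 := mul_mem (inv_mem hy) h6
    rwa [inv_mul_cancel_left] at h7

/-- the hypothesis on the fixed points -/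
def FixE (T : Subgroup G) (v : Fin 2 → G) (i : Fin 2) : Prop :=
  ∀ n ∈ EU T v i, (∀ t ∈ T, t * n * t⁻¹ * n⁻¹ ∈ zpowers (v i)) → n ∈ zc T

omit D in
theorem zp_le_N (i : Fin 2) : CC v i ≤ normalizer (zpowers (v i) : Set G) := by
  intro c hc
  rw [mem_normalizer_iff]
  intro x
  constructor
  · intro h
    rw [cz_comm i hc h]
    exact h
  · intro h
    have h1 := cz_comm i (inv_mem hc) h
    have e : c⁻¹ * (c * x * c⁻¹) * c⁻¹⁻¹ = x := by group
    rw [e] at h1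
    rw [h1]
    exact h

theorem exists_M (i : Fin 2) : ∃ (M : Type u) (_ : AddCommGroup M) (_ : DistribMulAction (CC v i) M) (p : G → M),
    Sec (EU T v i) (zpowers (v i)) (CC v i) M p := by
  refine exists_sec ?_ (((D.E_le_Q i).trans ((D.Q_le_T i).trans (D.T_le_C i))).trans (zp_le_N i)) (D.C_le_N_E i)
    (zp_le_N i)
  intro a ha b hb
  have h1 : a * b = b * a := (mem_centralizer_iff.1 (D.E_comm i hb) a ha)
  rw [h1, mul_inv_cancel_right, mul_inv_cancel]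
  exact one_mem _

section side

variable {i : Fin 2} {M : Type u} [AddCommGroup M] [DistribMulAction (CC v i) M] {p : G → M}
  (s : Sec (EU T v i) (zpowers (v i)) (CC v i) M p)

include s

theorem p_vi : p (v i) = 0 := (s.ker _ (D.v_mem_E i i)).2 (mem_zpowers _)

theorem act_p {g : G} (hg : g ∈ CC v i) {x : G} (hx : x ∈ EU T v i) : (⟨g, hg⟩ : CC v i) • p x = p (g * x * g⁻¹) :=
  s.act _ x hx

theorem conj_E {g : G} (hg : g ∈ CC v i) {x : G} (hx : x ∈ EU T v i) : g * x * g⁻¹ ∈ EU T v i :=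
  (mem_normalizer_iff.1 (D.C_le_N_E i hg) x).1 hx

/-- the stabiliser of `p (v (i+1))` -/
theorem stab {g : CC v i} (h : g • p (v (i + 1)) = p (v (i + 1))) : (g : G) ∈ centralizer (zc T : Set G) := by
  rw [s.act g _ (D.v_mem_E i (i + 1)), s.eq_iff (conj_E D s g.2 (D.v_mem_E i _)) (D.v_mem_E i _)] at h
  exact mem_D_of D g.2 h

theorem p_vj : p (v (i + 1)) ≠ 0 := by
  intro h
  rw [s.ker _ (D.v_mem_E i _)] at h
  exact D.ne (i + 1) (notin_V D (D.mem (i + 1)) h)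

theorem p_zc {x : G} (hx : x ∈ zc T) : p x = 0 ∨ p x = p (v (i + 1)) := by
  have key : ∀ k : Fin 2, p (v k) = 0 ∨ p (v k) = p (v (i + 1)) := by
    intro k
    rcases eq_or_ne i k with h | h
    · rw [← h]
      exact Or.inl (p_vi D s)
    · rw [eq_add_one h]
      exact Or.inr rfl
  rcases (D.zT x).1 hx with h | h | h | h
  · rw [h]
    exact Or.inl s.one
  · rw [h]
    exact key 0
  · rw [h]
    exact key 1
  · right
    rw [h, s.mul _ (D.v_mem_E i 0) _ (D.v_mem_E i 1)]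
    rcases Fin.exists_fin_two.1 ⟨i, rfl⟩ with h' | h'
    · have h1 : p (v 0) = 0 := h' ▸ p_vi D s
      rw [h1, zero_add, h']
      rfl
    · have h1 : p (v 1) = 0 := h' ▸ p_vi D s
      rw [h1, add_zero, h']
      rfl

/-- 609's module, general form: some `A ≤ C_i` centralises `W_{i+1}` and moves `N_i` -/
theorem Dat_of' (hA : ∃ A : Subgroup G, A ≤ CC v i ∧ A ≤ centralizer (WU V v (i + 1) : Set G) ∧
    ¬ A ≤ centralizer (NU V v i : Set G)) (hfix : FixE T v i) :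
    OM.PG.DOne.Dat (p (v (i + 1))) (s.im (V (i + 1)) (D.V_le_E i)) (T.subgroupOf (CC v i))
      ((P (i + 1)).subgroupOf (CC v i)) := by
  have hv0 : p (v (i + 1)) ≠ 0 := p_vj D s
  have hzc : ∀ x ∈ zc T, p x = 0 ∨ p x = p (v (i + 1)) := fun x hx => p_zc D s hx
  refine ⟨hv0, ⟨_, D.mem _, rfl⟩, ?_, ?_, ?_, ?_, ?_, ?_, ?_, ?_, ?_, ?_⟩
  · -- card
    rw [← D.four (i + 1)]
    symm
    refine Nat.card_congr (Equiv.ofBijective
      (fun x : V (i + 1) => (⟨p x, ⟨x, x.2, rfl⟩⟩ : s.im (V (i + 1)) (D.V_le_E i))) ⟨?_, ?_⟩)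
    · intro x y h
      have h1 : p x = p y := congrArg Subtype.val h
      rw [s.eq_iff (D.V_le_E i x.2) (D.V_le_E i y.2)] at h1
      exact Subtype.ext (mul_inv_eq_one.1 (notin_V D (mul_mem x.2 (inv_mem y.2)) h1))
    · rintro ⟨_, x, hx, rfl⟩
      exact ⟨⟨x, hx⟩, rfl⟩
  · exact D.T_isPGroup.comap_subtype
  · -- T fixes v
    intro t ht
    rw [mem_subgroupOf] at ht
    rw [s.act t _ (D.v_mem_E i _), D.cen (i + 1) ht]
  · -- fix
    intro m hm
    obtain ⟨x, hx, rfl⟩ := s.surj m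
    refine hzc x (hfix x hx fun t ht => ?_)
    have h1 := hm ⟨t, D.T_le_C i ht⟩ (by rw [mem_subgroupOf]; exact ht)
    rw [act_p D s _ hx, s.eq_iff (conj_E D s (D.T_le_C i ht) hx) hx] at h1
    exact h1
  · -- TV
    rintro t ht _ ⟨x, hx, rfl⟩
    rw [mem_subgroupOf] at ht
    rw [s.act t _ (D.V_le_E i hx)]
    exact ⟨_, (mem_normalizer_iff.1 (D.T_le_N (i + 1) ht) x).1 hx, rfl⟩
  · rintro t ht _ ⟨x, hx, rfl⟩
    rw [mem_subgroupOf] at ht
    rw [s.act t _ (D.V_le_E i hx)]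
    exact ⟨_, (mem_normalizer_iff.1 (D.PN (i + 1) (i + 1) ht) x).1 hx, rfl⟩
  · -- tr
    rintro _ ⟨x, hx, rfl⟩ h0
    have hx1 : x ≠ 1 := by
      rintro rfl
      exact h0 s.one
    obtain ⟨l, hl, -, hlx⟩ := D.tr (ne_add_one i).symm hx hx1
    have hlC : l ∈ CC v i := D.PC (i + 1) i (ne_add_one i).symm hl
    refine ⟨⟨l, hlC⟩, by rw [mem_subgroupOf]; exact hl, ?_⟩
    rw [act_p D s _ (D.v_mem_E i _), hlx]
  · -- span
    rw [eq_top_iff]
    rintro m -
    let K : Subgroup G :=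
      { carrier := {x | x ∈ EU T v i ∧ p x ∈ AddSubgroup.closure (MulAction.orbit (CC v i) (p (v (i + 1))))}
        one_mem' := ⟨one_mem _, by rw [s.one]; exact zero_mem _⟩
        mul_mem' := by
          rintro a b ⟨ha, ha'⟩ ⟨hb, hb'⟩
          exact ⟨mul_mem ha hb, by rw [s.mul _ ha _ hb]; exact add_mem ha' hb'⟩
        inv_mem' := by
          rintro a ⟨ha, ha'⟩
          exact ⟨inv_mem ha, by rw [s.inv ha]; exact neg_mem ha'⟩ }
    have h1 : EU T v i ≤ K := by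
      refine V_le fun c hc => ?_
      intro x hx
      rw [mem_conj] at hx
      have hxE : c⁻¹ * x * c ∈ EU T v i := le_V _ _ hx
      have e : c * (c⁻¹ * x * c) * c⁻¹ = x := by group
      have h2 := conj_E D s hc hxE
      have h3 := act_p D s hc hxE
      rw [e] at h2 h3
      refine ⟨h2, ?_⟩
      rw [← h3]
      rcases hzc _ hx with h | h
      · rw [h, smul_zero]
        exact zero_mem _
      · rw [h]
        exact AddSubgroup.subset_closure ⟨_, rfl⟩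
    obtain ⟨x, hx, rfl⟩ := s.surj m
    exact (h1 hx).2
  · -- gen
    rw [eq_top_iff]
    rintro h -
    set K := MulAction.stabilizer (CC v i) (p (v (i + 1))) ⊔ (P (i + 1)).subgroupOf (CC v i) with hK
    have h1 : P (i + 1) ⊔ centralizer (zc T : Set G) ≤ K.map (CC v i).subtype := by
      refine sup_le ?_ ?_
      · intro x hx
        have hxC : x ∈ CC v i := D.PC (i + 1) i (ne_add_one i).symm hx
        exact ⟨⟨x, hxC⟩, mem_sup_right (by rw [mem_subgroupOf]; exact hx), rfl⟩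
      · intro x hx
        have hxC : x ∈ CC v i := D.cent_zc_le i hx
        refine ⟨⟨x, hxC⟩, mem_sup_left ?_, rfl⟩
        rw [MulAction.mem_stabilizer_iff, act_p D s _ (D.v_mem_E i _)]
        congr 1
        have := mem_centralizer_singleton_iff.1 (D.cent_zc_le (i + 1) hx)
        rw [this, mul_inv_cancel_right]
    obtain ⟨k, hk, hkh⟩ := h1 (D.gen (ne_add_one i).symm h.2)
    have : k = h := Subtype.ext hkh
    rwa [← this]
  · -- ncl
    refine ⟨s.im (EU T v i ⊓ WU V v (i + 1)) inf_le_left, ?_, ?_⟩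
    · intro htop
      obtain ⟨A, hAC, hAW, hAN⟩ := hA
      apply hAN
      refine comm_symm ?_
      intro e he
      have heE := D.N_le_E i he
      have h1 : p e ∈ (⊤ : AddSubgroup M) := AddSubgroup.mem_top _
      rw [← htop] at h1
      obtain ⟨x, ⟨hxE, hxW⟩, hxe⟩ := h1
      rw [s.eq_iff hxE heE] at hxe
      have h2 : e = (x * e⁻¹)⁻¹ * x := by group
      rw [h2]
      refine mul_mem (inv_mem ?_) ((comm_symm hAW) hxW)
      rw [mem_centralizer_iff]
      intro w hw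
      have h3 := cz_comm i (hAC hw) hxe
      exact mul_inv_eq_iff_eq_mul.1 h3
    · rintro g hg _ ⟨x, hx, rfl⟩
      have hgD := stab D s hg
      have hxE := D.V_le_E i hx
      rw [s.act g _ hxE]
      refine ⟨_, ⟨conj_E D s g.2 hxE, ?_⟩, rfl⟩
      exact (mem_normalizer_iff.1 (D.C_le_N_W (i + 1) (D.cent_zc_le (i + 1) hgD)) x).1 (D.V_le_W (i + 1) hx)

theorem Dat_of (hW : ¬ WU V v (i + 1) ≤ centralizer (NU V v i : Set G)) (hfix : FixE T v i) :
    OM.PG.DOne.Dat (p (v (i + 1))) (s.im (V (i + 1)) (D.V_le_E i)) (T.subgroupOf (CC v i))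
      ((P (i + 1)).subgroupOf (CC v i)) :=
  Dat_of' D s ⟨WU V v (i + 1), D.W_le_C (i + 1) i, D.W_comm (i + 1), hW⟩ hfix

/-- an element of `C_i` which centralises `E_i` modulo `⟨v_i⟩` centralises `N_i` -/
theorem cent_of_triv {x : G} (hx : x ∈ CC v i) (h : ∀ m : M, (⟨x, hx⟩ : CC v i) • m = m) :
    x ∈ centralizer (NU V v i : Set G) := by
  have key : ∀ c ∈ CC v i, ∀ y ∈ V (i + 1), x * (c * y * c⁻¹) = c * y * c⁻¹ * x := by
    intro c hc y hy
    by_cases hy1 : y = 1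
    · rw [hy1]; simp
    obtain ⟨l, hl, -, rfl⟩ := D.tr (ne_add_one i).symm hy hy1
    have hcl : c * l ∈ CC v i := mul_mem hc (D.PC (i + 1) i (ne_add_one i).symm hl)
    -- `(c l)⁻¹ x (c l) ∈ D`
    have h1 : (c * l)⁻¹ * x * (c * l) ∈ CC v i := mul_mem (mul_mem (inv_mem hcl) hx) hcl
    have h2 : (⟨(c * l)⁻¹ * x * (c * l), h1⟩ : CC v i) • p (v (i + 1)) = p (v (i + 1)) := by
      have e : (⟨(c * l)⁻¹ * x * (c * l), h1⟩ : CC v i) = (⟨c * l, hcl⟩ : CC v i)⁻¹ * ⟨x, hx⟩ * ⟨c * l, hcl⟩ :=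
        Subtype.ext rfl
      rw [e, mul_smul, mul_smul, h, inv_smul_smul]
    have h3 := stab D s h2
    have h4 : (c * l)⁻¹ * x * (c * l) * v (i + 1) = v (i + 1) * ((c * l)⁻¹ * x * (c * l)) :=
      mem_centralizer_singleton_iff.1 (D.cent_zc_le (i + 1) h3)
    have e1 : x * (c * (l * v (i + 1) * l⁻¹) * c⁻¹) = (c * l) * ((c * l)⁻¹ * x * (c * l) * v (i + 1)) * (c * l)⁻¹ := by
      group
    have e2 : c * (l * v (i + 1) * l⁻¹) * c⁻¹ * x = (c * l) * (v (i + 1) * ((c * l)⁻¹ * x * (c * l))) * (c * l)⁻¹ := by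
      group
    rw [e1, e2, h4]
  have h1 : NU V v i ≤ centralizer ({x} : Set G) := by
    refine V_le fun c hc => ?_
    intro y hy
    rw [mem_conj] at hy
    have h2 := key c hc _ hy
    have e : c * (c⁻¹ * y * c) * c⁻¹ = y := by group
    rw [e] at h2
    exact mem_centralizer_singleton_iff.2 h2.symm
  rw [mem_centralizer_iff]
  intro n hn
  exact mem_centralizer_singleton_iff.1 (h1 hn)

end side

theorem N_le_Q' {i j : Fin 2} (hij : i ≠ j) (hN : ∀ i, NU V v i ≤ centralizer (NU V v (i + 1) : Set G)) :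
    NU V v i ≤ QQ v j := by
  obtain rfl := eq_add_one hij
  exact fun x hx => f3'' D i (D.N_le_Q i hx) (hN i hx)

theorem E_le_Q' {i j : Fin 2} (hij : i ≠ j) (hN : ∀ i, NU V v i ≤ centralizer (NU V v (i + 1) : Set G)) :
    EU T v i ≤ QQ v j := by
  refine (D.E_le i).trans (sup_le (N_le_Q' D hij hN) ?_)
  rw [zpowers_le]
  exact D.v_mem_Q' j i

/-- the elements of `W_j` act as `1` or as a transvection with centre `v j` on `E_i` -/
theorem act_or {i j : Fin 2} (hij : i ≠ j) (hN : ∀ i, NU V v i ≤ centralizer (NU V v (i + 1) : Set G)) {x e : G}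
    (hx : x ∈ WU V v j) (he : e ∈ EU T v i) : x * e * x⁻¹ = e ∨ x * e * x⁻¹ = v j * e := by
  rcases mem_zp D (comm_WQ D j hx (E_le_Q' D hij hN he)) with h | h
  · exact Or.inl (mul_inv_eq_one.1 h)
  · exact Or.inr (mul_inv_eq_iff_eq_mul.1 h)

/-- **(b)** at group level -/
theorem act_eq {i j : Fin 2} (hij : i ≠ j) (hN : ∀ i, NU V v i ≤ centralizer (NU V v (i + 1) : Set G))
    (hW : ¬ WU V v j ≤ centralizer (NU V v i : Set G)) (hfix : FixE T v i) {x y e : G}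
    (hx : x ∈ WU V v j) (hy : y ∈ WU V v j) (hx' : x ∉ centralizer (NU V v i : Set G))
    (hy' : y ∉ centralizer (NU V v i : Set G)) (he : e ∈ NU V v i) : x * e * x⁻¹ = y * e * y⁻¹ := by
  have hij' := hij
  obtain rfl := eq_add_one hij
  obtain ⟨M, _, _, p, s⟩ := exists_M D i
  have hfin : Finite M := s.finite
  have d := Dat_of D s hW hfix
  have hadd : ∀ m : M, m + m = 0 := s.add_self fun x hx => by
    rw [← pow_two, D.E_sq i x hx]
    exact one_mem _
  have hxC : ∀ x ∈ WU V v (i + 1), x ∈ CC v i := fun x hx => D.W_le_C (i + 1) i hx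
  have h1 : ∀ (x : G) (hx : x ∈ WU V v (i + 1)), ∀ m : M,
      (⟨x, hxC x hx⟩ : CC v i) • m = m ∨ (⟨x, hxC x hx⟩ : CC v i) • m = m + p (v (i + 1)) := by
    intro x hx m
    obtain ⟨e, he, rfl⟩ := s.surj m
    rw [act_p D s _ he]
    rcases act_or D hij hN hx he with h | h
    · rw [h]
      exact Or.inl rfl
    · rw [h, s.mul _ (D.v_mem_E i _) _ he, add_comm]
      exact Or.inr rfl
  have h2 : ∀ (x : G) (hx : x ∈ WU V v (i + 1)), x ∉ centralizer (NU V v i : Set G) →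
      ∃ m : M, (⟨x, hxC x hx⟩ : CC v i) • m ≠ m := by
    intro x hx hx'
    rw [mem_centralizer_iff] at hx'
    push Not at hx'
    obtain ⟨e, he, hne⟩ := hx'
    have heE := D.N_le_E i he
    refine ⟨p e, ?_⟩
    rw [act_p D s _ heE]
    rcases act_or D hij hN hx heE with h | h
    · exact absurd (mul_inv_eq_iff_eq_mul.1 h).symm hne
    · rw [h, s.mul _ (D.v_mem_E i _) _ heE]
      intro h3
      exact d.v0 (by simpa using h3)
  have h3 := d.two_eq hadd (h1 x hx) (h1 y hy) (h2 x hx hx') (h2 y hy hy') (p e)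
  have heE := D.N_le_E i he
  rw [act_p D s _ heE, act_p D s _ heE, s.eq_iff (conj_E D s (hxC x hx) heE) (conj_E D s (hxC y hy) heE)] at h3
  have h4 : x * e * x⁻¹ * (y * e * y⁻¹)⁻¹ ∈ zpowers (v (i + 1)) := by
    have k1 := comm_WQ D (i + 1) hx (E_le_Q' D hij' hN heE)
    have k2 := comm_WQ D (i + 1) hy (E_le_Q' D hij' hN heE)
    have := mul_mem k1 (inv_mem k2)
    have e' : x * e * x⁻¹ * e⁻¹ * (y * e * y⁻¹ * e⁻¹)⁻¹ = x * e * x⁻¹ * (y * e * y⁻¹)⁻¹ := by group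
    rwa [e'] at this
  exact mul_inv_eq_one.1 (zp_inf D h3 h4)

/-- the elements of `N_j` outside `C(W_i)` are congruent -/
theorem idx_two {i j : Fin 2} (hij : i ≠ j) (hN : ∀ i, NU V v i ≤ centralizer (NU V v (i + 1) : Set G))
    (hW : ¬ WU V v i ≤ centralizer (NU V v j : Set G)) (hfix : FixE T v j) {e e' : G}
    (he : e ∈ NU V v j) (he' : e' ∈ NU V v j) (hne : e ∉ centralizer (WU V v i : Set G))
    (hne' : e' ∉ centralizer (WU V v i : Set G)) : e * e'⁻¹ ∈ centralizer (WU V v i : Set G) := by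
  have key : ∀ e ∈ NU V v j, e ∉ centralizer (WU V v i : Set G) → ∀ w ∈ WU V v i,
      w ∉ centralizer (NU V v j : Set G) → w * e * w⁻¹ = v i * e := by
    intro e he hne w hw hw'
    rw [mem_centralizer_iff] at hne
    push Not at hne
    obtain ⟨w₁, hw₁, h1⟩ := hne
    have h2 : w₁ ∉ centralizer (NU V v j : Set G) := fun h => h1 ((mem_centralizer_iff.1 h) e he).symm
    rw [act_eq D hij.symm hN hW hfix hw hw₁ hw' h2 he]
    rcases act_or D hij.symm hN hw₁ (D.N_le_E j he) with h | h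
    · exact absurd (mul_inv_eq_iff_eq_mul.1 h) h1
    · exact h
  rw [mem_centralizer_iff]
  intro w hw
  by_cases hw' : w ∈ centralizer (NU V v j : Set G)
  · exact ((mem_centralizer_iff.1 hw') _ (mul_mem he (inv_mem he'))).symm
  · have h1 := key e he hne w hw hw'
    have h2 := key e' he' hne' w hw hw'
    have h3 : w * (e * e'⁻¹) * w⁻¹ = e * e'⁻¹ := by
      have e1 : w * (e * e'⁻¹) * w⁻¹ = (w * e * w⁻¹) * (w * e' * w⁻¹)⁻¹ := by group
      have h4 : (e * e'⁻¹) * v i = v i * (e * e'⁻¹) :=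
        mem_centralizer_singleton_iff.1 (D.N_le_C j i (mul_mem he (inv_mem he')))
      rw [e1, h1, h2, mul_inv_rev]
      calc v i * e * (e'⁻¹ * (v i)⁻¹) = v i * (e * e'⁻¹) * (v i)⁻¹ := by group
        _ = _ := by rw [← h4, mul_inv_cancel_right]
    exact mul_inv_eq_iff_eq_mul.1 h3

/-- `Q_i / C_{Q_i}(W_i)` -/
theorem exists_K (i : Fin 2) : ∃ (K : Type u) (_ : AddCommGroup K) (_ : DistribMulAction (CC v i) K) (p : G → K),
    Sec (QQ v i) (QQ v i ⊓ centralizer (WU V v i : Set G)) (CC v i) K p := by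
  have hn : CC v i ≤ normalizer ((QQ v i ⊓ centralizer (WU V v i : Set G) : Subgroup G) : Set G) := by
    have h1 : ∀ c ∈ CC v i, ∀ x ∈ QQ v i ⊓ centralizer (WU V v i : Set G),
        c * x * c⁻¹ ∈ QQ v i ⊓ centralizer (WU V v i : Set G) := by
      intro c hc x hxx
      obtain ⟨hx, hx'⟩ := mem_inf.1 hxx
      refine mem_inf.2 ⟨(mem_normalizer_iff.1 (le_normalizer_o2 _ hc) x).1 hx, ?_⟩
      rw [mem_centralizer_iff]
      intro w hw
      have h2 : c⁻¹ * w * c ∈ WU V v i := by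
        have := (mem_normalizer_iff.1 (D.C_le_N_W i (inv_mem hc)) w).1 hw
        rwa [inv_inv] at this
      have h3 := (mem_centralizer_iff.1 hx') _ h2
      have e1 : w * (c * x * c⁻¹) = c * (c⁻¹ * w * c * x) * c⁻¹ := by group
      have e2 : c * x * c⁻¹ * w = c * (x * (c⁻¹ * w * c)) * c⁻¹ := by group
      rw [e1, e2, h3]
    intro c hc
    rw [mem_normalizer_iff]
    intro x
    refine ⟨h1 c hc x, fun h => ?_⟩
    have := h1 c⁻¹ (inv_mem hc) _ h
    have e : c⁻¹ * (c * x * c⁻¹) * c⁻¹⁻¹ = x := by group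
    rwa [e] at this
  refine exists_sec ?_ (((D.Q_le_T i).trans (D.T_le_C i)).trans hn) (le_normalizer_o2 _) hn
  intro a ha b hb
  refine mem_inf.2 ⟨mul_mem (mul_mem (mul_mem ha hb) (inv_mem ha)) (inv_mem hb), ?_⟩
  rw [mem_centralizer_iff]
  intro w hw
  have h1 := comm_WQ D i hw ha
  have h2 := comm_WQ D i hw hb
  have hC : ∀ c ∈ QQ v i, ∀ z ∈ zpowers (v i), c * z = z * c := fun c hc z hz =>
    mul_inv_eq_iff_eq_mul.1 (cz_comm i (D.T_le_C i (D.Q_le_T i hc)) hz)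
  set z₁ := w * a * w⁻¹ * a⁻¹ with hz₁
  set z₂ := w * b * w⁻¹ * b⁻¹ with hz₂
  have h3 : w * a * w⁻¹ = z₁ * a := by rw [hz₁]; group
  have h4 : w * b * w⁻¹ = z₂ * b := by rw [hz₂]; group
  have h5 : w * (a * b * a⁻¹ * b⁻¹) * w⁻¹ = a * b * a⁻¹ * b⁻¹ := by
    have e1 : w * (a * b * a⁻¹ * b⁻¹) * w⁻¹ = (w * a * w⁻¹) * (w * b * w⁻¹) * (w * a * w⁻¹)⁻¹ * (w * b * w⁻¹)⁻¹ := by
      group
    have e2 : z₁ * a * (z₂ * b) * (z₁ * a)⁻¹ * (z₂ * b)⁻¹ = z₁ * (a * z₂ * b * a⁻¹) * z₁⁻¹ * b⁻¹ * z₂⁻¹ := by group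
    have q1 := hC a ha z₂ h2
    have hb' : b⁻¹ ∈ QQ v i := inv_mem hb
    have hab : a * b * a⁻¹ ∈ QQ v i := mul_mem (mul_mem ha hb) (inv_mem ha)
    have hz12 : z₁ * z₂ = z₂ * z₁ := by
      have := (mem_zpowers_iff.1 h1)
      obtain ⟨m, hm⟩ := this
      obtain ⟨n, hn⟩ := mem_zpowers_iff.1 h2
      rw [← hm, ← hn, ← zpow_add, ← zpow_add, add_comm]
    have q2 := hC _ hab z₁⁻¹ (inv_mem h1)
    have q3 := hC b⁻¹ hb' z₂⁻¹ (inv_mem h2)
    rw [e1, h3, h4, e2]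
    calc z₁ * (a * z₂ * b * a⁻¹) * z₁⁻¹ * b⁻¹ * z₂⁻¹
        = z₁ * (z₂ * a * b * a⁻¹) * z₁⁻¹ * b⁻¹ * z₂⁻¹ := by rw [q1]
      _ = z₁ * z₂ * (a * b * a⁻¹ * z₁⁻¹) * (b⁻¹ * z₂⁻¹) := by group
      _ = z₁ * z₂ * (z₁⁻¹ * (a * b * a⁻¹)) * (z₂⁻¹ * b⁻¹) := by rw [q2, q3]
      _ = z₂ * (z₁ * z₁⁻¹) * ((a * b * a⁻¹) * z₂⁻¹) * b⁻¹ := by rw [hz12]; group
      _ = z₂ * (z₂⁻¹ * (a * b * a⁻¹)) * b⁻¹ := by
        rw [hC _ hab z₂⁻¹ (inv_mem h2), mul_inv_cancel, mul_one]
      _ = a * b * a⁻¹ * b⁻¹ := by group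
  exact mul_inv_eq_iff_eq_mul.1 h5

/-- **(5) of helper609's TEXT R4** over the frame of CARD #18791: `[N_0, N_1] = 1`, `W_1` moves `N_0`, `W_0` moves `N_1`
and `C_{E_i/⟨v_i⟩}(T) = Ω₁Z(T)/⟨v_i⟩` is impossible (`d = 1`; radical or not; no (NO), no swap). -/
theorem false_of (hN : ∀ i, NU V v i ≤ centralizer (NU V v (i + 1) : Set G))
    (hW : ∀ i, ¬ WU V v (i + 1) ≤ centralizer (NU V v i : Set G)) (hfix : ∀ i, FixE T v i) : False := by
  classical
  obtain ⟨i, hi⟩ : ∃ i : Fin 2, i = 0 := ⟨0, rfl⟩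
  have hij := ne_add_one i
  have hWi : ¬ WU V v i ≤ centralizer (NU V v (i + 1) : Set G) := by
    have := hW (i + 1)
    rwa [add_one_add_one] at this
  obtain ⟨M, _, _, p, s⟩ := exists_M D i
  obtain ⟨K, _, _, r, k⟩ := exists_K D i
  have hfin : Finite M := s.finite
  have d := Dat_of D s (hW i) (hfix i)
  have haddM : ∀ m : M, m + m = 0 := s.add_self fun x hx => by
    rw [← pow_two, D.E_sq i x hx]
    exact one_mem _
  have hWC : ∀ x ∈ WU V v (i + 1), x ∈ CC v i := fun x hx => D.W_le_C (i + 1) i hx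
  have hQn : ∀ c ∈ CC v i, ∀ q ∈ QQ v i, c * q * c⁻¹ ∈ QQ v i := fun c hc q hq =>
    (mem_normalizer_iff.1 (le_normalizer_o2 _ hc) q).1 hq
  have hQC : ∀ q ∈ QQ v i, q ∈ CC v i := fun q hq => D.T_le_C i (D.Q_le_T i hq)
  have hvC : ∀ c ∈ CC v i, c * v i = v i * c := fun c hc => mem_centralizer_singleton_iff.1 hc
  have hNQ : NU V v (i + 1) ≤ QQ v i := N_le_Q' D hij.symm hN
  -- the pairing
  have pair : ∀ w ∈ WU V v i, ∀ q ∈ QQ v i, w * q * w⁻¹ = q ∨ w * q * w⁻¹ = v i * q := by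
    intro w hw q hq
    rcases mem_zp D (comm_WQ D i hw hq) with h | h
    · exact Or.inl (mul_inv_eq_one.1 h)
    · exact Or.inr (mul_inv_eq_iff_eq_mul.1 h)
  have haddK : ∀ q : K, q + q = 0 := k.add_self fun q hq => by
    refine mem_inf.2 ⟨mul_mem hq hq, ?_⟩
    rw [mem_centralizer_iff]
    intro w hw
    have h1 : w * (q * q) * w⁻¹ = q * q := by
      have e : w * (q * q) * w⁻¹ = (w * q * w⁻¹) * (w * q * w⁻¹) := by group
      rw [e]
      rcases pair w hw q hq with h | h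
      · rw [h]
      · rw [h]
        calc v i * q * (v i * q) = v i * (q * v i) * q := by group
          _ = (v i * v i) * (q * q) := by rw [hvC q (hQC q hq)]; group
          _ = q * q := by rw [D.v_sq i, one_mul]
    exact mul_inv_eq_iff_eq_mul.1 h1
  -- the element `n₀`
  obtain ⟨n₀, hn₀, hn₀'⟩ : ∃ n ∈ NU V v (i + 1), n ∉ centralizer (WU V v i : Set G) := by
    by_contra hcon
    push Not at hcon
    exact hWi (comm_symm hcon)
  have hn₀Q := hNQ hn₀
  -- an element of `W_i` outside `C(N_j)` moves `n₀`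
  have mv₀ : ∀ w ∈ WU V v i, w ∉ centralizer (NU V v (i + 1) : Set G) → w * n₀ * w⁻¹ = v i * n₀ := by
    intro w hw hw'
    have h0 := hn₀'
    rw [mem_centralizer_iff] at h0
    push Not at h0
    obtain ⟨w₁, hw₁, h1⟩ := h0
    have h2 : w₁ ∉ centralizer (NU V v (i + 1) : Set G) := fun h => h1 ((mem_centralizer_iff.1 h) n₀ hn₀).symm
    rw [act_eq D hij.symm hN hWi (hfix (i + 1)) hw hw₁ hw' h2 hn₀]
    rcases pair w₁ hw₁ n₀ hn₀Q with h | h
    · exact absurd (mul_inv_eq_iff_eq_mul.1 h) h1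
    · exact h
  have congrK : ∀ x ∈ QQ v i, ∀ y ∈ QQ v i, x * y⁻¹ ∈ centralizer (WU V v i : Set G) → r x = r y := by
    intro x hx y hy h
    rw [k.eq_iff hx hy]
    exact mem_inf.2 ⟨mul_mem hx (inv_mem hy), h⟩
  -- `α`
  obtain ⟨a, haV, ha1, hav⟩ := D.exists_ne_v i
  have haW : a ∈ WU V v i := D.V_le_W i haV
  let f : G → ZMod 2 := fun q => if a * q * a⁻¹ = q then 0 else 1
  have hf0 : ∀ q, f q = 0 ↔ a * q * a⁻¹ = q := by
    intro q
    by_cases h : a * q * a⁻¹ = q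
    · simp [f, h]
    · simp [f, h]
  have hf1 : ∀ q ∈ QQ v i, f q = 1 → a * q * a⁻¹ = v i * q := by
    intro q hq h
    rcases pair a haW q hq with h1 | h1
    · rw [(hf0 q).2 h1] at h
      exact absurd h (by decide)
    · exact h1
  have hfm : ∀ x ∈ QQ v i, ∀ y ∈ QQ v i, f (x * y) = f x + f y := by
    intro x hx y hy
    have e : a * (x * y) * a⁻¹ = (a * x * a⁻¹) * (a * y * a⁻¹) := by group
    have hxv := hvC x (hQC x hx)
    rcases OM.PG.DOne.z2 (f x) with h1 | h1 <;> rcases OM.PG.DOne.z2 (f y) with h2 | h2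
    · rw [h1, h2, add_zero, hf0, e, (hf0 x).1 h1, (hf0 y).1 h2]
    · rw [h1, h2, zero_add]
      rcases OM.PG.DOne.z2 (f (x * y)) with h3 | h3
      · exfalso
        rw [hf0, e, (hf0 x).1 h1, hf1 y hy h2] at h3
        have h4 : v i * y = y := mul_left_cancel h3
        exact D.ne i (by simpa using h4)
      · exact h3
    · rw [h1, h2, add_zero]
      rcases OM.PG.DOne.z2 (f (x * y)) with h3 | h3
      · exfalso
        rw [hf0, e, (hf0 y).1 h2, hf1 x hx h1] at h3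
        have h4 : v i * x = x := mul_right_cancel h3
        exact D.ne i (by simpa using h4)
      · exact h3
    · rw [h1, h2, CharTwo.add_self_eq_zero, hf0, e, hf1 x hx h1, hf1 y hy h2]
      calc v i * x * (v i * y) = v i * (x * v i) * y := by group
        _ = (v i * v i) * (x * y) := by rw [hxv]; group
        _ = x * y := by rw [D.v_sq i, one_mul]
  obtain ⟨α, hα⟩ := k.exists_lift f hfm (fun x _ hx => (hf0 x).2 (by
    have := (mem_centralizer_iff.1 (mem_inf.1 hx).2) a haW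
    rw [this, mul_inv_cancel_right]))
  -- invariance of `α`
  have hinv : ∀ t ∈ CC v i, (∀ x ∈ V i, t⁻¹ * x * t ∈ V i) → ∀ q ∈ QQ v i, f (t * q * t⁻¹) = f q := by
    intro t ht htV q hq
    have h1 : t⁻¹ * a * t = a ∨ t⁻¹ * a * t = a * v i := by
      by_cases h : t⁻¹ * a * t = a
      · exact Or.inl h
      · right
        have k1 : t⁻¹ * a * t ≠ 1 := by
          intro h2
          have e : a = t * (t⁻¹ * a * t) * t⁻¹ := by group
          rw [h2, mul_one, mul_inv_cancel] at e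
          exact ha1 e
        have k2 : t⁻¹ * a * t ≠ v i := by
          intro h2
          have e : a = t * (t⁻¹ * a * t) * t⁻¹ := by group
          rw [h2, hvC t ht, mul_inv_cancel_right] at e
          exact hav e
        rcases D.eq_of_V haV ha1 (D.mem i) (D.ne i) hav (htV a haV) k1 with h2 | h2 | h2
        · exact absurd h2 h
        · exact absurd h2 k2
        · exact h2
    have h2 : (t⁻¹ * a * t) * q * (t⁻¹ * a * t)⁻¹ = a * q * a⁻¹ := by
      rcases h1 with h | h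
      · rw [h]
      · rw [h, mul_inv_rev]
        have := hvC q (hQC q hq)
        calc a * v i * q * ((v i)⁻¹ * a⁻¹) = a * (v i * q) * (v i)⁻¹ * a⁻¹ := by group
          _ = _ := by rw [← this]; group
    have h3 : a * (t * q * t⁻¹) * a⁻¹ = t * (a * q * a⁻¹) * t⁻¹ := by
      rw [← h2]; group
    have h4 : a * (t * q * t⁻¹) * a⁻¹ = t * q * t⁻¹ ↔ a * q * a⁻¹ = q := by
      rw [h3]
      constructor
      · intro h
        exact mul_left_cancel (mul_right_cancel h)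
      · intro h
        rw [h]
    have h5 : f (t * q * t⁻¹) = 0 ↔ f q = 0 := by rw [hf0, hf0, h4]
    rcases OM.PG.DOne.z2 (f (t * q * t⁻¹)) with h6 | h6 <;> rcases OM.PG.DOne.z2 (f q) with h7 | h7
    · rw [h6, h7]
    · rw [h6, h5.1 h6]
    · rw [h7, h5.2 h7]
    · rw [h6, h7]
  have hPinv : ∀ t ∈ P (i + 1), t ∈ CC v i ∧ ∀ x ∈ V i, t⁻¹ * x * t ∈ V i := by
    intro t ht
    refine ⟨D.PC (i + 1) i hij.symm ht, fun x hx => ?_⟩
    have := (mem_normalizer_iff.1 (D.PN (i + 1) i (inv_mem ht)) x).1 hx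
    rwa [inv_inv] at this
  have actK : ∀ (g : G) (hg : g ∈ CC v i), ∀ q ∈ QQ v i, (⟨g, hg⟩ : CC v i) • r q = r (g * q * g⁻¹) :=
    fun g hg q hq => k.act _ q hq
  -- `N_i W_i`: `[w, x] ∈ ⟨v_j⟩` for `w ∈ W_i ∩ C(N_j)`, `x ∈ W_j`
  have hwx : ∀ w ∈ WU V v i, w ∈ centralizer (NU V v (i + 1) : Set G) → ∀ x ∈ WU V v (i + 1),
      x⁻¹ * w * x = w ∨ x⁻¹ * w * x = w * v (i + 1) := by
    intro w hw hw' x hx
    have h1 := f3'' D i (D.W_le_Q i hw) hw'
    have h2 : x⁻¹ * w * x⁻¹⁻¹ * w⁻¹ ∈ zpowers (v (i + 1)) := comm_WQ D (i + 1) (inv_mem hx) h1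
    rw [inv_inv] at h2
    have hc : w * v (i + 1) = v (i + 1) * w := mem_centralizer_singleton_iff.1 (D.W_le_C i (i + 1) hw)
    rcases mem_zp D h2 with h | h
    · exact Or.inl (mul_inv_eq_one.1 h)
    · right
      rw [hc]
      exact mul_inv_eq_iff_eq_mul.1 h
  have hvjQ : ∀ q ∈ QQ v i, q * v (i + 1) = v (i + 1) * q := fun q hq =>
    mem_centralizer_singleton_iff.1 (D.T_le_C (i + 1) (D.Q_le_T i hq))
  refine OM.PG.DOne.Dat.false (n := r n₀) (α := α) (X := (WU V v (i + 1)).subgroupOf (CC v i)) haddM haddK d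
    ⟨?_, ?_, ?_, ?_, ?_, ?_, ?_, ?_, ?_, ?_, ?_⟩
  · -- idx
    exact ChoiceSit.syl_not_dvd (D.syl i)
  · -- tv
    intro x hx m
    rw [mem_subgroupOf] at hx
    obtain ⟨e, he, rfl⟩ := s.surj m
    rw [s.act x _ he]
    rcases act_or D hij hN hx he with h | h
    · rw [h]
      exact Or.inl rfl
    · rw [h, s.mul _ (D.v_mem_E i _) _ he, add_comm]
      exact Or.inr rfl
  · -- nt
    have h0 : ∃ x ∈ WU V v (i + 1), ∃ e ∈ NU V v i, e * x ≠ x * e := by
      by_contra hcon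
      push Not at hcon
      exact hW i fun x hx => mem_centralizer_iff.2 fun e he => hcon x hx e he
    obtain ⟨x, hx, e, he, hne⟩ := h0
    have heE := D.N_le_E i he
    refine ⟨⟨x, hWC x hx⟩, by rw [mem_subgroupOf]; exact hx, p e, ?_⟩
    rw [act_p D s _ heE]
    rcases act_or D hij hN hx heE with h | h
    · exact absurd (mul_inv_eq_iff_eq_mul.1 h).symm hne
    · rw [h, s.mul _ (D.v_mem_E i _) _ heE]
      intro h3
      exact d.v0 (by simpa using h3)
  · -- XD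
    intro g hg x hx
    rw [mem_subgroupOf] at hx ⊢
    have hgD := stab D s hg
    exact (mem_normalizer_iff.1 (D.C_le_N_W (i + 1) (D.cent_zc_le (i + 1) hgD)) (x : G)).1 hx
  · -- Dn
    intro g hg
    have hgD := stab D s hg
    rw [k.act g _ hn₀Q]
    have h1 : (g : G) * n₀ * (g : G)⁻¹ ∈ NU V v (i + 1) :=
      (mem_normalizer_iff.1 (D.C_le_N_N (i + 1) (D.cent_zc_le (i + 1) hgD)) n₀).1 hn₀
    have h2 : (g : G) * n₀ * (g : G)⁻¹ ∉ centralizer (WU V v i : Set G) := by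
      intro h
      apply hn₀'
      rw [mem_centralizer_iff] at h ⊢
      intro w hw
      have h3 : (g : G) * w * (g : G)⁻¹ ∈ WU V v i := (mem_normalizer_iff.1 (D.C_le_N_W i g.2) w).1 hw
      have h4 := h _ h3
      have e1 : (g : G) * w * (g : G)⁻¹ * ((g : G) * n₀ * (g : G)⁻¹) = g * (w * n₀) * (g : G)⁻¹ := by group
      have e2 : (g : G) * n₀ * (g : G)⁻¹ * ((g : G) * w * (g : G)⁻¹) = g * (n₀ * w) * (g : G)⁻¹ := by group
      rw [e1, e2] at h4
      exact mul_left_cancel (mul_right_cancel h4)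
    exact congrK _ (hQn _ g.2 _ hn₀Q) _ hn₀Q (idx_two D hij hN hWi (hfix (i + 1)) h1 hn₀ h2 hn₀')
  · -- tn
    intro x hx q
    rw [mem_subgroupOf] at hx
    obtain ⟨q, hq, rfl⟩ := k.surj q
    rw [k.act x _ hq]
    have hxq := hQn _ x.2 _ hq
    -- `q' = x q x⁻¹ q⁻¹`
    have key : ∀ w ∈ WU V v i, w ∈ centralizer (NU V v (i + 1) : Set G) →
        w * ((x : G) * q * (x : G)⁻¹ * q⁻¹) * w⁻¹ = (x : G) * q * (x : G)⁻¹ * q⁻¹ := by
      intro w hw hw'
      have h1 : ((x : G)⁻¹ * w * x) * q * ((x : G)⁻¹ * w * x)⁻¹ = w * q * w⁻¹ := by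
        rcases hwx w hw hw' x hx with h | h
        · rw [h]
        · rw [h, mul_inv_rev]
          calc w * v (i + 1) * q * ((v (i + 1))⁻¹ * w⁻¹) = w * (v (i + 1) * q) * (v (i + 1))⁻¹ * w⁻¹ := by group
            _ = _ := by rw [← hvjQ q hq]; group
      have h2 : w * ((x : G) * q * (x : G)⁻¹) * w⁻¹ = x * (w * q * w⁻¹) * (x : G)⁻¹ := by
        rw [← h1]; group
      have e : w * ((x : G) * q * (x : G)⁻¹ * q⁻¹) * w⁻¹ = (w * ((x : G) * q * (x : G)⁻¹) * w⁻¹) * (w * q * w⁻¹)⁻¹ := by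
        group
      rw [e, h2]
      rcases pair w hw q hq with h | h
      · rw [h]
      · rw [h]
        have h3 := hvC x x.2
        calc (x : G) * (v i * q) * (x : G)⁻¹ * (v i * q)⁻¹ = (x * v i) * q * (x : G)⁻¹ * q⁻¹ * (v i)⁻¹ := by group
          _ = v i * (x * q * (x : G)⁻¹ * q⁻¹) * (v i)⁻¹ := by rw [h3]; group
          _ = _ := by
            have h4 : ((x : G) * q * (x : G)⁻¹ * q⁻¹) * v i = v i * ((x : G) * q * (x : G)⁻¹ * q⁻¹) :=
              hvC _ (mul_mem (hQC _ hxq) (inv_mem (hQC q hq)))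
            rw [← h4, mul_inv_cancel_right]
    by_cases hc : (x : G) * q * (x : G)⁻¹ * q⁻¹ ∈ centralizer (WU V v i : Set G)
    · exact Or.inl (congrK _ hxq _ hq hc)
    · right
      rw [← k.mul _ hq _ hn₀Q]
      refine congrK _ hxq _ (mul_mem hq hn₀Q) ?_
      set q' := (x : G) * q * (x : G)⁻¹ * q⁻¹ with hq'
      have hq'Q : q' ∈ QQ v i := mul_mem hxq (inv_mem hq)
      have mv' : ∀ w ∈ WU V v i, w ∉ centralizer (NU V v (i + 1) : Set G) → w * q' * w⁻¹ = v i * q' := by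
        have hc0 := hc
        rw [mem_centralizer_iff] at hc0
        push Not at hc0
        obtain ⟨w₁, hw₁, h1⟩ := hc0
        have h2 : w₁ ∉ centralizer (NU V v (i + 1) : Set G) := fun h =>
          h1 (mul_inv_eq_iff_eq_mul.1 (key w₁ hw₁ h))
        have h3 : w₁ * q' * w₁⁻¹ = v i * q' := by
          rcases pair w₁ hw₁ q' hq'Q with h | h
          · exact absurd (mul_inv_eq_iff_eq_mul.1 h) h1
          · exact h
        intro w hw hw'
        have h4 : w₁⁻¹ * w ∈ centralizer (NU V v (i + 1) : Set G) := by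
          rw [mem_centralizer_iff]
          intro e he
          have h5 := act_eq D hij.symm hN hWi (hfix (i + 1)) hw hw₁ hw' h2 he
          have h6 : (w₁⁻¹ * w) * e * (w₁⁻¹ * w)⁻¹ = e := by
            have e1 : (w₁⁻¹ * w) * e * (w₁⁻¹ * w)⁻¹ = w₁⁻¹ * (w * e * w⁻¹) * w₁ := by group
            rw [e1, h5]; group
          exact (mul_inv_eq_iff_eq_mul.1 h6).symm
        have h7 := key _ (mul_mem (inv_mem hw₁) hw) h4
        have e2 : w * q' * w⁻¹ = w₁ * (w₁⁻¹ * w * q' * (w₁⁻¹ * w)⁻¹) * w₁⁻¹ := by group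
        rw [e2, h7, h3]
      rw [mem_centralizer_iff]
      intro w hw
      have e3 : (x : G) * q * (x : G)⁻¹ * (q * n₀)⁻¹ = (x : G) * q * (x : G)⁻¹ * n₀⁻¹ * q⁻¹ := by group
      have h8 : w * ((x : G) * q * (x : G)⁻¹ * (q * n₀)⁻¹) * w⁻¹ = (x : G) * q * (x : G)⁻¹ * (q * n₀)⁻¹ := by
        have e4 : (x : G) * q * (x : G)⁻¹ = q' * q := by rw [hq']; group
        rw [e4]
        have e5 : w * (q' * q * (q * n₀)⁻¹) * w⁻¹ = (w * q' * w⁻¹) * (w * q * w⁻¹) * ((w * q * w⁻¹) * (w * n₀ * w⁻¹))⁻¹ := by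
          group
        rw [e5]
        have e6 : (w * q * w⁻¹) * ((w * q * w⁻¹) * (w * n₀ * w⁻¹))⁻¹ = (w * q * w⁻¹) * (w * n₀ * w⁻¹)⁻¹ * (w * q * w⁻¹)⁻¹ := by
          group
        have hvq := hvC q (hQC q hq)
        have hvq' := hvC q' (hQC q' hq'Q)
        have hvn := hvC n₀ (hQC n₀ hn₀Q)
        have hvn' := hvC n₀⁻¹ (inv_mem (hQC n₀ hn₀Q))
        have hvv := D.v_sq i
        have hvi : (v i)⁻¹ = v i := inv_eq_of_mul_eq_one_left hvv
        -- `w` acts on `q` by `1` or `v i`, which cancels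
        have h9 : (w * q * w⁻¹) * ((w * q * w⁻¹) * (w * n₀ * w⁻¹))⁻¹ = q * (q * (w * n₀ * w⁻¹))⁻¹ := by
          rcases pair w hw q hq with h | h
          · rw [h]
          · rw [h]
            have hn' : (w * n₀ * w⁻¹) * v i = v i * (w * n₀ * w⁻¹) :=
              hvC _ (mul_mem (mul_mem (hQC w (D.W_le_Q i hw)) (hQC n₀ hn₀Q)) (inv_mem (hQC w (D.W_le_Q i hw))))
            have hn'' : (q * (w * n₀ * w⁻¹)⁻¹ * q⁻¹) * v i = v i * (q * (w * n₀ * w⁻¹)⁻¹ * q⁻¹) :=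
              hvC _ (mul_mem (mul_mem (hQC q hq) (inv_mem (mul_mem (mul_mem (hQC w (D.W_le_Q i hw)) (hQC n₀ hn₀Q))
                (inv_mem (hQC w (D.W_le_Q i hw)))))) (inv_mem (hQC q hq)))
            calc v i * q * (v i * q * (w * n₀ * w⁻¹))⁻¹ = v i * (q * (w * n₀ * w⁻¹)⁻¹ * q⁻¹) * (v i)⁻¹ := by group
              _ = (q * (w * n₀ * w⁻¹)⁻¹ * q⁻¹) := by rw [← hn'', mul_inv_cancel_right]
              _ = _ := by group
        rw [mul_assoc, h9]
        by_cases hw' : w ∈ centralizer (NU V v (i + 1) : Set G)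
        · rw [key w hw hw']
          have h10 := (mem_centralizer_iff.1 hw') n₀ hn₀
          rw [← h10, mul_inv_cancel_right]
          rw [hq']; group
        · rw [mv' w hw hw', mv₀ w hw hw']
          have h11 : v i * (q' * q * n₀⁻¹ * q⁻¹) * (v i)⁻¹ = q' * q * n₀⁻¹ * q⁻¹ := by
            have h12 : (q' * q * n₀⁻¹ * q⁻¹) * v i = v i * (q' * q * n₀⁻¹ * q⁻¹) :=
              hvC _ (mul_mem (mul_mem (mul_mem (hQC q' hq'Q) (hQC q hq)) (inv_mem (hQC n₀ hn₀Q))) (inv_mem (hQC q hq)))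
            rw [← h12, mul_inv_cancel_right]
          have h13 : v i * q' * (q * (q * (v i * n₀))⁻¹) = v i * (q' * q * n₀⁻¹ * (v i)⁻¹ * q⁻¹) := by group
          have h14 : (v i)⁻¹ * q⁻¹ = q⁻¹ * (v i)⁻¹ := by
            rw [← mul_inv_rev, ← mul_inv_rev, hvq]
          rw [h13, mul_assoc (q' * q * n₀⁻¹), h14, ← mul_assoc, ← mul_assoc]
          have h15 : v i * (q' * q * n₀⁻¹) * q⁻¹ * (v i)⁻¹ = v i * (q' * q * n₀⁻¹ * q⁻¹) * (v i)⁻¹ := by group
          rw [h15, h11]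
          group
      exact mul_inv_eq_iff_eq_mul.1 h8
  · -- tr
    intro x hx hxM q
    rw [mem_subgroupOf] at hx
    obtain ⟨q, hq, rfl⟩ := k.surj q
    rw [k.act x _ hq]
    -- `x` centralises `N_i`
    have h1 : (x : G) ∈ centralizer (NU V v i : Set G) := by
      rw [mem_centralizer_iff]
      intro e he
      have heE := D.N_le_E i he
      rcases act_or D hij hN hx heE with h | h
      · exact (mul_inv_eq_iff_eq_mul.1 h).symm
      · exfalso
        have h2 := hxM (p e)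
        rw [s.act x _ heE, h, s.mul _ (D.v_mem_E i _) _ heE] at h2
        exact d.v0 (by simpa using h2)
    have h2 : (x : G) ∈ QQ v i := f3' D i (D.W_le_Q (i + 1) hx) h1
    rw [k.mul _ (mul_mem h2 hq) _ (inv_mem h2), k.mul _ h2 _ hq, k.inv h2]
    abel
  · -- αT
    intro t ht q
    rw [mem_subgroupOf] at ht
    obtain ⟨q, hq, rfl⟩ := k.surj q
    rw [k.act t _ hq, hα _ (hQn _ t.2 _ hq), hα _ hq]
    obtain ⟨h1, h2⟩ := hPinv t (D.T_le_P _ ht)
    exact hinv t h1 h2 q hq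
  · -- αL
    intro t ht q
    rw [mem_subgroupOf] at ht
    obtain ⟨q, hq, rfl⟩ := k.surj q
    rw [k.act t _ hq, hα _ (hQn _ t.2 _ hq), hα _ hq]
    obtain ⟨h1, h2⟩ := hPinv t ht
    exact hinv t h1 h2 q hq
  · -- αn
    rw [hα _ hn₀Q, hf0]
    have := (mem_centralizer_iff.1 (D.N_comm (i + 1) (V_le_N' D i haV))) n₀ hn₀
    rw [← this, mul_inv_cancel_right]
  · -- αne
    by_contra hcon
    push Not at hcon
    apply hn₀'
    -- `W_i` centralises `n₀`
    have h1 : WU V v i ≤ centralizer ({n₀} : Set G) := by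
      refine V_le fun c hc => ?_
      intro x hx
      rw [mem_conj] at hx
      have h2 := hcon (⟨c⁻¹, inv_mem hc⟩ : CC v i)
      rw [actK _ (inv_mem hc) _ hn₀Q, hα _ (hQn _ (inv_mem hc) _ hn₀Q), hf0] at h2
      have h3 : a * (c⁻¹ * n₀ * c) = (c⁻¹ * n₀ * c) * a := by
        rw [inv_inv] at h2
        exact mul_inv_eq_iff_eq_mul.1 h2
      -- `c⁻¹ x c` commutes with `c⁻¹ n₀ c`
      have h4 : (c⁻¹ * x * c) * (c⁻¹ * n₀ * c) = (c⁻¹ * n₀ * c) * (c⁻¹ * x * c) := by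
        have hm : c⁻¹ * n₀ * c ∈ QQ v i := by
          have := hQn _ (inv_mem hc) _ hn₀Q
          rwa [inv_inv] at this
        have hv := hvC _ (hQC _ hm)
        by_cases hx1 : c⁻¹ * x * c = 1
        · rw [hx1, one_mul, mul_one]
        rcases D.eq_of_V haV ha1 (D.mem i) (D.ne i) hav hx hx1 with h | h | h
        · rw [h, h3]
        · rw [h, hv]
        · rw [h, mul_assoc, ← hv, ← mul_assoc, h3, mul_assoc]
      rw [mem_centralizer_singleton_iff]
      have e1 : x * n₀ = c * ((c⁻¹ * x * c) * (c⁻¹ * n₀ * c)) * c⁻¹ := by group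
      have e2 : n₀ * x = c * ((c⁻¹ * n₀ * c) * (c⁻¹ * x * c)) * c⁻¹ := by group
      rw [e1, e2, h4]
    rw [mem_centralizer_iff]
    intro w hw
    exact mem_centralizer_singleton_iff.1 (h1 hw)

end Cfsg.Agent.Omega.TC.DOne

end

section


/-!
# Relative Gaschuetz: invariant complements

* `exists_proj` : `R` an `H`-submodule of the `F_2 H`-module `M`, `A` an `S`-invariant complement, `|H : S|` odd: there
  is an `H`-equivariant projection of `M` onto `R`;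
* `exists_X` : the same in a section `E / b` of a group.
-/

set_option autoImplicit false
set_option linter.unusedSectionVars false

namespace Cfsg.Agent.Omega.TCQ.R

open Subgroup
open scoped Pointwise

universe u

theorem exists_proj {H : Type*} [Group H] [Finite H] {M : Type*} [AddCommGroup M] [DistribMulAction H M]
    (h2 : ∀ m : M, m + m = 0) (S : Subgroup H) (hodd : Odd S.index) (R A : AddSubgroup M)
    (hR : ∀ h : H, ∀ r ∈ R, h • r ∈ R) (hA : ∀ s ∈ S, ∀ a ∈ A, s • a ∈ A) (h0 : ∀ m ∈ R, m ∈ A → m = 0)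
    (hd : ∀ m : M, ∃ r ∈ R, m - r ∈ A) :
    ∃ π : M →+ M, (∀ m, π m ∈ R) ∧ (∀ r ∈ R, π r = r) ∧ ∀ (h : H) (m : M), π (h • m) = h • π m := by
  classical
  choose q hqR hqA using hd
  have huniq : ∀ m r, r ∈ R → m - r ∈ A → r = q m := by
    intro m r hr h
    have h1 : r - q m = 0 := by
      refine h0 _ (sub_mem hr (hqR m)) ?_
      have e : r - q m = (m - q m) - (m - r) := by abel
      rw [e]
      exact sub_mem (hqA m) h
    exact sub_eq_zero.1 h1
  have hqadd : ∀ m n, q (m + n) = q m + q n := by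
    intro m n
    refine (huniq _ _ (add_mem (hqR m) (hqR n)) ?_).symm
    have e : m + n - (q m + q n) = (m - q m) + (n - q n) := by abel
    rw [e]
    exact add_mem (hqA m) (hqA n)
  have hqR' : ∀ r ∈ R, q r = r := fun r hr => (huniq r r hr (by rw [sub_self]; exact zero_mem _)).symm
  have hqS : ∀ s ∈ S, ∀ m, q (s • m) = s • q m := by
    intro s hs m
    refine (huniq _ _ (hR s _ (hqR m)) ?_).symm
    rw [← smul_sub]
    exact hA s hs _ (hqA m)
  let Q := H ⧸ S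
  have : Fintype Q := Fintype.ofFinite Q
  let F : M → Q → M := fun m => Quotient.lift (fun a : H => a • q (a⁻¹ • m)) (by
    intro a b hab
    have hab' : a⁻¹ * b ∈ S := QuotientGroup.leftRel_apply.1 hab
    have h1 := hqS _ (inv_mem hab') (a⁻¹ • m)
    have e1 : (a⁻¹ * b)⁻¹ • a⁻¹ • m = b⁻¹ • m := by
      rw [smul_smul]; congr 1; group
    rw [e1] at h1
    change a • q (a⁻¹ • m) = b • q (b⁻¹ • m)
    rw [h1, smul_smul]
    congr 1
    group)
  have hF : ∀ (m : M) (a : H), F m (QuotientGroup.mk a) = a • q (a⁻¹ • m) := fun m a => rfl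
  have hFadd : ∀ (m n : M) (x : Q), F (m + n) x = F m x + F n x := by
    intro m n x
    induction x using QuotientGroup.induction_on with
    | H a => rw [hF, hF, hF, smul_add, hqadd, smul_add]
  have hcard : Odd (Fintype.card Q) := by
    rw [← Nat.card_eq_fintype_card]; exact hodd
  let P : M → M := fun m => ∑ x : Q, F m x
  have hPadd : ∀ m n, P (m + n) = P m + P n := by
    intro m n
    change ∑ x : Q, F (m + n) x = (∑ x : Q, F m x) + ∑ x : Q, F n x
    rw [← Finset.sum_add_distrib]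
    exact Finset.sum_congr rfl fun x _ => hFadd m n x
  refine ⟨AddMonoidHom.mk' P hPadd, fun m => ?_, fun r hr => ?_, fun h m => ?_⟩
  · refine AddSubgroup.sum_mem _ fun x _ => ?_
    induction x using QuotientGroup.induction_on with
    | H a => rw [hF]; exact hR a _ (hqR _)
  · have h1 : ∀ x : Q, F r x = r := by
      intro x
      induction x using QuotientGroup.induction_on with
      | H a => rw [hF, hqR' _ (hR _ _ hr), smul_inv_smul]
    change ∑ x : Q, F r x = r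
    rw [Finset.sum_congr rfl fun x _ => h1 x, Finset.sum_const, Finset.card_univ]
    obtain ⟨k, hk⟩ := hcard
    rw [hk, add_smul, mul_comm, mul_smul, two_smul, h2, smul_zero, zero_add, one_smul]
  · have h1 : ∀ x : Q, F (h • m) (h • x) = h • F m x := by
      intro x
      induction x using QuotientGroup.induction_on with
      | H a =>
        change F (h • m) (QuotientGroup.mk (h * a)) = _
        rw [hF, hF, mul_inv_rev, mul_smul, mul_smul, inv_smul_smul]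
    change ∑ x : Q, F (h • m) x = h • ∑ x : Q, F m x
    rw [Finset.smul_sum, ← Equiv.sum_comp (MulAction.toPerm h : Equiv.Perm Q)]
    exact Finset.sum_congr rfl fun x _ => h1 x

/-- **Relative Gaschuetz in a section.** `E` elementary abelian, `b ≤ N ∩ l`, `E = l N`, `l ∩ N = b`, `H` normalises
`E`, `N`, `b`, and a subgroup `T` of odd index of `H` normalises `l`: `N / b` has an `H`-invariant complement `X / b`. -/
theorem exists_X {G : Type u} [Group G] [Finite G] {E N l b H T : Subgroup G}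
    (hcomm : ∀ x ∈ E, ∀ y ∈ E, x * y = y * x) (hsq : ∀ x ∈ E, x ^ 2 = 1) (hbN : b ≤ N) (hNE : N ≤ E) (hlE : l ≤ E)
    (hinf : ∀ x ∈ l, x ∈ N → x ∈ b) (hE : ∀ x ∈ E, ∃ v ∈ l, ∃ n ∈ N, x = v * n)
    (hHE : H ≤ normalizer (E : Set G)) (hHN : H ≤ normalizer (N : Set G)) (hHb : H ≤ normalizer (b : Set G))
    (hTl : T ≤ normalizer (l : Set G)) (hodd : Odd (T.relIndex H)) :
    ∃ X : Subgroup G, b ≤ X ∧ (∀ x ∈ X, x ∈ N → x ∈ b) ∧ X ≤ E ∧ (∀ v ∈ l, ∃ n ∈ N, v * n ∈ X) ∧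
      H ≤ normalizer (X : Set G) := by
  have hbE := hbN.trans hNE
  obtain ⟨M, _, _, p, s⟩ := TC.DOne.exists_sec (E := E) (Z := b) (H := H)
    (fun x hx y hy => by rw [hcomm x hx y hy, mul_inv_cancel_right, mul_inv_cancel]; exact one_mem _)
    (fun e he => by
      rw [mem_normalizer_iff]
      intro x
      constructor
      · intro hx
        rw [hcomm e he x (hbE hx), mul_inv_cancel_right]; exact hx
      · intro hx
        have h1 := hcomm e he _ (hbE hx)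
        have e1 : x = e⁻¹ * (e * x * e⁻¹) * e := by group
        have h2 : e⁻¹ * (e * x * e⁻¹) * e = e * x * e⁻¹ := by
          rw [mul_assoc, ← h1]; group
        rw [e1, h2]; exact hx) hHE hHb
  have h2 : ∀ m : M, m + m = 0 := s.add_self fun x hx => by
    rw [← pow_two, hsq x hx]; exact one_mem _
  have hodd' : Odd (T.subgroupOf H).index := hodd
  obtain ⟨π, hπR, hπr, hπH⟩ := exists_proj (H := H) h2 (T.subgroupOf H) hodd' (s.im N hNE) (s.im l hlE)
    (by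
      rintro h _ ⟨x, hx, rfl⟩
      refine ⟨h * x * (h : G)⁻¹, (mem_normalizer_iff.1 (hHN h.2) x).1 hx, ?_⟩
      rw [s.act h _ (hNE hx)])
    (by
      rintro h hh _ ⟨x, hx, rfl⟩
      refine ⟨h * x * (h : G)⁻¹, (mem_normalizer_iff.1 (hTl hh) x).1 hx, ?_⟩
      rw [s.act h _ (hlE hx)])
    (by
      rintro _ ⟨x, hx, rfl⟩ ⟨y, hy, e⟩
      rw [s.ker _ (hNE hx)]
      rw [s.eq_iff (hlE hy) (hNE hx)] at e
      have h3 : y ∈ N := by
        have := mul_mem (hbN e) hx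
        rwa [inv_mul_cancel_right] at this
      have h4 := hinf y hy h3
      have h5 := mul_mem (inv_mem e) h4
      have e2 : (y * x⁻¹)⁻¹ * y = x := by group
      rwa [e2] at h5)
    (by
      intro m
      obtain ⟨x, hx, rfl⟩ := s.surj m
      obtain ⟨v, hv, n, hn, rfl⟩ := hE x hx
      refine ⟨p n, ⟨n, hn, rfl⟩, ⟨v, hv, ?_⟩⟩
      rw [s.mul _ (hlE hv) _ (hNE hn)]; abel)
  refine ⟨{ carrier := {x | x ∈ E ∧ π (p x) = 0}
            one_mem' := ⟨one_mem _, by rw [s.one, map_zero]⟩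
            mul_mem' := by
              rintro x y ⟨hx, hx'⟩ ⟨hy, hy'⟩
              exact ⟨mul_mem hx hy, by rw [s.mul _ hx _ hy, map_add, hx', hy', add_zero]⟩
            inv_mem' := by
              rintro x ⟨hx, hx'⟩
              exact ⟨inv_mem hx, by rw [s.inv hx, map_neg, hx', neg_zero]⟩ }, ?_, ?_, ?_, ?_, ?_⟩
  · intro x hx
    exact ⟨hbE hx, by rw [(s.ker _ (hbE hx)).2 hx, map_zero]⟩
  · rintro x ⟨hx, hx'⟩ hxN
    rw [hπr _ ⟨x, hxN, rfl⟩] at hx'
    exact (s.ker _ hx).1 hx'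
  · exact fun x hx => hx.1
  · intro v hv
    obtain ⟨n, hn, e⟩ := hπR (p v)
    refine ⟨n⁻¹, inv_mem hn, mul_mem (hlE hv) (inv_mem (hNE hn)), ?_⟩
    rw [s.mul _ (hlE hv) _ (inv_mem (hNE hn)), s.inv (hNE hn), map_add, map_neg, e, hπr _ (hπR _), add_neg_cancel]
  · intro h hh
    rw [mem_normalizer_iff]
    intro x
    have key : ∀ g ∈ H, ∀ x : G, x ∈ E ∧ π (p x) = 0 → g * x * g⁻¹ ∈ E ∧ π (p (g * x * g⁻¹)) = 0 := by
      rintro g hg x ⟨hx, hx'⟩
      refine ⟨(mem_normalizer_iff.1 (hHE hg) x).1 hx, ?_⟩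
      have h3 := s.act ⟨g, hg⟩ x hx
      have h4 : p (g * x * g⁻¹) = (⟨g, hg⟩ : H) • p x := h3.symm
      rw [h4, hπH, hx', smul_zero]
    constructor
    · exact key h hh x
    · intro hx
      have h3 := key h⁻¹ (inv_mem hh) _ hx
      have e : h⁻¹ * (h * x * h⁻¹) * h⁻¹⁻¹ = x := by group
      rwa [e] at h3

end Cfsg.Agent.Omega.TCQ.R

end
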