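import Cfsg.Agent.Mrg.Omega.TC.No
import Cfsg.Agent.Mrg.Omega.OM.KTwo.LemX
import Cfsg.Agent.Mrg.Omega.TC.ThmI
import Cfsg.Agent.Mrg.Omega.TC.Crit
import Cfsg.Agent.Mrg.Omega.TC.Int
import Cfsg.Agent.Mrg.Omega.NO3S.EThree.ExactB

section


/-!
# Ranks: `AA(O₂(D))` is exact (609 R6 #20647 (1); helper788 #21952 (0), (1); helper254 #21690 (1))

`O = o2 (centralizer (zc T)) = O₂(D)`. No swap, no hypothesis on `J(T)`.
* `thompson`, `swap_mem` : Thompson's replacement count, abstract;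
* `Fr.ex_AA` : every `A ∈ AA(O)` is exact on `N_i`;
* `Fr.sharp_mem` : `C_A(N_i) N_i ∈ AA(O)`, `Fr.sharp_mem_Q` : `∈ AA(Q_i)`; `Fr.mm_Q` : `r(Q_i) = r(O)`; `Fr.AA_Q_le` : `AA(Q_i) ⊆ AA(O)`;
* `Fr.exZ_AA`, `Fr.sharpZ_mem` : the same for `Z_i = ZV V v i = ⟨v (i+1) ^ C_G(V i)⟩`;
* `Fr.CZ_ex` : `C_A(Z_i)` is exact on `N_i` (or centralises it), `Fr.CZ_le_o2` : `C_O(Z_i) ∩ N(V i) ∩ C_i ≤ O₂(N_{C_i}(V i))`;
* `Fr.CZ_dich` : if `C_A(Z_i)` centralises `N_i`, then `C_A(Z_i) Z_i = C_A(N_i) N_i`.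
-/

set_option autoImplicit false
set_option linter.unusedSectionVars false
set_option maxHeartbeats 400000

namespace Cfsg.Agent.Omega.TC.Ranks

open Subgroup Cfsg Cfsg.Agent.ZN Cfsg.Agent.Omega.MinPar
open Cfsg.Agent.Omega.OM.KTwo (CC QQ WU NU EU ne_add_one eq_add_one add_one_add_one le_normalizer_V le_V)
open Cfsg.Agent.Omega.NoFF.Basic (conj_conj mem_conj conj_le_iff comm_symm comm_mono Z_le_V V_le)
open Cfsg.Agent.ZN.ChoiceSit (Syl syl_conj syl_not_dvd)
open Cfsg.Agent.ZN.ChoiceBase (AA mm mm_eq mem_AA_iff card_le_mm mm_mono)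
open Cfsg.Agent.PLocal.ElemAbSup (card_sup_mul_card_inf isElementaryAbelian_sup)
open Cfsg.Agent.PLocal.ThompsonJ (isElementaryAbelian_iff)
open Cfsg.Agent.Omega.OM.PG.Int (Ex)
open Cfsg.Agent.Omega.TC.LemZ (ZV card_eq ZV_le v_mem_ZV NH_eq cent_V_le norm_cent norm_inf N_V_le)
open scoped Pointwise commutatorElement

universe u

variable {G : Type u} [Group G]

/-! ### abstract part -/

theorem ea_of {U : Subgroup G} (h2 : ∀ x ∈ U, x ^ 2 = 1) : IsElementaryAbelian 2 U := by
  rw [isElementaryAbelian_iff]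
  refine ⟨fun x hx y hy => ?_, h2⟩
  have h3 := h2 _ (mul_mem hx hy)
  have h4 := h2 x hx
  have h5 := h2 y hy
  rw [pow_two] at h3 h4 h5
  calc x * y = x * (x * y * (x * y)) * y := by rw [h3, mul_one]
    _ = (x * x) * (y * x) * (y * y) := by group
    _ = y * x := by rw [h4, h5, one_mul, mul_one]

theorem sq_of {A : Subgroup G} (h : IsElementaryAbelian 2 A) : ∀ x ∈ A, x ^ 2 = 1 :=
  ((isElementaryAbelian_iff).1 h).2

theorem comm_of {A : Subgroup G} (h : IsElementaryAbelian 2 A) : A ≤ centralizer (A : Set G) := by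
  intro x hx
  rw [mem_centralizer_iff]
  intro y hy
  exact ((isElementaryAbelian_iff).1 h).1 y hy x hx

theorem ea_mono {A B : Subgroup G} (h : IsElementaryAbelian 2 A) (hB : B ≤ A) : IsElementaryAbelian 2 B :=
  ea_of fun x hx => sq_of h x (hB hx)

section

variable [Finite G] {O A U : Subgroup G}

/-- `C_U(A) ≤ A` for `A ∈ AA(O)` -/
theorem inf_cent_le (hA : A ∈ AA O) (hU2 : ∀ x ∈ U, x ^ 2 = 1) (hUO : U ≤ O) :
    U ⊓ centralizer (A : Set G) ≤ A := by
  have h1 : IsElementaryAbelian 2 (A ⊔ (U ⊓ centralizer (A : Set G)) : Subgroup G) :=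
    isElementaryAbelian_sup hA.1 (ea_of fun x hx => hU2 x hx.1) inf_le_right
  have h2 := hA.2.2 _ h1 (sup_le hA.2.1 (inf_le_left.trans hUO))
  have h3 : A = A ⊔ (U ⊓ centralizer (A : Set G)) := Subgroup.eq_of_le_of_card_ge le_sup_left h2
  calc U ⊓ centralizer (A : Set G) ≤ A ⊔ (U ⊓ centralizer (A : Set G)) := le_sup_right
    _ = A := h3.symm

theorem inf_eq (hA : A ∈ AA O) (hU2 : ∀ x ∈ U, x ^ 2 = 1) (hUO : U ≤ O) :
    A ⊓ centralizer (U : Set G) ⊓ U = U ⊓ centralizer (A : Set G) := by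
  have hUc : U ≤ centralizer (U : Set G) := comm_of (ea_of hU2)
  have hAc : A ≤ centralizer (A : Set G) := comm_of hA.1
  apply le_antisymm
  · exact le_inf inf_le_right ((inf_le_left.trans inf_le_left).trans hAc)
  · exact le_inf (le_inf (inf_cent_le hA hU2 hUO) (inf_le_left.trans hUc)) inf_le_left

theorem sharp_ea (hA : A ∈ AA O) (hU2 : ∀ x ∈ U, x ^ 2 = 1) :
    IsElementaryAbelian 2 (A ⊓ centralizer (U : Set G) ⊔ U : Subgroup G) :=
  isElementaryAbelian_sup (ea_mono hA.1 inf_le_left) (ea_of hU2) (comm_symm inf_le_right)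

theorem sharp_card (hA : A ∈ AA O) (hU2 : ∀ x ∈ U, x ^ 2 = 1) (hUO : U ≤ O) :
    Nat.card (A ⊓ centralizer (U : Set G) ⊔ U : Subgroup G) =
      Nat.card (A ⊓ centralizer (U : Set G) : Subgroup G) * (centralizer (A : Set G)).relIndex U := by
  have h1 := card_sup_mul_card_inf (A := A ⊓ centralizer (U : Set G)) (B := U) (comm_symm inf_le_right)
  rw [inf_eq hA hU2 hUO, card_eq U (centralizer (A : Set G))] at h1
  have hpos : 0 < Nat.card (U ⊓ centralizer (A : Set G) : Subgroup G) := Nat.card_pos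
  apply Nat.eq_of_mul_eq_mul_right hpos
  rw [h1]; ring

/-- Thompson: `|U : C_U(A)| ≤ |A : C_A(U)|` -/
theorem thompson (hA : A ∈ AA O) (hU2 : ∀ x ∈ U, x ^ 2 = 1) (hUO : U ≤ O) :
    (centralizer (A : Set G)).relIndex U ≤ (centralizer (U : Set G)).relIndex A := by
  have h1 := hA.2.2 _ (sharp_ea hA hU2) (sup_le (inf_le_left.trans hA.2.1) hUO)
  rw [sharp_card hA hU2 hUO, card_eq A (centralizer (U : Set G))] at h1
  have hpos : 0 < Nat.card (A ⊓ centralizer (U : Set G) : Subgroup G) := Nat.card_pos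
  exact Nat.le_of_mul_le_mul_left h1 hpos

/-- exactness on `U` ⟹ `C_A(U) U ∈ AA(O)` -/
theorem swap_mem (hA : A ∈ AA O) (hU2 : ∀ x ∈ U, x ^ 2 = 1) (hUO : U ≤ O)
    (hno : (centralizer (U : Set G)).relIndex A ≤ (centralizer (A : Set G)).relIndex U) :
    A ⊓ centralizer (U : Set G) ⊔ U ∈ AA O := by
  refine ⟨sharp_ea hA hU2, sup_le (inf_le_left.trans hA.2.1) hUO, fun B hB hBO => ?_⟩
  refine (hA.2.2 B hB hBO).trans ?_
  rw [sharp_card hA hU2 hUO, card_eq A (centralizer (U : Set G))]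
  exact Nat.mul_le_mul_left _ hno

end

end Cfsg.Agent.Omega.TC.Ranks

namespace Cfsg.Agent.Omega.TC.Fr

open Subgroup Cfsg Cfsg.Agent.ZN Cfsg.Agent.Omega.MinPar
open Cfsg.Agent.Omega.OM.KTwo (CC QQ WU NU EU ne_add_one eq_add_one add_one_add_one le_normalizer_V le_V)
open Cfsg.Agent.Omega.NoFF.Basic (conj_conj mem_conj conj_le_iff comm_symm comm_mono Z_le_V V_le)
open Cfsg.Agent.ZN.ChoiceSit (Syl syl_conj syl_not_dvd)
open Cfsg.Agent.ZN.ChoiceBase (AA mm mm_eq mem_AA_iff card_le_mm mm_mono)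
open Cfsg.Agent.PLocal.ElemAbSup (card_sup_mul_card_inf isElementaryAbelian_sup)
open Cfsg.Agent.PLocal.ThompsonJ (isElementaryAbelian_iff)
open Cfsg.Agent.Omega.OM.PG.Int (Ex)
open Cfsg.Agent.Omega.TC.LemZ (ZV card_eq ZV_le v_mem_ZV NH_eq cent_V_le norm_cent norm_inf N_V_le)
open Cfsg.Agent.Omega.TC.Ranks
open scoped Pointwise commutatorElement

universe u

variable {G : Type u} [Group G]

variable [Finite G] {T : Subgroup G} {V P : Fin 2 → Subgroup G} {v : Fin 2 → G} (D : Fr T V P v)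

include D

/-- **R6 (1)**: `A ∈ AA(O₂(D))` is exact on `N_i` -/
theorem ex_AA (hML : ML.Final.MLK.{u, u}) {i : Fin 2} (hK : IsKGroup (CC v i)) {A : Subgroup G}
    (hA : A ∈ AA (o2 (centralizer (zc T : Set G)))) : Ex A (NU V v i) :=
  le_antisymm (D.no_N hML hK hA.2.1 (sq_of hA.1)) (thompson hA (D.N_sq i) (D.N_le_oD i))

/-- `C_A(N_i) N_i ∈ AA(O₂(D))` -/
theorem sharp_mem (hML : ML.Final.MLK.{u, u}) {i : Fin 2} (hK : IsKGroup (CC v i)) {A : Subgroup G}
    (hA : A ∈ AA (o2 (centralizer (zc T : Set G)))) :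
    A ⊓ centralizer (NU V v i : Set G) ⊔ NU V v i ∈ AA (o2 (centralizer (zc T : Set G))) :=
  swap_mem hA (D.N_sq i) (D.N_le_oD i) (D.no_N hML hK hA.2.1 (sq_of hA.1))

theorem inf_cent_N_le_Q (i : Fin 2) {A : Subgroup G} (hA : A ≤ o2 (centralizer (zc T : Set G))) :
    A ⊓ centralizer (NU V v i : Set G) ≤ QQ v i := (inf_le_inf_right _ hA).trans (D.f3 i)

theorem sharp_le_Q (i : Fin 2) {A : Subgroup G} (hA : A ≤ o2 (centralizer (zc T : Set G))) :
    A ⊓ centralizer (NU V v i : Set G) ⊔ NU V v i ≤ QQ v i :=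
  sup_le (D.inf_cent_N_le_Q i hA) (D.N_le_Q i)

/-- `r(Q_i) = r(O₂(D))` -/
theorem mm_Q (hML : ML.Final.MLK.{u, u}) {i : Fin 2} (hK : IsKGroup (CC v i)) :
    mm (QQ v i) = mm (o2 (centralizer (zc T : Set G))) := by
  refine le_antisymm (mm_mono (D.Q_le_o2D i)) ?_
  obtain ⟨A, hA⟩ := ChoiceBase.AA_nonempty (o2 (centralizer (zc T : Set G)))
  have h := D.sharp_mem hML hK hA
  rw [mm_eq h]
  exact card_le_mm h.1 (D.sharp_le_Q i hA.2.1)

/-- `AA(Q_i) ⊆ AA(O₂(D))` -/
theorem AA_Q_le (hML : ML.Final.MLK.{u, u}) {i : Fin 2} (hK : IsKGroup (CC v i)) {A : Subgroup G}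
    (hA : A ∈ AA (QQ v i)) : A ∈ AA (o2 (centralizer (zc T : Set G))) := by
  rw [mem_AA_iff] at hA ⊢
  exact ⟨hA.1, hA.2.1.trans (D.Q_le_o2D i), (D.mm_Q hML hK) ▸ hA.2.2⟩

/-- a member of `AA(O₂(D))` inside `Q_i` is a member of `AA(Q_i)` -/
theorem AA_Q_of (i : Fin 2) {A : Subgroup G}
    (hA : A ∈ AA (o2 (centralizer (zc T : Set G)))) (hQ : A ≤ QQ v i) : A ∈ AA (QQ v i) :=
  ⟨hA.1, hQ, fun B hB hBQ => hA.2.2 B hB (hBQ.trans (D.Q_le_o2D i))⟩

/-- `C_A(N_i) N_i ∈ AA(Q_i)` -/
theorem sharp_mem_Q (hML : ML.Final.MLK.{u, u}) {i : Fin 2} (hK : IsKGroup (CC v i)) {A : Subgroup G}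
    (hA : A ∈ AA (o2 (centralizer (zc T : Set G)))) :
    A ⊓ centralizer (NU V v i : Set G) ⊔ NU V v i ∈ AA (QQ v i) :=
  D.AA_Q_of i (D.sharp_mem hML hK hA) (D.sharp_le_Q i hA.2.1)

/-- a member of `AA(O₂(D))` is in `Q_i` iff it centralises `N_i` -/
theorem le_Q_iff (i : Fin 2) {A : Subgroup G} (hA : A ≤ o2 (centralizer (zc T : Set G))) :
    A ≤ QQ v i ↔ A ≤ centralizer (NU V v i : Set G) :=
  ⟨fun h => h.trans (D.Q_le_cent_N i), fun h => (le_inf hA h).trans (D.f3 i)⟩

/-! ### `Z_i` -/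

/-- `H = C_G(V i) T` -/
theorem VT_le (i : Fin 2) : centralizer (V i : Set G) ⊔ T ≤ CC v i := sup_le (cent_V_le D i) (D.T_le_C i)

theorem ZV_sq (i : Fin 2) : ∀ x ∈ ZV V v i, x ^ 2 = 1 := fun x hx => D.N_sq i x (ZV_le D i hx)

theorem ZV_le_oD (i : Fin 2) : ZV V v i ≤ o2 (centralizer (zc T : Set G)) := (ZV_le D i).trans (D.N_le_oD i)

theorem noZ (hML : ML.Final.MLK.{u, u}) {i : Fin 2} (hK : IsKGroup (CC v i)) {A : Subgroup G}
    (hA : A ≤ o2 (centralizer (zc T : Set G))) (hA2 : ∀ a ∈ A, a ^ 2 = 1) :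
    (centralizer (ZV V v i : Set G)).relIndex A ≤ (centralizer (A : Set G)).relIndex (ZV V v i) := by
  have h := D.no_H hML (A := A) hK (le_sup_right : T ≤ centralizer (V i : Set G) ⊔ T) (D.VT_le i) hA
    ((hA.trans D.o2D_le_T).trans le_sup_right) hA2
  rwa [NH_eq D i] at h

/-- `A ∈ AA(O₂(D))` is exact on `Z_i` -/
theorem exZ_AA (hML : ML.Final.MLK.{u, u}) {i : Fin 2} (hK : IsKGroup (CC v i)) {A : Subgroup G}
    (hA : A ∈ AA (o2 (centralizer (zc T : Set G)))) : Ex A (ZV V v i) :=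
  le_antisymm (D.noZ hML hK hA.2.1 (sq_of hA.1)) (thompson hA (D.ZV_sq i) (D.ZV_le_oD i))

/-- `C_A(Z_i) Z_i ∈ AA(O₂(D))` -/
theorem sharpZ_mem (hML : ML.Final.MLK.{u, u}) {i : Fin 2} (hK : IsKGroup (CC v i)) {A : Subgroup G}
    (hA : A ∈ AA (o2 (centralizer (zc T : Set G)))) :
    A ⊓ centralizer (ZV V v i : Set G) ⊔ ZV V v i ∈ AA (o2 (centralizer (zc T : Set G))) :=
  swap_mem hA (D.ZV_sq i) (D.ZV_le_oD i) (D.noZ hML hK hA.2.1 (sq_of hA.1))

/-- **`C_A(Z_i)` is exact on `N_i`** (or centralises it) if `A ≤ O₂(D)` is exact on `N_i`. -/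
theorem CZ_ex (hML : ML.Final.MLK.{u, u}) {i : Fin 2} (hK : IsKGroup (CC v i)) {A : Subgroup G}
    (hA : A ≤ o2 (centralizer (zc T : Set G))) (hA2 : ∀ a ∈ A, a ^ 2 = 1) (hEx : Ex A (NU V v i)) :
    Ex (A ⊓ centralizer (ZV V v i : Set G)) (NU V v i) := by
  set N := NU V v i with hN
  set Z := ZV V v i with hZ
  set B : Subgroup G := A ⊓ centralizer (Z : Set G) with hB
  have hZN : Z ≤ N := ZV_le D i
  have hNc : N ≤ centralizer (N : Set G) := D.N_comm i
  refine le_antisymm (D.no_N hML hK (inf_le_left.trans hA) fun a ha => hA2 a ha.1) ?_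
  -- `|N : C_N(B)| ≤ |N : Z C_N(A)|`
  have h0 : (centralizer (Z : Set G)).relIndex A ≤ (centralizer (A : Set G)).relIndex Z := D.noZ hML hK hA hA2
  have c1 : Nat.card A = Nat.card B * (centralizer (Z : Set G)).relIndex A := card_eq A _
  have c2 : Nat.card A = Nat.card (A ⊓ centralizer (N : Set G) : Subgroup G) * (centralizer (N : Set G)).relIndex A :=
    card_eq A _
  have hBN : B ⊓ centralizer (N : Set G) = A ⊓ centralizer (N : Set G) := by
    apply le_antisymm
    · exact inf_le_inf_right _ inf_le_left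
    · exact le_inf (le_inf inf_le_left (inf_le_right.trans (centralizer_le hZN))) inf_le_right
  have c3 : Nat.card B = Nat.card (A ⊓ centralizer (N : Set G) : Subgroup G) * (centralizer (N : Set G)).relIndex B := by
    rw [← hBN]; exact card_eq B _
  have c4 : Nat.card N = Nat.card (N ⊓ centralizer (A : Set G) : Subgroup G) * (centralizer (A : Set G)).relIndex N :=
    card_eq N _
  have c5 : Nat.card N = Nat.card (N ⊓ centralizer (B : Set G) : Subgroup G) * (centralizer (B : Set G)).relIndex N :=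
    card_eq N _
  -- `Z C_N(A) ≤ C_N(B)`
  have hYZ : N ⊓ centralizer (A : Set G) ≤ centralizer (Z : Set G) := (inf_le_left.trans hNc).trans (centralizer_le hZN)
  have c6 : Nat.card (Z ⊔ (N ⊓ centralizer (A : Set G)) : Subgroup G) =
      (centralizer (A : Set G)).relIndex Z * Nat.card (N ⊓ centralizer (A : Set G) : Subgroup G) := by
    have h4 := card_sup_mul_card_inf hYZ
    have h5 : Z ⊓ (N ⊓ centralizer (A : Set G)) = Z ⊓ centralizer (A : Set G) := by
      rw [← inf_assoc, inf_eq_left.2 hZN]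
    rw [h5] at h4
    have h6 : Nat.card Z = Nat.card (Z ⊓ centralizer (A : Set G) : Subgroup G) * (centralizer (A : Set G)).relIndex Z :=
      card_eq Z _
    have hpos : 0 < Nat.card (Z ⊓ centralizer (A : Set G) : Subgroup G) := Nat.card_pos
    apply Nat.eq_of_mul_eq_mul_right hpos
    rw [h4, h6]; ring
  have hle : Z ⊔ (N ⊓ centralizer (A : Set G)) ≤ N ⊓ centralizer (B : Set G) := by
    refine sup_le (le_inf hZN (comm_symm inf_le_right)) (le_inf inf_le_left ?_)
    exact inf_le_right.trans (centralizer_le inf_le_left)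
  have c7 : (centralizer (A : Set G)).relIndex Z * Nat.card (N ⊓ centralizer (A : Set G) : Subgroup G) ≤
      Nat.card (N ⊓ centralizer (B : Set G) : Subgroup G) := by
    rw [← c6]; exact Subgroup.card_le_of_le hle
  have hex : (centralizer (N : Set G)).relIndex A = (centralizer (A : Set G)).relIndex N := hEx
  generalize (centralizer (Z : Set G)).relIndex A = a at *
  generalize (centralizer (A : Set G)).relIndex Z = b at *
  generalize hr : (centralizer (N : Set G)).relIndex A = r at *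
  generalize hs : (centralizer (N : Set G)).relIndex B = s at *
  generalize ht : (centralizer (B : Set G)).relIndex N = t at *
  generalize (centralizer (A : Set G)).relIndex N = r' at *
  subst hex
  have hx : 0 < Nat.card (A ⊓ centralizer (N : Set G) : Subgroup G) := Nat.card_pos
  have hy : 0 < Nat.card (N ⊓ centralizer (A : Set G) : Subgroup G) := Nat.card_pos
  have hc : 0 < Nat.card (N ⊓ centralizer (B : Set G) : Subgroup G) := Nat.card_pos
  generalize Nat.card (A ⊓ centralizer (N : Set G) : Subgroup G) = x at *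
  generalize Nat.card (N ⊓ centralizer (A : Set G) : Subgroup G) = y at *
  generalize Nat.card (N ⊓ centralizer (B : Set G) : Subgroup G) = c at *
  have hra : r = s * a := by
    apply Nat.eq_of_mul_eq_mul_left hx
    rw [← c2, c1, c3]; ring
  have e1 : y * (s * a) = c * t := by rw [← hra, ← c4, c5]
  -- `c t = y s a ≤ y s b ≤ s c`
  have e2 : c * t ≤ c * s := by
    calc c * t = y * (s * a) := e1.symm
      _ = (a * y) * s := by ring
      _ ≤ (b * y) * s := Nat.mul_le_mul_right _ (Nat.mul_le_mul_right _ h0)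
      _ ≤ c * s := Nat.mul_le_mul_right _ c7
  exact Nat.le_of_mul_le_mul_left e2 hc

theorem CZ_ex_AA (hML : ML.Final.MLK.{u, u}) {i : Fin 2} (hK : IsKGroup (CC v i)) {A : Subgroup G}
    (hA : A ∈ AA (o2 (centralizer (zc T : Set G)))) :
    Ex (A ⊓ centralizer (ZV V v i : Set G)) (NU V v i) :=
  D.CZ_ex hML hK hA.2.1 (sq_of hA.1) (D.ex_AA hML hK hA)

/-- `C_O(Z_i) ∩ N_{C_i}(V i) ≤ O₂(N_{C_i}(V i))` -/
theorem CZ_le_o2 (i : Fin 2) {A : Subgroup G} (hA : A ≤ o2 (centralizer (zc T : Set G))) :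
    A ⊓ centralizer (ZV V v i : Set G) ≤ o2 (normalizer (V i : Set G) ⊓ CC v i) := by
  set H : Subgroup G := normalizer (V i : Set G) ⊓ CC v i with hH
  set O : Subgroup G := o2 (centralizer (zc T : Set G)) with hO
  set K : Subgroup G := H ⊓ centralizer (ZV V v i : Set G) with hKd
  have hHC : H ≤ CC v i := inf_le_right
  have hHN : H ≤ normalizer (ZV V v i : Set G) := inf_le_left.trans (N_V_le D i)
  have hKn : H ≤ normalizer (K : Set G) := norm_inf le_normalizer (norm_cent hHN)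
  have hKD : K ≤ centralizer (zc T : Set G) := by
    intro g hg
    refine (D.mem_D_iff (ne_add_one i)).2 ⟨hHC hg.1, ?_⟩
    exact centralizer_le (Set.singleton_subset_iff.2 (v_mem_ZV D i)) hg.2
  have hTH : T ≤ H := le_inf (D.T_le_N i) (D.T_le_C i)
  have hOK : O ⊓ K ≤ o2 K := by
    refine ZN.le_o2 inf_le_right (D.T_isPGroup.to_le (inf_le_left.trans D.o2D_le_T)) ?_
    exact norm_inf (hKD.trans (le_normalizer_o2 _)) le_normalizer
  have h1 : A ⊓ centralizer (ZV V v i : Set G) ≤ O ⊓ K :=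
    le_inf (inf_le_left.trans hA) (le_inf ((inf_le_left.trans (hA.trans D.o2D_le_T)).trans hTH) inf_le_right)
  exact (h1.trans hOK).trans (TC.o2_le_o2_of_normal inf_le_left hKn)

/-- if `C_A(Z_i)` centralises `N_i` then `C_A(Z_i) Z_i = C_A(N_i) N_i` (`A ∈ AA(O₂(D))`) -/
theorem sharp_eq (hML : ML.Final.MLK.{u, u}) {i : Fin 2} (hK : IsKGroup (CC v i)) {A : Subgroup G}
    (hA : A ∈ AA (o2 (centralizer (zc T : Set G))))
    (h : A ⊓ centralizer (ZV V v i : Set G) ≤ centralizer (NU V v i : Set G)) :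
    A ⊓ centralizer (ZV V v i : Set G) ⊔ ZV V v i = A ⊓ centralizer (NU V v i : Set G) ⊔ NU V v i := by
  have h1 : A ⊓ centralizer (ZV V v i : Set G) ⊔ ZV V v i ≤ A ⊓ centralizer (NU V v i : Set G) ⊔ NU V v i :=
    sup_le_sup (le_inf inf_le_left h) (ZV_le D i)
  refine Subgroup.eq_of_le_of_card_ge h1 ?_
  rw [← mm_eq (D.sharp_mem hML hK hA), ← mm_eq (D.sharpZ_mem hML hK hA)]

theorem cent_eq {i : Fin 2} {A : Subgroup G}
    (h : A ⊓ centralizer (ZV V v i : Set G) ≤ centralizer (NU V v i : Set G)) :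
    A ⊓ centralizer (ZV V v i : Set G) = A ⊓ centralizer (NU V v i : Set G) :=
  le_antisymm (le_inf inf_le_left h) (le_inf inf_le_left (inf_le_right.trans (centralizer_le (ZV_le D i))))

end Cfsg.Agent.Omega.TC.Fr

end

section


/-!
# THEOREM R (bb OMEGA #21425, helper691), part (6): first consequences of (1b)

`D : Fr T V P v`, no swap. `OneB T V v` is (1b) of #21425 for both sides: no `A ∈ AA(O₂(D))` moving `N_i` satisfies
`C_A(N_i) ≤ C(W_i N_i)`.

* `exists_moves` : some `A ∈ AA(O₂(D))` moves `N_0` or `N_1`;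
* `mv` : for both `i` some `A ∈ AA(Q_i)` moves `V i`;
* `fixE` : if some `A ∈ AA(O₂(D))` moves `V i`, then LEMMA FIX `FixE T v i` holds.
-/

set_option autoImplicit false
set_option linter.unusedSectionVars false

namespace Cfsg.Agent.Omega.TC.RSix

open Subgroup Cfsg Cfsg.Agent.ZN Cfsg.Agent.Omega.MinPar
open Cfsg.Agent.Omega.OM.KTwo (CC QQ WU NU EU ne_add_one eq_add_one add_one_add_one le_normalizer_V le_V)
open Cfsg.Agent.Omega.NoFF.Basic (conj_conj mem_conj conj_le_iff comm_symm comm_mono Z_le_V V_le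
  conj_le_centralizer)
open Cfsg.Agent.Omega.NOThreeL.Pair (conj_eq_of_mem)
open Cfsg.Agent.ZN.ChoiceBase (AA cj cj_mono cj_mem_AA AA_nonempty jj_eq_of_jj_le)
open Cfsg.Agent.Omega.NO3S.EThree.ExactA (eab_iff eab_mono eab_sup)
open Cfsg.Agent.Omega.OM.PG.Int (Ex)
open Cfsg.Agent.Omega.TC.DOne (FixE)
open ThmI (kp)
open scoped Pointwise

universe u

variable {G : Type u} [Group G]

/-- **(1b)** of #21425 -/
def OneB (T : Subgroup G) (V : Fin 2 → Subgroup G) (v : Fin 2 → G) : Prop :=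
  ∀ i, ∀ A ∈ AA (o2 (centralizer (zc T : Set G))), ¬ A ≤ centralizer (NU V v i : Set G) →
    ¬ A ⊓ centralizer (NU V v i : Set G) ≤ centralizer ((WU V v i ⊔ NU V v i : Subgroup G) : Set G)

variable [Finite G] {T : Subgroup G} {V P : Fin 2 → Subgroup G} {v : Fin 2 → G} (D : Fr T V P v)

include D

/-- some `A ∈ AA(O₂(D))` moves `N_0` or `N_1` -/
theorem exists_moves : ∃ i, ∃ A ∈ AA (o2 (centralizer (zc T : Set G))), ¬ A ≤ centralizer (NU V v i : Set G) := by
  by_contra hcon
  push Not at hcon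
  set O := o2 (centralizer (zc T : Set G)) with hO
  have h4 : ∀ j, jj O ≤ QQ v j := by
    intro j
    refine le_trans (le_inf (ChoiceBase.jj_le O) ?_) (D.f3 j)
    rw [ChoiceBase.jj_eq]
    exact sSup_le (hcon j)
  have h5 : ∀ j, CC v j ≤ normalizer (jj O : Set G) := by
    intro j
    rw [← jj_eq_of_jj_le (h4 j) (D.Q_le_o2D j)]
    exact (MinSimple.VModule.le_normalizer_o2 _).trans (ChoiceBase.normalizer_le_jj _)
  have h6 := D.nonloc (jj O) ((MinSimple.VModule.o2_isPGroup _).to_le (ChoiceBase.jj_le O)) (h5 0) (h5 1)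
  obtain ⟨A, hA⟩ := AA_nonempty O
  have h8 : v 0 ∈ A := by
    refine Ranks.inf_cent_le hA (D.N_sq 1) (D.N_le_oD 1) ⟨D.mem_N 1, mem_centralizer_iff.2 fun a ha => ?_⟩
    exact D.comm_v 0 (D.o2D_le_T (hA.2.1 ha))
  have h9 := ChoiceBase.le_jj hA h8
  rw [h6, mem_bot] at h9
  exact D.ne 0 h9

/-- (1b) at `i`: a mover of `N_i` gives a member of `AA(Q_i)` which moves `V i` -/
theorem mv_at (hML : ML.Final.MLK.{u, u}) (hK : ∀ i, IsKGroup (CC v i)) (h1b : OneB T V v) {i : Fin 2}
    {A : Subgroup G} (hA : A ∈ AA (o2 (centralizer (zc T : Set G)))) (hm : ¬ A ≤ centralizer (NU V v i : Set G)) :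
    ∃ A' ∈ AA (QQ v i), ¬ A' ≤ centralizer (V i : Set G) := by
  by_contra hcon
  push Not at hcon
  refine h1b i A hA hm ?_
  have hB := D.sharp_mem_Q hML (hK i) hA
  set B := A ⊓ centralizer (NU V v i : Set G) ⊔ NU V v i with hBdef
  have h1 : WU V v i ≤ centralizer (B : Set G) := by
    refine V_le fun c hc => ?_
    have h2 : MulAut.conj c⁻¹ • B ∈ AA (QQ v i) := by
      have h3 := cj_mem_AA c⁻¹ hB
      have h4 : cj c⁻¹ (QQ v i) = QQ v i := D.conj_QQ (inv_mem hc)
      rw [h4] at h3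
      exact h3
    have h3 := comm_symm (hcon _ h2)
    have h4 := conj_le_centralizer (g := c) h3
    rwa [conj_conj, mul_inv_cancel, map_one, one_smul] at h4
  refine comm_symm (sup_le (h1.trans (centralizer_le (le_sup_left : _ ≤ B))) (comm_symm inf_le_right))

/-- for both `i` some `A ∈ AA(Q_i)` moves `V i` -/
theorem mv (hML : ML.Final.MLK.{u, u}) (hK : ∀ i, IsKGroup (CC v i)) (h1b : OneB T V v) (i : Fin 2) :
    ∃ A ∈ AA (QQ v i), ¬ A ≤ centralizer (V i : Set G) := by
  obtain ⟨j, A, hA, hm⟩ := exists_moves D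
  have key : ∀ j, (∃ A ∈ AA (o2 (centralizer (zc T : Set G))), ¬ A ≤ centralizer (NU V v j : Set G)) →
      (∃ A ∈ AA (QQ v j), ¬ A ≤ centralizer (V j : Set G)) ∧
      ∃ A ∈ AA (o2 (centralizer (zc T : Set G))), ¬ A ≤ centralizer (NU V v (j + 1) : Set G) := by
    rintro j ⟨A, hA, hm⟩
    obtain ⟨A', hA', hm'⟩ := mv_at D hML hK h1b hA hm
    refine ⟨⟨A', hA', hm'⟩, A', D.AA_Q_le hML (hK j) hA', fun h => hm' (h.trans (centralizer_le ?_))⟩
    have h1 := D.V_le_N (j + 1)
    rwa [add_one_add_one] at h1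
  obtain ⟨h1, h2⟩ := key j ⟨A, hA, hm⟩
  obtain ⟨h3, -⟩ := key (j + 1) h2
  rcases eq_or_ne i j with h | h
  · rw [h]; exact h1
  · rw [eq_add_one h.symm]; exact h3

theorem c_eq_one {x y : G} : x * y * x⁻¹ * y⁻¹ = 1 ↔ x * y = y * x := by
  rw [mul_inv_eq_one, mul_inv_eq_iff_eq_mul]

/-- LEMMA FIX on `N_i`, from a member of `AA(O₂(D))` which moves `V i` -/
theorem fixN (hML : ML.Final.MLK.{u, u}) (hK : ∀ i, IsKGroup (CC v i)) {i : Fin 2} {A : Subgroup G}
    (hA : A ∈ AA (o2 (centralizer (zc T : Set G)))) (hAV : ¬ A ≤ centralizer (V i : Set G)) {m : G}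
    (hm : m ∈ NU V v i) (hT : ∀ t ∈ T, t * m * t⁻¹ * m⁻¹ ∈ zpowers (v i)) : m ∈ zc T := by
  obtain ⟨j, hij⟩ : ∃ j : Fin 2, i ≠ j := ⟨i + 1, ne_add_one i⟩
  have hj : i + 1 = j := (eq_add_one hij).symm
  set O := o2 (centralizer (zc T : Set G)) with hO
  have hAT : A ≤ T := hA.2.1.trans D.o2D_le_T
  have hAc : ∀ a ∈ A, ∀ b ∈ A, a * b = b * a := fun a ha b hb =>
    (mem_centralizer_iff.1 ((eab_iff.1 hA.1).1 hb) a ha)
  have hA2 : ∀ a ∈ A, a * a = 1 := fun a ha => by rw [← pow_two]; exact (eab_iff.1 hA.1).2 a ha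
  -- step 1
  have hAm : ∀ a ∈ A, a * m = m * a :=
    (D.thmI_exact hML (hK i) (MinSimple.VModule.le_normalizer_o2 _) le_rfl ((D.E_le_Q i).trans (D.Q_le_o2D i))
      hA).2 m (D.N_le_E i hm) fun a ha => hT a (hAT ha)
  -- step 2
  have hmQ : m ∈ QQ v j := by
    refine D.f3 j ⟨D.N_le_oD i hm, ?_⟩
    have hE : Ex (NU V v j) (NU V v i) :=
      le_antisymm (D.no_N hML (hK i) (D.N_le_oD j) (D.N_sq j)) (D.no_N hML (hK j) (D.N_le_oD i) (D.N_sq i))
    refine D.lift (D.noQ_of hML hK) (D.N_eab j) (D.N_le_oD j) hE hm fun b hb => ?_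
    have h1 := inv_mem (hT b (D.N_le_T j hb))
    have e : (b * m * b⁻¹ * m⁻¹)⁻¹ = m * b * m⁻¹ * b⁻¹ := by group
    rwa [e] at h1
  have hm2 : m * m = 1 := by rw [← pow_two]; exact D.N_sq i m hm
  have hmT : m ∈ T := D.N_le_T i hm
  have hmV : ∀ x ∈ V i, x * m = m * x := fun x hx =>
    (mem_centralizer_iff.1 (D.WN_comm i (mem_sup_left (D.V_le_W i hx))) m (mem_sup_right hm)).symm
  -- the element `a`, the vector `w`
  obtain ⟨a, ha, haV⟩ := SetLike.not_le_iff_exists.1 hAV
  have haT := hAT ha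
  have hao : a ∉ o2 (P i) := fun h => haV (by rw [Phi.o2_P D i] at h; exact h.2)
  obtain ⟨w, hw, hw1, hwv⟩ := D.exists_ne_v i
  have haw : a * w * a⁻¹ = w * v i := Phi.moves D haT hao hw hw1 hwv
  obtain ⟨p, hp, -, hpw⟩ := D.tr hij hw hw1
  have hw2 : w * w = 1 := by rw [← pow_two]; exact D.sqV i w hw
  have hwvi : w * v i = v i * w := D.V_comm hw (D.mem i)
  -- `S = O₂(P i) = C_T(V i)`
  have hSm : ∀ {s : G}, s ∈ o2 (P i) ↔ s ∈ T ∧ s ∈ centralizer (V i : Set G) := by
    intro s; rw [Phi.o2_P D i]; exact Iff.rfl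
  have hSP : ∀ g ∈ P i, ∀ s ∈ o2 (P i), g * s * g⁻¹ ∈ o2 (P i) := fun g hg s hs =>
    (mem_normalizer_iff.1 (MinSimple.VModule.le_normalizer_o2 (P i) hg) s).1 hs
  have hPQ : ∀ g ∈ P i, ∀ x ∈ QQ v j, g * x * g⁻¹ ∈ QQ v j := fun g hg x hx =>
    (mem_normalizer_iff.1 (MinSimple.VModule.le_normalizer_o2 _ (D.PC i j hij hg)) x).1 hx
  set x2 := p * m * p⁻¹ with hx2
  set x3 := a * x2 * a⁻¹ with hx3
  have haP : a ∈ P i := D.T_le_P i haT
  have hx2Q : x2 ∈ QQ v j := hPQ p hp m hmQ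
  have hx3Q : x3 ∈ QQ v j := hPQ a haP x2 hx2Q
  have hmS : m ∈ o2 (P i) := hSm.2 ⟨hmT, mem_centralizer_iff.2 hmV⟩
  have hx2S : x2 ∈ o2 (P i) := hSP p hp m hmS
  have hx3S : x3 ∈ o2 (P i) := hSP a haP x2 hx2S
  -- commutators with `S`
  have com2 : ∀ s ∈ o2 (P i), s * x2 * s⁻¹ = x2 ∨ s * x2 * s⁻¹ = w * x2 := by
    intro s hs
    have h1 : p⁻¹ * s * p ∈ o2 (P i) := by
      have := hSP p⁻¹ (inv_mem hp) s hs
      rwa [inv_inv] at this
    have h2 := hT _ (hSm.1 h1).1
    rw [D.thmI_zpowers_v] at h2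
    rcases h2 with h | h
    · left
      have e : s * x2 * s⁻¹ = p * (p⁻¹ * s * p * m * (p⁻¹ * s * p)⁻¹ * m⁻¹) * p⁻¹ * x2 := by
        rw [hx2]; group
      rw [e, h]; group
    · right
      have e : s * x2 * s⁻¹ = p * (p⁻¹ * s * p * m * (p⁻¹ * s * p)⁻¹ * m⁻¹) * p⁻¹ * x2 := by
        rw [hx2]; group
      rw [e, h, hpw]
  have com3 : ∀ s ∈ o2 (P i), s * x3 * s⁻¹ = x3 ∨ s * x3 * s⁻¹ = w * v i * x3 := by
    intro s hs
    have h1 : a⁻¹ * s * a ∈ o2 (P i) := by
      have := hSP a⁻¹ (inv_mem haP) s hs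
      rwa [inv_inv] at this
    have e : s * x3 * s⁻¹ = a * (a⁻¹ * s * a * x2 * (a⁻¹ * s * a)⁻¹) * a⁻¹ := by rw [hx3]; group
    rcases com2 _ h1 with h | h
    · left; rw [e, h]
    · right
      rw [e, h]
      calc a * (w * x2) * a⁻¹ = (a * w * a⁻¹) * (a * x2 * a⁻¹) := by group
        _ = w * v i * x3 := by rw [haw]
  have hwne : w ≠ w * v i := fun h => D.ne i (mul_eq_left.1 h.symm)
  have hwv1 : w * v i ≠ 1 := by
    intro h
    apply hwv
    calc w = w * v i * (v i)⁻¹ := by group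
      _ = (v i)⁻¹ := by rw [h, one_mul]
      _ = v i := inv_eq_of_mul_eq_one_left (D.v_sq i)
  -- `x2`, `x3` commute
  have h23 : x2 * x3 = x3 * x2 := by
    have hS := hx3S
    rcases com2 x3 hx3S with h | h
    · exact (mul_inv_eq_iff_eq_mul.1 h).symm
    · exfalso
      rcases com3 x2 hx2S with h' | h'
      · have e1 : x3 * x2 * x3⁻¹ = x2 := by
          have e2 : x2 * x3 = x3 * x2 := mul_inv_eq_iff_eq_mul.1 h'
          rw [← e2]; group
        rw [e1] at h
        exact hw1 (mul_eq_right.1 h.symm)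
      · have e1 : x3 * x2 = w * x2 * x3 := mul_inv_eq_iff_eq_mul.1 h
        have e2 : x2 * x3 = w * v i * x3 * x2 := mul_inv_eq_iff_eq_mul.1 h'
        have e3 : x3 * x2 = v i * (x3 * x2) := by
          calc x3 * x2 = w * x2 * x3 := e1
            _ = w * (x2 * x3) := by group
            _ = w * (w * v i * x3 * x2) := by rw [e2]
            _ = (w * w) * (v i * (x3 * x2)) := by group
            _ = v i * (x3 * x2) := by rw [hw2, one_mul]
        exact D.ne i (mul_eq_right.1 e3.symm)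
  have hx22 : x2 * x2 = 1 := by
    have e : x2 * x2 = p * (m * m) * p⁻¹ := by rw [hx2]; group
    rw [e, hm2]; group
  have hx32 : x3 * x3 = 1 := by
    have e : x3 * x3 = a * (x2 * x2) * a⁻¹ := by rw [hx3]; group
    rw [e, hx22]; group
  have hcV : ∀ s ∈ o2 (P i), ∀ x ∈ V i, x * s = s * x := fun s hs x hx =>
    mem_centralizer_iff.1 (hSm.1 hs).2 x hx
  -- `F = ⟨x2, x3⟩ V i`
  let F : Subgroup G :=
    { carrier := {y | ∃ x ∈ V i, y = x ∨ y = x2 * x ∨ y = x3 * x ∨ y = x2 * x3 * x}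
      one_mem' := ⟨1, one_mem _, Or.inl rfl⟩
      mul_mem' := by
        rintro y z ⟨x, hx, h⟩ ⟨x', hx', h'⟩
        refine ⟨x * x', mul_mem hx hx', ?_⟩
        have c2 := hcV x2 hx2S x hx
        have c3 := hcV x3 hx3S x hx
        rcases h with h | h | h | h <;> rcases h' with h' | h' | h' | h' <;> rw [h, h']
        · left; rfl
        · right; left; rw [← mul_assoc, c2]; group
        · right; right; left; rw [← mul_assoc, c3]; group
        · right; right; right
          calc x * (x2 * x3 * x') = (x * x2) * x3 * x' := by group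
            _ = x2 * (x * x3) * x' := by rw [c2]; group
            _ = x2 * x3 * (x * x') := by rw [c3]; group
        · right; left; group
        · left
          calc x2 * x * (x2 * x') = x2 * (x * x2) * x' := by group
            _ = (x2 * x2) * (x * x') := by rw [c2]; group
            _ = x * x' := by rw [hx22, one_mul]
        · right; right; right
          calc x2 * x * (x3 * x') = x2 * (x * x3) * x' := by group
            _ = x2 * x3 * (x * x') := by rw [c3]; group
        · right; right; left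
          calc x2 * x * (x2 * x3 * x') = x2 * (x * x2) * x3 * x' := by group
            _ = (x2 * x2) * (x * x3) * x' := by rw [c2]; group
            _ = x3 * (x * x') := by rw [c3, hx22]; group
        · right; right; left; group
        · right; right; right
          calc x3 * x * (x2 * x') = x3 * (x * x2) * x' := by group
            _ = (x3 * x2) * (x * x') := by rw [c2]; group
            _ = x2 * x3 * (x * x') := by rw [← h23]
        · left
          calc x3 * x * (x3 * x') = x3 * (x * x3) * x' := by group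
            _ = (x3 * x3) * (x * x') := by rw [c3]; group
            _ = x * x' := by rw [hx32, one_mul]
        · right; left
          calc x3 * x * (x2 * x3 * x') = x3 * (x * x2) * x3 * x' := by group
            _ = (x3 * x2) * (x * x3) * x' := by rw [c2]; group
            _ = (x2 * x3) * (x3 * x) * x' := by rw [c3, ← h23]
            _ = x2 * (x3 * x3) * (x * x') := by group
            _ = x2 * (x * x') := by rw [hx32, mul_one]
        · right; right; right; group
        · right; right; left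
          calc x2 * x3 * x * (x2 * x') = x2 * x3 * (x * x2) * x' := by group
            _ = x2 * (x3 * x2) * (x * x') := by rw [c2]; group
            _ = x2 * (x2 * x3) * (x * x') := by rw [← h23]
            _ = (x2 * x2) * x3 * (x * x') := by group
            _ = x3 * (x * x') := by rw [hx22, one_mul]
        · right; left
          calc x2 * x3 * x * (x3 * x') = x2 * x3 * (x * x3) * x' := by group
            _ = x2 * (x3 * x3) * (x * x') := by rw [c3]; group
            _ = x2 * (x * x') := by rw [hx32, mul_one]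
        · left
          calc x2 * x3 * x * (x2 * x3 * x') = x2 * x3 * (x * x2) * x3 * x' := by group
            _ = x2 * (x3 * x2) * (x * x3) * x' := by rw [c2]; group
            _ = x2 * (x2 * x3) * (x3 * x) * x' := by rw [c3, ← h23]
            _ = (x2 * x2) * (x3 * x3) * (x * x') := by group
            _ = x * x' := by rw [hx22, hx32, one_mul, one_mul]
      inv_mem' := by
        rintro y ⟨x, hx, h⟩
        refine ⟨x⁻¹, inv_mem hx, ?_⟩
        have i2 : x2⁻¹ = x2 := inv_eq_of_mul_eq_one_left hx22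
        have i3 : x3⁻¹ = x3 := inv_eq_of_mul_eq_one_left hx32
        have d2 : x⁻¹ * x2 = x2 * x⁻¹ := hcV x2 hx2S _ (inv_mem hx)
        have d3 : x⁻¹ * x3 = x3 * x⁻¹ := hcV x3 hx3S _ (inv_mem hx)
        rcases h with h | h | h | h
        · left; rw [h]
        · right; left; rw [h, mul_inv_rev, i2, d2]
        · right; right; left; rw [h, mul_inv_rev, i3, d3]
        · right; right; right
          rw [h, mul_inv_rev, mul_inv_rev, i2, i3, ← mul_assoc, d3, mul_assoc, d2, ← mul_assoc, h23] }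
  have hVF : V i ≤ F := fun x hx => ⟨x, hx, Or.inl rfl⟩
  have h2F : x2 ∈ F := ⟨1, one_mem _, Or.inr (Or.inl (mul_one _).symm)⟩
  have h3F : x3 ∈ F := ⟨1, one_mem _, Or.inr (Or.inr (Or.inl (mul_one _).symm))⟩
  have hVQ : V i ≤ QQ v j := by
    have h1 := (D.V_le_N j).trans (D.N_le_Q j)
    rwa [← eq_add_one hij.symm] at h1
  have hFQ : F ≤ QQ v j := by
    rintro y ⟨x, hx, h⟩
    have h1 := hVQ hx
    rcases h with rfl | rfl | rfl | rfl
    · exact h1
    · exact mul_mem hx2Q h1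
    · exact mul_mem hx3Q h1
    · exact mul_mem (mul_mem hx2Q hx3Q) h1
  have hFO : F ≤ O := hFQ.trans (D.Q_le_o2D j)
  have hF2 : ∀ y ∈ F, y ^ 2 = 1 := by
    rintro y ⟨x, hx, h⟩
    have c2 := hcV x2 hx2S x hx
    have c3 := hcV x3 hx3S x hx
    have x22 : x * x = 1 := by rw [← pow_two]; exact D.sqV i x hx
    rw [pow_two]
    rcases h with h | h | h | h
    · rw [h]; exact x22
    · rw [h]
      calc x2 * x * (x2 * x) = x2 * (x * x2) * x := by group
        _ = (x2 * x2) * (x * x) := by rw [c2]; group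
        _ = 1 := by rw [hx22, x22, one_mul]
    · rw [h]
      calc x3 * x * (x3 * x) = x3 * (x * x3) * x := by group
        _ = (x3 * x3) * (x * x) := by rw [c3]; group
        _ = 1 := by rw [hx32, x22, one_mul]
    · rw [h]
      calc x2 * x3 * x * (x2 * x3 * x) = x2 * x3 * (x * x2) * x3 * x := by group
        _ = x2 * (x3 * x2) * (x * x3) * x := by rw [c2]; group
        _ = x2 * (x2 * x3) * (x3 * x) * x := by rw [c3, ← h23]
        _ = (x2 * x2) * (x3 * x3) * (x * x) := by group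
        _ = 1 := by rw [hx22, hx32, x22, one_mul, one_mul]
  -- Thompson
  have hTh : (centralizer (A : Set G)).relIndex F ≤ (centralizer (F : Set G)).relIndex A :=
    Ranks.thompson hA hF2 hFO
  have hmemC : ∀ {x : G}, x ∈ centralizer (A : Set G) ↔ ∀ b ∈ A, b * x = x * b := fun {x} => by
    rw [mem_centralizer_iff]; rfl
  have hwA : w ∉ centralizer (A : Set G) := by
    intro h
    have h1 := hmemC.1 h a ha
    have h2 : a * w * a⁻¹ = w := by rw [h1]; group
    exact hwne (h2.symm.trans haw)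
  -- `A₀ = A ∩ O₂(P i)`
  have hA0 : (o2 (P i)).relIndex A ≤ 2 := ThmI.rel_le_two fun x hx y hy hx' hy' =>
    Phi.mul_mem_o2 D (hAT hx) hx' (hAT hy) hy'
  have hcF : ∀ {b : G}, b ∈ o2 (P i) → b * x2 = x2 * b → b * x3 = x3 * b → b ∈ centralizer (F : Set G) := by
    intro b hb h2 h3
    refine mem_centralizer_iff.2 ?_
    rintro y ⟨x, hx, h⟩
    have hb' := hcV b hb x hx
    rcases h with rfl | rfl | rfl | rfl
    · exact hb'
    · calc x2 * x * b = x2 * (x * b) := by group
        _ = (x2 * b) * x := by rw [hb']; group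
        _ = b * (x2 * x) := by rw [← h2]; group
    · calc x3 * x * b = x3 * (x * b) := by group
        _ = (x3 * b) * x := by rw [hb']; group
        _ = b * (x3 * x) := by rw [← h3]; group
    · calc x2 * x3 * x * b = x2 * x3 * (x * b) := by group
        _ = x2 * (x3 * b) * x := by rw [hb']; group
        _ = (x2 * b) * x3 * x := by rw [← h3]; group
        _ = b * (x2 * x3 * x) := by rw [← h2]; group
  have h3of : ∀ {b : G}, b ∈ A → b * x2 = x2 * b → b * x3 = x3 * b := by
    intro b hb h2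
    have h4 := hAc b hb a ha
    have h5 : a⁻¹ * b = b * a⁻¹ := hAc _ (inv_mem ha) _ hb
    calc b * x3 = (b * a) * x2 * a⁻¹ := by rw [hx3]; group
      _ = a * (b * x2) * a⁻¹ := by rw [h4]; group
      _ = a * x2 * (b * a⁻¹) := by rw [h2]; group
      _ = x3 * b := by rw [← h5, hx3]; group
  -- (α)
  have hα : ∀ s ∈ A, s ∈ o2 (P i) → s * x2 = x2 * s := by
    intro s hsA hso
    by_contra hne
    have hs2 : s * x2 * s⁻¹ = w * x2 := (com2 s hso).resolve_left fun h => hne (mul_inv_eq_iff_eq_mul.1 h)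
    have hs3 : s * x3 * s⁻¹ = w * v i * x3 := by
      have h4 := hAc s hsA a ha
      have h5 : a⁻¹ * s⁻¹ = s⁻¹ * a⁻¹ := hAc _ (inv_mem ha) _ (inv_mem hsA)
      calc s * x3 * s⁻¹ = (s * a) * x2 * (a⁻¹ * s⁻¹) := by rw [hx3]; group
        _ = a * (s * x2 * s⁻¹) * a⁻¹ := by rw [h4, h5]; group
        _ = (a * w * a⁻¹) * (a * x2 * a⁻¹) := by rw [hs2]; group
        _ = w * v i * x3 := by rw [haw]
    -- `|A : C_A(F)| ≤ 4`
    have k1 : (centralizer (F : Set G)).relIndex (A ⊓ o2 (P i) : Subgroup G) ≤ 2 := by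
      refine ThmI.rel_le_two fun x hx y hy hx' hy' => ?_
      have key : ∀ z ∈ A ⊓ o2 (P i), z ∉ centralizer (F : Set G) → z * x2 * z⁻¹ = w * x2 := by
        intro z hz hz'
        refine (com2 z hz.2).resolve_left fun h => hz' ?_
        have h1 : z * x2 = x2 * z := mul_inv_eq_iff_eq_mul.1 h
        exact hcF hz.2 h1 (h3of hz.1 h1)
      have hxy : x * y * x2 = x2 * (x * y) := by
        have e1 := key x hx hx'
        have e2 := key y hy hy'
        have e3 : x * w = w * x := (hcV x hx.2 w hw).symm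
        apply mul_inv_eq_iff_eq_mul.1
        calc x * y * x2 * (x * y)⁻¹ = x * (y * x2 * y⁻¹) * x⁻¹ := by group
          _ = (x * w) * x2 * x⁻¹ := by rw [e2]; group
          _ = w * (x * x2 * x⁻¹) := by rw [e3]; group
          _ = (w * w) * x2 := by rw [e1]; group
          _ = x2 := by rw [hw2, one_mul]
      exact hcF (mul_mem hx.2 hy.2) hxy (h3of (mul_mem hx.1 hy.1) hxy)
    have k2 : (centralizer (F : Set G)).relIndex A ≤ 4 := by
      have h1 := relIndex_mul_relIndex (centralizer (F : Set G) ⊓ (A ⊓ o2 (P i))) (A ⊓ o2 (P i)) A inf_le_right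
        inf_le_left
      have h2 : (centralizer (F : Set G) ⊓ (A ⊓ o2 (P i))).relIndex (A ⊓ o2 (P i) : Subgroup G) =
          (centralizer (F : Set G)).relIndex (A ⊓ o2 (P i) : Subgroup G) := inf_relIndex_right _ _
      have h3 : (A ⊓ o2 (P i) : Subgroup G).relIndex A = (o2 (P i)).relIndex A := inf_relIndex_left _ _
      rw [h2, h3] at h1
      have h4 : (centralizer (F : Set G)).relIndex A ≤
          (centralizer (F : Set G) ⊓ (A ⊓ o2 (P i)) : Subgroup G).relIndex A :=
        relIndex_le_of_le_left inf_le_left index_ne_zero_of_finite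
      calc (centralizer (F : Set G)).relIndex A ≤ _ := h4
        _ = _ := h1.symm
        _ ≤ 2 * 2 := Nat.mul_le_mul k1 hA0
    -- `6 ≤ |F : C_F(A)|`
    have k3 : 3 ≤ (centralizer ({s} : Set G)).relIndex F := by
      have hc : ∀ {z y : G}, s * z * s⁻¹ = y → z ∈ centralizer ({s} : Set G) → y = z := by
        intro z y h hz
        have h1 : s * z = z * s := (mem_centralizer_singleton_iff.1 hz).symm
        rw [← h, h1]; group
      refine ThmI.three_le_rel (x := x2) (y := x3) h2F h3F ?_ ?_ ?_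
      · intro h
        exact hw1 (mul_eq_right.1 (hc hs2 h))
      · intro h
        exact hwv1 (mul_eq_right.1 (hc hs3 h))
      · intro h
        have e : s * (x2 * x3) * s⁻¹ = v i * (x2 * x3) := by
          have hx2v : x2 * (w * v i) = (w * v i) * x2 := (hcV x2 hx2S _ (mul_mem hw (D.mem i))).symm
          calc s * (x2 * x3) * s⁻¹ = (s * x2 * s⁻¹) * (s * x3 * s⁻¹) := by group
            _ = w * (x2 * (w * v i)) * x3 := by rw [hs2, hs3]; group
            _ = (w * w) * (v i * (x2 * x3)) := by rw [hx2v]; group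
            _ = v i * (x2 * x3) := by rw [hw2, one_mul]
        exact D.ne i (mul_eq_right.1 (hc e h))
    have k4 : 2 ≤ (centralizer (A : Set G)).relIndex (F ⊓ centralizer ({s} : Set G) : Subgroup G) := by
      exact ThmI.two_le_rel (x := w) ⟨hVF hw, mem_centralizer_singleton_iff.2 (hcV s hso w hw)⟩ hwA
    have k5 : 6 ≤ (centralizer (A : Set G)).relIndex F := by
      have hle : F ⊓ centralizer (A : Set G) ≤ F ⊓ centralizer ({s} : Set G) :=
        inf_le_inf_left _ (centralizer_le (Set.singleton_subset_iff.2 hsA))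
      have h1 := relIndex_mul_relIndex (F ⊓ centralizer (A : Set G)) (F ⊓ centralizer ({s} : Set G)) F hle
        inf_le_left
      have h2 : (F ⊓ centralizer (A : Set G)).relIndex (F ⊓ centralizer ({s} : Set G) : Subgroup G) =
          (centralizer (A : Set G)).relIndex (F ⊓ centralizer ({s} : Set G) : Subgroup G) := by
        rw [← inf_relIndex_right (centralizer (A : Set G)), ← inf_relIndex_right (F ⊓ centralizer (A : Set G))]
        congr 1
        apply le_antisymm
        · exact inf_le_inf_right _ inf_le_right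
        · exact le_inf (le_inf (inf_le_right.trans inf_le_left) inf_le_left) inf_le_right
      have h3 : (F ⊓ centralizer ({s} : Set G) : Subgroup G).relIndex F = (centralizer ({s} : Set G)).relIndex F :=
        inf_relIndex_left _ _
      have h4 : (F ⊓ centralizer (A : Set G) : Subgroup G).relIndex F = (centralizer (A : Set G)).relIndex F :=
        inf_relIndex_left _ _
      rw [h2, h3, h4] at h1
      rw [← h1]
      exact Nat.mul_le_mul k4 k3
    omega
  -- (β)
  have hAF : (centralizer (F : Set G)).relIndex A ≤ 2 := by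
    refine ThmI.rel_le_two fun x hx y hy hx' hy' => ?_
    have key : ∀ z ∈ A, z ∉ centralizer (F : Set G) → z ∉ o2 (P i) := fun z hz hz' hzo =>
      hz' (hcF hzo (hα z hz hzo) (h3of hz (hα z hz hzo)))
    have h1 := Phi.mul_mem_o2 D (hAT hx) (key x hx hx') (hAT hy) (key y hy hy')
    have h2 := hα _ (mul_mem hx hy) h1
    exact hcF h1 h2 (h3of (mul_mem hx hy) h2)
  have h32 : x3 = x2 ∨ x3 = v i * x2 := by
    by_contra hcon
    push Not at hcon
    have hc : ∀ {z y : G}, a * z * a⁻¹ = y → z ∈ centralizer (A : Set G) → y = z := by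
      intro z y h hz
      have h1 : a * z = z * a := hmemC.1 hz a ha
      rw [← h, h1]; group
    have h3 : 3 ≤ (centralizer (A : Set G)).relIndex F := by
      refine ThmI.three_le_rel (x := w) (y := x2) (hVF hw) h2F hwA ?_ ?_
      · intro h
        exact hcon.1 (hc (y := x3) rfl h)
      · intro h
        have e : a * (w * x2) * a⁻¹ = w * v i * x3 := by
          calc a * (w * x2) * a⁻¹ = (a * w * a⁻¹) * (a * x2 * a⁻¹) := by group
            _ = w * v i * x3 := by rw [haw]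
        have h1 := hc e h
        apply hcon.2
        have h2 : v i * x3 = x2 := by
          apply mul_left_cancel (a := w)
          rw [← mul_assoc]; exact h1
        calc x3 = (v i * v i) * x3 := by rw [D.v_sq i, one_mul]
          _ = v i * (v i * x3) := by group
          _ = v i * x2 := by rw [h2]
    omega
  -- (γ)
  have hγ : ∀ s ∈ o2 (P i), s * x2 = x2 * s := by
    intro s hs
    by_contra hne
    have hs2 : s * x2 * s⁻¹ = w * x2 := (com2 s hs).resolve_left fun h => hne (mul_inv_eq_iff_eq_mul.1 h)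
    have hsv : s * v i = v i * s := (hcV s hs _ (D.mem i)).symm
    have hs3 : s * x3 * s⁻¹ = w * x3 := by
      rcases h32 with h | h
      · rw [h]; exact hs2
      · rw [h]
        calc s * (v i * x2) * s⁻¹ = (s * v i) * x2 * s⁻¹ := by group
          _ = v i * (s * x2 * s⁻¹) := by rw [hsv]; group
          _ = (v i * w) * x2 := by rw [hs2]; group
          _ = w * (v i * x2) := by rw [← hwvi]; group
    rcases com3 s hs with h | h
    · rw [hs3] at h
      exact hw1 (mul_eq_right.1 h)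
    · rw [hs3] at h
      exact hwne (mul_right_cancel h)
  have hSmm : ∀ s ∈ o2 (P i), s * m = m * s := by
    intro s hs
    have h1 := hγ _ (hSP p hp s hs)
    have h2 : p * (s * m) * p⁻¹ = p * (m * s) * p⁻¹ := by
      calc p * (s * m) * p⁻¹ = (p * s * p⁻¹) * x2 := by rw [hx2]; group
        _ = x2 * (p * s * p⁻¹) := h1
        _ = p * (m * s) * p⁻¹ := by rw [hx2]; group
    exact mul_left_cancel (mul_right_cancel h2)
  -- (δ)
  refine MinSimple.VModule.mem_zc.2 ⟨hmT, fun t ht => ?_, by rw [pow_two]; exact hm2⟩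
  by_cases hto : t ∈ o2 (P i)
  · exact hSmm t hto
  · have h1 := hSmm _ (Phi.mul_mem_o2 D haT hao ht hto)
    have h2 := hAm a ha
    have h3 : a * (t * m) = a * (m * t) := by
      calc a * (t * m) = a * t * m := by group
        _ = m * (a * t) := h1
        _ = (a * m) * t := by rw [h2]; group
        _ = a * (m * t) := by group
    exact mul_left_cancel h3

/-- **LEMMA FIX on `E_i`**, from a member of `AA(O₂(D))` which moves `V i`. -/
theorem fixE (hML : ML.Final.MLK.{u, u}) (hK : ∀ i, IsKGroup (CC v i)) {i : Fin 2}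
    (hA : ∃ A ∈ AA (o2 (centralizer (zc T : Set G))), ¬ A ≤ centralizer (V i : Set G)) : FixE T v i := by
  obtain ⟨A, hA, hAV⟩ := hA
  intro n hn hT
  have hzc : zpowers (v i) ≤ zc T := zpowers_le.2 (D.v_mem_zc i)
  have h1 : n ∈ NU V v i ⊔ zpowers (v i) := D.E_le i hn
  have hcz : NU V v i ≤ centralizer ((zpowers (v i) : Subgroup G) : Set G) := by
    intro x hx
    refine mem_centralizer_iff.2 fun z hz => ?_
    exact ((MinSimple.VModule.mem_zc.1 (hzc hz)).2.1 x (D.N_le_T i hx)).symm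
  obtain ⟨m, hm, z, hz, rfl⟩ := OM.PG.Peel.exists_mul_of_comm hcz h1
  refine mul_mem (fixN D hML hK hA hAV hm fun t ht => ?_) (hzc hz)
  have h2 := hT t ht
  have h3 : t * z = z * t := (MinSimple.VModule.mem_zc.1 (hzc hz)).2.1 t ht
  have e : t * (m * z) * t⁻¹ * (m * z)⁻¹ = t * m * t⁻¹ * m⁻¹ := by
    calc t * (m * z) * t⁻¹ * (m * z)⁻¹ = t * m * (z * t⁻¹) * z⁻¹ * m⁻¹ := by group
      _ = t * m * (t⁻¹ * z) * z⁻¹ * m⁻¹ := by
        have h4 : t⁻¹ * z = z * t⁻¹ := (MinSimple.VModule.mem_zc.1 (hzc hz)).2.1 _ (inv_mem ht)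
        rw [h4]
      _ = t * m * t⁻¹ * m⁻¹ := by group
  rwa [e] at h2

end Cfsg.Agent.Omega.TC.RSix

end
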