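import Cfsg.Agent.Mrg.Omega.TC.No
import Cfsg.Agent.Mrg.Omega.TC.ThmD
import Cfsg.Agent.Mrg.Omega.OM.ThreeCore

section


/-!
# LEMMA D2 (#21730; CARD #18791 TWO CENTRES, all variants): an exact group in `O₂(D) ∩ O₂(N_G(V j))` for `d ≥ 2`

`ZV V v j = ⟨v (j+1) ^ C_G(V j)⟩ ≤ N_j`.  The critical distance is `n + 1 ≥ 2`.

* `lemZ'` : `B ≤ O₂(D)` elementary abelian, exact on `N_j` ⟹ `C_B(ZV j)` is exact on `N_j`;
* `ex_near` : `N_i^h` at distance `≤ n` of `v (j+1)`, `[N_i^h, N_j] ≠ 1` ⟹ `N_i^h` is exact on `N_j`;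
* `exists_flag` : for some `c ∈ C_{j+1}` the group `C_{N_i^(c⁻¹h)}(ZV j)` does not centralise `N_j`;
* `exists_at` : **LEMMA D2** at a vertex of the type of the end of a critical pair;
* `exists_ex` : **LEMMA D2**: `[N_0, N_1] = 1` ⟹ for some `j` there is an elementary abelian `B ≤ Q_{j+1}`, exact on
  `N_j`, `[B, N_j] ≠ 1`, which centralises `N_{j+1}` and `ZV j`, and `B ≤ O₂(N_G(V j))`.
-/

set_option autoImplicit false
set_option linter.unusedSectionVars false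

namespace Cfsg.Agent.Omega.TC.DTwo

open Subgroup Cfsg Cfsg.Agent.ZN Cfsg.Agent.Omega.MinPar
open Cfsg.Agent.Omega.OM.KTwo (CC QQ WU NU EU ne_add_one eq_add_one add_one_add_one le_normalizer_V le_V)
open Cfsg.Agent.Omega.NoFF.Basic (conj_conj mem_conj conj_le_iff comm_symm comm_mono Z_le_V V_le)
open Cfsg.Agent.Omega.NOThreeL.Pair (conj_eq_of_mem conj_le_normalizer)
open Cfsg.Agent.Omega.NO3L.LemP (Near Same Adj Comm vx vx_eq vx_same vx_mono vx_mk conj_comm_iff)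
open Cfsg.Agent.ZN.ChoiceSit (Syl syl_conj syl_not_dvd)
open Cfsg.Agent.Omega.TC.LemZ (ZV card_eq norm_cent norm_inf le_norm_of)
open scoped Pointwise commutatorElement

universe u

variable {G : Type u} [Group G]

theorem conj_cent (g : G) (N : Subgroup G) :
    MulAut.conj g • centralizer (N : Set G) = centralizer ((MulAut.conj g • N : Subgroup G) : Set G) := by
  ext x
  rw [mem_conj, mem_centralizer_iff, mem_centralizer_iff]
  constructor
  · intro h y hy
    have hy' : y ∈ MulAut.conj g • N := hy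
    rw [mem_conj] at hy'
    have h1 := h _ hy'
    have h2 := congrArg (fun t => g * t * g⁻¹) h1
    simpa [mul_assoc] using h2
  · intro h y hy
    have h1 := h (g * y * g⁻¹) (by
      change _ ∈ MulAut.conj g • N
      rw [mem_conj]
      simpa [mul_assoc] using hy)
    have h2 := congrArg (fun t => g⁻¹ * t * g) h1
    simpa [mul_assoc] using h2

theorem conj_le_centralizer' {g : G} {A B : Subgroup G} (h : A ≤ centralizer (B : Set G)) :
    MulAut.conj g • A ≤ centralizer ((MulAut.conj g • B : Subgroup G) : Set G) := by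
  rw [← conj_cent]; exact conj_le_iff.2 h

variable [Finite G] {T : Subgroup G} {V P : Fin 2 → Subgroup G} {v : Fin 2 → G} (D : Fr T V P v)

include D

/-- **LEMMA Z** for any exact `B` -/
theorem lemZ' (hML : ML.Final.MLK.{u, u}) (hK : ∀ i, IsKGroup (CC v i)) (i : Fin 2) {B : Subgroup G}
    (hBO : B ≤ o2 (centralizer (zc T : Set G))) (hB2 : ∀ b ∈ B, b ^ 2 = 1) (h3 : OM.PG.Int.Ex B (NU V v i)) :
    OM.PG.Int.Ex (B ⊓ centralizer (ZV V v i : Set G)) (NU V v i) := by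
  set N := NU V v i with hN
  set Z := ZV V v i with hZ
  set Y := N ⊓ centralizer (B : Set G) with hY
  set A := B ⊓ centralizer (Z : Set G) with hA
  have hZN : Z ≤ N := LemZ.ZV_le D i
  have hBT : B ≤ T := hBO.trans D.o2D_le_T
  have hAB : A ≤ B := inf_le_left
  have hHC : centralizer (V i : Set G) ⊔ T ≤ CC v i := sup_le (LemZ.cent_V_le D i) (D.T_le_C i)
  -- (NO) for `Z`
  have h1 : (centralizer (Z : Set G)).relIndex B ≤ (centralizer (B : Set G)).relIndex Z := by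
    have h := D.no_H hML (A := B) (hK i) (le_sup_right : T ≤ centralizer (V i : Set G) ⊔ T) hHC hBO
      (hBT.trans le_sup_right) hB2
    rwa [LemZ.NH_eq D i] at h
  -- (NO) for `A` on `N`
  have h2 : (centralizer (N : Set G)).relIndex A ≤ (centralizer (A : Set G)).relIndex N :=
    D.no_N hML (hK i) (hAB.trans hBO) fun a ha => hB2 a (hAB ha)
  have h3 : (centralizer (N : Set G)).relIndex B = (centralizer (B : Set G)).relIndex N := h3
  -- cards
  have c1 : Nat.card B = Nat.card A * (centralizer (Z : Set G)).relIndex B := card_eq B _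
  have c2 : Nat.card B = Nat.card (B ⊓ centralizer (N : Set G) : Subgroup G) * (centralizer (N : Set G)).relIndex B :=
    card_eq B _
  have hAN : A ⊓ centralizer (N : Set G) = B ⊓ centralizer (N : Set G) := by
    apply le_antisymm
    · exact inf_le_inf_right _ hAB
    · exact le_inf (le_inf inf_le_left (inf_le_right.trans (centralizer_le hZN))) inf_le_right
  have c3 : Nat.card A = Nat.card (B ⊓ centralizer (N : Set G) : Subgroup G) * (centralizer (N : Set G)).relIndex A := by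
    rw [← hAN]; exact card_eq A _
  have c4 : Nat.card N = Nat.card Y * (centralizer (B : Set G)).relIndex N := card_eq N _
  have c5 : Nat.card N = Nat.card (N ⊓ centralizer (A : Set G) : Subgroup G) * (centralizer (A : Set G)).relIndex N :=
    card_eq N _
  have hNc : N ≤ centralizer (N : Set G) := D.N_comm i
  have hYZ : Y ≤ centralizer (Z : Set G) := (inf_le_left.trans hNc).trans (centralizer_le hZN)
  have c6 : Nat.card (Z ⊔ Y : Subgroup G) = (centralizer (B : Set G)).relIndex Z * Nat.card Y := by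
    have h4 := PLocal.ElemAbSup.card_sup_mul_card_inf hYZ
    have h5 : Z ⊓ Y = Z ⊓ centralizer (B : Set G) := by
      rw [hY, ← inf_assoc, inf_eq_left.2 hZN]
    rw [h5] at h4
    have h6 : Nat.card Z = Nat.card (Z ⊓ centralizer (B : Set G) : Subgroup G) * (centralizer (B : Set G)).relIndex Z :=
      card_eq Z _
    have hpos : 0 < Nat.card (Z ⊓ centralizer (B : Set G) : Subgroup G) := Nat.card_pos
    have h7 : Nat.card (Z ⊔ Y : Subgroup G) * Nat.card (Z ⊓ centralizer (B : Set G) : Subgroup G) =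
        ((centralizer (B : Set G)).relIndex Z * Nat.card Y) * Nat.card (Z ⊓ centralizer (B : Set G) : Subgroup G) := by
      rw [h4, h6]; ring
    exact Nat.eq_of_mul_eq_mul_right hpos h7
  have hle : Z ⊔ Y ≤ N ⊓ centralizer (A : Set G) := by
    refine sup_le (le_inf hZN (comm_symm inf_le_right)) (le_inf inf_le_left ?_)
    exact inf_le_right.trans (centralizer_le hAB)
  set a := (centralizer (Z : Set G)).relIndex B
  set b := (centralizer (B : Set G)).relIndex Z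
  set r := (centralizer (N : Set G)).relIndex B
  set s := (centralizer (N : Set G)).relIndex A with hs'
  set t := (centralizer (A : Set G)).relIndex N with ht'
  set y' := Nat.card (B ⊓ centralizer (N : Set G) : Subgroup G)
  set y := Nat.card Y
  set c := Nat.card (N ⊓ centralizer (A : Set G) : Subgroup G)
  have hy' : 0 < y' := Nat.card_pos
  have hy : 0 < y := Nat.card_pos
  have hc : 0 < c := Nat.card_pos
  have hs : 0 < s := Nat.pos_of_ne_zero (OM.PG.Int.rix_ne _ _)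
  have hra : r = a * s := by
    have h4 : y' * r = y' * (a * s) := by
      calc y' * r = Nat.card B := c2.symm
        _ = y' * (a * s) := by rw [c1, c3]; ring
    exact Nat.eq_of_mul_eq_mul_left hy' h4
  have hyb : b * y ≤ c := by
    rw [← c6]; exact Subgroup.card_le_of_le hle
  have hyr : y * r = c * t := by rw [← c5, c4, h3]
  have e1 : y * (a * s) = c * t := by rw [← hra]; exact hyr
  have l1 : y * (a * s) ≤ (b * y) * s := by
    calc y * (a * s) = a * (y * s) := by ring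
      _ ≤ b * (y * s) := Nat.mul_le_mul_right _ h1
      _ = (b * y) * s := by ring
  have l2 : (b * y) * s ≤ c * s := Nat.mul_le_mul_right _ hyb
  have l3 : c * s ≤ c * t := Nat.mul_le_mul_left _ h2
  have e2 : c * s = c * t := le_antisymm l3 (by rw [← e1]; exact l1.trans l2)
  have hst : s = t := Nat.eq_of_mul_eq_mul_left hc e2
  exact hst

/-- `Q_{i+1} ∩ C_G(ZV i) ≤ O₂(N_G(V i))` -/
theorem Q_inf_le_o2 (i : Fin 2) :
    QQ v (i + 1) ⊓ centralizer (ZV V v i : Set G) ≤ o2 (normalizer (V i : Set G)) := by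
  set N := normalizer (V i : Set G) with hN
  set K := N ⊓ centralizer (ZV V v i : Set G) with hK
  have hKC : K ≤ CC v (i + 1) :=
    inf_le_right.trans (centralizer_le (Set.singleton_subset_iff.2 (LemZ.v_mem_ZV D i)))
  have hQK : QQ v (i + 1) ⊓ centralizer (ZV V v i : Set G) ≤ K :=
    le_inf (inf_le_left.trans ((D.Q_le_T (i + 1)).trans (D.T_le_N i))) inf_le_right
  have h1 : QQ v (i + 1) ⊓ centralizer (ZV V v i : Set G) ≤ o2 K := by
    refine ZN.le_o2 hQK ((D.T_isPGroup.to_le (D.Q_le_T (i + 1))).to_le inf_le_left) ?_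
    refine norm_inf (hKC.trans ?_) (norm_cent ?_)
    · exact Cfsg.Agent.MinSimple.VModule.le_normalizer_o2 _
    · exact inf_le_left.trans (LemZ.N_V_le D i)
  have hNK : N ≤ normalizer (K : Set G) := norm_inf le_normalizer (norm_cent (LemZ.N_V_le D i))
  refine h1.trans ?_
  refine ZN.le_o2 ((Cfsg.Agent.MinSimple.VModule.o2_le K).trans inf_le_left) (isPGroup_o2 K) ?_
  exact hNK.trans (normalizer_le_normalizer_o2 K)

/-! ### distance `≤ n` from `v (j+1)` -/

/-- the last vertex but one -/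
theorem exists_prev {n : ℕ} {a : Fin 2 × G} {j : Fin 2} (hn : 1 ≤ n) (h : Near (CC v) n a (j + 1, 1)) :
    Near (CC v) n a (j, 1) ∨ ∃ c ∈ CC v (j + 1), Near (CC v) n a (j, c) := by
  obtain ⟨m, rfl⟩ : ∃ m, n = m + 1 := ⟨n - 1, by omega⟩
  obtain ⟨e, he, x, hx, hx'⟩ := h
  have hx'' : x ∈ CC v (j + 1) := by simpa using hx'
  rcases eq_or_ne e.1 j with h1 | h1
  · right
    refine ⟨x, hx'', NO3L.LemP.Near.mono_succ ?_⟩
    exact near_same_right he ⟨h1, hx⟩
  · left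
    have h2 : e.1 = j + 1 := eq_add_one (Ne.symm h1)
    refine ⟨e, he, ?_⟩
    refine ⟨1, ?_, by simp⟩
    have h3 : Same (CC v) e (j + 1, 1) := NO3L.LemP.Adj.same ⟨x, hx, hx'⟩ h2
    exact h3.2

/-- a first vertex on the way from `(i, h)` to `v j` -/
theorem exists_first {n : ℕ} (hC : Comm (CC v) (EU T v) (n + 1)) (hn : 1 ≤ n) {i j : Fin 2} {h : G}
    (hnear : Near (CC v) n (i, h) (j + 1, 1)) (hne : ¬ MulAut.conj h • NU V v i ≤ centralizer (NU V v j : Set G)) :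
    ∃ y : G, h⁻¹ * y ∈ CC v i ∧ Near (CC v) n (i + 1, y) (j, 1) := by
  obtain ⟨m, rfl⟩ : ∃ m, n = m + 1 := ⟨n - 1, by omega⟩
  obtain ⟨e, he, x, hx, hx'⟩ := hnear.symm
  have hadj : Near (CC v) 1 (j, 1) (j + 1, (1 : G)) := near_adj j (j + 1) 1
  have hej : Near (CC v) (m + 1) (j, 1) e := by
    refine NO3L.LemP.Near.cons ?_ he
    exact ⟨1, by simp, by simp⟩
  rcases eq_or_ne e.1 i with h1 | h1
  · exfalso
    apply hne
    have h2 : Same (CC v) e (i, h) := NO3L.LemP.Adj.same ⟨x, hx, hx'⟩ h1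
    have h3 : Near (CC v) (m + 1) (i, h) (j, 1) := (near_same_right hej h2).symm
    have h4 := D.comm_N hC le_rfl h3
    rwa [map_one, one_smul] at h4
  · have h2 : e.1 = i + 1 := eq_add_one (Ne.symm h1)
    refine ⟨x, hx', (near_same_right hej ⟨h2, hx⟩).symm⟩

/-- `N_i^h ≤ Q_{j+1}`, `N_i^h` centralises `N_{j+1}` -/
theorem le_Q {n : ℕ} (hC : Comm (CC v) (EU T v) (n + 1)) {i j : Fin 2} {h : G}
    (hnear : Near (CC v) n (i, h) (j, 1)) : MulAut.conj h • NU V v i ≤ QQ v j := by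
  have h1 := D.data.le_R hC n (Nat.lt_succ_self n) _ _ hnear
  rw [vx_mk, vx_mk, map_one, one_smul] at h1
  exact (conj_le_iff.2 (D.N_le_E i)).trans h1

/-- **exactness** of `N_i^h` on `N_j` -/
theorem ex_near (hML : ML.Final.MLK.{u, u}) (hK : ∀ i, IsKGroup (CC v i)) {n : ℕ}
    (hC : Comm (CC v) (EU T v) (n + 1)) (hn : 1 ≤ n) {i j : Fin 2} {h : G}
    (hnear : Near (CC v) n (i, h) (j + 1, 1)) (hne : ¬ MulAut.conj h • NU V v i ≤ centralizer (NU V v j : Set G)) :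
    OM.PG.Int.Ex (MulAut.conj h • NU V v i) (NU V v j) := by
  obtain ⟨y, hy, hy2⟩ := exists_first D hC hn hnear hne
  have hNy : MulAut.conj h • NU V v i = MulAut.conj y • NU V v i := (conj_congr (D.C_le_N_N i) hy).symm
  have h1 : MulAut.conj h • NU V v i ≤ o2 (centralizer (zc T : Set G)) := (le_Q D hC hnear).trans (D.Q_le_o2D _)
  have hsq : ∀ x ∈ MulAut.conj h • NU V v i, x ^ 2 = 1 := by
    intro x hx
    rw [mem_conj] at hx
    have h2 := D.N_sq i _ hx
    have e : x ^ 2 = h * (h⁻¹ * x * h) ^ 2 * h⁻¹ := by simp only [pow_two]; group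
    rw [e, h2]; group
  have h2 := D.no_N hML (hK j) h1 hsq
  -- the other side: `N_j^(y⁻¹)` acts on `N_i`
  have h3 : MulAut.conj y⁻¹ • NU V v j ≤ o2 (centralizer (zc T : Set G)) := by
    have h4 : NU V v j ≤ vx (QQ v) (i + 1, y) := by
      have h5 := D.data.le_R hC n (Nat.lt_succ_self n) _ _ hy2.symm
      rw [vx_mk, map_one, one_smul] at h5
      exact (D.N_le_E j).trans h5
    rw [vx_mk] at h4
    have h6 := conj_le_iff (g := y⁻¹) |>.2 h4
    rw [conj_conj, inv_mul_cancel, map_one, one_smul] at h6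
    exact h6.trans (D.Q_le_o2D _)
  have hsq' : ∀ x ∈ MulAut.conj y⁻¹ • NU V v j, x ^ 2 = 1 := by
    intro x hx
    rw [mem_conj, inv_inv] at hx
    have h2 := D.N_sq j _ hx
    have e : x ^ 2 = y⁻¹ * (y * x * y⁻¹) ^ 2 * y := by simp only [pow_two]; group
    rw [e, h2]; group
  have h4 := D.no_N hML (hK i) h3 hsq'
  have e1 : (centralizer (NU V v i : Set G)).relIndex (MulAut.conj y⁻¹ • NU V v j) =
      (centralizer ((MulAut.conj h • NU V v i : Subgroup G) : Set G)).relIndex (NU V v j) := by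
    rw [hNy, ← relIndex_pointwise_smul (MulAut.conj y), smul_smul, ← map_mul, mul_inv_cancel, map_one, one_smul]
    congr 1
    exact Cfsg.Agent.Omega.TC.DTwo.conj_cent y _
  have e2 : (centralizer ((MulAut.conj y⁻¹ • NU V v j : Subgroup G) : Set G)).relIndex (NU V v i) =
      (centralizer (NU V v j : Set G)).relIndex (MulAut.conj h • NU V v i) := by
    rw [hNy, ← relIndex_pointwise_smul (MulAut.conj y)]
    congr 1
    rw [Cfsg.Agent.Omega.TC.DTwo.conj_cent, smul_smul, ← map_mul, mul_inv_cancel, map_one, one_smul]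
  rw [e1, e2] at h4
  exact le_antisymm h2 h4

/-! ### LEMMA D2 (2): some flag -/

/-- `N_{v_j^c}` is moved, `c ∈ C_{j+1}` -/
def Mv (V : Fin 2 → Subgroup G) (v : Fin 2 → G) (j : Fin 2) (A : Subgroup G) (c : G) : Prop :=
  ¬ MulAut.conj c⁻¹ • A ≤ centralizer (NU V v j : Set G)

theorem mv_iff {j : Fin 2} {A : Subgroup G} {c : G} :
    Mv V v j A c ↔ ¬ A ≤ centralizer ((MulAut.conj c • NU V v j : Subgroup G) : Set G) := by
  rw [Mv, not_iff_not]
  constructor
  · intro h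
    have h1 := conj_le_centralizer' (g := c) h
    rwa [conj_conj, mul_inv_cancel, map_one, one_smul] at h1
  · intro h
    have h1 := conj_le_centralizer' (g := c⁻¹) h
    rwa [conj_conj, inv_mul_cancel, map_one, one_smul] at h1

/-- If at every flag `(v_j^c, V_j^c)` with `[A, N_j^c] ≠ 1` the group `C_A(Z_j^c)` centralises `N_j^c`, then `A` moves
`N_j^c` for all `c ∈ C_{j+1}` (if for one). -/
theorem mv_all {j : Fin 2} {A : Subgroup G}
    (hall : ∀ c ∈ CC v (j + 1), Mv V v j A c →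
      MulAut.conj c⁻¹ • A ⊓ centralizer (ZV V v j : Set G) ≤ centralizer (NU V v j : Set G))
    (h1 : Mv V v j A 1) : ∀ c ∈ CC v (j + 1), Mv V v j A c := by
  -- the set of good right multiplications
  have stepD : ∀ c ∈ CC v (j + 1), Mv V v j A c → ∀ d ∈ centralizer (zc T : Set G), Mv V v j A (c * d) := by
    intro c _ hm d hd
    rw [mv_iff D] at hm ⊢
    rwa [← conj_conj, conj_eq_of_mem (D.C_le_N_N j (D.cent_zc_le j hd))]
  have stepP : ∀ c ∈ CC v (j + 1), Mv V v j A c → ∀ p ∈ P j, Mv V v j A (c * p) := by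
    intro c hc hm p hp
    have h2 := hall c hc hm
    intro hcon
    -- `A^(c⁻¹)` centralises `N_j^p ≥ Z_j`
    have h3 : MulAut.conj c⁻¹ • A ≤ centralizer ((MulAut.conj p • NU V v j : Subgroup G) : Set G) := by
      have h4 := conj_le_centralizer' (g := p) hcon
      rw [conj_conj] at h4
      have e : p * (c * p)⁻¹ = c⁻¹ := by group
      rwa [e] at h4
    have h5 : ZV V v j ≤ MulAut.conj p • NU V v j := by
      have h6 := conj_le_iff (g := p) |>.2 (LemZ.ZV_le D j)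
      rwa [conj_eq_of_mem (LemZ.P_le_N_ZV D j hp)] at h6
    have h7 : MulAut.conj c⁻¹ • A ≤ centralizer (ZV V v j : Set G) := h3.trans (centralizer_le h5)
    exact hm ((le_inf le_rfl h7).trans h2)
  -- `C_{j+1} = ⟨P j, D⟩`
  have hgen : CC v (j + 1) ≤ P j ⊔ centralizer (zc T : Set G) := D.gen (ne_add_one j)
  have hP : P j ≤ CC v (j + 1) := D.PC j (j + 1) (ne_add_one j)
  have hDc : centralizer (zc T : Set G) ≤ CC v (j + 1) := D.cent_zc_le (j + 1)
  let K : Subgroup G :=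
    { carrier := {x | x ∈ CC v (j + 1) ∧ ∀ c ∈ CC v (j + 1), (Mv V v j A c ↔ Mv V v j A (c * x))}
      one_mem' := ⟨one_mem _, fun c _ => by rw [mul_one]⟩
      mul_mem' := by
        rintro x y ⟨hx, hx'⟩ ⟨hy, hy'⟩
        refine ⟨mul_mem hx hy, fun c hc => ?_⟩
        rw [hx' c hc, hy' (c * x) (mul_mem hc hx), mul_assoc]
      inv_mem' := by
        rintro x ⟨hx, hx'⟩
        refine ⟨inv_mem hx, fun c hc => ?_⟩
        have h2 := hx' (c * x⁻¹) (mul_mem hc (inv_mem hx))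
        rw [inv_mul_cancel_right] at h2
        exact h2.symm }
  have hPK : P j ≤ K := by
    intro p hp
    refine ⟨hP hp, fun c hc => ⟨fun h => stepP c hc h p hp, fun h => ?_⟩⟩
    have h2 := stepP (c * p) (mul_mem hc (hP hp)) h p⁻¹ (inv_mem hp)
    rwa [mul_inv_cancel_right] at h2
  have hDK : centralizer (zc T : Set G) ≤ K := by
    intro d hd
    refine ⟨hDc hd, fun c hc => ⟨fun h => stepD c hc h d hd, fun h => ?_⟩⟩
    have h2 := stepD (c * d) (mul_mem hc (hDc hd)) h d⁻¹ (inv_mem hd)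
    rwa [mul_inv_cancel_right] at h2
  intro c hc
  have h2 := (sup_le hPK hDK (hgen hc)).2 1 (one_mem _)
  rw [one_mul] at h2
  exact h2.1 h1

/-- **LEMMA D2 (2)** -/
theorem exists_flag {n : ℕ} (hC : Comm (CC v) (EU T v) (n + 1)) (hn : 1 ≤ n) {i j : Fin 2} {h : G}
    (hnear : Near (CC v) n (i, h) (j + 1, 1)) (hne : ¬ MulAut.conj h • NU V v i ≤ centralizer (NU V v j : Set G)) :
    ∃ c ∈ CC v (j + 1), ¬ MulAut.conj (c⁻¹ * h) • NU V v i ⊓ centralizer (ZV V v j : Set G) ≤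
      centralizer (NU V v j : Set G) := by
  by_contra hcon
  push Not at hcon
  have h1 : Mv V v j (MulAut.conj h • NU V v i) 1 := by
    rw [mv_iff D, map_one, one_smul]; exact hne
  have h2 := mv_all D (j := j) (A := MulAut.conj h • NU V v i)
    (fun c hc _ => by rw [conj_conj]; exact hcon c hc) h1
  rcases exists_prev D hn hnear with h3 | ⟨c, hc, h3⟩
  · have h4 := D.comm_N hC le_rfl h3
    rw [map_one, one_smul] at h4
    exact hne h4
  · exact (mv_iff D).1 (h2 c hc) (D.comm_N hC le_rfl h3)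

/-! ### LEMMA D2 -/

/-- **LEMMA D2** at `j` = the type of the end of a critical pair at distance `n + 1 ≥ 2` -/
theorem exists_at (hML : ML.Final.MLK.{u, u}) (hK : ∀ i, IsKGroup (CC v i)) {n : ℕ}
    (hC : Comm (CC v) (EU T v) (n + 1)) (hn : 1 ≤ n) {i j : Fin 2} {h : G}
    (hnear : Near (CC v) n (i, h) (j + 1, 1)) (hne : ¬ MulAut.conj h • NU V v i ≤ centralizer (NU V v j : Set G)) :
    ∃ B : Subgroup G, B ≤ QQ v (j + 1) ∧ B ≤ centralizer (NU V v (j + 1) : Set G) ∧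
      B ≤ centralizer (ZV V v j : Set G) ∧ B ≤ o2 (normalizer (V j : Set G)) ∧ (∀ b ∈ B, b ^ 2 = 1) ∧
      OM.PG.Int.Ex B (NU V v j) ∧ ¬ B ≤ centralizer (NU V v j : Set G) := by
  obtain ⟨c, hc, hc'⟩ := exists_flag D hC hn hnear hne
  have hnear' : Near (CC v) n (i, c⁻¹ * h) (j + 1, 1) := by
    have h1 := hnear.smul c⁻¹
    refine near_same_right h1 ⟨rfl, ?_⟩
    simpa using hc
  have hne' : ¬ MulAut.conj (c⁻¹ * h) • NU V v i ≤ centralizer (NU V v j : Set G) := fun h1 =>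
    hc' (inf_le_left.trans h1)
  have hQ := le_Q D hC hnear'
  have hsq : ∀ x ∈ MulAut.conj (c⁻¹ * h) • NU V v i, x ^ 2 = 1 := by
    intro x hx
    rw [mem_conj] at hx
    have h2 := D.N_sq i _ hx
    have e : x ^ 2 = (c⁻¹ * h) * ((c⁻¹ * h)⁻¹ * x * (c⁻¹ * h)) ^ 2 * (c⁻¹ * h)⁻¹ := by simp only [pow_two]; group
    rw [e, h2]; group
  refine ⟨MulAut.conj (c⁻¹ * h) • NU V v i ⊓ centralizer (ZV V v j : Set G), inf_le_left.trans hQ, ?_, inf_le_right,
    ?_, fun b hb => hsq b hb.1, ?_, hc'⟩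
  · refine inf_le_left.trans ?_
    have h1 := D.comm_N hC le_rfl hnear'
    rwa [map_one, one_smul] at h1
  · exact (inf_le_inf_right _ hQ).trans (Q_inf_le_o2 D j)
  · exact lemZ' D hML hK j (hQ.trans (D.Q_le_o2D _)) hsq (ex_near D hML hK hC hn hnear' hne')

/-- **LEMMA D2** (#21730): `d ≥ 2` ⟹ an exact group in `O₂(D) ∩ O₂(N_G(V j))` -/
theorem exists_ex (hML : ML.Final.MLK.{u, u}) (hK : ∀ i, IsKGroup (CC v i))
    (hd : NU V v 0 ≤ centralizer (NU V v 1 : Set G)) :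
    ∃ (j : Fin 2) (B : Subgroup G), B ≤ QQ v (j + 1) ∧ B ≤ centralizer (NU V v (j + 1) : Set G) ∧
      B ≤ centralizer (ZV V v j : Set G) ∧ B ≤ o2 (normalizer (V j : Set G)) ∧ (∀ b ∈ B, b ^ 2 = 1) ∧
      OM.PG.Int.Ex B (NU V v j) ∧ ¬ B ≤ centralizer (NU V v j : Set G) := by
  obtain ⟨n, hC, -, i, j, h, hnear, hnear2, hne⟩ := D.crit2
  have hcomm : ∀ i j : Fin 2, NU V v i ≤ centralizer (NU V v j : Set G) := by
    intro i j
    rcases Fin.exists_fin_two.1 ⟨i, rfl⟩ with hi | hi <;> rcases Fin.exists_fin_two.1 ⟨j, rfl⟩ with hj | hj <;>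
      rw [hi, hj]
    · exact D.N_comm 0
    · exact hd
    · exact comm_symm hd
    · exact D.N_comm 1
  have hn : 1 ≤ n := by
    by_contra hcon
    have h0 : n = 0 := by omega
    subst h0
    apply hne
    have hs : Same (CC v) (i, h) (j + 1, 1) := hnear
    obtain ⟨e1, e2⟩ := hs
    have hh : h ∈ CC v i := by
      have h1 := (CC v i).inv_mem e2
      simpa using h1
    rw [conj_eq_of_mem (D.C_le_N_N i hh)]
    exact hcomm i j
  exact ⟨j, exists_at D hML hK hC hn hnear hne⟩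

/-- `B ≤ T`, `B ≤ O₂(N_G(V j))` ⟹ `B ≤ O₂(N_{C_j}(V j))` -/
theorem le_o2_inf {j : Fin 2} {B : Subgroup G} (hB : B ≤ T) (h : B ≤ o2 (normalizer (V j : Set G))) :
    B ≤ o2 (normalizer (V j : Set G) ⊓ CC v j) := by
  have h1 : B ≤ o2 (normalizer (V j : Set G)) ⊓ CC v j := le_inf h (hB.trans (D.T_le_C j))
  refine h1.trans (ZN.le_o2 ?_ ((isPGroup_o2 _).to_le inf_le_left) ?_)
  · exact inf_le_inf_right _ (Cfsg.Agent.MinSimple.VModule.o2_le _)
  · exact norm_inf (inf_le_left.trans (Cfsg.Agent.ZN.le_normalizer_o2 _)) (inf_le_right.trans le_normalizer)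

/-- **LEMMA D2**, literal input of the plug of THEOREM KL -/
theorem exists_kl (hML : ML.Final.MLK.{u, u}) (hK : ∀ i, IsKGroup (CC v i))
    (hd : NU V v 0 ≤ centralizer (NU V v 1 : Set G)) :
    ∃ (j : Fin 2) (B : Subgroup G), (∀ b ∈ B, b ^ 2 = 1) ∧ (∀ a ∈ B, ∀ b ∈ B, a * b = b * a) ∧
      B ≤ o2 (centralizer (zc T : Set G)) ∧ B ≤ o2 (normalizer (V j : Set G) ⊓ CC v j) ∧
      OM.PG.Int.Ex B (NU V v j) ∧ ¬ B ≤ centralizer (NU V v j : Set G) := by
  obtain ⟨j, B, h1, -, -, h2, h3, h4, h5⟩ := exists_ex D hML hK hd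
  refine ⟨j, B, h3, fun a ha b hb => ?_, h1.trans (D.Q_le_o2D _), le_o2_inf D (h1.trans (D.Q_le_T _)) h2, h4, h5⟩
  have k : ∀ x ∈ B, x⁻¹ = x := fun x hx => by
    have h6 := h3 x hx
    rw [pow_two] at h6
    exact inv_eq_of_mul_eq_one_left h6
  have h6 := k _ (mul_mem ha hb)
  rw [mul_inv_rev, k a ha, k b hb] at h6
  exact h6.symm

end Cfsg.Agent.Omega.TC.DTwo

end

section


/-!
# CARD #18791 `[A]` (`V i ≤ N_i`), all variants, all `d`, from THEOREM KL

* `aKill_at` : `[N_0, N_1] ≠ 1`, one `i` with `V i ≤ N_i` (and `hU` at `i`): contradiction (LEMMA Z);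
* **`aKill`** : `V i ≤ N_i` for both `i` and `hU`: contradiction (`d = 1`: LEMMA Z, `d ≥ 2`: LEMMA D2).
-/

set_option autoImplicit false
set_option linter.unusedSectionVars false

namespace Cfsg.Agent.Omega.TC.AKill

open Subgroup Cfsg Cfsg.Agent.ZN Cfsg.Agent.Omega.MinPar
open Cfsg.Agent.Omega.OM.KTwo (CC QQ WU NU EU ne_add_one eq_add_one add_one_add_one le_normalizer_V le_V)
open Cfsg.Agent.MinSimple.MinParabolic (IsMinPar)
open Cfsg.Agent.Omega.NoFF.Basic (comm_symm)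
open Cfsg.Agent.Omega.TC.LemZ (ZV AZ FZ)
open scoped Pointwise

universe u

variable {G : Type u} [Group G]

variable [Finite G] {T : Subgroup G} {V P : Fin 2 → Subgroup G} {v : Fin 2 → G} (D : Fr T V P v)

include D

/-- `d = 1`, at one `i` with `V i ≤ N_i` -/
theorem aKill_at (hML : ML.Final.MLK.{u, u}) (hKL : KL.Quo.NoInp.{u, u}) (hK : ∀ i, IsKGroup (CC v i)) {i : Fin 2}
    (hV : V i ≤ NU V v i)
    (hU : ∀ R : Subgroup G, IsMinPar T R → R ≤ CC v i → ¬ R ≤ CC v (i + 1) → R ≤ normalizer (V i : Set G))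
    (hd : ¬ NU V v (i + 1) ≤ centralizer (NU V v i : Set G)) : False := by
  have hAN : AZ V v i ≤ NU V v (i + 1) := LemZ.AZ_le D i
  refine KL.Plug.false_of D hML hKL (hK i) hV hU (A := AZ V v i) (fun a ha => D.N_sq (i + 1) a (hAN ha))
    (hAN.trans (D.N_le_oD (i + 1))) ?_ (LemZ.lemZ D hML hK i).1 (LemZ.AZ_not D hML hK hd)
  refine DTwo.le_o2_inf D (hAN.trans (D.N_le_T (i + 1))) ?_
  exact (LemZ.AZ_le_FZ D i).trans (LemZ.FZ_le_o2 D i)

/-- **card `[A]`** -/
theorem aKill (hML : ML.Final.MLK.{u, u}) (hKL : KL.Quo.NoInp.{u, u}) (hK : ∀ i, IsKGroup (CC v i))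
    (hV : ∀ i, V i ≤ NU V v i)
    (hU : ∀ (i : Fin 2) (R : Subgroup G), IsMinPar T R → R ≤ CC v i → ¬ R ≤ CC v (i + 1) →
      R ≤ normalizer (V i : Set G)) : False := by
  by_cases hd : NU V v 0 ≤ centralizer (NU V v 1 : Set G)
  · obtain ⟨j, B, h1, -, h2, h3, h4, h5⟩ := DTwo.exists_kl D hML hK hd
    exact KL.Plug.false_of D hML hKL (hK j) (hV j) (hU j) h1 h2 h3 h4 h5
  · refine aKill_at D hML hKL hK (hV 0) (hU 0) fun h => hd ?_
    exact comm_symm h

end Cfsg.Agent.Omega.TC.AKill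

end

section


/-!
# THEOREM EX-R (helper909 #21924, helper788 #21952; helper254 #21690 without the swap), CARD #18791

`OO T = O₂(D)`, `sh X A = C_A(X) X`, `Fail V v i` : `C_A(Z_{i+1}) = C_A(N_{i+1})` for all `A ∈ AA(Q_i)`,
`Z_{i+1} = ZV V v (i+1) = ⟨v i ^ C_G(V (i+1))⟩`, `M_i = RR V v (i+1) i = ⟨N_{i+1} ^ C_i⟩`.

`Rk T V v` : the facts about ranks (R6 (1) of #20647, no swap).

* `SS_conj` : under `Fail`, `{A♯ : A ∈ AA(Q_i)}` is `C_i`-invariant; `N_le_Q`, `M_le` : `N_{i+1} ≤ Q_i`, `M_i ≤ A♯`;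
* `cent_M` : `C_A(N_{i+1}) = C_A(M_i)` for `A ∈ AA(Q_i)`;
* `exists_mv` : some `A ∈ AA(Q_{i+1})` moves `N_i`;
* `eff` : such an `A` satisfies `C_A(N_i) ≤ C(M_i)`, `[M_i, A] ≤ N_i`; `W_le_M` : `W_i ≤ M_i`;
* `exR` : with (1b) of #21425 at `i` : `Fail V v i` is false;
* `exA` : `Fail V v 0` and `Fail V v 1` are not both true.
-/

set_option autoImplicit false
set_option linter.unusedSectionVars false

namespace Cfsg.Agent.Omega.TC.ExR

open Subgroup Cfsg Cfsg.Agent.ZN Cfsg.Agent.Omega.MinPar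
open Cfsg.Agent.Omega.OM.KTwo (CC QQ WU NU EU ne_add_one eq_add_one add_one_add_one le_normalizer_V le_V)
open Cfsg.Agent.Omega.NoFF.Basic (conj_conj mem_conj conj_le_iff comm_symm comm_mono Z_le_V V_le
  conj_le_centralizer)
open Cfsg.Agent.Omega.NOThreeL.Pair (conj_eq_of_mem conj_le_normalizer)
open Cfsg.Agent.Omega.OM.ThreeCore (cj_mem_AA' elem_sup)
open ChoiceBase (AA cj)
open LemZ (ZV le_norm_of)
open scoped Pointwise

universe u

variable {G : Type u} [Group G]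

/-- `O₂(D)` -/
abbrev OO (T : Subgroup G) : Subgroup G := o2 (centralizer (zc T : Set G))

/-- `A♯ = C_A(X) X` -/
def sh (X A : Subgroup G) : Subgroup G := (A ⊓ centralizer (X : Set G)) ⊔ X

/-- ranks: R6 (1) of #20647 (no swap) -/
structure Rk (T : Subgroup G) (V : Fin 2 → Subgroup G) (v : Fin 2 → G) : Prop where
  sub : ∀ i, ∀ A ∈ AA (QQ v i), A ∈ AA (OO T)
  num : ∀ i, ∀ A ∈ AA (OO T), sh (NU V v i) A ∈ AA (OO T)
  zum : ∀ i, ∀ A ∈ AA (OO T), sh (ZV V v i) A ∈ AA (OO T)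

/-- `C_A(Z_{i+1}) = C_A(N_{i+1})` for all `A ∈ AA(Q_i)` -/
def Fail (V : Fin 2 → Subgroup G) (v : Fin 2 → G) (i : Fin 2) : Prop :=
  ∀ A ∈ AA (QQ v i), A ⊓ centralizer (ZV V v (i + 1) : Set G) ≤ centralizer (NU V v (i + 1) : Set G)

/-- `{A♯ : A ∈ AA(Q_i)}` -/
def SS (V : Fin 2 → Subgroup G) (v : Fin 2 → G) (i : Fin 2) : Set (Subgroup G) :=
  {B | ∃ A ∈ AA (QQ v i), B = sh (NU V v (i + 1)) A}

theorem sh_cj (g : G) (X A : Subgroup G) : cj g (sh X A) = sh (cj g X) (cj g A) := by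
  unfold sh
  have h1 : cj g (A ⊓ centralizer (X : Set G)) = cj g A ⊓ cj g (centralizer (X : Set G)) :=
    Subgroup.map_inf _ _ _ (MulAut.conj g).injective
  change ((A ⊓ centralizer (X : Set G)) ⊔ X).map (MulAut.conj g).toMonoidHom = _
  rw [Subgroup.map_sup]
  change cj g (A ⊓ centralizer (X : Set G)) ⊔ cj g X = _
  rw [h1, ChoiceBase.cj_centralizer]

theorem eq_of_AA [Finite G] {Q A B : Subgroup G} (hA : A ∈ AA Q) (hB : B ∈ AA Q) (h : A ≤ B) : A = B :=
  Subgroup.eq_of_le_of_card_ge h (hA.2.2 B hB.1 hB.2.1)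

theorem cj_eq {g : G} {X : Subgroup G} (h : g ∈ normalizer (X : Set G)) : cj g X = X := conj_eq_of_mem h

theorem cj_AA {Q A : Subgroup G} {g : G} (hA : A ∈ AA Q) (hg : g ∈ normalizer (Q : Set G)) : cj g A ∈ AA Q := by
  refine cj_mem_AA' hA ?_
  have h1 := ChoiceBase.cj_mono g hA.2.1
  rwa [cj_eq hg] at h1

theorem AA_le_cent {Q A : Subgroup G} (hA : A ∈ AA Q) : A ≤ centralizer (A : Set G) := fun a ha =>
  mem_centralizer_iff.2 fun b hb => (PLocal.ThompsonJ.isElementaryAbelian_iff.1 hA.1).1 b hb a ha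

/-- `|C_A(Y) Y| = |A|` for `A ∈ AA(O)` which is not over-offending on `Y ≤ O` -/
theorem sh_AA [Finite G] {O A Y : Subgroup G} (hA : A ∈ AA O) (hY : IsElementaryAbelian 2 Y) (hYO : Y ≤ O)
    (hno : (centralizer (Y : Set G)).relIndex A ≤ (centralizer (A : Set G)).relIndex Y) :
    sh Y A ∈ AA O ∧ OM.PG.Int.Ex A Y := by
  have h1 : (centralizer (A : Set G)).relIndex Y ≤ (centralizer (Y : Set G)).relIndex A :=
    OM.ThreeCore.off_le hA hY hYO
  have hEx : (centralizer (Y : Set G)).relIndex A = (centralizer (A : Set G)).relIndex Y := le_antisymm hno h1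
  have hc : A ⊓ centralizer (Y : Set G) ≤ centralizer (Y : Set G) := inf_le_right
  have hE : IsElementaryAbelian 2 (sh Y A : Subgroup G) :=
    OM.ThreeCore.elem_sup (PLocal.ThompsonJ.isElementaryAbelian_mono hA.1 inf_le_left) hY hc
  have hle : sh Y A ≤ O := sup_le (inf_le_left.trans hA.2.1) hYO
  -- `C_A(Y) ∩ Y = C_Y(A)`
  have hinf : (A ⊓ centralizer (Y : Set G)) ⊓ Y = Y ⊓ centralizer (A : Set G) := by
    apply le_antisymm
    · rintro x ⟨⟨hxA, -⟩, hxY⟩
      exact ⟨hxY, AA_le_cent hA hxA⟩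
    · rintro x ⟨hxY, hxA⟩
      refine ⟨⟨?_, ?_⟩, hxY⟩
      · refine OM.ThreeCore.AA.mem_of_comm hA (hYO hxY) ((PLocal.ThompsonJ.isElementaryAbelian_iff.1 hY).2 x hxY) ?_
        exact fun a ha => mem_centralizer_iff.1 hxA a ha
      · exact mem_centralizer_iff.2 fun b hb => (PLocal.ThompsonJ.isElementaryAbelian_iff.1 hY).1 b hb x hxY
  have h2 := PLocal.ElemAbSup.card_sup_mul_card_inf (comm_symm hc)
  rw [hinf] at h2
  have c1 : Nat.card A = Nat.card (A ⊓ centralizer (Y : Set G) : Subgroup G) * (centralizer (Y : Set G)).relIndex A :=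
    LemZ.card_eq A _
  have c2 : Nat.card Y = Nat.card (Y ⊓ centralizer (A : Set G) : Subgroup G) * (centralizer (A : Set G)).relIndex Y :=
    LemZ.card_eq Y _
  have hcard : Nat.card (sh Y A : Subgroup G) = Nat.card A := by
    have hpos : 0 < Nat.card (Y ⊓ centralizer (A : Set G) : Subgroup G) := Nat.card_pos
    refine Nat.eq_of_mul_eq_mul_right hpos ?_
    change Nat.card ((A ⊓ centralizer (Y : Set G)) ⊔ Y : Subgroup G) * _ = _
    rw [h2, c1, hEx]
    nth_rewrite 1 [c2]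
    ring
  exact ⟨⟨hE, hle, fun B hB hBO => by rw [hcard]; exact hA.2.2 B hB hBO⟩, hEx⟩

variable [Finite G] {T : Subgroup G} {V P : Fin 2 → Subgroup G} {v : Fin 2 → G} (D : Fr T V P v) (R : Rk T V v)

include D

/-! ### Ranks -/

theorem elem_N (i : Fin 2) : IsElementaryAbelian 2 (NU V v i) :=
  PLocal.ThompsonJ.isElementaryAbelian_iff.2
    ⟨fun _ ha b hb => (mem_centralizer_iff.1 (D.N_comm i ha) b hb).symm, D.N_sq i⟩

/-- `A ∈ AA(O₂(D))` is exact on `N_i` -/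
theorem num (hML : ML.Final.MLK.{u, u}) (hK : ∀ i, IsKGroup (CC v i)) (i : Fin 2) {A : Subgroup G} (hA : A ∈ AA (OO T)) :
    sh (NU V v i) A ∈ AA (OO T) ∧ OM.PG.Int.Ex A (NU V v i) :=
  sh_AA hA (elem_N D i) (D.N_le_oD i)
    (D.no_N hML (hK i) hA.2.1 (PLocal.ThompsonJ.isElementaryAbelian_iff.1 hA.1).2)

theorem zum (hML : ML.Final.MLK.{u, u}) (hK : ∀ i, IsKGroup (CC v i)) (i : Fin 2) {A : Subgroup G} (hA : A ∈ AA (OO T)) :
    sh (ZV V v i) A ∈ AA (OO T) ∧ OM.PG.Int.Ex A (ZV V v i) := by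
  have hHC : centralizer (V i : Set G) ⊔ T ≤ CC v i := sup_le (LemZ.cent_V_le D i) (D.T_le_C i)
  have h := D.no_H hML (A := A) (hK i) (le_sup_right : T ≤ centralizer (V i : Set G) ⊔ T) hHC hA.2.1
    ((hA.2.1.trans D.o2D_le_T).trans le_sup_right) (PLocal.ThompsonJ.isElementaryAbelian_iff.1 hA.1).2
  rw [LemZ.NH_eq D i] at h
  refine sh_AA hA ?_ ((LemZ.ZV_le D i).trans (D.N_le_oD i)) h
  exact PLocal.ThompsonJ.isElementaryAbelian_mono (elem_N D i) (LemZ.ZV_le D i)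

/-- **ranks** (R6 (1) of #20647) -/
theorem rk (hML : ML.Final.MLK.{u, u}) (hK : ∀ i, IsKGroup (CC v i)) : Rk T V v where
  num i A hA := (num D hML hK i hA).1
  zum i A hA := (zum D hML hK i hA).1
  sub i A hA := by
    obtain ⟨B, hB⟩ := ChoiceBase.AA_nonempty (OO T)
    have h1 := (num D hML hK i hB).1
    have h2 : sh (NU V v i) B ≤ QQ v i :=
      (le_inf h1.2.1 (sup_le inf_le_right (D.N_comm i))).trans (D.f3 i)
    refine ⟨hA.1, hA.2.1.trans (D.Q_le_o2D i), fun C hC hCO => ?_⟩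
    exact (h1.2.2 C hC hCO).trans (hA.2.2 _ h1.1 h2)

theorem N_ne_bot (i : Fin 2) : NU V v i ≠ ⊥ := by
  intro h
  have h1 := D.mem_N i
  rw [h, mem_bot] at h1
  exact D.ne _ h1

include R

/-- `C_A(Z) Z = C_A(N) N` -/
theorem sh_eq {i : Fin 2} (F : Fail V v i) {A : Subgroup G} (hA : A ∈ AA (QQ v i)) :
    sh (ZV V v (i + 1)) A = sh (NU V v (i + 1)) A := by
  have hO := R.sub i A hA
  refine eq_of_AA (R.zum (i + 1) A hO) (R.num (i + 1) A hO) ?_
  refine sup_le (le_sup_of_le_left (le_inf inf_le_left (F A hA))) (le_sup_of_le_right ?_)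
  exact LemZ.ZV_le D (i + 1)

/-- `A♯` for `A ≤ C(N)` -/
theorem mem_SS {i : Fin 2} {A : Subgroup G} (hA : A ∈ AA (QQ v i))
    (hc : A ≤ centralizer (NU V v (i + 1) : Set G)) : A ∈ SS V v i := by
  refine ⟨A, hA, eq_of_AA (R.sub i A hA) (R.num (i + 1) A (R.sub i A hA)) ?_⟩
  exact le_sup_of_le_left (le_inf le_rfl hc)

/-- `SS` is `C_i`-invariant -/
theorem SS_conj {i : Fin 2} (F : Fail V v i) : ∀ c ∈ CC v i, ∀ B ∈ SS V v i, cj c B ∈ SS V v i := by
  have hij := (ne_add_one i).symm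
  have hDD : ∀ d ∈ centralizer (zc T : Set G), ∀ B ∈ SS V v i, cj d B ∈ SS V v i := by
    rintro d hd _ ⟨A, hA, rfl⟩
    refine ⟨cj d A, cj_AA hA (MinSimple.VModule.le_normalizer_o2 _ (D.cent_zc_le i hd)), ?_⟩
    rw [sh_cj, cj_eq (D.C_le_N_N (i + 1) (D.cent_zc_le (i + 1) hd))]
  have hPP : ∀ p ∈ P (i + 1), ∀ B ∈ SS V v i, cj p B ∈ SS V v i := by
    rintro p hp _ ⟨A, hA, rfl⟩
    have hpC : p ∈ CC v i := D.PC (i + 1) i hij hp
    have hA' := cj_AA hA (MinSimple.VModule.le_normalizer_o2 _ hpC)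
    refine ⟨cj p A, hA', ?_⟩
    rw [← sh_eq D R F hA, sh_cj, cj_eq (LemZ.P_le_N_ZV D (i + 1) hp), sh_eq D R F hA']
  intro c hc
  have hc' := D.gen hij hc
  rw [← closure_eq (P (i + 1)), ← closure_eq (centralizer (zc T : Set G)), ← Subgroup.closure_union] at hc'
  clear hc
  induction hc' using closure_induction'' with
  | mem x hx =>
    rcases hx with hx | hx
    · exact hPP x hx
    · exact hDD x hx
  | inv_mem x hx =>
    rcases hx with hx | hx
    · exact hPP x⁻¹ (inv_mem hx)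
    · exact hDD x⁻¹ (inv_mem hx)
  | one => intro B hB; rwa [ChoiceBase.cj_one]
  | mul x y _ _ h1 h2 =>
    intro B hB
    rw [← ChoiceBase.cj_cj]
    exact h1 _ (h2 _ hB)

theorem SS_AA {i : Fin 2} {B : Subgroup G} (hB : B ∈ SS V v i) : B ∈ AA (OO T) := by
  obtain ⟨A, hA, rfl⟩ := hB
  exact R.num (i + 1) A (R.sub i A hA)

theorem SS_cent {i : Fin 2} {B : Subgroup G} (hB : B ∈ SS V v i) : B ≤ centralizer (NU V v (i + 1) : Set G) := by
  obtain ⟨A, hA, rfl⟩ := hB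
  exact sup_le inf_le_right (D.N_comm (i + 1))

theorem SS_ge {i : Fin 2} {B : Subgroup G} (hB : B ∈ SS V v i) : NU V v (i + 1) ≤ B := by
  obtain ⟨A, hA, rfl⟩ := hB
  exact le_sup_right

theorem SS_le_Q {i : Fin 2} {B : Subgroup G} (hB : B ∈ SS V v i) : B ≤ QQ v (i + 1) :=
  (le_inf (SS_AA D R hB).2.1 (SS_cent D R hB)).trans (D.f3 (i + 1))

theorem SS_nonempty (i : Fin 2) : (SS V v i).Nonempty := by
  obtain ⟨A, hA⟩ := ChoiceBase.AA_nonempty (QQ v i)
  exact ⟨_, A, hA, rfl⟩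

/-- the elements of `SS` are in `Q_i` -/
theorem SS_le_Q' {i : Fin 2} (F : Fail V v i) {B : Subgroup G} (hB : B ∈ SS V v i) : B ≤ QQ v i := by
  set X : Subgroup G := NoFF.Basic.V B (CC v i) with hX
  have hXT : X ≤ T := V_le fun c hc => (SS_AA D R (SS_conj D R F c hc B hB)).2.1.trans D.o2D_le_T
  have h1 : X ≤ o2 (CC v i) :=
    ZN.le_o2 (hXT.trans (D.T_le_C i)) (D.T_isPGroup.to_le hXT) (le_normalizer_V _ _)
  exact (le_V _ _).trans h1

/-- `N_{i+1} ≤ Q_i` -/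
theorem N_le_Q {i : Fin 2} (F : Fail V v i) : NU V v (i + 1) ≤ QQ v i := by
  obtain ⟨B, hB⟩ := SS_nonempty D R i
  exact (SS_ge D R hB).trans (SS_le_Q' D R F hB)

theorem M_le_cent {i : Fin 2} (F : Fail V v i) {B : Subgroup G} (hB : B ∈ SS V v i) :
    RR V v (i + 1) i ≤ centralizer (B : Set G) := by
  refine V_le fun c hc => ?_
  have h1 := comm_symm (SS_cent D R (SS_conj D R F c⁻¹ (inv_mem hc) B hB))
  have h2 := conj_le_centralizer (g := c) h1
  have h3 : (MulAut.conj c • (cj c⁻¹ B : Subgroup G) : Subgroup G) = B := ChoiceBase.cj_cj_inv c B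
  rwa [h3] at h2

theorem M_le_Q {i : Fin 2} (F : Fail V v i) : RR V v (i + 1) i ≤ QQ v i := by
  refine V_le fun c hc => ?_
  rw [← D.conj_QQ hc]
  exact conj_le_iff.2 (N_le_Q D R F)

theorem M_comm {i : Fin 2} (F : Fail V v i) :
    RR V v (i + 1) i ≤ centralizer (RR V v (i + 1) i : Set G) := by
  obtain ⟨B, hB⟩ := SS_nonempty D R i
  have h1 : NU V v (i + 1) ≤ centralizer (RR V v (i + 1) i : Set G) :=
    (SS_ge D R hB).trans (comm_symm (M_le_cent D R F hB))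
  refine V_le fun c hc => ?_
  have h2 := conj_le_centralizer (g := c) h1
  rwa [conj_eq_of_mem (D.C_le_N_RR (i + 1) i hc)] at h2

theorem M_sq {i : Fin 2} (F : Fail V v i) : ∀ x ∈ RR V v (i + 1) i, x ^ 2 = 1 :=
  NoFF.Lines.Geo.sq_of_comm (M_comm D R F) (ι := CC v i)
    (B := fun j => MulAut.conj (j : G) • NU V v (i + 1)) (fun j => Z_le_V j.2)
    (V_le fun c hc => le_iSup (fun j : CC v i => MulAut.conj (j : G) • NU V v (i + 1)) ⟨c, hc⟩)
    fun _ => NoFF.Lines.Geo.conj_sq (D.N_sq (i + 1)) _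

/-- `M_i ≤ A♯` -/
theorem M_le {i : Fin 2} (F : Fail V v i) {B : Subgroup G} (hB : B ∈ SS V v i) : RR V v (i + 1) i ≤ B := by
  intro x hx
  refine OM.ThreeCore.AA.mem_of_comm (SS_AA D R hB) (D.Q_le_o2D i (M_le_Q D R F hx)) (M_sq D R F x hx) ?_
  exact fun a ha => mem_centralizer_iff.1 (M_le_cent D R F hB hx) a ha

/-- `C_A(N_{i+1}) = C_A(M_i)` for `A ∈ AA(Q_i)` -/
theorem cent_M {i : Fin 2} (F : Fail V v i) {A : Subgroup G} (hA : A ∈ AA (QQ v i)) :
    A ⊓ centralizer (NU V v (i + 1) : Set G) ≤ centralizer (RR V v (i + 1) i : Set G) :=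
  (le_sup_left : _ ≤ sh (NU V v (i + 1)) A).trans (comm_symm (M_le_cent D R F ⟨A, hA, rfl⟩))

theorem Q_mem {i : Fin 2} {A : Subgroup G} (hA : A ∈ AA (OO T)) (h : A ≤ QQ v i) : A ∈ AA (QQ v i) :=
  ⟨hA.1, h, fun B hB hBQ => hA.2.2 B hB (hBQ.trans (D.Q_le_o2D i))⟩

theorem false_of_norm {X : Subgroup G} (hX : X ≤ T) (hne : X ≠ ⊥) {i : Fin 2} (h1 : CC v i ≤ normalizer (X : Set G))
    (h2 : CC v (i + 1) ≤ normalizer (X : Set G)) : False := by
  apply hne
  refine D.nonloc _ (D.T_isPGroup.to_le hX) ?_ ?_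
  · rcases Fin.exists_fin_two.1 ⟨i, rfl⟩ with h | h
    · rw [h] at h1; exact h1
    · rw [h] at h2; exact h2
  · rcases Fin.exists_fin_two.1 ⟨i, rfl⟩ with h | h
    · rw [h] at h2; exact h2
    · rw [h] at h1; exact h1

/-- **`J(Q_{i+1})` moves `N_i`** -/
theorem exists_mv {i : Fin 2} (F : Fail V v i) :
    ∃ A ∈ AA (QQ v (i + 1)), ¬ A ≤ centralizer (NU V v i : Set G) := by
  by_contra hcon
  push Not at hcon
  have h1 : ∀ A, A ∈ AA (QQ v (i + 1)) ↔ A ∈ SS V v i := by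
    intro A
    constructor
    · intro hA
      have hO := R.sub (i + 1) A hA
      have hAQ : A ≤ QQ v i := (le_inf hO.2.1 (hcon A hA)).trans (D.f3 i)
      exact mem_SS D R (Q_mem D R hO hAQ) (hA.2.1.trans (D.Q_le_cent_N (i + 1)))
    · intro hA
      exact Q_mem D R (SS_AA D R hA) (SS_le_Q D R hA)
  set J : Subgroup G := sSup (SS V v i) with hJ
  have hJT : J ≤ T := sSup_le fun A hA => (SS_AA D R hA).2.1.trans D.o2D_le_T
  have hcj : ∀ {C : Subgroup G}, (∀ c ∈ C, ∀ B ∈ SS V v i, cj c B ∈ SS V v i) → C ≤ normalizer (J : Set G) := by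
    intro C hC
    refine le_norm_of fun c hc x hx => ?_
    have h2 : cj c J ≤ J := by
      change J.map _ ≤ J
      rw [Subgroup.map_le_iff_le_comap]
      refine sSup_le fun B hB => ?_
      rw [← Subgroup.map_le_iff_le_comap]
      exact le_sSup (hC c hc B hB)
    apply h2
    rw [ChoiceBase.mem_cj]
    have e : c⁻¹ * (c * x * c⁻¹) * c = x := by group
    rwa [e]
  refine false_of_norm D R hJT ?_ (i := i) (hcj (SS_conj D R F)) (hcj fun c hc B hB => ?_)
  · intro h0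
    obtain ⟨B, hB⟩ := SS_nonempty D R i
    apply N_ne_bot D (i + 1)
    rw [eq_bot_iff, ← h0]
    exact (SS_ge D R hB).trans (le_sSup hB)
  · rw [← h1] at hB ⊢
    exact cj_AA hB (MinSimple.VModule.le_normalizer_o2 _ hc)

/-- a member of `AA(Q_{i+1})`: `C_A(N_i) N_i ∈ SS` -/
theorem sh_mem_SS {i : Fin 2} (F : Fail V v i) {A : Subgroup G} (hA : A ∈ AA (QQ v (i + 1))) :
    sh (NU V v i) A ∈ SS V v i := by
  have hO := R.sub (i + 1) A hA
  have h1 := R.num i A hO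
  have h2 : sh (NU V v i) A ≤ QQ v i := by
    refine (le_inf h1.2.1 ?_).trans (D.f3 i)
    exact sup_le inf_le_right (D.N_comm i)
  refine mem_SS D R (Q_mem D R h1 h2) (sup_le (inf_le_left.trans (hA.2.1.trans (D.Q_le_cent_N (i + 1)))) ?_)
  exact comm_symm ((N_le_Q D R F).trans (D.Q_le_cent_N i))

/-- **(E4)** -/
theorem eff {i : Fin 2} (F : Fail V v i) {A : Subgroup G} (hA : A ∈ AA (QQ v (i + 1))) :
    A ⊓ centralizer (NU V v i : Set G) ≤ centralizer (RR V v (i + 1) i : Set G) ∧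
      ∀ x ∈ A, ∀ m ∈ RR V v (i + 1) i, x * m * x⁻¹ * m⁻¹ ∈ NU V v i := by
  have h1 := sh_mem_SS D R F hA
  refine ⟨(le_sup_left : _ ≤ sh (NU V v i) A).trans (comm_symm (M_le_cent D R F h1)), fun x hx m hm => ?_⟩
  have h2 := M_le D R F h1 hm
  have hc : A ⊓ centralizer (NU V v i : Set G) ≤ centralizer (NU V v i : Set G) := inf_le_right
  have h3 : m ∈ (((A ⊓ centralizer (NU V v i : Set G)) ⊔ NU V v i : Subgroup G) : Set G) := h2
  rw [PLocal.ElemAbSup.coe_sup_of_le_centralizer (comm_symm hc)] at h3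
  obtain ⟨a, ha, n, hn, hm'⟩ := h3
  have hm' : m = a * n := hm'.symm
  have hxC : x ∈ CC v i := (D.o2D_le_T.trans (D.T_le_C i)) ((R.sub (i + 1) A hA).2.1 hx)
  have h4 : x * n * x⁻¹ ∈ NU V v i := (mem_normalizer_iff.1 (D.C_le_N_N i hxC) n).1 hn
  have h5 : x * n * x⁻¹ * n⁻¹ ∈ NU V v i := mul_mem h4 (inv_mem hn)
  have h6 : x * a = a * x := mem_centralizer_iff.1 (AA_le_cent hA ha.1) x hx
  have h7 : (x * n * x⁻¹ * n⁻¹) * a = a * (x * n * x⁻¹ * n⁻¹) := mem_centralizer_iff.1 ha.2 _ h5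
  have e : x * m * x⁻¹ * m⁻¹ = x * n * x⁻¹ * n⁻¹ := by
    rw [hm']
    calc x * (a * n) * x⁻¹ * (a * n)⁻¹ = (x * a) * n * x⁻¹ * n⁻¹ * a⁻¹ := by group
      _ = (a * (x * n * x⁻¹ * n⁻¹)) * a⁻¹ := by rw [h6]; group
      _ = x * n * x⁻¹ * n⁻¹ := by rw [← h7]; group
  rw [e]
  exact h5

omit R in
/-- `W_i ≤ M_i` -/
theorem W_le_M (i : Fin 2) : WU V v i ≤ RR V v (i + 1) i := by
  have h1 : V i ≤ NU V v (i + 1) := by
    have := D.V_le_N (i + 1)
    rwa [add_one_add_one] at this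
  exact V_le fun c hc => (conj_le_iff.2 h1).trans (Z_le_V hc)

/-- **THEOREM EX-R, [B]**: (1b) of #21425 at `i` implies that `Fail V v i` is false -/
theorem exR {i : Fin 2}
    (h1b : ∀ A ∈ AA (OO T), ¬ A ≤ centralizer (NU V v i : Set G) →
      A ⊓ centralizer (NU V v i : Set G) ≤ centralizer ((WU V v i ⊔ NU V v i : Subgroup G) : Set G) → False) :
    ∃ A ∈ AA (QQ v i), ¬ A ⊓ centralizer (ZV V v (i + 1) : Set G) ≤ centralizer (NU V v (i + 1) : Set G) := by
  by_contra hcon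
  push Not at hcon
  have F : Fail V v i := hcon
  obtain ⟨A, hA, hAN⟩ := exists_mv D R F
  obtain ⟨h1, h2⟩ := eff D R F hA
  refine h1b A (R.sub (i + 1) A hA) hAN ?_
  refine comm_symm (sup_le ?_ (comm_symm inf_le_right))
  exact comm_symm (h1.trans (centralizer_le (W_le_M D i)))

/-- under `Fail V v i` : `N_0 N_1` is normal in `C_i` -/
theorem norm_NN {i : Fin 2} (F : Fail V v i) :
    CC v i ≤ normalizer ((NU V v i ⊔ NU V v (i + 1) : Subgroup G) : Set G) := by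
  obtain ⟨A, hA, hAN⟩ := exists_mv D R F
  let K : Subgroup G :=
    { carrier := {c | c ∈ CC v i ∧ ∀ m ∈ RR V v (i + 1) i, c * m * c⁻¹ * m⁻¹ ∈ NU V v i}
      one_mem' := ⟨one_mem _, fun m _ => by
        have e : (1 : G) * m * 1⁻¹ * m⁻¹ = 1 := by group
        rw [e]; exact one_mem _⟩
      mul_mem' := by
        rintro x y ⟨hx, hx'⟩ ⟨hy, hy'⟩
        refine ⟨mul_mem hx hy, fun m hm => ?_⟩
        have h3 := (mem_normalizer_iff.1 (D.C_le_N_N i hx) _).1 (hy' m hm)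
        have e : x * y * m * (x * y)⁻¹ * m⁻¹ = (x * (y * m * y⁻¹ * m⁻¹) * x⁻¹) * (x * m * x⁻¹ * m⁻¹) := by group
        rw [e]; exact mul_mem h3 (hx' m hm)
      inv_mem' := by
        rintro x ⟨hx, hx'⟩
        refine ⟨inv_mem hx, fun m hm => ?_⟩
        have h3 : x⁻¹ * m * x ∈ RR V v (i + 1) i := by
          have := (mem_normalizer_iff.1 (D.C_le_N_RR (i + 1) i (inv_mem hx)) m).1 hm
          rwa [inv_inv] at this
        have h4 := inv_mem (hx' _ h3)
        have e : x⁻¹ * m * x⁻¹⁻¹ * m⁻¹ = (x * (x⁻¹ * m * x) * x⁻¹ * (x⁻¹ * m * x)⁻¹)⁻¹ := by group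
        rw [e]; exact h4 }
  have hKC : K ≤ CC v i := fun k hk => hk.1
  have hKn : CC v i ≤ normalizer (K : Set G) := by
    apply le_norm_of
    rintro c hc x ⟨hx, hx'⟩
    refine ⟨(CC v i).mul_mem ((CC v i).mul_mem hc hx) ((CC v i).inv_mem hc), fun m hm => ?_⟩
    have h3 : c⁻¹ * m * c ∈ RR V v (i + 1) i := by
      have := (mem_normalizer_iff.1 (D.C_le_N_RR (i + 1) i (inv_mem hc)) m).1 hm
      rwa [inv_inv] at this
    have h4 := (mem_normalizer_iff.1 (D.C_le_N_N i hc) _).1 (hx' _ h3)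
    have e : c * x * c⁻¹ * m * (c * x * c⁻¹)⁻¹ * m⁻¹ = c * (x * (c⁻¹ * m * c) * x⁻¹ * (c⁻¹ * m * c)⁻¹) * c⁻¹ := by
      group
    rw [e]; exact h4
  have hAK : A ≤ K := fun x hx =>
    ⟨(D.o2D_le_T.trans (D.T_le_C i)) ((R.sub (i + 1) A hA).2.1 hx), (eff D R F hA).2 x hx⟩
  have h0 := D.lem0 hKC hKn fun h => hAN (hAK.trans h)
  have hM : RR V v (i + 1) i ≤ NU V v i ⊔ NU V v (i + 1) := by
    refine V_le fun c hc => ?_
    obtain ⟨x, hx, d, hd, rfl⟩ := h0 c hc
    rw [← conj_conj, conj_eq_of_mem (D.C_le_N_N (i + 1) (D.cent_zc_le (i + 1) hd))]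
    intro y hy
    rw [mem_conj] at hy
    have h1 := hx.2 _ (D.N_le_RR (i + 1) i hy)
    have e : y = (x * (x⁻¹ * y * x) * x⁻¹ * (x⁻¹ * y * x)⁻¹) * (x⁻¹ * y * x) := by group
    rw [e]
    exact mul_mem (mem_sup_left h1) (mem_sup_right hy)
  have heq : NU V v i ⊔ NU V v (i + 1) = NU V v i ⊔ RR V v (i + 1) i :=
    le_antisymm (sup_le_sup_left (D.N_le_RR (i + 1) i) _) (sup_le le_sup_left hM)
  rw [heq]
  refine le_norm_of fun c hc x hx => ?_
  have h1 : cj c (NU V v i ⊔ RR V v (i + 1) i) = NU V v i ⊔ RR V v (i + 1) i := by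
    change (NU V v i ⊔ RR V v (i + 1) i).map _ = _
    rw [Subgroup.map_sup]
    change cj c (NU V v i) ⊔ cj c (RR V v (i + 1) i) = _
    rw [cj_eq (D.C_le_N_N i hc), cj_eq (D.C_le_N_RR (i + 1) i hc)]
  rw [← h1, ChoiceBase.mem_cj]
  have e : c⁻¹ * (c * x * c⁻¹) * c = x := by group
  rwa [e]

/-- **THEOREM EX-R, [A]** (no hypothesis) -/
theorem exA : ∃ i : Fin 2, ∃ A ∈ AA (QQ v i),
    ¬ A ⊓ centralizer (ZV V v (i + 1) : Set G) ≤ centralizer (NU V v (i + 1) : Set G) := by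
  by_contra hcon
  push Not at hcon
  have F : ∀ i, Fail V v i := hcon
  have h0 := norm_NN D R (F 0)
  have h1 := norm_NN D R (F (0 + 1))
  rw [add_one_add_one, sup_comm] at h1
  refine false_of_norm D R (X := NU V v 0 ⊔ NU V v (0 + 1)) (sup_le (D.N_le_T _) (D.N_le_T _)) ?_ h0 h1
  intro h
  apply N_ne_bot D 0
  rw [eq_bot_iff, ← h]
  exact le_sup_left

omit R in
/-- the literal input of the plug of THEOREM KL at the side `j` -/
theorem kl_of (hML : ML.Final.MLK.{u, u}) (hK : ∀ i, IsKGroup (CC v i)) {j : Fin 2} {A : Subgroup G}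
    (hA : A ∈ AA (QQ v (j + 1)))
    (hn : ¬ A ⊓ centralizer (ZV V v j : Set G) ≤ centralizer (NU V v j : Set G)) :
    ∃ B : Subgroup G, B ≤ QQ v (j + 1) ∧ B ≤ centralizer (ZV V v j : Set G) ∧ B ≤ o2 (normalizer (V j : Set G)) ∧
      (∀ b ∈ B, b ^ 2 = 1) ∧ (∀ a ∈ B, ∀ b ∈ B, a * b = b * a) ∧
      B ≤ o2 (centralizer (zc T : Set G)) ∧ B ≤ o2 (normalizer (V j : Set G) ⊓ CC v j) ∧
      OM.PG.Int.Ex B (NU V v j) ∧ ¬ B ≤ centralizer (NU V v j : Set G) := by
  have hO := (rk D hML hK).sub (j + 1) A hA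
  have hE := PLocal.ThompsonJ.isElementaryAbelian_iff.1 hO.1
  have h1 := (DTwo.Q_inf_le_o2 D j).trans' (inf_le_inf_right (centralizer (ZV V v j : Set G)) hA.2.1)
  refine ⟨A ⊓ centralizer (ZV V v j : Set G), inf_le_left.trans hA.2.1, inf_le_right, h1,
    fun b hb => hE.2 b hb.1, fun a ha b hb => hE.1 a ha.1 b hb.1, inf_le_left.trans hO.2.1, ?_, ?_, hn⟩
  · exact DTwo.le_o2_inf D (inf_le_left.trans (hO.2.1.trans D.o2D_le_T)) h1
  · exact DTwo.lemZ' D hML hK j hO.2.1 hE.2 (num D hML hK j hO).2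

omit R in
/-- **EX-R, any frame**: the literal input of the plug of THEOREM KL on some side (no hypothesis on `d`) -/
theorem exists_kl (hML : ML.Final.MLK.{u, u}) (hK : ∀ i, IsKGroup (CC v i)) :
    ∃ (j : Fin 2) (B : Subgroup G), B ≤ QQ v (j + 1) ∧ B ≤ centralizer (ZV V v j : Set G) ∧
      B ≤ o2 (normalizer (V j : Set G)) ∧ (∀ b ∈ B, b ^ 2 = 1) ∧ (∀ a ∈ B, ∀ b ∈ B, a * b = b * a) ∧
      B ≤ o2 (centralizer (zc T : Set G)) ∧ B ≤ o2 (normalizer (V j : Set G) ⊓ CC v j) ∧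
      OM.PG.Int.Ex B (NU V v j) ∧ ¬ B ≤ centralizer (NU V v j : Set G) := by
  obtain ⟨i, A, hA, hn⟩ := exA D (rk D hML hK)
  refine ⟨i + 1, kl_of D hML hK (A := A) ?_ hn⟩
  rwa [add_one_add_one]

omit R in
/-- **EX-R, [B]**: (1b) of #21425 at `j + 1` gives the literal input of the plug of THEOREM KL at the side `j` -/
theorem exists_kl_of (hML : ML.Final.MLK.{u, u}) (hK : ∀ i, IsKGroup (CC v i)) {j : Fin 2}
    (h1b : ∀ A ∈ AA (OO T), ¬ A ≤ centralizer (NU V v (j + 1) : Set G) →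
      A ⊓ centralizer (NU V v (j + 1) : Set G) ≤
        centralizer ((WU V v (j + 1) ⊔ NU V v (j + 1) : Subgroup G) : Set G) → False) :
    ∃ B : Subgroup G, B ≤ QQ v (j + 1) ∧ B ≤ centralizer (ZV V v j : Set G) ∧
      B ≤ o2 (normalizer (V j : Set G)) ∧ (∀ b ∈ B, b ^ 2 = 1) ∧ (∀ a ∈ B, ∀ b ∈ B, a * b = b * a) ∧
      B ≤ o2 (centralizer (zc T : Set G)) ∧ B ≤ o2 (normalizer (V j : Set G) ⊓ CC v j) ∧
      OM.PG.Int.Ex B (NU V v j) ∧ ¬ B ≤ centralizer (NU V v j : Set G) := by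
  obtain ⟨A, hA, hn⟩ := exR D (rk D hML hK) h1b
  rw [add_one_add_one] at hn
  exact kl_of D hML hK hA hn

end Cfsg.Agent.Omega.TC.ExR

end
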