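import Cfsg.Agent.Mrg.Omega.TC.LevU
import Cfsg.Agent.Mrg.Omega.OM.Lev.Main
import Cfsg.Agent.Mrg.Omega.TC.DTwo
import Cfsg.Agent.Mrg.Omega.TC.R.Base

section


/-!
# CARD #18791: `EFr K` (case (E), `k = 2 = q`, all stages) from its last two inputs

* `swap_of` : the swap, from `KTwo.Sit`; `hJ_of` : stage `-1`: `J(T) ≰ O₂(P i)`;
* `RIn` : THEOREM R (`V 0 ≰ N_0`, `V 1 ≰ N_1`, (V!) is impossible); needed only for the stages `n ≥ 0`
  (stage `-1` is `Fr.V_le_N_mt`);
* `AIn` : `V i ≤ N_i` for both `i` is impossible (card [A]);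
* `eFr_of` : `EFr K`.
-/

set_option autoImplicit false
set_option linter.unusedSectionVars false

namespace Cfsg.Agent.Omega.TC

open Subgroup Cfsg Cfsg.Agent.ZN.ChoiceBase
open Cfsg.Agent.ZN (jj zj bau zc zl o2)
open Cfsg.Agent.Omega.OM
open Cfsg.Agent.Omega.OM.KTwo (NU)
open Cfsg.Agent.Omega.Node.MultiOf
open Cfsg.Agent.Omega.MinPar
open Cfsg.Agent.Omega.Frame (Cls)
open Cfsg.Agent.Omega.TC.OfMul (EFr)
open scoped Pointwise

universe u

section

variable {G : Type u} [Group G] [Finite G] {S : Sylow 2 G} {P' T : Subgroup G} {U P : Fin 2 → Subgroup G}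
  {v : Fin 2 → G}

/-- The swap. -/
theorem swap_of (D : KTwo.Sit S P' T U v) : Swap T U v := by
  obtain ⟨s, hs, -, h⟩ := D.swap
  refine ⟨s, ?_, fun i => h i (i + 1) (KTwo.ne_add_one i)⟩
  have h01 := (h 0 1 (by decide)).1
  refine Subgroup.eq_of_le_of_card_ge ?_ ?_
  · rintro _ ⟨t, ht, rfl⟩
    have htS : t ∈ (S : Subgroup G) := by
      have h1 : t ∈ T := ht
      rw [D.T_eq 0] at h1
      exact h1.1
    have htN : t ∈ normalizer (U 0 : Set G) := by
      have h1 : t ∈ T := ht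
      rw [D.T_eq 0] at h1
      exact h1.2
    show s * t * s⁻¹ ∈ T
    rw [D.T_eq 1]
    refine mem_inf.2 ⟨mul_mem (mul_mem hs htS) (inv_mem hs), ?_⟩
    rw [mem_normalizer_iff_cj] at htN ⊢
    have e : ∀ (g : G) (X : Subgroup G), cj g X = MulAut.conj g • X := fun g X => rfl
    rw [e] at htN ⊢
    rw [← h01, ← mul_smul, ← map_mul]
    have e2 : s * t * s⁻¹ * s = s * t := by group
    rw [e2, map_mul, mul_smul, htN]
  · exact (card_cj s T).ge

/-- Stage `-1`: `J(T) ≰ O₂(P i)`. -/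
theorem hJ_of (D : KTwo.Sit S P' T U v) (E : Fr T U P v) (hJT : jj (S : Subgroup G) ≤ T)
    (hj : ¬ jj (S : Subgroup G) ≤ o2 P') (i : Fin 2) : ¬ jj T ≤ o2 (P i) := by
  intro hcon
  apply hj
  have hTS : T ≤ (S : Subgroup G) := (D.T_eq 0).le.trans inf_le_left
  have hJJ := jj_eq_of_jj_le hJT hTS
  have hc : jj T ≤ centralizer (U i : Set G) := by
    refine hcon.trans ?_
    rw [Phi.o2_P E i]
    exact inf_le_right
  obtain ⟨s, hs, h⟩ := swap_of D
  have hsJ : MulAut.conj s • jj T = jj T := by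
    have h1 := jj_cj s T
    have e : ∀ (g : G) (X : Subgroup G), cj g X = MulAut.conj g • X := fun g X => rfl
    rw [e, e, hs] at h1
    exact h1.symm
  have hc' : jj T ≤ centralizer (U (i + 1) : Set G) := by
    have h1 : MulAut.conj s • jj T ≤ MulAut.conj s • centralizer (U i : Set G) :=
      NoFF.Basic.conj_le_iff.2 hc
    have e : MulAut.conj s • centralizer (U i : Set G) = centralizer ((MulAut.conj s • U i : Subgroup G) : Set G) :=
      cj_centralizer s _
    rwa [hsJ, e, (h i).1] at h1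
  rw [← IsParS.inf_centralizer S D.hyp.ctx.char2 D.hyp.star]
  refine le_inf (jj_le _) ?_
  rw [← hJJ]
  have h2 : jj T ≤ centralizer ((U i ⊔ U (i + 1) : Subgroup G) : Set G) :=
    NO3b.Bang.cent_symm (sup_le (NO3b.Bang.cent_symm hc) (NO3b.Bang.cent_symm hc'))
  exact h2.trans (centralizer_le (D.sup i (i + 1) (KTwo.ne_add_one i)))

end

/-- Offenders over the level below `P`, at every stage. -/
theorem exists_offK {G : Type u} [Group G] [Finite G] {S : Sylow 2 G} {P' K B ZJ : Subgroup G}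
    {L W Z C R : Fin 2 → Subgroup G} {v : Fin 2 → G} (hM : Mul S P' K B ZJ L W Z C 2)
    (hD : KTwo.Sit S P' ((S : Subgroup G) ⊓ normalizer (Z 0 : Set G)) W v)
    (hF : Fr ((S : Subgroup G) ⊓ normalizer (Z 0 : Set G)) W R v) :
    ∃ K₀, OffK ((S : Subgroup G) ⊓ normalizer (Z 0 : Set G)) W K₀ := by
  have hKT := hM.lb.KB.trans (B_le_T hM)
  cases hM.stg with
  | neg hj => exact ⟨_, offK_of_hJ hF (hJ_of hD hF hKT hj)⟩
  | lev n hall hn hn1 => exact ⟨_, offK_of_lev hF hD hn hn1 hKT⟩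

/-- **THEOREM R** as input (all stages). -/
def RIn : Prop :=
  ∀ (G : Type u) [Group G] [Finite G], IsKProper G → ∀ (T : Subgroup G) (V P : Fin 2 → Subgroup G) (v : Fin 2 → G),
    Fr T V P v → VBang T → Swap T V v → ∀ K : Subgroup G, OffK T V K → (∀ i, ¬ V i ≤ NU V v i) → False

/-- **card [A]** as input (all stages). -/
def AIn : Prop :=
  ∀ (G : Type u) [Group G] [Finite G], IsKProper G → ∀ (T : Subgroup G) (V P : Fin 2 → Subgroup G) (v : Fin 2 → G),
    Fr T V P v → VBang T → Swap T V v → ∀ K : Subgroup G, OffK T V K → (∀ i, V i ≤ NU V v i) → False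

/-- `C(v i)` is a `K`-group. -/
theorem kC_of {G : Type u} [Group G] [Finite G] {T : Subgroup G} {V P : Fin 2 → Subgroup G} {v : Fin 2 → G}
    (D : Fr T V P v) (hK : IsKProper G) (i : Fin 2) : IsKGroup (KTwo.CC v i) :=
  hK _ fun h => D.mv i (le_top.trans h.ge)

/-- (V!), index form (349's `VOff`) -/
theorem VBang.voff {G : Type u} [Group G] [Finite G] {T : Subgroup G} (h : VBang T) : VOff T := by
  intro X hXT hn hc h2 hX
  obtain ⟨A, hAT, hA⟩ := h.exists_off hXT hn hc h2 hX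
  exact ⟨A, hAT, hA.ne, FFThm.relIndex_le_iff.1 hA.le⟩

/-- **card [A]**, all stages, from THEOREM KL. -/
theorem aIn_of (hML : ML.Final.MLK.{u, u}) (hKL : KL.Quo.NoInp.{u, u}) : AIn.{u} := by
  intro G _ _ hK T V P v D _ _ K hO hV
  exact AKill.aKill D hML hKL (kC_of D hK) hV fun i R hR hRi hRj =>
    OffK.hU D hO (KTwo.ne_add_one i) hR hRi hRj

/-- **Case (E), `k = 2`, `q = 2`, all stages.** -/
theorem eFr_of {K : Cls.{u}} (hML : ML.Final.MLK.{u, u}) (hR : RIn.{u}) (hA : AIn.{u}) : EFr K := by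
  intro G _ _ _ S P K' B ZJ L W Z C R v hM _ hv hD hF
  exfalso
  have hK : IsKProper G := hM.hyp.ctx.kproper
  have hV := vbang_of hM hv hD
  have hs := swap_of hD
  obtain ⟨K₀, hO⟩ := exists_offK hM hD hF
  refine hA G hK _ W R v hF hV hs K₀ hO ?_
  have key : ∀ i, W i ≤ NU W v i ∨ ∀ i, ¬ W i ≤ NU W v i := by
    intro i
    by_cases h : W i ≤ NU W v i
    · exact Or.inl h
    · exact Or.inr fun j hj => h ((hF.V_le_N_iff hs i).2 ((hF.V_le_N_iff hs j).1 hj))
  have hKT := hM.lb.KB.trans (B_le_T hM)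
  cases hM.stg with
  | neg hj => exact fun i => hF.V_le_N_mt hML hK hs (hJ_of hD hF hKT hj) i
  | lev n hall hn hn1 =>
    intro i
    rcases key i with h | h
    · exact h
    · exact (hR G hK _ W R v hF hV hs K₀ hO h).elim

/-- `EFr K` from THEOREM KL and THEOREM R. -/
theorem eFr_of_kl {K : Cls.{u}} (hML : ML.Final.MLK.{u, u}) (hKL : KL.Quo.NoInp.{u, u}) (hR : RIn.{u}) : EFr K :=
  eFr_of hML hR (aIn_of hML hKL)

end Cfsg.Agent.Omega.TC

end

section


/-!
# CARD #18791 (`k = 2`, `q = 2`), all stages, from `MLK` and THEOREM KL (helper836)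

* `rIn : MLK → NoInp → RIn`; **`eFr : MLK → NoInp → EFr K`**;
* **`no_frame`** : `IsKProper G`, `Fr T V P v`, `OffK T V K` is impossible (the literal socket for `CaseL` / `MulG`).
-/

set_option autoImplicit false

namespace Cfsg.Agent.Omega.TC.EndKL

open Subgroup Cfsg Cfsg.Agent.Omega.MinPar
open Cfsg.Agent.Omega.Frame (Cls)
open Cfsg.Agent.Omega.TC.OfMul (EFr)

universe u

/-- **There is no frame with `OffK` in a `K`-proper group.** -/
theorem no_frame (hML : ML.Final.MLK.{u, u}) (hKL : KL.Quo.NoInp.{u, u}) {G : Type u} [Group G] [Finite G]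
    (hK : IsKProper G) {T : Subgroup G} {V P : Fin 2 → Subgroup G} {v : Fin 2 → G} (D : Fr T V P v)
    {K : Subgroup G} (h : OffK T V K) : False :=
  false_of_offK D hML hKL (kC_of D hK) h

/-- THEOREM R, all stages. -/
theorem rIn (hML : ML.Final.MLK.{u, u}) (hKL : KL.Quo.NoInp.{u, u}) : RIn.{u} :=
  fun _ _ _ hK _ _ _ _ D _ _ _ h _ => no_frame hML hKL hK D h

/-- **Case (E), `k = 2`, `q = 2`, all stages.** -/
theorem eFr {K : Cls.{u}} (hML : ML.Final.MLK.{u, u}) (hKL : KL.Quo.NoInp.{u, u}) : EFr K :=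
  eFr_of_kl hML hKL (rIn hML hKL)

end Cfsg.Agent.Omega.TC.EndKL

end
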