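import Cfsg.Agent.Mrg.Omega.TC.Crit
import Cfsg.Agent.Mrg.Omega.OM.KTwo.OneSymp


/-!
# Two centres, `1 ≠ [N₀, N₁] ≤ Ω₁Z(T)` (helper609 R6 #20647 (4), helper118 #18644) over the frame `TC.Fr`

`false_of (D : Fr T V P v) (h01 : [N_1, N_0] ≤ Ω₁Z(T)) (hne : [N_0, N_1] ≠ 1) (hfix : ∀ i, FixE T v i) : False`
(`FixE` = LEMMA FIX for `E_i / ⟨v_i⟩`, see `TC.DOne`).

* `In.same`, `In.mv`, `In.comm_eq` : `N_j ∖ C(N_i)` is one coset of `C_{N_j}(N_i)`, and acts on `N_i` as the transvection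
  with centre `v_j v_i`; `In.tdat` : the hypotheses of the structure lemma `OM.KTwo.StrSp` for `N_i` (both sides);
* `In.perp_le` : `v_i^⊥ ≤ W_i` (in `N_j`); `In.inter` : `N_i ∩ N_j ≤ Ω₁Z(T)`; `In.comm_WN` : `[W_i, N_j] ≤ ⟨v_0 v_1⟩`;
* `R_i = ⟨N_j ^ C_i⟩` : `In.comm_WR`, `In.DR_le`, `In.RC_le`, `In.R_le_N` : `R_i ≤ N(V_i)`; then `Fr.lem0`, `Fr.comp`.
-/

set_option autoImplicit false
set_option linter.unusedSectionVars false

namespace Cfsg.Agent.Omega.TC.OneEnd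

open Subgroup Cfsg Cfsg.Agent.ZN Cfsg.Agent.Omega.MinPar
open Cfsg.Agent.Omega.OM.KTwo (CC QQ WU NU EU FF ne_add_one eq_add_one add_one_add_one le_normalizer_V le_V)
open Cfsg.Agent.Omega.NoFF.Basic (conj_conj mem_conj conj_le_iff conj_le_centralizer comm_symm comm_mono
  Z_le_V V_le conj_V_mul)
open Cfsg.Agent.ZN.ChoiceSit (Syl)
open Cfsg.Agent.MinSimple.VModule (mem_zc zc_le normalizer_le_normalizer_zc le_normalizer_o2 le_o2 o2_le
  o2_isPGroup zc_le_centralizer le_centralizer_zc)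
open Cfsg.Agent.Omega.OM.KTwo.StrSp (Pts Tr TDat Frm)
open DOne
open scoped Pointwise

universe u

variable {G : Type u} [Group G] [Finite G] {T : Subgroup G} {V P : Fin 2 → Subgroup G} {v : Fin 2 → G}

/-- the situation -/
structure In (T : Subgroup G) (V P : Fin 2 → Subgroup G) (v : Fin 2 → G) : Prop where
  fr : Fr T V P v
  comm : ∀ i j, i ≠ j → ∀ x ∈ NU V v j, ∀ e ∈ NU V v i, x * e * x⁻¹ * e⁻¹ ∈ zc T
  ne : ∀ i j, i ≠ j → ¬ NU V v j ≤ centralizer (NU V v i : Set G)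
  fix : ∀ i, FixE T v i

namespace In

variable (h : In T V P v)
include h

theorem z_eq {i j : Fin 2} (hij : i ≠ j) : v j * v i = v 0 * v 1 := by
  have h1 : v 0 * v 1 = v 1 * v 0 := (h.fr.comm_v 1 (h.fr.v_mem_T 0))
  rcases Fin.exists_fin_two.1 ⟨i, rfl⟩ with hi | hi
  · have hj : j = 1 := by rw [hi] at hij; revert hij; revert j; decide
    rw [hi, hj, h1]
  · have hj : j = 0 := by rw [hi] at hij; revert hij; revert j; decide
    rw [hi, hj]

theorem zc_cases {i j : Fin 2} (hij : i ≠ j) {x : G} (hx : x ∈ zc T) : x = 1 ∨ x = v i ∨ x = v j ∨ x = v j * v i := by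
  rw [h.z_eq hij]
  rcases (h.fr.zT x).1 hx with hx | hx | hx | hx
  · exact Or.inl hx
  · rcases eq_or_ne i 0 with hi | hi
    · exact Or.inr (Or.inl (by rw [hx, hi]))
    · have hj : j = 0 := by revert hij hi; revert i j; decide
      exact Or.inr (Or.inr (Or.inl (by rw [hx, hj])))
  · rcases eq_or_ne i 1 with hi | hi
    · exact Or.inr (Or.inl (by rw [hx, hi]))
    · have hj : j = 1 := by revert hij hi; revert i j; decide
      exact Or.inr (Or.inr (Or.inl (by rw [hx, hj])))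
  · exact Or.inr (Or.inr (Or.inr hx))

theorem vj_notin {i j : Fin 2} (hij : i ≠ j) : v j ∉ zpowers (v i) := by
  obtain rfl := eq_add_one hij
  intro h1
  exact h.fr.ne (i + 1) (notin_V h.fr (h.fr.mem (i + 1)) h1)

theorem vji_notin {i j : Fin 2} (hij : i ≠ j) : v j * v i ∉ zpowers (v i) := by
  intro h1
  apply h.vj_notin hij
  have := mul_mem h1 (inv_mem (mem_zpowers (v i)))
  rwa [mul_inv_cancel_right] at this

theorem zc_conj {t z : G} (ht : t ∈ T) (hz : z ∈ zc T) : t * z * t⁻¹ = z := by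
  rw [mem_centralizer_iff.1 (le_centralizer_zc T ht) z hz |>.symm, mul_inv_cancel_right]

theorem commE {i j : Fin 2} (hij : i ≠ j) {x e : G} (hx : x ∈ NU V v j) (he : e ∈ EU T v i) :
    x * e * x⁻¹ * e⁻¹ ∈ zc T := by
  let K : Subgroup G :=
    { carrier := {e | e ∈ T ∧ x * e * x⁻¹ * e⁻¹ ∈ zc T}
      one_mem' := ⟨one_mem _, by simp⟩
      mul_mem' := by
        rintro a b ⟨ha, ha'⟩ ⟨hb, hb'⟩
        refine ⟨mul_mem ha hb, ?_⟩
        have e1 : x * (a * b) * x⁻¹ * (a * b)⁻¹ = x * a * x⁻¹ * a⁻¹ * (a * (x * b * x⁻¹ * b⁻¹) * a⁻¹) := by group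
        rw [e1, h.zc_conj ha hb']
        exact mul_mem ha' hb'
      inv_mem' := by
        rintro a ⟨ha, ha'⟩
        refine ⟨inv_mem ha, ?_⟩
        have e1 : x * a⁻¹ * x⁻¹ * a⁻¹⁻¹ = a⁻¹ * (x * a * x⁻¹ * a⁻¹)⁻¹ * a⁻¹⁻¹ := by group
        rw [e1, h.zc_conj (inv_mem ha) (inv_mem ha')]
        exact inv_mem ha' }
  have h1 : EU T v i ≤ K := by
    refine (h.fr.E_le i).trans (sup_le (fun e he => ⟨h.fr.N_le_T i he, h.comm i j hij x hx e he⟩) ?_)
    rw [zpowers_le]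
    refine ⟨h.fr.v_mem_T i, ?_⟩
    have h2 : x * v i = v i * x := mem_centralizer_singleton_iff.1 (h.fr.N_le_C j i hx)
    rw [h2, mul_inv_cancel_right, mul_inv_cancel]
    exact one_mem _
  exact (h1 he).2

section side

variable {i : Fin 2} {M : Type u} [AddCommGroup M] [DistribMulAction (CC v i) M] {p : G → M}
  (s : Sec (EU T v i) (zpowers (v i)) (CC v i) M p)
include s

theorem dat : OM.PG.DOne.Dat (p (v (i + 1))) (s.im (V (i + 1)) (h.fr.V_le_E i)) (T.subgroupOf (CC v i))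
      ((P (i + 1)).subgroupOf (CC v i)) := by
  refine Dat_of' h.fr s ⟨NU V v (i + 1), h.fr.N_le_C (i + 1) i, ?_, h.ne i (i + 1) (ne_add_one i)⟩ (h.fix i)
  exact comm_symm ((h.fr.W_le_Q (i + 1)).trans (h.fr.Q_le_cent_N (i + 1)))

theorem madd (m : M) : m + m = 0 := s.add_self (fun x hx => by
    rw [← pow_two, h.fr.E_sq i x hx]
    exact one_mem _) m

theorem act_or {x : G} (hx : x ∈ NU V v (i + 1)) (m : M) :
    (⟨x, h.fr.N_le_C (i + 1) i hx⟩ : CC v i) • m = m ∨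
      (⟨x, h.fr.N_le_C (i + 1) i hx⟩ : CC v i) • m = m + p (v (i + 1)) := by
  obtain ⟨e, he, rfl⟩ := s.surj m
  rw [act_p h.fr s _ he]
  have h1 := h.commE (ne_add_one i) hx he
  have h2 : x * e * x⁻¹ = x * e * x⁻¹ * e⁻¹ * e := by group
  have h3 : zc T ≤ EU T v i := le_V _ _
  rw [h2, s.mul _ (h3 h1) _ he]
  rcases p_zc h.fr s h1 with h4 | h4
  · rw [h4, zero_add]
    exact Or.inl rfl
  · rw [h4, add_comm]
    exact Or.inr rfl

theorem exists_mv {x : G} (hx : x ∈ NU V v (i + 1)) (hx' : x ∉ centralizer (NU V v i : Set G)) :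
    ∃ m : M, (⟨x, h.fr.N_le_C (i + 1) i hx⟩ : CC v i) • m ≠ m := by
  by_contra hcon
  push Not at hcon
  exact hx' (cent_of_triv h.fr s _ hcon)

end side

omit h in
theorem exists_mul (D : Fr T V P v) {i : Fin 2} {e : G} (he : e ∈ EU T v i) :
    ∃ n ∈ NU V v i, ∃ y ∈ zpowers (v i), n * y = e := by
  have h1 : e ∈ NU V v i ⊔ zpowers (v i) := D.E_le i he
  have h2 : zpowers (v i) ≤ normalizer (NU V v i : Set G) := by
    rw [zpowers_le]
    exact D.C_le_N_N i (D.T_le_C i (D.v_mem_T i))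
  have h3 : e ∈ ((zpowers (v i) ⊔ NU V v i : Subgroup G) : Set G) := by
    rw [sup_comm] at h1
    exact h1
  rw [coe_mul_of_left_le_normalizer_right _ _ h2] at h3
  obtain ⟨y, hy, n, hn, hyn⟩ := h3
  have hyn : y * n = e := hyn
  refine ⟨n, hn, y, hy, ?_⟩
  rw [← hyn]
  obtain ⟨k, rfl⟩ := mem_zpowers_iff.1 hy
  have h4 : n * v i = v i * n := mem_centralizer_singleton_iff.1 (D.N_le_C i i hn)
  exact (Commute.zpow_right (show Commute n (v i) from h4) k)

/-- (S1) -/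
theorem same {i j : Fin 2} (hij : i ≠ j) {x y : G} (hx : x ∈ NU V v j) (hy : y ∈ NU V v j)
    (hx' : x ∉ centralizer (NU V v i : Set G)) (hy' : y ∉ centralizer (NU V v i : Set G)) :
    x * y⁻¹ ∈ centralizer (NU V v i : Set G) := by
  obtain rfl := eq_add_one hij
  obtain ⟨M, _, _, p, s⟩ := exists_M h.fr i
  have hfin : Finite M := s.finite
  have h1 := (h.dat s).two_eq (h.madd s) (h.act_or s hx) (h.act_or s hy) (h.exists_mv s hx hx') (h.exists_mv s hy hy')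
  refine cent_of_triv h.fr s (h.fr.N_le_C (i + 1) i (mul_mem hx (inv_mem hy))) (fun m => ?_)
  have e : (⟨x * y⁻¹, h.fr.N_le_C (i + 1) i (mul_mem hx (inv_mem hy))⟩ : CC v i)
      = ⟨x, h.fr.N_le_C (i + 1) i hx⟩ * (⟨y, h.fr.N_le_C (i + 1) i hy⟩ : CC v i)⁻¹ := Subtype.ext rfl
  rw [e, mul_smul, h1, smul_inv_smul]

theorem mv {i j : Fin 2} (hij : i ≠ j) {x e : G} (hx : x ∈ NU V v j) (he : e ∈ NU V v i)
    (hx' : x ∉ centralizer (NU V v i : Set G)) (he' : e ∉ centralizer (NU V v j : Set G)) : x * e ≠ e * x := by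
  intro h1
  have he0 := he'
  rw [mem_centralizer_iff] at he0
  push Not at he0
  obtain ⟨y, hy, h2⟩ := he0
  have hy' : y ∉ centralizer (NU V v i : Set G) := fun h3 => h2 ((mem_centralizer_iff.1 h3) e he).symm
  have h3 := h.same hij hx hy hx' hy'
  have h4 := (mem_centralizer_iff.1 h3) e he
  apply h2
  -- `y = (x y⁻¹)⁻¹ x`
  have h5 : y = (x * y⁻¹)⁻¹ * x := by group
  have h6 : Commute (x * y⁻¹) e := h4.symm
  have h7 : Commute x e := h1
  rw [h5]
  exact (h6.inv_left.mul_left h7)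

/-- (S2) -/
theorem comm_eq {i j : Fin 2} (hij : i ≠ j) {x e : G} (hx : x ∈ NU V v j) (he : e ∈ NU V v i)
    (hx' : x ∉ centralizer (NU V v i : Set G)) (he' : e ∉ centralizer (NU V v j : Set G)) :
    x * e * x⁻¹ = e * (v j * v i) := by
  -- a lemma for one side
  have key : ∀ i j : Fin 2, i ≠ j → ∀ x ∈ NU V v j, ∀ e ∈ NU V v i, x ∉ centralizer (NU V v i : Set G) →
      e ∉ centralizer (NU V v j : Set G) → x * e * x⁻¹ * e⁻¹ ∉ zpowers (v i) := by
    intro i j hij x hx e he hx' he' hz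
    obtain rfl := eq_add_one hij
    obtain ⟨M, _, _, p, s⟩ := exists_M h.fr i
    refine hx' (cent_of_triv h.fr s (h.fr.N_le_C (i + 1) i hx) (fun m => ?_))
    -- all of `N_i`
    have hall : ∀ n ∈ NU V v i, x * n * x⁻¹ * n⁻¹ ∈ zpowers (v i) := by
      intro n hn
      by_cases hn' : n ∈ centralizer (NU V v (i + 1) : Set G)
      · have h1 := (mem_centralizer_iff.1 hn') x hx
        rw [h1, mul_inv_cancel_right, mul_inv_cancel]
        exact one_mem _
      · have h1 := h.same hij.symm hn he hn' he'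
        have h2 := (mem_centralizer_iff.1 h1) x hx
        -- `x n x⁻¹ = x (n e⁻¹) e x⁻¹ = (n e⁻¹) (x e x⁻¹)`
        have h3 : x * n * x⁻¹ * n⁻¹ = (n * e⁻¹) * (x * e * x⁻¹ * e⁻¹) * (n * e⁻¹)⁻¹ := by
          calc x * n * x⁻¹ * n⁻¹ = x * (n * e⁻¹) * e * x⁻¹ * n⁻¹ := by group
            _ = (n * e⁻¹) * x * e * x⁻¹ * n⁻¹ := by rw [h2]
            _ = _ := by group
        have h4 : n * e⁻¹ ∈ CC v i := mul_mem (h.fr.N_le_C i i hn) (inv_mem (h.fr.N_le_C i i he))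
        rw [h3, cz_comm i h4 hz]
        exact hz
    obtain ⟨e', he', rfl⟩ := s.surj m
    rw [act_p h.fr s _ he', s.eq_iff (conj_E h.fr s (h.fr.N_le_C (i + 1) i hx) he') he']
    -- `e' ∈ N_i ⟨v i⟩`
    have hK : ∀ e' ∈ NU V v i ⊔ zpowers (v i), x * e' * x⁻¹ * e'⁻¹ ∈ zpowers (v i) := by
      intro e' he'
      rw [h.fr.E_eq i |>.symm] at he'
      -- use the generators
      let K : Subgroup G :=
        { carrier := {a | a ∈ CC v i ∧ x * a * x⁻¹ * a⁻¹ ∈ zpowers (v i)}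
          one_mem' := ⟨one_mem _, by simp⟩
          mul_mem' := by
            rintro a b ⟨ha, ha'⟩ ⟨hb, hb'⟩
            refine ⟨mul_mem ha hb, ?_⟩
            have e1 : x * (a * b) * x⁻¹ * (a * b)⁻¹ = x * a * x⁻¹ * a⁻¹ * (a * (x * b * x⁻¹ * b⁻¹) * a⁻¹) := by
              group
            rw [e1, cz_comm i ha hb']
            exact mul_mem ha' hb'
          inv_mem' := by
            rintro a ⟨ha, ha'⟩
            refine ⟨inv_mem ha, ?_⟩
            have e1 : x * a⁻¹ * x⁻¹ * a⁻¹⁻¹ = a⁻¹ * (x * a * x⁻¹ * a⁻¹)⁻¹ * a⁻¹⁻¹ := by group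
            rw [e1, cz_comm i (inv_mem ha) (inv_mem ha')]
            exact inv_mem ha' }
      have h1 : EU T v i ≤ K := by
        refine (h.fr.E_le i).trans (sup_le (fun e he => ⟨h.fr.N_le_C i i he, hall e he⟩) ?_)
        rw [zpowers_le]
        refine ⟨h.fr.T_le_C i (h.fr.v_mem_T i), ?_⟩
        have h2 : x * v i = v i * x := mem_centralizer_singleton_iff.1 (h.fr.N_le_C (i + 1) i hx)
        rw [h2, mul_inv_cancel_right, mul_inv_cancel]
        exact one_mem _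
      exact (h1 he').2
    exact hK e' (h.fr.E_le i he')
  have h1 := h.comm i j hij x hx e he
  have h2 := key i j hij x hx e he hx' he'
  have h3 := key j i hij.symm e he x hx he' hx'
  have h4 : x * e * x⁻¹ * e⁻¹ = v j * v i := by
    rcases h.zc_cases hij h1 with h5 | h5 | h5 | h5
    · exact absurd (mul_inv_eq_iff_eq_mul.1 (mul_inv_eq_one.1 h5)) (h.mv hij hx he hx' he')
    · exact absurd (h5 ▸ mem_zpowers (v i)) h2
    · exfalso
      apply h3
      have h6 : e * x * e⁻¹ * x⁻¹ = (x * e * x⁻¹ * e⁻¹)⁻¹ := by group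
      rw [h6, h5]
      exact inv_mem (mem_zpowers _)
    · exact h5
  have h5 : x * e * x⁻¹ = v j * v i * e := mul_inv_eq_iff_eq_mul.1 h4
  have h6 : e * (v j * v i) = v j * v i * e := by
    have k1 : e * v j = v j * e := mem_centralizer_singleton_iff.1 (h.fr.N_le_C i j he)
    have k2 : e * v i = v i * e := mem_centralizer_singleton_iff.1 (h.fr.N_le_C i i he)
    rw [← mul_assoc, k1, mul_assoc, k2, mul_assoc]
  rw [h5, h6]

theorem tr_of {i j : Fin 2} (hij : i ≠ j) {x : G} (hx : x ∈ NU V v j) (hx' : x ∉ centralizer (NU V v i : Set G)) :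
    Tr (CC v i) (NU V v i) (v i) (v j) x := by
  refine ⟨h.fr.N_le_C j i hx, fun n hn => ?_, ?_⟩
  · by_cases hn' : n ∈ centralizer (NU V v j : Set G)
    · left
      rw [(mem_centralizer_iff.1 hn') x hx, mul_inv_cancel_right]
    · exact Or.inr (h.comm_eq hij hx hn hx' hn')
  · rw [mem_centralizer_iff] at hx'
    push Not at hx'
    obtain ⟨n, hn, hne⟩ := hx'
    exact ⟨n, hn, fun h1 => hne (mul_inv_eq_iff_eq_mul.1 h1).symm⟩

theorem exists_out {i j : Fin 2} (hij : i ≠ j) : ∃ x ∈ NU V v j, x ∉ centralizer (NU V v i : Set G) := by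
  have := h.ne i j hij
  rw [SetLike.not_le_iff_exists] at this
  exact this

theorem act_tr {i : Fin 2} {M : Type u} [AddCommGroup M] [DistribMulAction (CC v i) M] {p : G → M}
    (s : Sec (EU T v i) (zpowers (v i)) (CC v i) M p) {t : G} (ht : Tr (CC v i) (NU V v i) (v i) (v (i + 1)) t) :
    (∀ m : M, (⟨t, ht.1⟩ : CC v i) • m = m ∨ (⟨t, ht.1⟩ : CC v i) • m = m + p (v (i + 1))) ∧
      ∃ m : M, (⟨t, ht.1⟩ : CC v i) • m ≠ m := by
  have hz : p (v (i + 1) * v i) = p (v (i + 1)) := by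
    rw [s.mul _ (h.fr.v_mem_E i _) _ (h.fr.v_mem_E i _), p_vi h.fr s, add_zero]
  have key : ∀ n ∈ NU V v i, (⟨t, ht.1⟩ : CC v i) • p n = p n ∨ (⟨t, ht.1⟩ : CC v i) • p n = p n + p (v (i + 1)) := by
    intro n hn
    have hnE := h.fr.N_le_E i hn
    rw [act_p h.fr s _ hnE]
    rcases ht.2.1 n hn with h1 | h1
    · rw [h1]
      exact Or.inl rfl
    · rw [h1, s.mul _ hnE _ (mul_mem (h.fr.v_mem_E i _) (h.fr.v_mem_E i _)), hz]
      exact Or.inr rfl
  constructor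
  · intro m
    obtain ⟨e, he, rfl⟩ := s.surj m
    obtain ⟨n, hn, y, hy, rfl⟩ := exists_mul h.fr he
    have hnE := h.fr.N_le_E i hn
    have hyE : y ∈ EU T v i := (zpowers_le.2 (h.fr.v_mem_E i i)) hy
    have hpy : p y = 0 := (s.ker _ hyE).2 hy
    rw [s.mul _ hnE _ hyE, hpy, add_zero]
    exact key n hn
  · obtain ⟨n, hn, hne⟩ := ht.2.2
    refine ⟨p n, ?_⟩
    have hnE := h.fr.N_le_E i hn
    rcases ht.2.1 n hn with h1 | h1
    · exact absurd h1 hne
    · rw [act_p h.fr s _ hnE, h1, s.mul _ hnE _ (mul_mem (h.fr.v_mem_E i _) (h.fr.v_mem_E i _)), hz]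
      intro h2
      exact p_vj h.fr s (by simpa using h2)

/-- (S3) the data of `StrSp` for `N_i` -/
theorem tdat {i j : Fin 2} (hij : i ≠ j) : ∃ a ∈ V j, a ≠ 1 ∧ a ≠ v j ∧
    TDat (CC v i) (centralizer (zc T : Set G)) (P j) T (NU V v i) (v i) (v i) (v j) a := by
  have hij0 := hij
  obtain rfl := eq_add_one hij
  obtain ⟨a, haV, ha1, hav⟩ := h.fr.exists_ne_v (i + 1)
  have hcomm : v (i + 1) * a = a * v (i + 1) := h.fr.V_comm (h.fr.mem _) haV
  have hpts : ∀ x ∈ V (i + 1), x ≠ 1 → x ∈ Pts (CC v i) (v (i + 1)) := by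
    intro x hx hx1
    obtain ⟨l, hl, -, hlx⟩ := h.fr.tr hij0.symm hx hx1
    exact ⟨l, h.fr.PC (i + 1) i hij0.symm hl, hlx.symm⟩
  have hva : v (i + 1) * a ≠ 1 := by
    intro h1
    apply hav
    have h2 : v (i + 1) * a = v (i + 1) * v (i + 1) := by rw [h1, h.fr.v_sq]
    exact mul_left_cancel h2
  obtain ⟨M, _, _, p, s⟩ := exists_M h.fr i
  have hfin : Finite M := s.finite
  have d := h.dat s
  have hzne : v (i + 1) * v i ∉ zpowers (v i) := h.vji_notin hij0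
  refine ⟨a, haV, ha1, hav, ⟨⟨?_, ?_, h.fr.C_le_N_N i, ?_, h.fr.mem_N i, ?_, Or.inr rfl, ?_, h.fr.PC (i + 1) i hij0.symm,
    ?_, ?_, hpts a haV ha1, hpts _ (mul_mem (h.fr.mem _) haV) hva, hav, ?_, h.fr.T_le_D,
    ChoiceSit.syl_not_dvd (h.fr.syl i), ?_⟩, ?_⟩, ?_⟩
  · intro n hn
    rw [← pow_two]
    exact h.fr.N_sq i n hn
  · intro n hn m hm
    exact (mem_centralizer_iff.1 (h.fr.N_comm i hm) n hn)
  · -- gen
    refine V_le fun c hc => ?_
    intro x hx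
    rw [mem_conj] at hx
    by_cases hx1 : c⁻¹ * x * c = 1
    · have e : x = c * (c⁻¹ * x * c) * c⁻¹ := by group
      rw [e, hx1, mul_one, mul_inv_cancel]
      exact one_mem _
    · obtain ⟨l, hl, h1⟩ := hpts _ hx hx1
      refine subset_closure ⟨c * l, mul_mem hc hl, ?_⟩
      have e : x = c * (c⁻¹ * x * c) * c⁻¹ := by group
      rw [e, h1]
      group
  · intro c hc
    exact mem_centralizer_singleton_iff.1 hc
  · intro d
    rw [h.fr.mem_D_iff hij0]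
    exact and_congr_right fun _ => mem_centralizer_singleton_iff
  · exact (h.fr.gen hij0.symm).trans (sup_comm _ _).le
  · -- ML
    intro m hm
    have h1 : m * v (i + 1) * m⁻¹ ∈ V (i + 1) := (mem_normalizer_iff.1 (h.fr.PN (i + 1) (i + 1) hm) _).1 (h.fr.mem _)
    have h2 : m * v (i + 1) * m⁻¹ ≠ 1 := fun h3 => h.fr.ne _ (conj_eq_one_iff.1 h3)
    exact h.fr.eq_of_V (h.fr.mem _) (h.fr.ne _) haV ha1 hav.symm h1 h2
  · -- tau
    obtain ⟨t, ht, h1⟩ := h.fr.exists_swap haV ha1 hav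
    exact ⟨t, h.fr.T_le_D ht, by rw [h1, hcomm]⟩
  · -- tr
    obtain ⟨x, hx, hx'⟩ := h.exists_out hij0
    exact ⟨x, h.tr_of hij0 hx hx'⟩
  · -- uniq
    intro t t' ht ht' n hn
    have h1 := h.act_tr s ht
    have h2 := h.act_tr s ht'
    have hnE := h.fr.N_le_E i hn
    have h3 := d.two_eq (h.madd s) h1.1 h2.1 h1.2 h2.2 (p n)
    rw [act_p h.fr s _ hnE, act_p h.fr s _ hnE, s.eq_iff (conj_E h.fr s ht.1 hnE) (conj_E h.fr s ht'.1 hnE)] at h3
    rcases ht.2.1 n hn with h4 | h4 <;> rcases ht'.2.1 n hn with h5 | h5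
    · rw [h4, h5]
    · exfalso
      rw [h4, h5] at h3
      have e : n * (n * (v (i + 1) * v i))⁻¹ = n * (v (i + 1) * v i)⁻¹ * n⁻¹ := by group
      rw [e] at h3
      have h6 := cz_comm i (inv_mem (h.fr.N_le_C i i hn)) h3
      have e2 : n⁻¹ * (n * (v (i + 1) * v i)⁻¹ * n⁻¹) * n⁻¹⁻¹ = (v (i + 1) * v i)⁻¹ := by group
      rw [e2] at h6
      rw [← h6] at h3
      have := inv_mem h3
      rw [inv_inv] at this
      exact hzne this
    · exfalso
      rw [h4, h5] at h3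
      have h6 := cz_comm i (inv_mem (h.fr.N_le_C i i hn)) h3
      have e2 : n⁻¹ * (n * (v (i + 1) * v i) * n⁻¹) * n⁻¹⁻¹ = v (i + 1) * v i := by group
      rw [e2] at h6
      rw [← h6] at h3
      exact hzne h3
    · rw [h4, h5]
  · -- ti
    intro t ht
    have haE := h.fr.V_le_E i haV
    have haN := h.fr.V_le_N i haV
    have h1 := h.act_tr s ht
    have h2 : (⟨t, ht.1⟩ : CC v i) • p a = p a := by
      let _ : Module (ZMod 2) M := AddCommGroup.zmodModule (n := 2) (fun m => by rw [two_nsmul, h.madd s])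
      obtain ⟨φ, k1, k2⟩ := OM.PG.DOne.exists_fun d.v0 h1.1
      rw [k2, (d.pV ⟨a, haV, rfl⟩) φ ⟨k1, _, k2⟩, zero_smul, add_zero]
    rcases ht.2.1 a haN with h3 | h3
    · exact h3
    · exfalso
      rw [act_p h.fr s _ haE, h3, s.mul _ haE _ (mul_mem (h.fr.v_mem_E i _) (h.fr.v_mem_E i _)),
        s.mul _ (h.fr.v_mem_E i _) _ (h.fr.v_mem_E i _), p_vi h.fr s, add_zero] at h2
      exact p_vj h.fr s (by simpa using h2)

/-! ### The forms on `N_i` -/

omit h in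
/-- the form on `N_i`, `a ∈ V_j ∖ ⟨v_j⟩` -/
structure Side (T : Subgroup G) (V P : Fin 2 → Subgroup G) (v : Fin 2 → G) (i j : Fin 2) (a : G)
    (B : G → G → ℤˣ) : Prop where
  mem : a ∈ V j
  ne1 : a ≠ 1
  nev : a ≠ v j
  d : TDat (CC v i) (centralizer (zc T : Set G)) (P j) T (NU V v i) (v i) (v i) (v j) a
  F : Frm (CC v i) (NU V v i) (v i) (v j) B

theorem exists_side {i j : Fin 2} (hij : i ≠ j) : ∃ a B, Side T V P v i j a B := by
  obtain ⟨a, haV, ha1, hav, d⟩ := h.tdat hij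
  obtain ⟨B, F⟩ := d.exists_frm
  exact ⟨a, B, haV, ha1, hav, d, F⟩

theorem V_cases {j : Fin 2} {a x : G} (ha : a ∈ V j) (ha1 : a ≠ 1) (hav : a ≠ v j) (hx : x ∈ V j) :
    x = 1 ∨ x = v j ∨ x = a ∨ x = v j * a := by
  by_cases hx1 : x = 1
  · exact Or.inl hx1
  · exact Or.inr (h.fr.eq_of_V (h.fr.mem j) (h.fr.ne j) ha ha1 hav.symm hx hx1)

/-- `V_j ≤ v_j^⊥` -/
theorem B_V {i j : Fin 2} {a : G} {B : G → G → ℤˣ} (S : Side T V P v i j a B) {x : G} (hx : x ∈ V j) :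
    B (v j) x = 1 := by
  have hv := S.d.x_mem
  have ha := S.d.pt_mem S.d.a_pt
  have hBa := S.d.B_xa S.F
  rcases h.V_cases S.mem S.ne1 S.nev hx with h1 | h1 | h1 | h1
  · rw [h1]; exact S.d.one_r S.F hv
  · rw [h1]; exact S.F.self _ hv
  · rw [h1]; exact hBa
  · rw [h1, S.F.mul _ hv _ hv _ ha, S.F.self _ hv, hBa, one_mul]

/-- `v_i^⊥ ≤ W_i` -/
theorem perp_le {i j : Fin 2} (hij : i ≠ j) {a : G} {B : G → G → ℤˣ} (S : Side T V P v j i a B) {u : G}
    (hu : u ∈ NU V v j) (h1 : B (v i) u = 1) : u ∈ WU V v i := by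
  have hji := hij.symm
  set E : Subgroup G := NoFF.Basic.V (V i) (centralizer (zc T : Set G)) with hE
  have hEW : E ≤ WU V v i := V_le fun c hc => Z_le_V (h.fr.cent_zc_le i hc)
  refine hEW (S.d.perp_le_E S.F (E := E) ?_ ?_ ?_ ?_ hu h1)
  · exact le_V _ _ (h.fr.mem i)
  · exact le_V _ _ S.mem
  · -- `E ≤ v_i^⊥`
    let K : Subgroup G :=
      { carrier := {b | b ∈ NU V v j ∧ B (v i) b = 1}
        one_mem' := ⟨one_mem _, S.d.one_r S.F S.d.x_mem⟩
        mul_mem' := by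
          rintro x y ⟨hx, hx'⟩ ⟨hy, hy'⟩
          exact ⟨mul_mem hx hy, by rw [S.F.mul _ S.d.x_mem _ hx _ hy, hx', hy', one_mul]⟩
        inv_mem' := by
          rintro x ⟨hx, hx'⟩
          change x⁻¹ ∈ NU V v j ∧ B (v i) x⁻¹ = 1
          rw [S.d.inv_eq hx]
          exact ⟨hx, hx'⟩ }
    have hEK : E ≤ K := by
      refine V_le fun c hc x hx => ?_
      rw [mem_conj] at hx
      have hxN : c⁻¹ * x * c ∈ NU V v j := by
        have h2 : V i ≤ NU V v j := by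
          have := h.fr.V_le_N j
          rwa [← eq_add_one hji] at this
        exact h2 hx
      have h2 := S.d.D_B S.F hc hxN
      have e : c * (c⁻¹ * x * c) * c⁻¹ = x := by group
      rw [e, h.B_V S hx] at h2
      refine ⟨?_, h2⟩
      rw [← e]
      exact S.d.conj_N (S.d.D_C S.F hc) hxN
    exact fun b hb => hEK hb
  · intro t ht b hb
    exact (mem_normalizer_iff.1 (le_normalizer_V (V i) (centralizer (zc T : Set G)) ht) b).1 hb

/-- `N_i ∩ N_j ≤ Ω₁Z(T)` -/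
theorem inter {i j : Fin 2} (hij : i ≠ j) {x : G} (hx : x ∈ NU V v i) (hx' : x ∈ NU V v j) : x ∈ zc T := by
  obtain ⟨a, B, S⟩ := h.exists_side hij.symm
  obtain ⟨a', B', S'⟩ := h.exists_side hij
  have hfix : ∀ b ∈ NU V v i ⊓ NU V v j, b ∈ NU V v j ∧ B (v i) b = 1 := by
    rintro b ⟨hb, hb'⟩
    refine ⟨hb', ?_⟩
    obtain ⟨t, ht, ht'⟩ := h.exists_out hij.symm
    have htr := h.tr_of hij.symm ht ht'
    refine (S.F.tv _ S.d.x_pt t htr b hb').2 ?_
    have h1 : b * t = t * b := (mem_centralizer_iff.1 (h.fr.N_comm i hb) t ht).symm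
    rw [← h1, mul_inv_cancel_right]
  have hinv : ∀ t ∈ centralizer (zc T : Set G), ∀ b ∈ NU V v i ⊓ NU V v j, t * b * t⁻¹ ∈ NU V v i ⊓ NU V v j := by
    rintro t ht b ⟨hb, hb'⟩
    exact ⟨(mem_normalizer_iff.1 (h.fr.C_le_N_N i (h.fr.cent_zc_le i ht)) b).1 hb,
      (mem_normalizer_iff.1 (h.fr.C_le_N_N j (h.fr.cent_zc_le j ht)) b).1 hb'⟩
  rcases S.d.eq_perp S.F (A := NU V v i ⊓ NU V v j) ⟨S'.d.x_mem, S.d.e_mem⟩ ⟨S'.d.e_mem, S.d.x_mem⟩ hfix hinv with
    h1 | h1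
  · rcases h1 x ⟨hx, hx'⟩ with h2 | h2 | h2 | h2
    · rw [h2]; exact one_mem _
    · rw [h2]; exact h.fr.v_mem_zc _
    · rw [h2]; exact h.fr.v_mem_zc _
    · rw [h2]; exact mul_mem (h.fr.v_mem_zc _) (h.fr.v_mem_zc _)
  · exfalso
    have haN : a ∈ NU V v i := (h1 a (S.d.pt_mem S.d.a_pt) (S.d.B_xa S.F)).1
    obtain ⟨t, ht, hta⟩ := h.fr.exists_swap S.mem S.ne1 S.nev
    have h2 := S'.d.fix_T S'.F haN (fun t ht => by
      have h3 := h.fr.comm_VQ i S.mem ht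
      have h4 : t * a * t⁻¹ ∈ V i := (mem_normalizer_iff.1 (h.fr.T_le_N i ht) _).1 S.mem
      rcases h.V_cases S.mem S.ne1 S.nev h4 with h5 | h5 | h5 | h5
      · exact absurd (conj_eq_one_iff.1 h5) S.ne1
      · exfalso
        apply S.nev
        have h6 := h.fr.cen i (inv_mem ht)
        rw [← h5, inv_inv] at h6
        have e : t⁻¹ * (t * a * t⁻¹) * t = a := by group
        rw [e] at h6
        rw [h6, h5]
      · exact Or.inl h5
      · right
        rw [h5, h.fr.V_comm (h.fr.mem i) S.mem])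
    have h3 : a ∈ zc T := by
      rcases S'.d.mem_XX.1 h2 with h2 | h2 | h2 | h2
      · rw [h2]; exact one_mem _
      · rw [h2]; exact h.fr.v_mem_zc _
      · rw [h2]; exact h.fr.v_mem_zc _
      · rw [h2]; exact mul_mem (h.fr.v_mem_zc _) (h.fr.v_mem_zc _)
    rw [h.zc_conj ht h3] at hta
    exact h.fr.ne i (mul_eq_left.1 hta.symm)

/-- (5) `[W_i, N_j] ≤ ⟨v_0 v_1⟩` -/
theorem comm_WN {i j : Fin 2} (hij : i ≠ j) {w n : G} (hw : w ∈ WU V v i) (hn : n ∈ NU V v j) :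
    w * n * w⁻¹ = n ∨ w * n * w⁻¹ = n * (v i * v j) := by
  obtain ⟨a, B, S⟩ := h.exists_side hij.symm
  have h1 := S.d.hyper S.F (h.fr.W_le_C i j hw) (fun n hn h1 => by
    have h2 := (mem_centralizer_iff.1 (h.fr.W_comm i hw) n (h.perp_le hij S hn h1))
    rw [← h2, mul_inv_cancel_right])
  rcases h1 with h1 | h1
  · exact Or.inl (h1 n hn)
  · rcases Int.units_eq_one_or (B (v i) n) with h2 | h2
    · left
      have h3 := (mem_centralizer_iff.1 (h.fr.W_comm i hw) n (h.perp_le hij S hn h2))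
      rw [← h3, mul_inv_cancel_right]
    · exact Or.inr (h1 n hn h2)

/-- `R_i = ⟨N_j ^ C_i⟩`, `[W_i, R_i] ≤ N_i` -/
theorem comm_WR {i j : Fin 2} (hij : i ≠ j) {w r : G} (hw : w ∈ WU V v i)
    (hr : r ∈ NoFF.Basic.V (NU V v j) (CC v i)) : w * r * w⁻¹ * r⁻¹ ∈ NU V v i := by
  obtain ⟨a', B', S'⟩ := h.exists_side hij
  have hCN : ∀ c ∈ CC v i, ∀ x ∈ NU V v i, c * x * c⁻¹ ∈ NU V v i := fun c hc x hx =>
    (mem_normalizer_iff.1 (h.fr.C_le_N_N i hc) x).1 hx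
  have hCW : ∀ c ∈ CC v i, ∀ x ∈ WU V v i, c⁻¹ * x * c ∈ WU V v i := fun c hc x hx =>
    (mem_normalizer_iff''.1 (h.fr.C_le_N_W i hc) x).1 hx
  let K : Subgroup G :=
    { carrier := {r | r ∈ CC v i ∧ ∀ w ∈ WU V v i, w * r * w⁻¹ * r⁻¹ ∈ NU V v i}
      one_mem' := ⟨one_mem _, fun w _ => by simp⟩
      mul_mem' := by
        rintro x y ⟨hx, hx'⟩ ⟨hy, hy'⟩
        refine ⟨mul_mem hx hy, fun w hw => ?_⟩
        have e : w * (x * y) * w⁻¹ * (x * y)⁻¹ = w * x * w⁻¹ * x⁻¹ * (x * (w * y * w⁻¹ * y⁻¹) * x⁻¹) := by group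
        rw [e]
        exact mul_mem (hx' w hw) (hCN x hx _ (hy' w hw))
      inv_mem' := by
        rintro x ⟨hx, hx'⟩
        refine ⟨inv_mem hx, fun w hw => ?_⟩
        have e2 : w * x⁻¹ * w⁻¹ * x⁻¹⁻¹ = (w * x⁻¹) * (w⁻¹ * x * w⁻¹⁻¹ * x⁻¹) * (w * x⁻¹)⁻¹ := by group
        rw [e2]
        exact hCN _ (mul_mem (h.fr.W_le_C i i hw) (inv_mem hx)) _ (hx' _ (inv_mem hw)) }
  have hRK : NoFF.Basic.V (NU V v j) (CC v i) ≤ K := by
    refine V_le fun c hc x hx => ?_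
    rw [mem_conj] at hx
    have hxC : x ∈ CC v i := by
      have h1 := mul_mem (mul_mem hc (h.fr.N_le_C j i hx)) (inv_mem hc)
      have e : c * (c⁻¹ * x * c) * c⁻¹ = x := by group
      rwa [e] at h1
    refine ⟨hxC, fun w hw => ?_⟩
    have h1 := h.comm_WN hij (hCW c hc w hw) hx
    have h2 : c⁻¹ * (w * x * w⁻¹ * x⁻¹) * c ∈ NU V v i := by
      have e : c⁻¹ * (w * x * w⁻¹ * x⁻¹) * c = (c⁻¹ * w * c) * (c⁻¹ * x * c) * (c⁻¹ * w * c)⁻¹ * (c⁻¹ * x * c)⁻¹ := by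
        group
      rw [e]
      rcases h1 with h1 | h1
      · rw [h1, mul_inv_cancel]; exact one_mem _
      · rw [h1]
        -- `n (v_i v_j) n⁻¹ = v_i v_j`
        have hz : v i * v j ∈ zc T := mul_mem (h.fr.v_mem_zc _) (h.fr.v_mem_zc _)
        rw [h.zc_conj (h.fr.N_le_T j hx) hz]
        exact mul_mem S'.d.e_mem S'.d.x_mem
    have h3 := hCN c hc _ h2
    have e : c * (c⁻¹ * (w * x * w⁻¹ * x⁻¹) * c) * c⁻¹ = w * x * w⁻¹ * x⁻¹ := by group
    rwa [e] at h3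
  exact (hRK hr).2 w hw

theorem R_le {i j : Fin 2} : NoFF.Basic.V (NU V v j) (CC v i) ≤ CC v i := by
  refine V_le fun c hc x hx => ?_
  rw [mem_conj] at hx
  have h1 := mul_mem (mul_mem hc (h.fr.N_le_C j i hx)) (inv_mem hc)
  have e : c * (c⁻¹ * x * c) * c⁻¹ = x := by group
  rwa [e] at h1

/-- (6) `D ∩ R_i ≤ N(V_i)` -/
theorem DR_le {i j : Fin 2} (hij : i ≠ j) {d : G} (hd : d ∈ centralizer (zc T : Set G))
    (hr : d ∈ NoFF.Basic.V (NU V v j) (CC v i)) : d ∈ normalizer (V i : Set G) := by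
  obtain ⟨a, B, S⟩ := h.exists_side hij.symm
  have hdi : d ∈ CC v i := h.fr.cent_zc_le i hd
  have hdj : d ∈ CC v j := h.fr.cent_zc_le j hd
  have hdv : d * v i * d⁻¹ = v i := by
    rw [mem_centralizer_singleton_iff.1 hdi, mul_inv_cancel_right]
  have hVN : V i ≤ NU V v j := by
    have := h.fr.V_le_N j
    rwa [← eq_add_one hij.symm] at this
  have haN := hVN S.mem
  have haa : a * a = 1 := S.d.sq a haN
  have key : d * a * d⁻¹ = a ∨ d * a * d⁻¹ = a * v i := by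
    have h1 : a * (d * a * d⁻¹) ∈ NU V v i := by
      have h2 := h.comm_WR hij (h.fr.V_le_W i S.mem) hr
      rwa [S.d.inv_eq haN, mul_assoc (a * d), mul_assoc a, ← mul_assoc d] at h2
    have h2 : d * a * d⁻¹ ∈ NU V v j := S.d.conj_N hdj haN
    have h3 := h.inter hij h1 (mul_mem haN h2)
    have h4 : d * a * d⁻¹ = a * (a * (d * a * d⁻¹)) := by rw [← mul_assoc, haa, one_mul]
    have hpt : ∀ y ∈ Pts (CC v j) (v i), y * v j ∉ Pts (CC v j) (v i) := fun y hy =>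
      S.d.not_both S.F (h.fr.ne j) hy
    have h5 : d * a * d⁻¹ ∈ Pts (CC v j) (v i) := S.d.conj_pt S.d.a_pt hdj
    rcases h.zc_cases hij h3 with h6 | h6 | h6 | h6
    · left; rw [h6, mul_one] at h4; exact h4
    · right; rw [h6] at h4; exact h4
    · exfalso
      rw [h6] at h4
      rw [h4] at h5
      exact hpt a S.d.a_pt h5
    · exfalso
      rw [h6] at h4
      rw [h4] at h5
      have e : a * (v j * v i) = v i * a * v j := by
        have e1 : v j * v i = v i * v j := (h.fr.comm_v i (h.fr.v_mem_T j))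
        rw [e1, ← mul_assoc, S.d.comm a haN _ S.d.x_mem]
      rw [e] at h5
      exact hpt _ S.d.xa_pt h5
  refine mem_normalizer_fintype fun x hx => ?_
  rcases h.V_cases S.mem S.ne1 S.nev hx with h1 | h1 | h1 | h1
  · rw [h1, mul_one, mul_inv_cancel]; exact one_mem _
  · rw [h1, hdv]; exact h.fr.mem i
  · rw [h1]
    rcases key with h2 | h2
    · rw [h2]; exact S.mem
    · rw [h2]; exact mul_mem S.mem (h.fr.mem i)
  · have e : d * (v i * a) * d⁻¹ = d * v i * d⁻¹ * (d * a * d⁻¹) := by group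
    rw [h1, e, hdv]
    rcases key with h2 | h2
    · rw [h2]; exact mul_mem (h.fr.mem i) S.mem
    · rw [h2]; exact mul_mem (h.fr.mem i) (mul_mem S.mem (h.fr.mem i))

/-- `C_{R_i}(x) ≤ N(V_i)` for `x ∈ V_j#` -/
theorem RC_le {i j : Fin 2} (hij : i ≠ j) {x r : G} (hx : x ∈ V j) (hx1 : x ≠ 1)
    (hr : r ∈ NoFF.Basic.V (NU V v j) (CC v i)) (hrx : r * x = x * r) : r ∈ normalizer (V i : Set G) := by
  obtain ⟨l, hl, -, hlx⟩ := h.fr.tr hij.symm hx hx1
  have hlC : l ∈ CC v i := h.fr.PC j i hij.symm hl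
  have hlN : l ∈ normalizer (V i : Set G) := h.fr.PN j i hl
  have h1 : l⁻¹ * r * l ∈ NoFF.Basic.V (NU V v j) (CC v i) :=
    (mem_normalizer_iff''.1 (le_normalizer_V _ _ hlC) r).1 hr
  have h2 : l⁻¹ * r * l ∈ centralizer (zc T : Set G) := by
    refine (h.fr.mem_D_iff hij).2 ⟨h.R_le h1, ?_⟩
    rw [mem_centralizer_singleton_iff]
    have e : v j = l⁻¹ * x * l := by rw [← hlx]; group
    rw [e]
    calc l⁻¹ * r * l * (l⁻¹ * x * l) = l⁻¹ * (r * x) * l := by group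
      _ = l⁻¹ * (x * r) * l := by rw [hrx]
      _ = _ := by group
  have h3 := h.DR_le hij h2 h1
  have e : r = l * (l⁻¹ * r * l) * l⁻¹ := by group
  rw [e]
  exact mul_mem (mul_mem hlN h3) (inv_mem hlN)

/-- `R_i ≤ N(V_i)` -/
theorem R_le_N {i j : Fin 2} (hij : i ≠ j) : NoFF.Basic.V (NU V v j) (CC v i) ≤ normalizer (V i : Set G) := by
  obtain ⟨a, B, S⟩ := h.exists_side hij
  have hVN : V j ≤ NU V v i := by
    have := h.fr.V_le_N i
    rwa [← eq_add_one hij] at this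
  refine V_le fun c hc y hy => ?_
  have hyR : y ∈ NoFF.Basic.V (NU V v j) (CC v i) := Z_le_V hc hy
  rw [mem_conj] at hy
  have haN := hVN S.mem
  have hvN := S.d.x_mem
  -- an element `x ∈ V_j#` centralised by `y`
  obtain ⟨x, hx, hx1, hyx⟩ : ∃ x ∈ V j, x ≠ 1 ∧ y * x = x * y := by
    by_cases hcen : c⁻¹ * y * c ∈ centralizer (NU V v i : Set G)
    · refine ⟨v j, h.fr.mem j, h.fr.ne j, ?_⟩
      have h1 := mem_centralizer_iff.1 hcen _ (S.d.conj_N' hc hvN)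
      calc y * v j = c * (c⁻¹ * y * c * (c⁻¹ * v j * c)) * c⁻¹ := by group
        _ = c * (c⁻¹ * v j * c * (c⁻¹ * y * c)) * c⁻¹ := by rw [← h1]
        _ = v j * y := by group
    · have htr := S.d.conj_tr (h.tr_of hij hy hcen) hc
      have e : c * (c⁻¹ * y * c) * c⁻¹ = y := by group
      rw [e] at htr
      have hp : c * v j * c⁻¹ ∈ Pts (CC v i) (v j) := ⟨c, hc, rfl⟩
      have hfix : ∀ x ∈ V j, B (c * v j * c⁻¹) x = 1 → y * x = x * y := by
        intro x hx h1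
        have h2 := (S.F.tv _ hp _ htr x (hVN hx)).1 h1
        calc y * x = y * x * y⁻¹ * y := by group
          _ = x * y := by rw [h2]
      have hpN := S.d.pt_mem hp
      rcases Int.units_eq_one_or (B (c * v j * c⁻¹) (v j)) with h1 | h1
      · exact ⟨v j, h.fr.mem j, h.fr.ne j, hfix _ (h.fr.mem j) h1⟩
      · rcases Int.units_eq_one_or (B (c * v j * c⁻¹) a) with h2 | h2
        · exact ⟨a, S.mem, S.ne1, hfix _ S.mem h2⟩
        · refine ⟨v j * a, mul_mem (h.fr.mem j) S.mem, fun h3 => S.nev ?_, hfix _ (mul_mem (h.fr.mem j) S.mem) ?_⟩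
          · have h4 : v j * a = v j * v j := by rw [h3, h.fr.v_sq]
            exact mul_left_cancel h4
          · rw [S.F.mul _ hpN _ hvN _ haN, h1, h2]; decide
  exact h.RC_le hij hx hx1 hyR hyx

/-- **THEOREM (R6 #20647 (4))** -/
theorem false : False := by
  have hij : (0 : Fin 2) ≠ 1 := by decide
  refine h.fr.comp 0 fun c hc => ?_
  have hR : NU V v 1 ≤ NoFF.Basic.V (NU V v 1) (CC v 0) := le_V _ _
  obtain ⟨x, hx, d, hd, e⟩ := h.fr.lem0 (X := NoFF.Basic.V (NU V v 1) (CC v 0)) h.R_le (le_normalizer_V _ _)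
    (fun h1 => h.ne 0 1 hij (hR.trans h1)) c⁻¹ (inv_mem hc)
  refine ⟨d⁻¹, inv_mem hd, x⁻¹, inv_mem (h.R_le_N hij hx), ?_⟩
  have e2 : c = (c⁻¹)⁻¹ := by group
  rw [e2, e]
  group

end In

/-- **[N_0, N_1] ≤ Ω₁Z(T), [N_0, N_1] ≠ 1** under LEMMA FIX -/
theorem false_of (D : Fr T V P v) (h01 : ∀ x ∈ NU V v 1, ∀ e ∈ NU V v 0, x * e * x⁻¹ * e⁻¹ ∈ zc T)
    (hne : ¬ NU V v 0 ≤ centralizer (NU V v 1 : Set G)) (hfix : ∀ i, FixE T v i) : False := by
  have h10 : ∀ x ∈ NU V v 0, ∀ e ∈ NU V v 1, x * e * x⁻¹ * e⁻¹ ∈ zc T := by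
    intro x hx e he
    have e1 : x * e * x⁻¹ * e⁻¹ = (e * x * e⁻¹ * x⁻¹)⁻¹ := by group
    rw [e1]
    exact inv_mem (h01 e he x hx)
  refine In.false (T := T) (V := V) (P := P) (v := v) ⟨D, ?_, ?_, hfix⟩
  · intro i j hij
    rcases Fin.exists_fin_two.1 ⟨i, rfl⟩ with hi | hi
    · have hj : j = 1 := by rw [hi] at hij; revert hij; revert j; decide
      rw [hi, hj]; exact h01
    · have hj : j = 0 := by rw [hi] at hij; revert hij; revert j; decide
      rw [hi, hj]; exact h10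
  · intro i j hij
    rcases Fin.exists_fin_two.1 ⟨i, rfl⟩ with hi | hi
    · have hj : j = 1 := by rw [hi] at hij; revert hij; revert j; decide
      rw [hi, hj]
      exact fun h1 => hne (comm_symm h1)
    · have hj : j = 0 := by rw [hi] at hij; revert hij; revert j; decide
      rw [hi, hj]; exact hne

end Cfsg.Agent.Omega.TC.OneEnd
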