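import Cfsg.Agent.Mrg.Omega.TC.No
import Cfsg.Agent.Mrg.Omega.TC.OneEnd
import Cfsg.Agent.Mrg.Omega.TC.Int
import Cfsg.Agent.Mrg.Omega.TC.Crit
import Cfsg.Agent.Mrg.Omega.TC.ThmI
import Cfsg.Agent.Mrg.Omega.FrameI

section


/-!
# LEMMA FIX over the frame `TC.Fr` (helper609 #19750 (1), helper364 #20327; CARD #18791 TWO CENTRES)

Hypothesis `hJ : ∀ i, ¬ jj T ≤ o2 (P i)` (i. e. `J(T)` moves `V i`; `hJ_iff`).

* `exists_A` : some `A ∈ A(T)` moves `V i` and centralises `V j`;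
* `zc_OO` : `Ω₁Z(O) ≤ V 0 V 1`, `O = C_T(V 0 V 1)`;
* `fixL` : **LEMMA FIX** : `FixL T V v`;
* `fixE` : **LEMMA FIX for `E_i`** : `V i ≰ N_i` implies `FixE T v i`;
* `comm_of_inter` : `V i ≰ N_i`, `N_0 ∩ N_1 ≤ Ω₁Z(T)` imply `[N_0, N_1] = 1` (with `TC/OneEnd.lean`);
* `false_of_comm` : `V i ≰ N_i`, `[N_0, N_1] = 1` implies `[W_{i+1}, N_i] = 1` for some `i` (with `TC/DOne.lean`).
-/

set_option autoImplicit false
set_option linter.unusedSectionVars false

namespace Cfsg.Agent.Omega.TC.FixEL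

open Subgroup Cfsg Cfsg.Agent.ZN Cfsg.Agent.PLocal.ThompsonJ Cfsg.Agent.PLocal.ElemAbSup
open Cfsg.Agent.Omega.MinPar
open Cfsg.Agent.Omega.OM.KTwo (CC QQ WU NU EU FF ne_add_one eq_add_one add_one_add_one le_normalizer_V le_V)
open Cfsg.Agent.Omega.NoFF.Basic (conj_conj mem_conj conj_le_iff conj_le_centralizer comm_symm comm_mono
  Z_le_V V_le conj_V_mul)
open Cfsg.Agent.ZN.ChoiceSit (Syl)
open Cfsg.Agent.ZN.ChoiceBase (AA jj_eq)
open Phi
open DOne (FixE)
open scoped Pointwise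

universe u

variable {G : Type u} [Group G]

theorem card_le_two_mul [Finite G] {A C : Subgroup G} {τ : G} (hτ : τ ∈ A) (hCA : C ≤ A)
    (hidx : ∀ a ∈ A, a ∈ C ∨ τ * a ∈ C) : Nat.card A ≤ 2 * Nat.card C := by
  have h1 : C.relIndex A ≤ 2 := by
    by_cases hτC : τ ∈ C
    · have : C = A := le_antisymm hCA fun a ha => by
        rcases hidx a ha with h | h
        · exact h
        · have := C.mul_mem (C.inv_mem hτC) h
          rwa [inv_mul_cancel_left] at this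
      rw [this, relIndex_self]
      omega
    · refine le_of_eq ?_
      rw [relIndex_eq_two_iff_exists_notMem_and]
      by_cases hh : ∀ b ∈ A, b * τ ∈ C ∨ b ∈ C
      · exact ⟨τ, hτ, hτC, hh⟩
      · -- use left cosets for `τ⁻¹`
        refine ⟨τ⁻¹, inv_mem hτ, fun h => hτC (by rw [← inv_inv τ]; exact inv_mem h), fun b hb => ?_⟩
        rcases hidx _ (inv_mem hb) with h | h
        · exact Or.inr (by rw [← inv_inv b]; exact inv_mem h)
        · left
          have := inv_mem h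
          rwa [mul_inv_rev, inv_inv] at this
  have h2 := relIndex_mul_relIndex (⊥ : Subgroup G) C A bot_le hCA
  rw [relIndex_bot_left, relIndex_bot_left] at h2
  rw [← h2, mul_comm]
  exact Nat.mul_le_mul_right _ h1

variable [Finite G] {T : Subgroup G} {V P : Fin 2 → Subgroup G} {v : Fin 2 → G} (D : Fr T V P v)

include D

/-- the two forms of the hypothesis -/
theorem hJ_iff (i : Fin 2) : (¬ jj T ≤ o2 (P i)) ↔ ∃ A ∈ AA T, ¬ A ≤ centralizer (V i : Set G) := by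
  rw [o2_P D i, jj_eq]
  constructor
  · intro h
    by_contra hcon
    push Not at hcon
    exact h (sSup_le fun A hA => le_inf hA.2.1 (hcon A hA))
  · rintro ⟨A, hA, h1⟩ h
    exact h1 ((le_sSup hA).trans (h.trans inf_le_right))

theorem V_le_cent (i j : Fin 2) : V i ≤ centralizer (V j : Set G) := by
  by_cases hij : i = j
  · subst hij
    intro x hx
    exact mem_centralizer_iff.2 fun y hy => D.V_comm hy hx
  · exact (D.U_le_Q i).trans (D.half hij).2

theorem eabV (i : Fin 2) : IsElementaryAbelian 2 (V i) :=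
  isElementaryAbelian_iff.2 ⟨fun _ ha _ hb => D.V_comm ha hb, fun a ha => D.sqV i a ha⟩

theorem V_inf {i j : Fin 2} (hij : i ≠ j) : V i ⊓ V j = ⊥ := by
  rw [eq_bot_iff]
  intro x hxx
  have hx : x ∈ V i := hxx.1
  have hx' : x ∈ V j := hxx.2
  by_contra hx1
  have hx1 : x ≠ 1 := hx1
  -- `v i` or `x` is in `V i ⊓ V j`
  have hvi : v i ∉ V j := v_notMem D hij.symm
  have hxv : x ≠ v i := fun h => hvi (h ▸ hx')
  obtain ⟨t, ht, htx⟩ := D.exists_swap hx hx1 hxv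
  have h1 : t * x * t⁻¹ ∈ V j := (mem_normalizer_iff.1 (D.T_le_N j ht) x).1 hx'
  rw [htx] at h1
  apply hvi
  have := mul_mem (inv_mem hx') h1
  rwa [inv_mul_cancel_left] at this

theorem card_V_sup {i j : Fin 2} (hij : i ≠ j) : Nat.card (V i ⊔ V j : Subgroup G) = 16 := by
  have h := card_sup_mul_card_inf (V_le_cent D j i)
  rw [V_inf D hij, Subgroup.card_bot, mul_one, D.four i, D.four j] at h
  exact h

theorem eab_sup {i j : Fin 2} : IsElementaryAbelian 2 (V i ⊔ V j : Subgroup G) :=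
  isElementaryAbelian_sup (eabV D i) (eabV D j) (V_le_cent D j i)

theorem mem_sup {i j : Fin 2} {x : G} (hx : x ∈ V i ⊔ V j) : ∃ a ∈ V i, ∃ b ∈ V j, x = a * b := by
  have h1 : (x : G) ∈ ((V i ⊔ V j : Subgroup G) : Set G) := hx
  rw [coe_sup_of_le_centralizer (V_le_cent D j i)] at h1
  obtain ⟨a, ha, b, hb, hx⟩ := h1
  exact ⟨a, ha, b, hb, hx.symm⟩

/-- an element of `T` moving `V i` fixes only `v i` in `V i` -/
theorem eq_of_fix {i : Fin 2} {t a : G} (ht : t ∈ T) (hto : t ∉ centralizer (V i : Set G)) (ha : a ∈ V i)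
    (hta : t * a * t⁻¹ = a) : a = 1 ∨ a = v i := by
  by_contra hcon
  push Not at hcon
  have hto' : t ∉ o2 (P i) := fun h => hto (by rw [o2_P D i] at h; exact h.2)
  have := moves D ht hto' ha hcon.1 hcon.2
  rw [hta] at this
  exact D.ne i (mul_eq_left.1 this.symm)

/-- some `A ∈ A(T)` moves `V i` and centralises `V j` -/
theorem exists_A (hJ : ∀ i, ¬ jj T ≤ o2 (P i)) {i j : Fin 2} (hij : i ≠ j) :
    ∃ A, IsMaxIn T A ∧ A ≤ centralizer (V j : Set G) ∧ ∃ τ ∈ A, τ ∉ o2 (P i) := by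
  obtain ⟨A, hA, τ, hτ, hτo, hidx⟩ := exists_max D (hJ i)
  by_cases hAj : A ≤ centralizer (V j : Set G)
  · exact ⟨A, hA, hAj, τ, hτ, hτo⟩
  obtain ⟨σ, hσ, hσo⟩ := SetLike.not_le_iff_exists.1 hAj
  have hAc := (isElementaryAbelian_iff.1 hA.2.1).1
  set C := A ⊓ centralizer (V j : Set G) with hC
  have hidxj : ∀ ρ ∈ A, ρ ∉ C → ∀ a ∈ A, a ∈ C ∨ ρ * a ∈ C := by
    intro ρ hρ hρo a ha
    by_cases hao : a ∈ centralizer (V j : Set G)
    · exact Or.inl ⟨ha, hao⟩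
    · have h1 := mul_mem_o2 D (i := j) (hA.1 hρ) (fun h => hρo ⟨hρ, by rw [o2_P D j] at h; exact h.2⟩) (hA.1 ha)
        (fun h => hao (by rw [o2_P D j] at h; exact h.2))
      rw [o2_P D j] at h1
      exact Or.inr ⟨mul_mem hρ ha, h1.2⟩
  have hσC : σ ∉ C := fun h => hσo h.2
  have hcard := card_le_two_mul hσ inf_le_left (hidxj σ hσ hσC)
  have hCe : IsElementaryAbelian 2 C := isElementaryAbelian_mono hA.2.1 inf_le_left
  by_cases hCi : C ≤ centralizer (V i : Set G)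
  · exfalso
    have hτi : τ ∉ centralizer (V i : Set G) := fun h => hτo (by rw [o2_P D i]; exact ⟨hA.1 hτ, h⟩)
    have hτj : τ ∉ centralizer (V j : Set G) := fun h => hτi (hCi ⟨hτ, h⟩)
    have hCX : C ≤ centralizer ((V i ⊔ V j : Subgroup G) : Set G) := by
      refine comm_symm (sup_le (comm_symm hCi) (comm_symm inf_le_right))
    have h1 := card_sup_mul_card_inf hCX
    have h2 : Nat.card ((V i ⊔ V j) ⊔ C : Subgroup G) ≤ Nat.card A :=
      hA.2.2 _ (sup_le (sup_le (D.V_le_T i) (D.V_le_T j)) (inf_le_left.trans hA.1))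
        (isElementaryAbelian_sup (eab_sup D) hCe hCX)
    have h3 : (V i ⊔ V j) ⊓ C ≤ zc T := by
      intro x hxx
      have hxC : x ∈ C := hxx.2
      obtain ⟨a, ha, b, hb, rfl⟩ := mem_sup D hxx.1
      have h4 : τ * (a * b) * τ⁻¹ = a * b := by
        rw [hAc τ hτ _ hxC.1, mul_inv_cancel_right]
      have h5 : τ * a * τ⁻¹ ∈ V i := (mem_normalizer_iff.1 (D.T_le_N i (hA.1 hτ)) a).1 ha
      have h6 : τ * b * τ⁻¹ ∈ V j := (mem_normalizer_iff.1 (D.T_le_N j (hA.1 hτ)) b).1 hb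
      have h7 : a⁻¹ * (τ * a * τ⁻¹) = b * (τ * b * τ⁻¹)⁻¹ := by
        have e : τ * (a * b) * τ⁻¹ = (τ * a * τ⁻¹) * (τ * b * τ⁻¹) := by group
        rw [e] at h4
        calc a⁻¹ * (τ * a * τ⁻¹) = a⁻¹ * ((τ * a * τ⁻¹) * (τ * b * τ⁻¹)) * (τ * b * τ⁻¹)⁻¹ := by group
          _ = b * (τ * b * τ⁻¹)⁻¹ := by rw [h4]; group
      have h8 : a⁻¹ * (τ * a * τ⁻¹) ∈ V i ⊓ V j :=
        mem_inf.2 ⟨mul_mem (inv_mem ha) h5, by rw [h7]; exact mul_mem hb (inv_mem h6)⟩
      rw [V_inf D hij, mem_bot] at h8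
      have h9 : τ * a * τ⁻¹ = a := by rw [inv_mul_eq_one] at h8; exact h8.symm
      have h10 : τ * b * τ⁻¹ = b := by
        rw [h8, eq_comm, mul_inv_eq_one] at h7
        exact h7.symm
      refine mul_mem ?_ ?_
      · rcases eq_of_fix D (hA.1 hτ) hτi ha h9 with h | h
        · rw [h]; exact one_mem _
        · rw [h]; exact D.v_mem_zc i
      · rcases eq_of_fix D (hA.1 hτ) hτj hb h10 with h | h
        · rw [h]; exact one_mem _
        · rw [h]; exact D.v_mem_zc j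
    have h4 : Nat.card ((V i ⊔ V j) ⊓ C : Subgroup G) ≤ 4 := (Subgroup.card_le_of_le h3).trans (card_zc_le D)
    rw [card_V_sup D hij] at h1
    have h5 : 0 < Nat.card C := Nat.card_pos
    have h6 : 16 * Nat.card C ≤ 8 * Nat.card C := by
      rw [← h1]
      calc _ ≤ (2 * Nat.card C) * 4 := Nat.mul_le_mul (h2.trans hcard) h4
        _ = 8 * Nat.card C := by ring
    omega
  · -- `V j C`
    obtain ⟨ρ, hρ, hρi⟩ := SetLike.not_le_iff_exists.1 hCi
    have hCX : C ≤ centralizer (V j : Set G) := inf_le_right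
    have h1 := card_sup_mul_card_inf hCX
    have he : IsElementaryAbelian 2 (V j ⊔ C : Subgroup G) := isElementaryAbelian_sup (eabV D j) hCe hCX
    have h3 : Nat.card (V j ⊓ C : Subgroup G) ≤ 2 := by
      have h4 : V j ⊓ C ≤ zpowers (v j) := by
        rintro x ⟨hx, hxC⟩
        have h5 : σ * x * σ⁻¹ = x := by rw [hAc σ hσ x hxC.1, mul_inv_cancel_right]
        rcases eq_of_fix D (hA.1 hσ) hσo hx h5 with h | h
        · rw [h]; exact one_mem _
        · rw [h]; exact mem_zpowers _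
      refine (Subgroup.card_le_of_le h4).trans ?_
      rw [Nat.card_zpowers, orderOf_eq_prime (D.v_sq' j) (D.ne j)]
    have h5 : 2 * Nat.card C ≤ Nat.card (V j ⊔ C : Subgroup G) := by
      rw [D.four j] at h1
      have h6 : Nat.card (V j ⊔ C : Subgroup G) * Nat.card (V j ⊓ C : Subgroup G) ≤
          Nat.card (V j ⊔ C : Subgroup G) * 2 := Nat.mul_le_mul_left _ h3
      omega
    refine ⟨V j ⊔ C, ⟨sup_le (D.V_le_T j) (inf_le_left.trans hA.1), he, fun B hB hBe => ?_⟩,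
      sup_le (V_le_cent D j j) inf_le_right, ρ, mem_sup_right hρ, fun h => hρi (by rw [o2_P D i] at h; exact h.2)⟩
    exact (hA.2.2 B hB hBe).trans (hcard.trans h5)

/-! ### `Ω₁Z(O)`, `O = C_T(V 0 V 1)` -/

omit D in
/-- `O = C_T(V 0 V 1)` -/
def OO (T : Subgroup G) (V : Fin 2 → Subgroup G) : Subgroup G :=
  T ⊓ (centralizer (V 0 : Set G) ⊓ centralizer (V 1 : Set G))

omit D [Finite G] in
theorem mem_OO {x : G} : x ∈ OO T V ↔ x ∈ T ∧ ∀ j, x ∈ centralizer (V j : Set G) := by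
  constructor
  · rintro ⟨h1, h2, h3⟩
    refine ⟨h1, fun j => ?_⟩
    rcases Fin.exists_fin_two.1 ⟨j, rfl⟩ with h | h <;> rw [h]
    · exact h2
    · exact h3
  · rintro ⟨h1, h2⟩
    exact ⟨h1, h2 0, h2 1⟩

omit D [Finite G] in
theorem mem_OO' {i j : Fin 2} (hij : i ≠ j) {x : G} :
    x ∈ OO T V ↔ x ∈ T ∧ x ∈ centralizer (V i : Set G) ∧ x ∈ centralizer (V j : Set G) := by
  rw [mem_OO]
  refine and_congr_right fun _ => ⟨fun h => ⟨h i, h j⟩, fun h k => ?_⟩
  by_cases hk : k = i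
  · rw [hk]; exact h.1
  · have : k = j := by
      have h1 := eq_add_one hij
      have h2 := eq_add_one (i := i) (j := k) (fun h => hk h.symm)
      rw [h2, h1]
    rw [this]; exact h.2

theorem OO_le_o2 (i : Fin 2) : OO T V ≤ o2 (P i) := by
  rw [o2_P D i]
  exact fun x hx => ⟨(mem_OO.1 hx).1, (mem_OO.1 hx).2 i⟩

theorem P_le_N_OO (i : Fin 2) : P i ≤ normalizer (OO T V : Set G) := by
  obtain ⟨j, hij⟩ : ∃ j : Fin 2, i ≠ j := ⟨i + 1, ne_add_one i⟩
  have key : ∀ g ∈ P i, ∀ x ∈ OO T V, g * x * g⁻¹ ∈ OO T V := by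
    intro g hg x hx
    have h1 : g * x * g⁻¹ ∈ o2 (P i) := (mem_normalizer_iff.1 (le_normalizer_o2 _ hg) x).1 (OO_le_o2 D i hx)
    rw [o2_P D i] at h1
    refine (mem_OO' hij).2 ⟨h1.1, h1.2, mem_centralizer_iff.2 fun y hy => ?_⟩
    have h2 : g⁻¹ * y * g ∈ V j := (mem_normalizer_iff''.1 (D.PN i j hg) y).1 hy
    have h3 := mem_centralizer_iff.1 ((mem_OO.1 hx).2 j) _ h2
    calc y * (g * x * g⁻¹) = g * ((g⁻¹ * y * g) * x) * g⁻¹ := by group
      _ = g * (x * (g⁻¹ * y * g)) * g⁻¹ := by rw [h3]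
      _ = g * x * g⁻¹ * y := by group
  intro g hg
  rw [mem_normalizer_iff]
  intro x
  refine ⟨key g hg x, fun hx => ?_⟩
  have h1 := key g⁻¹ (inv_mem hg) _ hx
  have e : g⁻¹ * (g * x * g⁻¹) * g⁻¹⁻¹ = x := by group
  rwa [e] at h1

theorem V_le_OO (i : Fin 2) : V i ≤ OO T V := fun _ hx => mem_OO.2 ⟨D.V_le_T i hx, fun j => V_le_cent D i j hx⟩

/-- `|Y : C_Y(A)| ≤ 2`, `Y = Ω₁Z(O)` -/
theorem card_zc_OO {i j : Fin 2} (hij : i ≠ j) {A : Subgroup G} (hA : IsMaxIn T A)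
    (hAj : A ≤ centralizer (V j : Set G)) {τ : G} (hτ : τ ∈ A) (hτo : τ ∉ o2 (P i)) :
    Nat.card (zc (OO T V)) ≤ 2 * Nat.card (zc (OO T V) ⊓ centralizer (A : Set G) : Subgroup G) := by
  set Y := zc (OO T V) with hY
  have hYO : Y ≤ OO T V := zc_le _
  set C := A ⊓ OO T V with hC
  have hidx : ∀ a ∈ A, a ∈ C ∨ τ * a ∈ C := by
    intro a ha
    by_cases hao : a ∈ o2 (P i)
    · rw [o2_P D i] at hao
      exact Or.inl ⟨ha, (mem_OO' hij).2 ⟨hA.1 ha, hao.2, hAj ha⟩⟩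
    · have h1 := mul_mem_o2 D (hA.1 hτ) hτo (hA.1 ha) hao
      rw [o2_P D i] at h1
      exact Or.inr ⟨mul_mem hτ ha, (mem_OO' hij).2 ⟨h1.1, h1.2, mul_mem (hAj hτ) (hAj ha)⟩⟩
  have hcard := card_le_two_mul hτ inf_le_left hidx
  have hCY : C ≤ centralizer (Y : Set G) := by
    intro a ha
    exact mem_centralizer_iff.2 fun y hy => ((mem_zc.1 hy).2.1 a ha.2).symm
  have h1 := card_sup_mul_card_inf hCY
  have h2 : Nat.card (Y ⊔ C : Subgroup G) ≤ Nat.card A :=
    hA.2.2 _ (sup_le (hYO.trans fun x hx => (mem_OO.1 hx).1) (inf_le_left.trans hA.1))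
      (isElementaryAbelian_sup (isElementaryAbelian_zc _) (isElementaryAbelian_mono hA.2.1 inf_le_left) hCY)
  have h3 : Y ⊓ C ≤ Y ⊓ centralizer (A : Set G) := by
    refine inf_le_inf_left _ (inf_le_left.trans ?_)
    intro a ha
    exact mem_centralizer_iff.2 fun b hb => (isElementaryAbelian_iff.1 hA.2.1).1 b hb a ha
  have h4 := Subgroup.card_le_of_le h3
  have h5 : 0 < Nat.card C := Nat.card_pos
  refine Nat.le_of_mul_le_mul_right ?_ h5
  rw [← h1]
  calc _ ≤ (2 * Nat.card C) * Nat.card (Y ⊓ centralizer (A : Set G) : Subgroup G) :=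
        Nat.mul_le_mul (h2.trans hcard) h4
    _ = _ := by ring

/-- `Ω₁Z(O) = V 0 V 1` -/
theorem zc_OO (hJ : ∀ i, ¬ jj T ≤ o2 (P i)) : zc (OO T V) ≤ V 0 ⊔ V 1 := by
  have h01 : (0 : Fin 2) ≠ 1 := by decide
  obtain ⟨A, hA, hAj, τ, hτ, hτo⟩ := exists_A D hJ h01
  obtain ⟨B, hB, hBj, σ, hσ, hσo⟩ := exists_A D hJ h01.symm
  set Y := zc (OO T V) with hY
  have hYO : Y ≤ OO T V := zc_le _
  have hOT : OO T V ≤ T := fun x hx => (mem_OO.1 hx).1
  have h1 := card_zc_OO D h01 hA hAj hτ hτo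
  have h2 := card_zc_OO D h01.symm hB hBj hσ hσo
  -- `|C_Y(A)| ≤ 2 |C_Y(A) ∩ C_Y(B)|`
  set YA := Y ⊓ centralizer (A : Set G) with hYA
  set YB := Y ⊓ centralizer (B : Set G) with hYB
  have hcomm : YB ≤ centralizer (YA : Set G) := by
    rintro x ⟨hx, -⟩
    refine mem_centralizer_iff.2 fun y hy => ?_
    exact (isElementaryAbelian_iff.1 (isElementaryAbelian_zc (OO T V))).1 y hy.1 x hx
  have h3 := card_sup_mul_card_inf hcomm
  have h4 : Nat.card (YA ⊔ YB : Subgroup G) ≤ Nat.card Y := Subgroup.card_le_of_le (sup_le inf_le_left inf_le_left)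
  have h5 : YA ⊓ YB ≤ zc T := by
    rintro y ⟨⟨hy, hyA⟩, ⟨-, hyB⟩⟩
    have hy' := mem_zc.1 hy
    have cτ : τ * y = y * τ := mem_centralizer_iff.1 hyA τ hτ
    have cσ : σ * y = y * σ := mem_centralizer_iff.1 hyB σ hσ
    refine mem_zc.2 ⟨hOT (hYO hy), fun t ht => ?_, hy'.2.2⟩
    -- modify `t` by `τ` and `σ`
    have key : ∀ s : G, s * y = y * s → s * t * y = y * (s * t) → t * y = y * t := by
      intro s hs hst
      have h6 : s⁻¹ * y = y * s⁻¹ := by
        calc s⁻¹ * y = s⁻¹ * (y * s) * s⁻¹ := by group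
          _ = s⁻¹ * (s * y) * s⁻¹ := by rw [hs]
          _ = y * s⁻¹ := by group
      calc t * y = s⁻¹ * (s * t * y) := by group
        _ = (s⁻¹ * y) * (s * t) := by rw [hst]; group
        _ = y * t := by rw [h6]; group
    have hτc : τ ∈ centralizer (V 1 : Set G) := hAj hτ
    have hσc : σ ∈ centralizer (V 0 : Set G) := hBj hσ
    have hmem : ∀ s ∈ T, s ∈ o2 (P 0) → s ∈ o2 (P 1) → s * y = y * s := by
      intro s hs h0 h1
      rw [o2_P D] at h0 h1
      exact hy'.2.1 s ((mem_OO' h01).2 ⟨hs, h0.2, h1.2⟩)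
    have hσ0 : σ ∈ o2 (P 0) := by rw [o2_P D]; exact ⟨hB.1 hσ, hσc⟩
    have hτ1 : τ ∈ o2 (P 1) := by rw [o2_P D]; exact ⟨hA.1 hτ, hτc⟩
    have h1' : ∀ s ∈ T, s ∈ o2 (P 0) → s * y = y * s := by
      intro s hs h0
      by_cases hs1 : s ∈ o2 (P 1)
      · exact hmem s hs h0 hs1
      · have h7 := hmem (σ * s) (mul_mem (hB.1 hσ) hs) (mul_mem hσ0 h0) (mul_mem_o2 D (hB.1 hσ) hσo hs hs1)
        have h6 : σ⁻¹ * y = y * σ⁻¹ := by
          calc σ⁻¹ * y = σ⁻¹ * (y * σ) * σ⁻¹ := by group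
            _ = σ⁻¹ * (σ * y) * σ⁻¹ := by rw [cσ]
            _ = y * σ⁻¹ := by group
        calc s * y = σ⁻¹ * (σ * s * y) := by group
          _ = (σ⁻¹ * y) * (σ * s) := by rw [h7]; group
          _ = y * s := by rw [h6]; group
    by_cases ht0 : t ∈ o2 (P 0)
    · exact h1' t ht ht0
    · exact key τ cτ (h1' (τ * t) (mul_mem (hA.1 hτ) ht) (mul_mem_o2 D (hA.1 hτ) hτo ht ht0))
  have h6 : Nat.card (YA ⊓ YB : Subgroup G) ≤ 4 := (Subgroup.card_le_of_le h5).trans (card_zc_le D)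
  have h7 : 0 < Nat.card YB := Nat.card_pos
  have hpY : 0 < Nat.card Y := Nat.card_pos
  have h8 : Nat.card Y ≤ 16 := by
    -- `|YA||YB| ≤ 4 |Y|`, `|Y| ≤ 2 |YA|`, `|Y| ≤ 2 |YB|`
    have h9 : Nat.card YA * Nat.card YB ≤ Nat.card Y * 4 := by
      rw [← h3]; exact Nat.mul_le_mul h4 h6
    have h10 : Nat.card Y * Nat.card Y ≤ 16 * Nat.card Y := by
      calc Nat.card Y * Nat.card Y ≤ (2 * Nat.card YA) * (2 * Nat.card YB) := Nat.mul_le_mul h1 h2
        _ = 4 * (Nat.card YA * Nat.card YB) := by ring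
        _ ≤ 4 * (Nat.card Y * 4) := Nat.mul_le_mul_left _ h9
        _ = 16 * Nat.card Y := by ring
    exact Nat.le_of_mul_le_mul_right h10 hpY
  have hVY : V 0 ⊔ V 1 ≤ Y := by
    have h9 : ∀ i, V i ≤ Y := by
      intro i x hx
      refine mem_zc.2 ⟨V_le_OO D i hx, fun o ho => ?_, D.sqV i x hx⟩
      exact (mem_centralizer_iff.1 ((mem_OO.1 ho).2 i) x hx).symm
    exact sup_le (h9 0) (h9 1)
  exact (Subgroup.eq_of_le_of_card_ge hVY (by rw [card_V_sup D h01]; exact h8)).ge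

/-- **LEMMA FIX** for `O = C_T(V 0 V 1)` -/
theorem fixL (hJ : ∀ i, ¬ jj T ≤ o2 (P i)) : FixL T V v := by
  intro i n hn hn2 hnV hnb
  obtain ⟨j, hij⟩ : ∃ j : Fin 2, i ≠ j := ⟨i + 1, ne_add_one i⟩
  obtain ⟨A, hA, hAj, τ, hτ, hτo⟩ := exists_A D hJ hij
  obtain ⟨p, hp, hp1, hpv⟩ := D.exists_ne_v i
  obtain ⟨g, hg, -, hgp⟩ := D.tr hij hp hp1
  have hnO : n ∈ OO T V := mem_OO.2 ⟨hn, hnV⟩
  have hcomm := cor_phi (O := OO T V) (v := v i) (p := p) (g := g) hA hτ (fun x hx => (mem_OO.1 hx).1)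
    (fun a ha => by
      by_cases hao : a ∈ o2 (P i)
      · rw [o2_P D i] at hao
        exact Or.inl ((mem_OO' hij).2 ⟨hA.1 ha, hao.2, hAj ha⟩)
      · have h1 := mul_mem_o2 D (hA.1 hτ) hτo (hA.1 ha) hao
        rw [o2_P D i] at h1
        exact Or.inr ((mem_OO' hij).2 ⟨h1.1, h1.2, mul_mem (hAj hτ) (hAj ha)⟩))
    (P_le_N_OO D i (D.T_le_P i (hA.1 hτ))) (P_le_N_OO D i hg) hgp.symm (V_le_OO D i hp)
    (fun o ho => (mem_centralizer_iff.1 ((mem_OO.1 ho).2 i) p hp).symm) (by rw [← pow_two]; exact D.sqV i p hp) hp1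
    (by
      rw [moves D (hA.1 hτ) hτo hp hp1 hpv]
      intro h
      exact D.ne i (mul_eq_left.1 h)) hnO (by rw [← pow_two]; exact hn2) (fun o ho => by
      obtain ⟨m, hm⟩ := mem_zpowers_iff.1 (hnb o (mem_OO.1 ho).1 (mem_OO.1 ho).2)
      rw [← hm]
      rcases Int.even_or_odd' m with ⟨k, rfl | rfl⟩
      · left; rw [zpow_mul, zpow_two, D.v_sq, one_zpow]
      · right; rw [zpow_add, zpow_mul, zpow_two, D.v_sq, one_zpow, one_mul, zpow_one])
  exact zc_OO D hJ (mem_zc.2 ⟨hnO, fun o ho => (hcomm o ho).symm, hn2⟩)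

/-- **LEMMA FIX** for `E_i` -/
theorem fixE {i : Fin 2} (hJ : ¬ jj T ≤ o2 (P i)) (hV : ¬ V i ≤ NU V v i) : FixE T v i := by
  obtain ⟨j, hij⟩ : ∃ j : Fin 2, i ≠ j := ⟨i + 1, ne_add_one i⟩
  intro e he hfix
  have hEN := D.E_le i he
  have hEo : EU T v i ≤ o2 (P i) := by
    refine (D.E_le i).trans (sup_le (N_le_o2 D i) ?_)
    rw [zpowers_le, o2_P D i]
    exact ⟨D.v_mem_T i, mem_centralizer_iff.2 fun b hb => D.comm_v i (D.V_le_T i hb)⟩
  have hoT : o2 (P i) ≤ T := by rw [o2_P D i]; exact inf_le_left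
  obtain ⟨a, ha, h⟩ := phi_mem D hij hJ (hEo he) (by rw [← pow_two]; exact D.E_sq i e he) fun o ho => by
    have h1 := inv_mem (hfix o (hoT ho))
    have e1 : (o * e * o⁻¹ * e⁻¹)⁻¹ = e * o * e⁻¹ * o⁻¹ := by group
    rwa [e1] at h1
  have haE : a ∈ EU T v i := by
    rcases h with h | h
    · rw [← h]; exact he
    · have e1 : a = e * (v j)⁻¹ := by rw [h]; group
      rw [e1]
      exact mul_mem he (inv_mem (le_V _ _ (D.v_mem_zc j)))
  have haz : a ∈ zc T := by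
    by_cases ha1 : a = 1
    · rw [ha1]; exact one_mem _
    by_cases hav : a = v i
    · rw [hav]; exact D.v_mem_zc i
    exfalso
    apply hV
    obtain ⟨t, ht, hta⟩ := D.exists_swap ha ha1 hav
    -- `a` or `a v i` is in `N_i`, so both
    obtain ⟨n, hn, y, hy, hny⟩ : ∃ n ∈ NU V v i, ∃ y ∈ zpowers (v i), n * y = a := by
      have h1 : a ∈ NU V v i ⊔ zpowers (v i) := D.E_le i haE
      have h2 : zpowers (v i) ≤ normalizer (NU V v i : Set G) := by
        rw [zpowers_le]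
        exact D.C_le_N_N i (D.T_le_C i (D.v_mem_T i))
      have h3 : a ∈ ((zpowers (v i) ⊔ NU V v i : Subgroup G) : Set G) := by
        rw [sup_comm] at h1
        exact h1
      rw [coe_mul_of_left_le_normalizer_right _ _ h2] at h3
      obtain ⟨y, hy, n, hn, hyn⟩ := h3
      have hyn : y * n = a := hyn
      refine ⟨n, hn, y, hy, ?_⟩
      rw [← hyn]
      obtain ⟨k, rfl⟩ := mem_zpowers_iff.1 hy
      have h4 : n * v i = v i * n := mem_centralizer_singleton_iff.1 (D.N_le_C i i hn)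
      exact (Commute.zpow_right (show Commute n (v i) from h4) k)
    have hyt : t * y * t⁻¹ = y := by
      obtain ⟨k, rfl⟩ := mem_zpowers_iff.1 hy
      have h4 : Commute t (v i) := D.comm_v i ht
      rw [(h4.zpow_right k).eq, mul_inv_cancel_right]
    have htn : t * n * t⁻¹ = n * v i := by
      have e1 : t * (n * y) * t⁻¹ = t * n * t⁻¹ * (t * y * t⁻¹) := by group
      have e2 : y * v i = v i * y := by
        obtain ⟨k, rfl⟩ := mem_zpowers_iff.1 hy
        exact ((Commute.refl (v i)).zpow_left k).eq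
      rw [← hny, e1, hyt, mul_assoc n, e2, ← mul_assoc] at hta
      exact mul_right_cancel hta
    have hvN : v i ∈ NU V v i := by
      have h1 : t * n * t⁻¹ ∈ NU V v i := (mem_normalizer_iff.1 (D.C_le_N_N i (D.T_le_C i ht)) n).1 hn
      rw [htn] at h1
      have := mul_mem (inv_mem hn) h1
      rwa [inv_mul_cancel_left] at this
    have haN : a ∈ NU V v i := by
      rw [← hny]
      exact mul_mem hn ((zpowers_le.2 hvN) hy)
    rcases D.le_or hvN with h3 | h3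
    · exact h3
    · rcases h3 a ⟨ha, haN⟩ with h4 | h4
      · exact absurd h4 ha1
      · exact absurd h4 hav
  rcases h with h | h
  · rw [h]; exact haz
  · rw [h]; exact mul_mem haz (D.v_mem_zc j)

/-! ### The case `d = 1` -/

theorem comm_le_inf {x e : G} (hx : x ∈ NU V v 1) (he : e ∈ NU V v 0) :
    x * e * x⁻¹ * e⁻¹ ∈ NU V v 0 ⊓ NU V v 1 := by
  have h1 : x * e * x⁻¹ ∈ NU V v 0 := (mem_normalizer_iff.1 (D.C_le_N_N 0 (D.N_le_C 1 0 hx)) e).1 he
  have h2 : e * x⁻¹ * e⁻¹ ∈ NU V v 1 := (mem_normalizer_iff.1 (D.C_le_N_N 1 (D.N_le_C 0 1 he)) _).1 (inv_mem hx)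
  refine mem_inf.2 ⟨mul_mem h1 (inv_mem he), ?_⟩
  have e1 : x * e * x⁻¹ * e⁻¹ = x * (e * x⁻¹ * e⁻¹) := by group
  rw [e1]
  exact mul_mem hx h2

/-- **`V i ≰ N_i`, `N_0 ∩ N_1 ≤ Ω₁Z(T)` imply `[N_0, N_1] = 1`** -/
theorem comm_of_inter (hJ : ∀ i, ¬ jj T ≤ o2 (P i)) (hV : ∀ i, ¬ V i ≤ NU V v i)
    (hI : NU V v 0 ⊓ NU V v 1 ≤ zc T) : NU V v 0 ≤ centralizer (NU V v 1 : Set G) := by
  by_contra hne
  exact OneEnd.false_of D (fun x hx e he => hI (comm_le_inf D hx he)) hne (fun i => fixE D (hJ i) (hV i))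

/-- **`V i ≰ N_i`, `[N_0, N_1] = 1`: some `[W_{i+1}, N_i] = 1`** -/
theorem false_of_comm (hJ : ∀ i, ¬ jj T ≤ o2 (P i)) (hV : ∀ i, ¬ V i ≤ NU V v i)
    (hN : NU V v 0 ≤ centralizer (NU V v 1 : Set G)) :
    ∃ i, WU V v (i + 1) ≤ centralizer (NU V v i : Set G) := by
  by_contra hcon
  push Not at hcon
  refine DOne.false_of D (fun i => ?_) hcon (fun i => fixE D (hJ i) (hV i))
  rcases Fin.exists_fin_two.1 ⟨i, rfl⟩ with h | h
  · rw [h]; exact hN
  · rw [h]; exact comm_symm hN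

end Cfsg.Agent.Omega.TC.FixEL

end

section


/-!
# LEMMA FIX inside `X` and `hU`, at every level (CARD #18791 "TWO CENTRES", helper691)

`X ≥ V 0, V 1` elementary abelian, normalised by `P 0`, `P 1`, with best offenders on `X` in `T` which centralise `V j`
and move `V i` (`Dat`; `X = Ω₁(Z(lev S n))` at stage `n`).

* `fixX` : **LEMMA FIX in `X`**: `n ∈ X`, `[n, C_T(V 0 V 1)] ≤ ⟨v i⟩` implies `n ∈ V 0 V 1`;
* `inf_cent_le_o2` : `C_T(V j) ≤ O₂(R)` for a `T`-minimal `R ≤ C(v i)` which moves `v j`.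
-/

set_option autoImplicit false
set_option linter.unusedSectionVars false

namespace Cfsg.Agent.Omega.TC.FixX

open Subgroup Cfsg Cfsg.Agent.ZN Cfsg.Agent.PLocal.ThompsonJ Cfsg.Agent.PLocal.ElemAbSup
open Cfsg.Agent.Omega.MinPar
open Cfsg.Agent.Omega.OM.KTwo (CC QQ WU NU EU FF ne_add_one eq_add_one add_one_add_one le_normalizer_V le_V)
open Cfsg.Agent.Omega.NoFF.Basic (conj_conj mem_conj conj_le_iff conj_le_centralizer comm_symm comm_mono
  Z_le_V V_le conj_V_mul)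
open Cfsg.Agent.MinSimple.MinParabolic (IsMinPar)
open Cfsg.Agent.MinSimple.VModule (le_normalizer_o2 le_o2 o2_le o2_isPGroup)
open Cfsg.Agent.ZN.ChoiceSit (Syl o2_le_syl syl_not_dvd)
open Cfsg.Agent.Omega.NO1.BestOff (Best)
open Phi FixEL
open scoped Pointwise

universe u

variable {G : Type u} [Group G]

/-- The data. -/
structure Dat (T X : Subgroup G) (V P : Fin 2 → Subgroup G) : Prop where
  comm : ∀ x ∈ X, ∀ y ∈ X, x * y = y * x
  sq : ∀ x ∈ X, x ^ 2 = 1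
  le : ∀ i, V i ≤ X
  leT : X ≤ T
  norm : ∀ i, P i ≤ normalizer (X : Set G)
  off : ∀ i j : Fin 2, i ≠ j → ∃ A : Subgroup G, A ≤ T ∧ Best X A ∧ A ≤ centralizer (V j : Set G) ∧
    ¬ A ≤ centralizer (V i : Set G)

theorem two_mul_card_le [Finite G] {K H : Subgroup G} {z : G} (hKH : K ≤ H) (hz : z ∈ H) (hzK : z ∉ K) :
    2 * Nat.card K ≤ Nat.card H := by
  obtain ⟨m, hm⟩ := card_dvd_of_le hKH
  have hm2 : 2 ≤ m := by
    by_contra hcon
    push Not at hcon
    have hpos : 0 < Nat.card H := Nat.card_pos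
    have hm1 : m = 1 := by
      rcases Nat.eq_zero_or_pos m with h0 | h0
      · rw [h0, mul_zero] at hm; omega
      · omega
    rw [hm1, mul_one] at hm
    exact hzK ((Subgroup.eq_of_le_of_card_ge hKH hm.le) ▸ hz)
  rw [hm, mul_comm 2]
  exact Nat.mul_le_mul_left _ hm2

variable [Finite G] {T X : Subgroup G} {V P : Fin 2 → Subgroup G} {v : Fin 2 → G} (D : Fr T V P v)
  (d : Dat T X V P)

include D d

theorem T_norm (i : Fin 2) : T ≤ normalizer (X : Set G) := (D.T_le_P i).trans (d.norm i)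

/-- `C_X(C_A(V i)) = V i C_X(A)` for a best offender `A` which moves `V i` -/
theorem k1 {i : Fin 2} {A : Subgroup G} (hAT : A ≤ T) (hA : Best X A) (hAi : ¬ A ≤ centralizer (V i : Set G)) {x : G}
    (hx : x ∈ X) (hxe : ∀ e ∈ A ⊓ centralizer (V i : Set G), e * x = x * e) :
    ∃ w ∈ V i, w * x ∈ centralizer (A : Set G) := by
  obtain ⟨τ, hτ, hτi⟩ := SetLike.not_le_iff_exists.1 hAi
  have hτo : τ ∉ o2 (P i) := fun h => hτi (by rw [o2_P D i] at h; exact h.2)
  set E := A ⊓ centralizer (V i : Set G) with hE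
  have hidx : ∀ a ∈ A, a ∈ E ∨ τ * a ∈ E := by
    intro a ha
    by_cases hao : a ∈ o2 (P i)
    · rw [o2_P D i] at hao
      exact Or.inl ⟨ha, hao.2⟩
    · have h1 := mul_mem_o2 D (hAT hτ) hτo (hAT ha) hao
      rw [o2_P D i] at h1
      exact Or.inr ⟨mul_mem hτ ha, h1.2⟩
  have hcard : Nat.card A ≤ 2 * Nat.card E := card_le_two_mul hτ inf_le_left hidx
  have hmax := hA.max E inf_le_left (le_inf inf_le_left (inf_le_right.trans (centralizer_le (d.le i))))
  set Y0 := X ⊓ centralizer (A : Set G) with hY0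
  set Y1 := X ⊓ centralizer (E : Set G) with hY1
  obtain ⟨p, hp, hp1, hpv⟩ := D.exists_ne_v i
  have hmv := moves D (hAT hτ) hτo hp hp1 hpv
  have hp0 : p ∉ Y0 := by
    rintro ⟨-, hpA⟩
    have h1 : τ * p = p * τ := mem_centralizer_iff.1 hpA τ hτ
    rw [h1, mul_inv_cancel_right] at hmv
    exact D.ne i (by simpa using hmv.symm)
  have hY01 : Y0 ≤ Y1 := inf_le_inf_left _ (centralizer_le inf_le_left)
  have hpY1 : p ∈ Y1 := ⟨d.le i hp, mem_centralizer_iff.2 fun e he => (mem_centralizer_iff.1 he.2 p hp).symm⟩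
  have hxY1 : x ∈ Y1 := ⟨hx, mem_centralizer_iff.2 fun e he => hxe e he⟩
  have hle : Nat.card Y1 ≤ 2 * Nat.card Y0 := by
    have hpos : 0 < Nat.card E := Nat.card_pos
    refine Nat.le_of_mul_le_mul_left (hmax.trans ?_) hpos
    calc Nat.card A * Nat.card Y0 ≤ (2 * Nat.card E) * Nat.card Y0 := Nat.mul_le_mul_right _ hcard
      _ = Nat.card E * (2 * Nat.card Y0) := by ring
  have hsup : Y0 ⊔ zpowers p ≤ Y1 := sup_le hY01 (zpowers_le.2 hpY1)
  have heq : Y0 ⊔ zpowers p = Y1 := by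
    refine Subgroup.eq_of_le_of_card_ge hsup (hle.trans ?_)
    exact two_mul_card_le le_sup_left (mem_sup_right (mem_zpowers p)) hp0
  have hpn : zpowers p ≤ centralizer (Y0 : Set G) := by
    rw [zpowers_le]
    exact mem_centralizer_iff.2 fun y hy => d.comm y hy.1 p (d.le i hp)
  rw [← heq] at hxY1
  have hx' : x ∈ ((Y0 ⊔ zpowers p : Subgroup G) : Set G) := hxY1
  rw [coe_sup_of_le_centralizer hpn] at hx'
  obtain ⟨y, hy, z, hz, hyz⟩ := hx'
  have hyz : y * z = x := hyz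
  have hzV : z ∈ V i := (zpowers_le.2 hp) hz
  refine ⟨z⁻¹, inv_mem hzV, ?_⟩
  have e : z⁻¹ * x = y := by
    rw [← hyz, d.comm y hy.1 z (d.le i hzV)]
    group
  rw [e]
  exact hy.2

/-- `[n, O] ≤ ⟨v i⟩` implies `[n, O] = 1`, `O = C_T(V 0 V 1)`. -/
theorem k2 {i j : Fin 2} (hij : i ≠ j) {n : G} (hn : n ∈ X)
    (hno : ∀ o ∈ OO T V, o * n * o⁻¹ * n⁻¹ = 1 ∨ o * n * o⁻¹ * n⁻¹ = v i) : ∀ o ∈ OO T V, o * n = n * o := by
  obtain ⟨A, hAT, hA, hAj, hAi⟩ := d.off i j hij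
  obtain ⟨τ, hτ, hτi⟩ := SetLike.not_le_iff_exists.1 hAi
  have hτo : τ ∉ o2 (P i) := fun h => hτi (by rw [o2_P D i] at h; exact h.2)
  obtain ⟨p, hp, hp1, hpv⟩ := D.exists_ne_v i
  obtain ⟨g, hg, -, hgp⟩ := D.tr hij hp hp1
  have hmv := moves D (hAT hτ) hτo hp hp1 hpv
  have hp2 : p * p = 1 := by rw [← pow_two]; exact D.sqV i p hp
  have hvp : v i * p = p * v i := D.V_comm (D.mem i) hp
  have hpvX : p ∈ X := d.le i hp
  have hvX : v i ∈ X := d.le i (D.mem i)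
  have hOp : ∀ o ∈ OO T V, o * p = p * o := fun o ho => (mem_centralizer_iff.1 ((mem_OO.1 ho).2 i) p hp).symm
  have hOv : ∀ o ∈ OO T V, o * v i = v i * o := fun o ho =>
    (mem_centralizer_iff.1 ((mem_OO.1 ho).2 i) (v i) (D.mem i)).symm
  have hgX : g ∈ normalizer (X : Set G) := d.norm i hg
  have hτX : τ ∈ normalizer (X : Set G) := T_norm D d i (hAT hτ)
  set y := g * n * g⁻¹ with hy
  have hyX : y ∈ X := (mem_normalizer_iff.1 hgX n).1 hn
  set y' := τ * y * τ⁻¹ with hy'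
  have hy'X : y' ∈ X := (mem_normalizer_iff.1 hτX y).1 hyX
  -- `[o, y] ∈ ⟨p⟩`
  have hoy : ∀ o ∈ OO T V, o * y * o⁻¹ = y ∨ o * y * o⁻¹ = p * y := by
    intro o ho
    have ho' : g⁻¹ * o * g ∈ OO T V := by
      have := (mem_normalizer_iff.1 (inv_mem (P_le_N_OO D i hg)) o).1 ho
      rwa [inv_inv] at this
    have e : o * y * o⁻¹ * y⁻¹ = g * ((g⁻¹ * o * g) * n * (g⁻¹ * o * g)⁻¹ * n⁻¹) * g⁻¹ := by rw [hy]; group
    rcases hno _ ho' with h | h
    · left
      rw [h, mul_one, mul_inv_cancel] at e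
      exact mul_inv_eq_one.1 e
    · right
      rw [h, hgp] at e
      exact mul_inv_eq_iff_eq_mul.1 e
  set E0 := A ⊓ centralizer (V i : Set G) with hE0
  have hE0O : E0 ≤ OO T V := fun e he => (mem_OO' hij).2 ⟨hAT he.1, he.2, hAj he.1⟩
  -- modulo `C(X)`, `A` is abelian
  have hcX : ∀ u ∈ centralizer (X : Set G), ∀ x ∈ X, u * x * u⁻¹ = x := fun u hu x hx => by
    rw [← mem_centralizer_iff.1 hu x hx, mul_inv_cancel_right]
  have htau : ∀ e ∈ A, ∀ z ∈ X, e * (τ * z * τ⁻¹) * e⁻¹ = τ * (e * z * e⁻¹) * τ⁻¹ := by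
    intro e he z hz
    have h1 := hA.comm e he τ hτ
    have heX : e ∈ normalizer (X : Set G) := T_norm D d i (hAT he)
    have h2 : τ * (e * z * e⁻¹) * τ⁻¹ ∈ X :=
      (mem_normalizer_iff.1 hτX _).1 ((mem_normalizer_iff.1 heX z).1 hz)
    have h3 := hcX _ h1 _ h2
    rw [← h3]
    group
  have hcomE : ∀ e ∈ E0, e * y = y * e := by
    by_contra hcon
    push Not at hcon
    obtain ⟨e0, he0, he0y⟩ := hcon
    have h0 : e0 * y * e0⁻¹ = p * y := by
      rcases hoy e0 (hE0O he0) with h | h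
      · exact absurd (mul_inv_eq_iff_eq_mul.1 h) he0y
      · exact h
    set E := E0 ⊓ centralizer ({y} : Set G) with hE
    have hEE0 : E ≤ E0 := inf_le_left
    have hEA : E ≤ A := inf_le_left.trans inf_le_left
    have hidx : ∀ e ∈ E0, e ∈ E ∨ e0 * e ∈ E := by
      intro e he
      rcases hoy e (hE0O he) with h | h
      · exact Or.inl ⟨he, mem_centralizer_singleton_iff.2 (mul_inv_eq_iff_eq_mul.1 h)⟩
      · refine Or.inr ⟨mul_mem he0 he, mem_centralizer_singleton_iff.2 (mul_inv_eq_iff_eq_mul.1 ?_)⟩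
        have e1 : e0 * e * y * (e0 * e)⁻¹ = e0 * (e * y * e⁻¹) * e0⁻¹ := by group
        have e2 : e0 * (p * y) * e0⁻¹ = (e0 * p * e0⁻¹) * (e0 * y * e0⁻¹) := by group
        rw [e1, h, e2, h0, hOp e0 (hE0O he0), mul_inv_cancel_right, ← mul_assoc, hp2, one_mul]
    have hc1 : Nat.card E0 ≤ 2 * Nat.card E := card_le_two_mul he0 hEE0 hidx
    have hidx2 : ∀ a ∈ A, a ∈ E0 ∨ τ * a ∈ E0 := by
      intro a ha
      by_cases hao : a ∈ o2 (P i)
      · rw [o2_P D i] at hao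
        exact Or.inl ⟨ha, hao.2⟩
      · have h1 := mul_mem_o2 D (hAT hτ) hτo (hAT ha) hao
        rw [o2_P D i] at h1
        exact Or.inr ⟨mul_mem hτ ha, h1.2⟩
    have hc2 : Nat.card A ≤ 2 * Nat.card E0 := card_le_two_mul hτ inf_le_left hidx2
    have hXE : A ⊓ centralizer (X : Set G) ≤ E := by
      refine le_inf (le_inf inf_le_left (inf_le_right.trans (centralizer_le (d.le i)))) ?_
      exact inf_le_right.trans (centralizer_le (Set.singleton_subset_iff.2 hyX))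
    have hmax := hA.max E hEA hXE
    set Y1 := X ⊓ centralizer (E0 : Set G) with hY1
    have hYA : 2 * Nat.card ↥(X ⊓ centralizer (A : Set G)) ≤ Nat.card Y1 := by
      refine two_mul_card_le (z := p) (inf_le_inf_left _ (centralizer_le inf_le_left)) ?_ ?_
      · exact ⟨hpvX, mem_centralizer_iff.2 fun e he => (mem_centralizer_iff.1 he.2 p hp).symm⟩
      · rintro ⟨-, hpA⟩
        have h1 : τ * p = p * τ := mem_centralizer_iff.1 hpA τ hτ
        rw [h1, mul_inv_cancel_right] at hmv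
        exact D.ne i (by simpa using hmv.symm)
    -- `e0` on `y'`
    have h0' : e0 * y' * e0⁻¹ = p * v i * y' := by
      rw [hy', htau e0 he0.1 y hyX, h0]
      have e2 : τ * (p * y) * τ⁻¹ = (τ * p * τ⁻¹) * (τ * y * τ⁻¹) := by group
      rw [e2, hmv]
    have hy1 : y ∉ Y1 := fun h => he0y (mem_centralizer_iff.1 h.2 e0 he0)
    have hy2 : y' ∉ Y1 ⊔ zpowers y := by
      intro h
      have hyc : zpowers y ≤ centralizer (Y1 : Set G) := by
        rw [zpowers_le]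
        exact mem_centralizer_iff.2 fun z hz => d.comm z hz.1 y hyX
      have h' : y' ∈ ((Y1 ⊔ zpowers y : Subgroup G) : Set G) := h
      rw [coe_sup_of_le_centralizer hyc] at h'
      obtain ⟨z, hz, c, hc, hzc⟩ := h'
      have hzc : z * c = y' := hzc
      obtain ⟨m, rfl⟩ := mem_zpowers_iff.1 hc
      have hz0 : e0 * z * e0⁻¹ = z := by
        rw [mem_centralizer_iff.1 hz.2 e0 he0, mul_inv_cancel_right]
      have hy2' : y ^ 2 = 1 := d.sq y hyX
      have hz0' : e0 * (z * y ^ m) * e0⁻¹ = z * (e0 * y * e0⁻¹) ^ m := by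
        have e1 : e0 * (z * y ^ m) * e0⁻¹ = (e0 * z * e0⁻¹) * (e0 * y ^ m * e0⁻¹) := by group
        have e3 : (e0 * y * e0⁻¹) ^ m = e0 * y ^ m * e0⁻¹ := conj_zpow
        rw [e1, hz0, e3]
      rw [hzc, h0', h0, ← hzc] at hz0'
      -- `p v_i z y^m = z (p y)^m`
      have hpyc : Commute p y := d.comm p hpvX y hyX
      rw [hpyc.mul_zpow] at hz0'
      have hzp : z * (p ^ m * y ^ m) = p ^ m * (z * y ^ m) := by
        have : z * p ^ m = p ^ m * z := d.comm z hz.1 _ (zpow_mem hpvX m)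
        rw [← mul_assoc, this, mul_assoc]
      rw [hzp] at hz0'
      have h5 : p * v i = p ^ m := mul_right_cancel hz0'
      rcases Int.even_or_odd' m with ⟨k, rfl | rfl⟩
      · rw [zpow_mul, zpow_two, hp2, one_zpow] at h5
        apply hpv
        calc p = p * v i * (v i)⁻¹ := by group
          _ = v i := by rw [h5, one_mul, inv_eq_iff_mul_eq_one.2 (D.v_sq i)]
      · rw [zpow_add, zpow_mul, zpow_two, hp2, one_zpow, one_mul, zpow_one] at h5
        exact D.ne i (by simpa using h5)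
    have hcard1 := two_mul_card_le (K := Y1) (H := Y1 ⊔ zpowers y) le_sup_left (mem_sup_right (mem_zpowers y)) hy1
    have hcard2 := two_mul_card_le (K := Y1 ⊔ zpowers y) (H := (Y1 ⊔ zpowers y) ⊔ zpowers y') le_sup_left
      (mem_sup_right (mem_zpowers y')) hy2
    have hcard3 : Nat.card ↥((Y1 ⊔ zpowers y) ⊔ zpowers y') ≤ Nat.card ↥(X ⊓ centralizer (E : Set G)) := by
      refine Subgroup.card_le_of_le (sup_le (sup_le ?_ ?_) ?_)
      · exact inf_le_inf_left _ (centralizer_le hEE0)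
      · rw [zpowers_le]
        exact ⟨hyX, mem_centralizer_iff.2 fun e he => mem_centralizer_singleton_iff.1 he.2⟩
      · rw [zpowers_le]
        refine ⟨hy'X, mem_centralizer_iff.2 fun e he => ?_⟩
        have h1 : e * y * e⁻¹ = y := by
          rw [mem_centralizer_singleton_iff.1 he.2, mul_inv_cancel_right]
        have h2 := htau e (hEA he) y hyX
        rw [h1] at h2
        exact mul_inv_eq_iff_eq_mul.1 h2
    have hpE : 0 < Nat.card E := Nat.card_pos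
    have hpY : 0 < Nat.card Y1 := Nat.card_pos
    have hf1 : Nat.card A * Nat.card ↥(X ⊓ centralizer (A : Set G)) ≤ 2 * (Nat.card E * Nat.card Y1) := by
      have h1 : Nat.card A ≤ 4 * Nat.card E := by omega
      have h2 : 2 * (Nat.card A * Nat.card ↥(X ⊓ centralizer (A : Set G))) ≤ 4 * (Nat.card E * Nat.card Y1) := by
        calc 2 * (Nat.card A * Nat.card ↥(X ⊓ centralizer (A : Set G)))
            = Nat.card A * (2 * Nat.card ↥(X ⊓ centralizer (A : Set G))) := by ring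
          _ ≤ (4 * Nat.card E) * Nat.card Y1 := Nat.mul_le_mul h1 hYA
          _ = 4 * (Nat.card E * Nat.card Y1) := by ring
      omega
    have hf2 : 4 * (Nat.card E * Nat.card Y1) ≤ Nat.card E * Nat.card ↥(X ⊓ centralizer (E : Set G)) := by
      calc 4 * (Nat.card E * Nat.card Y1) = Nat.card E * (4 * Nat.card Y1) := by ring
        _ ≤ _ := Nat.mul_le_mul_left _ (by omega)
    have hf3 : 0 < Nat.card E * Nat.card Y1 := Nat.mul_pos hpE hpY
    omega
  obtain ⟨w, hw, hwy⟩ := k1 D d hAT hA hAi hyX hcomE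
  -- `y' = c y`, `c ∈ ⟨v i⟩`
  have hcy : y' = y ∨ y' = v i * y := by
    have h1 : τ * (w * y) * τ⁻¹ = w * y := by
      rw [mem_centralizer_iff.1 hwy τ hτ, mul_inv_cancel_right]
    have h2 : τ * (w * y) * τ⁻¹ = (τ * w * τ⁻¹) * y' := by rw [hy']; group
    rw [h2] at h1
    by_cases hw1 : w = 1
    · rw [hw1] at h1
      left; simpa using h1
    by_cases hwv : w = v i
    · rw [hwv, D.cen i (hAT hτ)] at h1
      left; exact mul_left_cancel h1
    · right
      rw [moves D (hAT hτ) hτo hw hw1 hwv, mul_assoc] at h1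
      have h3 : v i * y' = y := mul_left_cancel h1
      calc y' = v i * v i * y' := by rw [D.v_sq, one_mul]
        _ = v i * y := by rw [mul_assoc, h3]
  have hOy : ∀ o ∈ OO T V, o * y = y * o := by
    intro o ho
    rcases hoy o ho with h | h
    · exact mul_inv_eq_iff_eq_mul.1 h
    exfalso
    have ho' : τ⁻¹ * o * τ ∈ OO T V := by
      have := (mem_normalizer_iff.1 (inv_mem (P_le_N_OO D i (D.T_le_P i (hAT hτ)))) o).1 ho
      rwa [inv_inv] at this
    have h1 : o * y' * o⁻¹ = p * y' := by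
      rcases hcy with hc | hc
      · rw [hc]; exact h
      · rw [hc]
        have e : o * (v i * y) * o⁻¹ = (o * v i * o⁻¹) * (o * y * o⁻¹) := by group
        rw [e, hOv o ho, mul_inv_cancel_right, h, ← mul_assoc, hvp, mul_assoc]
    have h2 : o * y' * o⁻¹ = τ * ((τ⁻¹ * o * τ) * y * (τ⁻¹ * o * τ)⁻¹) * τ⁻¹ := by rw [hy']; group
    rcases hoy _ ho' with h3 | h3
    · rw [h3, h1] at h2
      have h4 : p * y' = 1 * y' := by rw [h2, one_mul]
      exact hp1 (mul_right_cancel h4)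
    · rw [h3, h1] at h2
      have e2 : τ * (p * y) * τ⁻¹ = (τ * p * τ⁻¹) * y' := by rw [hy']; group
      rw [e2, hmv] at h2
      have h4 : p = p * v i := mul_right_cancel h2
      exact D.ne i (by simpa using h4)
  intro o ho
  have ho' : g * o * g⁻¹ ∈ OO T V := (mem_normalizer_iff.1 (P_le_N_OO D i hg) o).1 ho
  have h1 := hOy _ ho'
  have h2 : g * (o * n) * g⁻¹ = g * (n * o) * g⁻¹ := by
    calc g * (o * n) * g⁻¹ = (g * o * g⁻¹) * y := by rw [hy]; group
      _ = y * (g * o * g⁻¹) := h1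
      _ = g * (n * o) * g⁻¹ := by rw [hy]; group
  exact mul_left_cancel (mul_right_cancel h2)

/-- `C_X(C_T(V 0 V 1)) ≤ V 0 V 1` -/
theorem k3 {y : G} (hy : y ∈ X) (hyo : ∀ o ∈ OO T V, o * y = y * o) : y ∈ V 0 ⊔ V 1 := by
  have h01 : (0 : Fin 2) ≠ 1 := by decide
  obtain ⟨A, hAT, hA, hAj, hAi⟩ := d.off 0 1 h01
  obtain ⟨B, hBT, hB, hBj, hBi⟩ := d.off 1 0 h01.symm
  obtain ⟨τ, hτ, hτi⟩ := SetLike.not_le_iff_exists.1 hAi
  obtain ⟨σ, hσ, hσi⟩ := SetLike.not_le_iff_exists.1 hBi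
  have hτo : τ ∉ o2 (P 0) := fun h => hτi (by rw [o2_P D 0] at h; exact h.2)
  have hσo : σ ∉ o2 (P 1) := fun h => hσi (by rw [o2_P D 1] at h; exact h.2)
  have hVo : ∀ k, ∀ w ∈ V k, ∀ o ∈ OO T V, o * w = w * o := fun k w hw o ho =>
    (mem_centralizer_iff.1 ((mem_OO.1 ho).2 k) w hw).symm
  obtain ⟨w, hw, hwy⟩ := k1 D d hAT hA hAi hy fun e he => hyo e ((mem_OO' h01).2 ⟨hAT he.1, he.2, hAj he.1⟩)
  have hwX : w * y ∈ X := mul_mem (d.le 0 hw) hy
  have hwo : ∀ o ∈ OO T V, o * (w * y) = w * y * o := fun o ho => by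
    rw [← mul_assoc, hVo 0 w hw o ho, mul_assoc, hyo o ho, ← mul_assoc]
  obtain ⟨w', hw', hwy'⟩ := k1 D d hBT hB hBi hwX fun e he =>
    hwo e ((mem_OO' h01.symm).2 ⟨hBT he.1, he.2, hBj he.1⟩)
  set c := w' * (w * y) with hc
  have hcX : c ∈ X := mul_mem (d.le 1 hw') hwX
  have hco : ∀ o ∈ OO T V, o * c = c * o := fun o ho => by
    rw [hc, ← mul_assoc, hVo 1 w' hw' o ho, mul_assoc, hwo o ho, ← mul_assoc w']
  have hcτ : τ * c = c * τ := by
    have h1 : τ * w' = w' * τ := (mem_centralizer_iff.1 (hAj hτ) w' hw').symm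
    have h2 : τ * (w * y) = w * y * τ := mem_centralizer_iff.1 hwy τ hτ
    rw [hc, ← mul_assoc, h1, mul_assoc, h2, ← mul_assoc w']
  have hcσ : σ * c = c * σ := mem_centralizer_iff.1 hwy' σ hσ
  have key : ∀ t s : G, s * c = c * s → s * t * c = c * (s * t) → t * c = c * t := by
    intro t s hs hst
    have h6 : s⁻¹ * c = c * s⁻¹ := by
      calc s⁻¹ * c = s⁻¹ * (c * s) * s⁻¹ := by group
        _ = s⁻¹ * (s * c) * s⁻¹ := by rw [hs]
        _ = c * s⁻¹ := by group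
    calc t * c = s⁻¹ * (s * t * c) := by group
      _ = (s⁻¹ * c) * (s * t) := by rw [hst]; group
      _ = c * t := by rw [h6]; group
  have hmem : ∀ s ∈ T, s ∈ o2 (P 0) → s ∈ o2 (P 1) → s * c = c * s := by
    intro s hs h0 h1
    rw [o2_P D] at h0 h1
    exact hco s ((mem_OO' h01).2 ⟨hs, h0.2, h1.2⟩)
  have hσ0 : σ ∈ o2 (P 0) := by rw [o2_P D]; exact ⟨hBT hσ, hBj hσ⟩
  have hτ1 : τ ∈ o2 (P 1) := by rw [o2_P D]; exact ⟨hAT hτ, hAj hτ⟩
  have h1' : ∀ s ∈ T, s ∈ o2 (P 0) → s * c = c * s := by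
    intro s hs h0
    by_cases hs1 : s ∈ o2 (P 1)
    · exact hmem s hs h0 hs1
    · exact key s σ hcσ (hmem (σ * s) (mul_mem (hBT hσ) hs) (mul_mem hσ0 h0) (mul_mem_o2 D (hBT hσ) hσo hs hs1))
  have hcT : c ∈ zc T := by
    refine MinSimple.VModule.mem_zc.2 ⟨d.leT hcX, fun t ht => ?_, d.sq c hcX⟩
    by_cases ht0 : t ∈ o2 (P 0)
    · exact h1' t ht ht0
    · exact key t τ hcτ (h1' (τ * t) (mul_mem (hAT hτ) ht) (mul_mem_o2 D (hAT hτ) hτo ht ht0))
  have hcV : c ∈ V 0 ⊔ V 1 := by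
    have h0 : v 0 ∈ V 0 ⊔ V 1 := mem_sup_left (D.mem 0)
    have h1 : v 1 ∈ V 0 ⊔ V 1 := mem_sup_right (D.mem 1)
    rcases (D.zT c).1 hcT with h | h | h | h <;> rw [h]
    · exact one_mem _
    · exact h0
    · exact h1
    · exact mul_mem h0 h1
  have e : y = w⁻¹ * (w'⁻¹ * c) := by rw [hc]; group
  rw [e]
  exact mul_mem (inv_mem (mem_sup_left hw)) (mul_mem (inv_mem (mem_sup_right hw')) hcV)

/-- **LEMMA FIX in `X`** -/
theorem fixX {i : Fin 2} {n : G} (hn : n ∈ X)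
    (hno : ∀ o ∈ OO T V, o * n * o⁻¹ * n⁻¹ = 1 ∨ o * n * o⁻¹ * n⁻¹ = v i) : n ∈ V 0 ⊔ V 1 := by
  obtain ⟨j, hij⟩ : ∃ j : Fin 2, i ≠ j := ⟨i + 1, ne_add_one i⟩
  exact k3 D d hn (k2 D d hij hn hno)

omit d in
/-- `C_T(V j) ≤ O₂(R)` -/
theorem inf_cent_le_o2 {i j : Fin 2} (_hij : i ≠ j) {R : Subgroup G} (hR : IsMinPar T R) (hRC : R ≤ CC v i)
    (hRm : ¬ R ≤ CC v j) (hRN : R ≤ normalizer (V j : Set G)) : T ⊓ centralizer (V j : Set G) ≤ o2 R := by
  have hsyl : Syl T R := ⟨hR.le, D.T_isPGroup, fun Q hQ hQ2 hTQ => (D.syl i).2.2 Q (hQ.trans hRC) hQ2 hTQ⟩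
  have hN : R ≤ normalizer ((R ⊓ centralizer (V j : Set G) : Subgroup G) : Set G) := by
    refine ThmI.le_inf_normalizer ?_ ?_
    · exact le_normalizer
    · exact hRN.trans (ThmI.normalizer_le_normalizer_centralizer' _)
  rcases hR.sup_eq_or_inf_le D.T_isPGroup (syl_not_dvd hsyl) inf_le_left hN with h | h
  · exfalso
    apply hRm
    rw [← h]
    refine sup_le (inf_le_right.trans ?_) (D.T_le_C j)
    exact centralizer_le (Set.singleton_subset_iff.2 (D.mem j))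
  · exact le_trans (le_inf inf_le_left (le_inf (inf_le_left.trans hR.le) inf_le_right)) h

end Cfsg.Agent.Omega.TC.FixX

end

section


/-!
# LEMMA AV over the frame `Fr` (CARD #18791 TWO CENTRES)

* `set2` : `Av.Set2 T (P i) (centralizer (zc T)) (CC v j) (NU V v j) (V i) (zpowers (v i))` (`i ≠ j`,
  `J(T) ≰ O₂(P i)`);
* `av` : **(AV)** `M ⊴ C_j`, `M ∩ T ≤ C(V i)`: `C_M(v i)` centralises `N_j`;
* `av_sub`, `av_odd` : **(AV')**;
* `cor` : **(COR)** `M ⊴ C_j`, `M ∩ T ≰ C(N_j)`: `P i = (M ∩ P i) T`, `C_j = M D`, `v_i^{C_j} = v_i^M`;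
* `not_le` : **(A) IS DEAD**: such an `M` does not centralise `V j`.
-/

set_option autoImplicit false
set_option linter.unusedSectionVars false

namespace Cfsg.Agent.Omega.TC.AvFr

open Subgroup Cfsg Cfsg.Agent.ZN Cfsg.Agent.Omega.MinPar
open Cfsg.Agent.Omega.OM.KTwo (CC QQ WU NU EU ne_add_one eq_add_one)
open Cfsg.Agent.Omega.NoFF.Basic (conj_conj mem_conj conj_le_iff comm_symm Z_le_V V_le)
open Cfsg.Agent.ZN.ChoiceSit (Syl syl_not_dvd)
open scoped Pointwise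

universe u

theorem eq_zero_of {j : Fin 2} (h : (1 : Fin 2) ≠ j) : j = 0 := by
  revert h; revert j; decide

theorem eq_one_of {j : Fin 2} (h : (0 : Fin 2) ≠ j) : j = 1 := by
  revert h; revert j; decide

variable {G : Type u} [Group G] [Finite G] {T : Subgroup G} {V P : Fin 2 → Subgroup G} {v : Fin 2 → G}
  (D : Fr T V P v)

include D

theorem V_le_N {i j : Fin 2} (hij : i ≠ j) : V i ≤ NU V v j := by
  have h : i = j + 1 := eq_add_one hij.symm
  rw [h]; exact D.V_le_N j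

/-- `N_j = ⟨v_i ^ C_j⟩`: centralising all the points -/
theorem mem_cent_N {i j : Fin 2} (hij : i ≠ j) {m : G}
    (h : ∀ c ∈ CC v j, m * (c * v i * c⁻¹) = c * v i * c⁻¹ * m) : m ∈ centralizer (NU V v j : Set G) := by
  have h1 : NU V v j ≤ centralizer ({m} : Set G) := by
    refine V_le fun c hc => ?_
    intro w hw
    rw [← eq_add_one hij.symm] at hw
    rw [mem_conj] at hw
    rw [mem_centralizer_singleton_iff]
    by_cases hw1 : w = 1
    · rw [hw1, one_mul, mul_one]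
    have hw1' : c⁻¹ * w * c ≠ 1 := by
      intro h'
      apply hw1
      have h3 := congrArg (fun t => c * t * c⁻¹) h'
      simpa [mul_assoc] using h3
    obtain ⟨l, hl, -, hlw⟩ := D.tr hij hw hw1'
    have h3 : w = (c * l) * v i * (c * l)⁻¹ := by
      have e : (c * l) * v i * (c * l)⁻¹ = c * (l * v i * l⁻¹) * c⁻¹ := by group
      rw [e, hlw]; group
    rw [h3]
    exact (h _ (mul_mem hc (D.PC i j hij hl))).symm
  rw [mem_centralizer_iff]
  intro n hn
  exact mem_centralizer_singleton_iff.1 (h1 hn)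

/-- **the setting of LEMMA AV** -/
theorem set2 {i j : Fin 2} (hij : i ≠ j) (hJ : ¬ jj T ≤ o2 (P i)) :
    Av.Set2 T (P i) (centralizer (zc T : Set G)) (CC v j) (NU V v j) (V i) (zpowers (v i)) := by
  obtain ⟨a, ha, ha1, hav⟩ := D.exists_ne_v i
  refine Av.Set2.of_four (a := a) (v₂ := v j) D.T_isPGroup D.T_le_D (D.T_le_P i) (D.par i)
    (le_antisymm (D.gen hij) (sup_le (D.PC i j hij) (D.cent_zc_le j))) (syl_not_dvd (D.syl j))
    (fun x hx y hy => (mem_centralizer_iff.1 (D.N_comm j hx) y hy).symm) (D.C_le_N_N j) (V_le_N D hij) (fun x => ?_)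
    (D.v_sq i) (D.PN i i) (fun d hd => mem_centralizer_singleton_iff.1 (D.cent_zc_le i hd)) ?_ ?_ (fun u hu huo => ?_)
    fun c hc => mem_centralizer_singleton_iff.1 hc
  · constructor
    · intro hx
      by_cases hx1 : x = 1
      · exact Or.inl hx1
      · exact Or.inr (D.eq_of_V (D.mem i) (D.ne i) ha ha1 (Ne.symm hav) hx hx1)
    · rintro (h | h | h | h) <;> rw [h]
      · exact one_mem _
      · exact D.mem i
      · exact ha
      · exact mul_mem (D.mem i) ha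
  · obtain ⟨t, ht, hta⟩ := D.exists_swap ha ha1 hav
    refine ⟨t, ht, fun h => ?_⟩
    have e : t * a * t⁻¹ = a := by rw [h, mul_inv_cancel_right]
    rw [e] at hta
    exact D.ne i (by simpa using hta.symm)
  · rw [Phi.o2_P D i]; exact inf_le_right
  · have hu1 : u ∈ zc (o2 (P i)) := by
      rw [mem_zc, Phi.o2_P D i]
      refine ⟨⟨D.N_le_T j hu, mem_centralizer_iff.2 fun x hx => ?_⟩, huo, D.N_sq j u hu⟩
      exact mem_centralizer_iff.1 (D.N_comm j hu) x (V_le_N D hij hx)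
    rw [Phi.zc_o2 D hij hJ] at hu1
    exact Phi.mem_V_sup D hu1

/-- **(AV)** -/
theorem av {i j : Fin 2} (hij : i ≠ j) (hJ : ¬ jj T ≤ o2 (P i)) {M : Subgroup G} (hM : M ≤ CC v j)
    (hCM : CC v j ≤ normalizer (M : Set G)) (hTM : T ⊓ M ≤ centralizer (V i : Set G)) {x : G} (hx : x ∈ M)
    (hxv : x * v i = v i * x) : x ∈ centralizer (NU V v j : Set G) := by
  have hxZ : x ∈ M ⊓ centralizer ((zpowers (v i) : Subgroup G) : Set G) := by
    refine ⟨hx, mem_centralizer_iff.2 ?_⟩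
    rintro _ ⟨n, rfl⟩
    have h1 : Commute x (v i) := hxv
    exact (h1.zpow_right n).eq.symm
  exact mem_cent_N D hij fun c hc => (set2 D hij hJ).av_cent hM hCM hTM c hc (v i) (mem_zpowers _) x hxZ

theorem D_le_cent (i : Fin 2) : centralizer (zc T : Set G) ≤ centralizer ((zpowers (v i) : Subgroup G) : Set G) :=
  centralizer_le (by
    have h : zpowers (v i) ≤ zc T := zpowers_le.2 (D.v_mem_zc i)
    exact h)

/-- **(AV')** -/
theorem av_sub {i j : Fin 2} (hij : i ≠ j) (hJ : ¬ jj T ≤ o2 (P i)) {M : Subgroup G}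
    (hM : M ≤ centralizer (zc T : Set G)) (hTn : T ≤ normalizer (M : Set G))
    (hTM : T ⊓ M ≤ centralizer (V i : Set G)) : M ≤ centralizer (V i : Set G) :=
  (set2 D hij hJ).av_sub hM (hM.trans (D_le_cent D i)) hTn hTM

/-- **(AV')** for subgroups of odd order -/
theorem av_odd {i j : Fin 2} (hij : i ≠ j) (hJ : ¬ jj T ≤ o2 (P i)) {M : Subgroup G}
    (hM : M ≤ centralizer (zc T : Set G)) (hTn : T ≤ normalizer (M : Set G)) (hodd : ¬ 2 ∣ Nat.card M) :
    M ≤ centralizer (V i : Set G) :=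
  (set2 D hij hJ).av_odd hM (hM.trans (D_le_cent D i)) hTn hodd

theorem exists_ne {i j : Fin 2} (hij : i ≠ j) {M : Subgroup G} (hne : ¬ T ⊓ M ≤ centralizer (NU V v j : Set G)) :
    ∃ m ∈ T ⊓ M, ∃ g ∈ CC v j, ∃ z ∈ zpowers (v i), m * (g * z * g⁻¹) ≠ g * z * g⁻¹ * m := by
  by_contra hcon
  push Not at hcon
  exact hne fun m hm => mem_cent_N D hij fun c hc => hcon m hm c hc (v i) (mem_zpowers _)

/-- **(COR)** -/
theorem cor {i j : Fin 2} (hij : i ≠ j) (hJ : ¬ jj T ≤ o2 (P i)) {M : Subgroup G} (hM : M ≤ CC v j)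
    (hCM : CC v j ≤ normalizer (M : Set G)) (hne : ¬ T ⊓ M ≤ centralizer (NU V v j : Set G)) :
    (M ⊓ P i) ⊔ T = P i ∧ CC v j = M ⊔ centralizer (zc T : Set G) ∧
      ∀ c ∈ CC v j, ∃ m ∈ M, c * v i * c⁻¹ = m * v i * m⁻¹ := by
  have h := (set2 D hij hJ).cor hM hCM (exists_ne D hij hne)
  exact ⟨h.1, h.2, (set2 D hij hJ).cor_orbit hCM h.2 fun d hd => mem_centralizer_singleton_iff.1 (D.cent_zc_le i hd)⟩

/-- **(A) IS DEAD** -/
theorem not_le {i j : Fin 2} (hij : i ≠ j) (hJ : ¬ jj T ≤ o2 (P i)) {M : Subgroup G} (hM : M ≤ CC v j)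
    (hCM : CC v j ≤ normalizer (M : Set G)) (hne : ¬ T ⊓ M ≤ centralizer (NU V v j : Set G)) :
    ¬ M ≤ centralizer (V j : Set G) := by
  intro hMV
  have h := ((set2 D hij hJ).caseA_dead (C₁ := CC v i) (P₂ := P j) (V₂ := V j) (v₂ := v j) hM hCM
    (exists_ne D hij hne) (le_antisymm (D.gen hij.symm) (sup_le (D.PC j i hij.symm) (D.cent_zc_le i)))
    (fun g _ h => mem_centralizer_singleton_iff.2 h) (fun c hc => mem_centralizer_singleton_iff.1 hc) (D.mem j)
    (D.ne j) (D.PN j j) (fun a ha ha1 => ?_) hMV).2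
  · set N : Subgroup G := closure {x | ∃ c ∈ CC v i, x = c * v j * c⁻¹} with hN
    have hNT : N ≤ T := by
      refine le_trans ((closure_le _).2 ?_) (D.N_le_T i)
      rintro x ⟨c, hc, rfl⟩
      exact (mem_normalizer_iff.1 (D.C_le_N_N i hc) _).1 (V_le_N D hij.symm (D.mem j))
    have hbot : N = ⊥ := by
      refine D.nonloc N (D.T_isPGroup.to_le hNT) ?_ ?_
      · rcases Fin.exists_fin_two.1 ⟨i, rfl⟩ with hi | hi
        · rw [hi] at h; exact le_sup_left.trans h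
        · have hj : j = 0 := eq_zero_of (hi ▸ hij)
          rw [hj] at h; exact le_sup_right.trans h
      · rcases Fin.exists_fin_two.1 ⟨i, rfl⟩ with hi | hi
        · have hj : j = 1 := eq_one_of (hi ▸ hij)
          rw [hj] at h; exact le_sup_right.trans h
        · rw [hi] at h; exact le_sup_left.trans h
    have h1 : v j ∈ N := subset_closure ⟨1, one_mem _, by group⟩
    rw [hbot, mem_bot] at h1
    exact D.ne j h1
  · obtain ⟨l, hl, -, hla⟩ := D.tr hij.symm ha ha1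
    exact ⟨l, hl, hla.symm⟩

end Cfsg.Agent.Omega.TC.AvFr

end
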