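import Cfsg.Agent.Mrg.Omega.TC.FixEL
import Cfsg.Agent.Mrg.Omega.TC.UniLev
import Cfsg.Agent.Mrg.Omega.OM.Lev.Main
import Cfsg.Agent.Mrg.Omega.SQ1.Choice
import Cfsg.Agent.Mrg.Omega.TC.ThmI
import Cfsg.Agent.Mrg.Omega.TC.RSix.End
import Cfsg.Agent.Mrg.Omega.OM.PG.Exact
import Cfsg.Agent.Mrg.Omega.TC.No
import Cfsg.Agent.Mrg.Omega.TC.OneEnd
import Cfsg.Agent.Mrg.Omega.VP

section


/-!
# CARD #18791: LEMMA FIX, `hZO` and `hU` over `TC.Fr` at every level

`OffK T V K` : `K ≤ O = C_T(V 0 V 1)` (a level, or `1`), everything over `O` normalises `K`, and for `i ≠ j` some `A ≤ T`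
moves `V i`, centralises `V j` and offends on all elementary abelian `A`-invariant `F`, `V 0 V 1 ≤ F ≤ C_O(K)`.

* `offK_of_hJ` : stage `-1` (`K = 1`); `offK_of_lev` : stage `n` (`K = lev S n`);
* `OffK.fix` : `w ∈ C_O(K)`, `w² = 1`, `[w, O] ≤ ⟨v i⟩` implies `w ∈ V 0 V 1`;
* `OffK.zc_OO` : `Ω₁Z(O) ≤ V 0 V 1`; `OffK.hZO` : `Ω₁Z(O₂(P i)) ≤ V i ⟨v j⟩`;
* `o2_eq` : `O₂(R) = C_T(V i)` for `R` minimal parabolic over `T` in `C(v j)`, moving `v i`;
* `norm_V_of` : `R ≤ C(v i)` normalising `V j` and `V 0 V 1` normalises `V i`;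
* **`OffK.hU`** : `R` minimal parabolic over `T`, `R ≤ C(v i)`, `R ≰ C(v j)` implies `R ≤ N(V i)`.
-/

set_option autoImplicit false
set_option linter.unusedSectionVars false

namespace Cfsg.Agent.Omega.TC

open Subgroup Cfsg Cfsg.Agent.ZN Cfsg.Agent.PLocal.ThompsonJ Cfsg.Agent.PLocal.ElemAbSup
open Cfsg.Agent.Omega.MinPar
open Cfsg.Agent.Omega.OM.KTwo (CC QQ WU NU EU FF ne_add_one eq_add_one add_one_add_one le_normalizer_V le_V)
open Cfsg.Agent.ZN.ChoiceSit (Syl o2_le_syl syl_not_dvd)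
open Cfsg.Agent.Omega.FFThm (OffM ElemM)
open Cfsg.Agent.Omega.NO1.BestOff (Best)
open Cfsg.Agent.MinSimple.MinParabolic (IsMinPar)
open Phi FixEL
open scoped Pointwise

universe u

variable {G : Type u} [Group G]

/-- Offenders over the level `K`. -/
structure OffK (T : Subgroup G) (V : Fin 2 → Subgroup G) (K : Subgroup G) : Prop where
  KO : K ≤ OO T V
  nrm : ∀ H : Subgroup G, OO T V ≤ o2 H → o2 H ≤ T → H ≤ normalizer (K : Set G)
  off : ∀ i j : Fin 2, i ≠ j → ∃ A ≤ T, A ≤ centralizer (V j : Set G) ∧ ¬ A ≤ centralizer (V i : Set G) ∧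
    ∀ F : Subgroup G, F ≤ OO T V → F ≤ centralizer (K : Set G) → V 0 ⊔ V 1 ≤ F →
      (∀ x ∈ F, ∀ y ∈ F, x * y = y * x) → (∀ x ∈ F, x * x = 1) → A ≤ normalizer (F : Set G) → OffM F A

section

variable [Finite G] {T K : Subgroup G} {V P : Fin 2 → Subgroup G} {v : Fin 2 → G}

theorem V_le_sup (V : Fin 2 → Subgroup G) (i : Fin 2) : V i ≤ V 0 ⊔ V 1 := by
  rcases Fin.exists_fin_two.1 ⟨i, rfl⟩ with h | h <;> rw [h]
  · exact le_sup_left
  · exact le_sup_right

theorem sup_eq_of (V : Fin 2 → Subgroup G) {i j : Fin 2} (hij : i ≠ j) : V 0 ⊔ V 1 = V i ⊔ V j := by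
  rcases Fin.exists_fin_two.1 ⟨i, rfl⟩ with hi | hi
  · have hj : j = 1 := by
      have h1 := eq_add_one hij
      rw [h1, hi]; rfl
    rw [hi, hj]
  · have hj : j = 0 := by
      have h1 := eq_add_one hij
      rw [h1, hi]; rfl
    rw [hi, hj, _root_.sup_comm]

variable (D : Fr T V P v) (h : OffK T V K)

include D

theorem sup_comm_mem {x y : G} (hx : x ∈ V 0 ⊔ V 1) (hy : y ∈ V 0 ⊔ V 1) : x * y = y * x :=
  (isElementaryAbelian_iff.1 (eab_sup D)).1 x hx y hy

theorem sup_sq {x : G} (hx : x ∈ V 0 ⊔ V 1) : x * x = 1 := by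
  rw [← pow_two]; exact (isElementaryAbelian_iff.1 (eab_sup D)).2 x hx

theorem sup_le_OO : V 0 ⊔ V 1 ≤ OO T V := sup_le (V_le_OO D 0) (V_le_OO D 1)

theorem OO_comm {o x : G} (ho : o ∈ OO T V) (hx : x ∈ V 0 ⊔ V 1) : o * x = x * o := by
  have h1 : V 0 ⊔ V 1 ≤ centralizer ({o} : Set G) := by
    refine sup_le ?_ ?_ <;>
      exact fun y hy => mem_centralizer_singleton_iff.2 (mem_centralizer_iff.1 ((mem_OO.1 ho).2 _) y hy)
  exact (mem_centralizer_singleton_iff.1 (h1 hx)).symm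

theorem T_le_N_sup : T ≤ normalizer ((V 0 ⊔ V 1 : Subgroup G) : Set G) :=
  NO3b.Bang.le_normalizer_sup (D.T_le_N 0) (D.T_le_N 1)

theorem P_le_N_sup (i : Fin 2) : P i ≤ normalizer ((V 0 ⊔ V 1 : Subgroup G) : Set G) :=
  NO3b.Bang.le_normalizer_sup (D.PN i 0) (D.PN i 1)

/-- `A ≤ C_T(V j)` moves `V i`: `a ∈ O` or `τ a ∈ O`. -/
theorem idx_OO {i j : Fin 2} (hij : i ≠ j) {A : Subgroup G} (hAT : A ≤ T) (hAj : A ≤ centralizer (V j : Set G))
    {τ : G} (hτ : τ ∈ A) (hτo : τ ∉ o2 (P i)) : ∀ a ∈ A, a ∈ OO T V ∨ τ * a ∈ OO T V := by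
  intro a ha
  by_cases hao : a ∈ o2 (P i)
  · rw [o2_P D i] at hao
    exact Or.inl ((mem_OO' hij).2 ⟨hAT ha, hao.2, hAj ha⟩)
  · have h1 := mul_mem_o2 D (hAT hτ) hτo (hAT ha) hao
    rw [o2_P D i] at h1
    exact Or.inr ((mem_OO' hij).2 ⟨h1.1, h1.2, mul_mem (hAj hτ) (hAj ha)⟩)

theorem mem_zpow_cases (i : Fin 2) {x : G} (hx : x ∈ zpowers (v i)) : x = 1 ∨ x = v i := by
  obtain ⟨m, hm⟩ := mem_zpowers_iff.1 hx
  rw [← hm]
  rcases Int.even_or_odd' m with ⟨k, rfl | rfl⟩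
  · left; rw [zpow_mul, zpow_two, D.v_sq, one_zpow]
  · right; rw [zpow_add, zpow_mul, zpow_two, D.v_sq, one_zpow, one_mul, zpow_one]

/-- **`O₂(R) = C_T(V i)`** for every minimal parabolic `R ≤ C(v j)` over `T` moving `v i` -/
theorem o2_eq {i j : Fin 2} (hij : i ≠ j) {R : Subgroup G} (hR : IsMinPar T R) (hRj : R ≤ CC v j)
    (hRi : ¬ R ≤ CC v i) : o2 R = T ⊓ centralizer (V i : Set G) := by
  have hRN : R ≤ normalizer (V i : Set G) := D.uni i j hij R hR hRj hRi
  have hTR : T ≤ R := hR.le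
  have hsyl : Syl T R := ⟨hTR, D.T_isPGroup, fun Q hQ hQ2 hTQ => (D.syl j).2.2 Q (hQ.trans hRj) hQ2 hTQ⟩
  apply le_antisymm
  · have hoT : o2 R ≤ T := o2_le_syl hsyl
    refine le_inf hoT fun o ho => mem_centralizer_iff.2 fun x hx => ?_
    by_cases hx1 : x = 1
    · rw [hx1, one_mul, mul_one]
    obtain ⟨l, hl, hlx⟩ := D.trans_of hTR hRN hRi hx hx1
    have h1 : l⁻¹ * o * l ∈ o2 R := by
      have := (mem_normalizer_iff.1 (le_normalizer_o2 _ (inv_mem hl)) o).1 ho
      rwa [inv_inv] at this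
    have h2 := D.comm_v i (hoT h1)
    rw [← hlx]
    calc l * v i * l⁻¹ * o = l * (v i * (l⁻¹ * o * l)) * l⁻¹ := by group
      _ = l * (l⁻¹ * o * l * v i) * l⁻¹ := by rw [h2]
      _ = o * (l * v i * l⁻¹) := by group
  · have hfact : Fact (Nat.Prime 2) := ⟨Nat.prime_two⟩
    have hN : R ≤ normalizer ((R ⊓ centralizer (V i : Set G) : Subgroup G) : Set G) := by
      have key : ∀ t ∈ R, ∀ x ∈ R ⊓ centralizer (V i : Set G), t * x * t⁻¹ ∈ R ⊓ centralizer (V i : Set G) := by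
        intro t ht x hx
        refine ⟨R.mul_mem (R.mul_mem ht hx.1) (R.inv_mem ht), mem_centralizer_iff.2 fun z hz => ?_⟩
        have h1 : t⁻¹ * z * t ∈ V i := by
          have := (mem_normalizer_iff.1 (inv_mem (hRN ht)) z).1 hz
          rwa [inv_inv] at this
        have h2 := mem_centralizer_iff.1 hx.2 _ h1
        calc z * (t * x * t⁻¹) = t * (t⁻¹ * z * t * x) * t⁻¹ := by group
          _ = t * (x * (t⁻¹ * z * t)) * t⁻¹ := by rw [h2]
          _ = t * x * t⁻¹ * z := by group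
      intro t ht
      rw [mem_normalizer_iff]
      intro x
      refine ⟨key t ht x, fun hx => ?_⟩
      have h1 := key t⁻¹ (inv_mem ht) _ hx
      have e : t⁻¹ * (t * x * t⁻¹) * t⁻¹⁻¹ = x := by group
      rwa [e] at h1
    rcases hR.sup_eq_or_inf_le D.T_isPGroup (syl_not_dvd hsyl) inf_le_left hN with h | h
    · exfalso
      apply hRi
      rw [← h]
      refine sup_le (inf_le_right.trans ?_) (D.T_le_C i)
      exact centralizer_le (Set.singleton_subset_iff.2 (D.mem i))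
    · exact le_trans (le_inf inf_le_left (le_inf (inf_le_left.trans hTR) inf_le_right)) h

/-- `V i ⊓ V j ⟨v i⟩ = ⟨v i⟩` : an element `a w`, `w ∈ V j`, `a w ∈ V i ⟨..⟩` -/
theorem V_mem_of {i j : Fin 2} (hij : i ≠ j) {a w : G} (ha : a ∈ V i) (hw : w ∈ V j) (h : a * w ∈ V i) : w = 1 := by
  have h1 : w ∈ V i := by
    have := mul_mem (inv_mem ha) h
    rwa [inv_mul_cancel_left] at this
  have h2 : w ∈ V i ⊓ V j := ⟨h1, hw⟩
  rw [V_inf D hij] at h2
  exact mem_bot.1 h2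

/-- **The last step**: `R ≤ C(v i)` normalising `V j` and `V 0 V 1` normalises `V i`. -/
theorem norm_V_of {i j : Fin 2} (hij : i ≠ j) {R : Subgroup G} (hRi : R ≤ CC v i)
    (hRj : R ≤ normalizer (V j : Set G)) (hRM : R ≤ normalizer ((V 0 ⊔ V 1 : Subgroup G) : Set G)) :
    R ≤ normalizer (V i : Set G) := by
  -- the group `L = C(v i) ⊓ C(V j) ⊓ N(V 0 V 1)`
  have hM : ∀ x, x ∈ V 0 ⊔ V 1 → ∃ a ∈ V i, ∃ w ∈ V j, x = a * w := by
    intro x hx
    have h1 : V 0 ⊔ V 1 = V i ⊔ V j := sup_eq_of V hij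
    rw [h1] at hx
    exact FixEL.mem_sup D hx
  obtain ⟨p, hp, hp1, hpv⟩ := D.exists_ne_v i
  -- elements of `L` move `p` by a vector of `V j` (mod `v i`)
  set L : Subgroup G := CC v i ⊓ centralizer (V j : Set G) ⊓ normalizer ((V 0 ⊔ V 1 : Subgroup G) : Set G) with hL
  have hpM : p ∈ V 0 ⊔ V 1 := V_le_sup V i hp
  have hLw : ∀ x ∈ L, ∃ w ∈ V j, x * p * x⁻¹ = p * w ∨ x * p * x⁻¹ = p * w * v i := by
    intro x hx
    obtain ⟨⟨hxi, hxj⟩, hxM⟩ := hx
    obtain ⟨a, ha, w, hw, e⟩ := hM _ ((mem_normalizer_iff.1 hxM p).1 hpM)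
    -- `a ≡ p mod v i`
    refine ⟨w, hw, ?_⟩
    have haw : a * w = w * a := mem_centralizer_iff.1 (V_le_cent D j i hw) a ha
    have hvw : v i * w = w * v i := mem_centralizer_iff.1 (V_le_cent D j i hw) _ (D.mem i)
    have ha1 : a ≠ 1 := by
      rintro rfl
      rw [one_mul] at e
      -- `p = x⁻¹ w x = w`
      have h1 : x * w * x⁻¹ = w := by
        have := mem_centralizer_iff.1 hxj w hw
        rw [← this]; group
      have h2 : p = w := by
        have : x * p * x⁻¹ = x * w * x⁻¹ := by rw [e, h1]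
        exact mul_left_cancel (mul_right_cancel this)
      have h3 : p ∈ V i ⊓ V j := ⟨hp, h2 ▸ hw⟩
      rw [V_inf D hij] at h3
      exact hp1 (mem_bot.1 h3)
    have hav : a ≠ v i := by
      rintro rfl
      have h1 : x * (v i * w) * x⁻¹ = v i * w := by
        have h2 := mem_centralizer_iff.1 hxj w hw
        have h3 : x * v i = v i * x := mem_centralizer_singleton_iff.1 hxi
        calc x * (v i * w) * x⁻¹ = (x * v i) * w * x⁻¹ := by group
          _ = v i * (x * w) * x⁻¹ := by rw [h3]; group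
          _ = v i * w := by rw [← h2]; group
      have h2 : p = v i * w := by
        have : x * p * x⁻¹ = x * (v i * w) * x⁻¹ := by rw [e, h1]
        exact mul_left_cancel (mul_right_cancel this)
      have h3 : w = 1 := V_mem_of D hij (D.mem i) hw (h2 ▸ hp)
      rw [h3, mul_one] at h2
      exact hpv h2
    rcases D.eq_of_V hp hp1 (D.mem i) (D.ne i) hpv ha ha1 with h1 | h1 | h1
    · left; rw [e, h1]
    · exact absurd h1 hav
    · right; rw [e, h1, mul_assoc, hvw, mul_assoc]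
  -- multiplicativity
  have hLn : ∀ x ∈ L, ∀ w ∈ V j, x * w * x⁻¹ = w := by
    intro x hx w hw
    have := mem_centralizer_iff.1 hx.1.2 w hw
    rw [← this]; group
  have hLv : ∀ x ∈ L, x * v i * x⁻¹ = v i := by
    intro x hx
    have : x * v i = v i * x := mem_centralizer_singleton_iff.1 hx.1.1
    rw [this]; group
  have hvw : ∀ w ∈ V j, v i * w = w * v i := fun w hw =>
    mem_centralizer_iff.1 (V_le_cent D j i hw) _ (D.mem i)
  have hmul : ∀ x ∈ L, ∀ y ∈ L, ∀ w ∈ V j, ∀ u ∈ V j, (x * p * x⁻¹ = p * w ∨ x * p * x⁻¹ = p * w * v i) →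
      (y * p * y⁻¹ = p * u ∨ y * p * y⁻¹ = p * u * v i) →
      (x * y * p * (x * y)⁻¹ = p * (w * u) ∨ x * y * p * (x * y)⁻¹ = p * (w * u) * v i) := by
    intro x hx y _ w hw u hu h1 h2
    have e1 : x * y * p * (x * y)⁻¹ = x * (y * p * y⁻¹) * x⁻¹ := by group
    have e2 : x * (p * u) * x⁻¹ = (x * p * x⁻¹) * u := by
      calc x * (p * u) * x⁻¹ = (x * p * x⁻¹) * (x * u * x⁻¹) := by group
        _ = _ := by rw [hLn x hx u hu]
    have e3 : x * (p * u * v i) * x⁻¹ = (x * p * x⁻¹) * u * v i := by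
      calc x * (p * u * v i) * x⁻¹ = (x * (p * u) * x⁻¹) * (x * v i * x⁻¹) := by group
        _ = _ := by rw [hLv x hx, e2]
    have hvu := hvw u hu
    have hvv := D.v_sq i
    rw [e1]
    rcases h2 with h2 | h2 <;> rw [h2]
    · rw [e2]
      rcases h1 with h1 | h1 <;> rw [h1]
      · left; group
      · right
        rw [mul_assoc (p * w), hvu]; group
    · rw [e3]
      rcases h1 with h1 | h1 <;> rw [h1]
      · right; group
      · left
        calc p * w * v i * u * v i = p * w * (v i * u) * v i := by group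
          _ = p * (w * u) * (v i * v i) := by rw [hvu]; group
          _ = p * (w * u) := by rw [hvv, mul_one]
  have huniq : ∀ x : G, ∀ w ∈ V j, ∀ u ∈ V j, (x * p * x⁻¹ = p * w ∨ x * p * x⁻¹ = p * w * v i) →
      (x * p * x⁻¹ = p * u ∨ x * p * x⁻¹ = p * u * v i) → w = u := by
    intro x w hw u hu h1 h2
    have hvn : v i ∉ V j := v_notMem D hij.symm
    have key : ∀ w ∈ V j, ∀ u ∈ V j, p * w = p * u * v i → w = u := by
      intro w hw u hu h3
      exfalso
      apply hvn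
      have h4 : w = u * v i := by
        have : p * w = p * (u * v i) := by rw [h3, mul_assoc]
        exact mul_left_cancel this
      have h5 := mul_mem (inv_mem hu) hw
      rwa [h4, inv_mul_cancel_left] at h5
    rcases h1 with h1 | h1 <;> rcases h2 with h2 | h2 <;> rw [h1] at h2
    · exact mul_left_cancel h2
    · exact key w hw u hu h2
    · exact (key u hu w hw h2.symm).symm
    · exact mul_left_cancel (mul_right_cancel h2)
  -- `x ∈ N(V i)` iff its `w` is `1`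
  have hN_of : ∀ x ∈ L, (x * p * x⁻¹ = p * 1 ∨ x * p * x⁻¹ = p * 1 * v i) → x ∈ normalizer (V i : Set G) := by
    intro x hx hxp
    rw [mul_one] at hxp
    apply ZN.ChoiceBase.mem_normalizer_of_cj_le
    rintro _ ⟨y, hy, rfl⟩
    change x * y * x⁻¹ ∈ V i
    by_cases hy1 : y = 1
    · rw [hy1, mul_one, mul_inv_cancel]; exact one_mem _
    have hpp : x * p * x⁻¹ ∈ V i := by
      rcases hxp with h1 | h1 <;> rw [h1]
      · exact hp
      · exact mul_mem hp (D.mem i)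
    rcases D.eq_of_V hp hp1 (D.mem i) (D.ne i) hpv hy hy1 with h1 | h1 | h1
    · rw [h1]; exact hpp
    · rw [h1, hLv x hx]; exact D.mem i
    · rw [h1]
      have e : x * (p * v i) * x⁻¹ = (x * p * x⁻¹) * (x * v i * x⁻¹) := by group
      rw [e, hLv x hx]
      exact mul_mem hpp (D.mem i)
  have hT_of : ∀ x : G, x ∈ normalizer (V i : Set G) → ∀ w ∈ V j,
      (x * p * x⁻¹ = p * w ∨ x * p * x⁻¹ = p * w * v i) → w = 1 := by
    intro x hxN w hw hxp
    have h1 : x * p * x⁻¹ ∈ V i := (mem_normalizer_iff.1 hxN p).1 hp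
    rcases hxp with h2 | h2
    · rw [h2] at h1; exact V_mem_of D hij hp hw h1
    · rw [h2] at h1
      refine V_mem_of D hij hp hw ?_
      have := mul_mem h1 (inv_mem (D.mem i))
      rwa [mul_inv_cancel_right] at this
  -- `T ⊓ L` is a Sylow 2-subgroup of `L`
  set X : Subgroup G := CC v i ⊓ normalizer (V j : Set G) ⊓ normalizer ((V 0 ⊔ V 1 : Subgroup G) : Set G) with hX
  have hTX : T ≤ X := le_inf (le_inf (D.T_le_C i) (D.T_le_N j)) (T_le_N_sup D)
  have hLX : L ≤ X :=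
    le_inf (le_inf (inf_le_left.trans inf_le_left)
      ((inf_le_left.trans inf_le_right).trans (centralizer_le_normalizer _))) inf_le_right
  have hTXs : Syl T X := ⟨hTX, D.T_isPGroup, fun Q hQ hQ2 hTQ =>
    (D.syl i).2.2 Q (hQ.trans (inf_le_left.trans inf_le_left)) hQ2 hTQ⟩
  have hLnX : X ≤ normalizer (L : Set G) := by
    refine fun x hx => ZN.ChoiceBase.mem_normalizer_of_cj_le ?_
    rintro _ ⟨y, hy, rfl⟩
    change x * y * x⁻¹ ∈ L
    obtain ⟨⟨hy1, hy2⟩, hy3⟩ := hy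
    obtain ⟨⟨hx1, hx2⟩, hx3⟩ := hx
    refine mem_inf.2 ⟨mem_inf.2 ⟨mul_mem (mul_mem hx1 hy1) (inv_mem hx1), ?_⟩, mul_mem (mul_mem hx3 hy3) (inv_mem hx3)⟩
    refine mem_centralizer_iff.2 fun z hz => ?_
    have h1 : x⁻¹ * z * x ∈ V j := (mem_normalizer_iff''.1 hx2 z).1 hz
    have h2 := mem_centralizer_iff.1 hy2 _ h1
    calc z * (x * y * x⁻¹) = x * (x⁻¹ * z * x * y) * x⁻¹ := by group
      _ = x * (y * (x⁻¹ * z * x)) * x⁻¹ := by rw [h2]
      _ = x * y * x⁻¹ * z := by group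
  have hodd : ¬ 2 ∣ (T ⊓ L).relIndex L :=
    syl_not_dvd (SQ1.FFOne.syl_inf hTXs hLX fun x hx n hn => (mem_normalizer_iff.1 (hLnX hx) n).1 hn)
  have hLN : L ≤ normalizer (V i : Set G) := by
    set L₀ : Subgroup G := L ⊓ normalizer (V i : Set G) with hL₀
    have hTL₀ : T ⊓ L ≤ L₀ := le_inf inf_le_right (inf_le_left.trans (D.T_le_N i))
    have hodd' : ¬ 2 ∣ L₀.relIndex L := fun h2 => hodd (h2.trans (relIndex_dvd_of_le_left L hTL₀))
    have hnorm : (L₀.subgroupOf L).Normal := by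
      constructor
      rintro ⟨y, hyL⟩ hy ⟨x, hx⟩
      rw [mem_subgroupOf] at hy ⊢
      change y ∈ L₀ at hy
      change x * y * x⁻¹ ∈ L₀
      obtain ⟨w, hw, hxw⟩ := hLw x hx
      obtain ⟨w', hw', hxw'⟩ := hLw x⁻¹ (inv_mem hx)
      obtain ⟨u, hu, hyu⟩ := hLw y hyL
      have hu1 : u = 1 := hT_of y hy.2 u hu hyu
      rw [hu1] at hyu
      have h1 := hmul x hx x⁻¹ (inv_mem hx) w hw w' hw' hxw hxw'
      have h2 : w * w' = 1 := by
        refine huniq _ _ (mul_mem hw hw') 1 (one_mem _) h1 (Or.inl ?_)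
        group
      have h3 := hmul x hx y hyL w hw 1 (one_mem _) hxw hyu
      have h4 := hmul (x * y) (mul_mem hx hyL) x⁻¹ (inv_mem hx) _ (mul_mem hw (one_mem _)) w' hw' h3 hxw'
      rw [mul_one, h2] at h4
      exact mem_inf.2 ⟨mul_mem (mul_mem hx hyL) (inv_mem hx), hN_of _ (mul_mem (mul_mem hx hyL) (inv_mem hx)) h4⟩
    intro x hx
    obtain ⟨w, hw, hxw⟩ := hLw x hx
    have h1 := hmul x hx x hx w hw w hw hxw hxw
    have h2 : w * w = 1 := by rw [← pow_two]; exact D.sqV j w hw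
    rw [h2] at h1
    have h3 : x * x ∈ L₀ := mem_inf.2 ⟨mul_mem hx hx, hN_of _ (mul_mem hx hx) h1⟩
    have h4 : x ^ (L₀.relIndex L) ∈ L₀ := by
      have := (L₀.subgroupOf L).pow_index_mem (⟨x, hx⟩ : L)
      rw [mem_subgroupOf] at this
      exact this
    obtain ⟨k, hk⟩ : ∃ k, L₀.relIndex L = 2 * k + 1 := by
      have : L₀.relIndex L % 2 = 1 := by omega
      exact ⟨L₀.relIndex L / 2, by omega⟩
    rw [hk, pow_add, pow_mul, pow_one, pow_two] at h4
    have h5 := mul_mem (inv_mem (L₀.pow_mem h3 k)) h4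
    rw [inv_mul_cancel_left] at h5
    exact h5.2
  -- `R = L P_j`
  intro r hr
  have hPj : ∃ q ∈ P j, r * q ∈ centralizer (V j : Set G) := by
    -- first fix `v j`, then the second vector with an element of `T`
    have hrN := hRj hr
    obtain ⟨b, hb, hb1, hbv⟩ := D.exists_ne_v j
    have hv1 : r⁻¹ * v j * r ∈ V j := (mem_normalizer_iff''.1 hrN _).1 (D.mem j)
    have hv2 : r⁻¹ * v j * r ≠ 1 := by
      intro h1
      apply D.ne j
      have : v j = r * (r⁻¹ * v j * r) * r⁻¹ := by group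
      rw [this, h1]; group
    obtain ⟨l, hl, -, hlv⟩ := D.tr hij.symm hv1 hv2
    -- `r l` fixes `v j`
    have hfix : (r * l) * v j * (r * l)⁻¹ = v j := by
      calc (r * l) * v j * (r * l)⁻¹ = r * (l * v j * l⁻¹) * r⁻¹ := by group
        _ = v j := by rw [hlv]; group
    have hrlN : r * l ∈ normalizer (V j : Set G) := mul_mem hrN (D.PN j j hl)
    have hb2 : (r * l) * b * (r * l)⁻¹ ∈ V j := (mem_normalizer_iff.1 hrlN b).1 hb
    have cent_of : ∀ x : G, x * v j * x⁻¹ = v j → x * b * x⁻¹ = b → x ∈ centralizer (V j : Set G) := by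
      intro x hx1 hx2
      refine mem_centralizer_iff.2 fun y hy => ?_
      have hcv : v j * x = x * v j := by
        calc v j * x = (x * v j * x⁻¹) * x := by rw [hx1]
          _ = x * v j := by group
      have hcb : b * x = x * b := by
        calc b * x = (x * b * x⁻¹) * x := by rw [hx2]
          _ = x * b := by group
      by_cases hy1 : y = 1
      · rw [hy1, one_mul, mul_one]
      rcases D.eq_of_V hb hb1 (D.mem j) (D.ne j) hbv hy hy1 with h1 | h1 | h1
      · rw [h1]; exact hcb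
      · rw [h1]; exact hcv
      · rw [h1, mul_assoc, hcv, ← mul_assoc, hcb, mul_assoc]
    rcases D.eq_of_V hb hb1 (D.mem j) (D.ne j) hbv hb2 (fun h1 => hb1 (conj_eq_one_iff.1 h1)) with h1 | h1 | h1
    · exact ⟨l, hl, cent_of _ hfix h1⟩
    · exfalso
      apply hbv
      have : (r * l) * b * (r * l)⁻¹ = (r * l) * v j * (r * l)⁻¹ := by rw [h1, hfix]
      exact mul_left_cancel (mul_right_cancel this)
    · obtain ⟨t, ht, htb⟩ := D.exists_swap hb hb1 hbv
      refine ⟨l * t, mul_mem hl (D.T_le_P j ht), ?_⟩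
      have htv := D.cen j ht
      rw [← mul_assoc]
      refine cent_of _ ?_ ?_
      · calc r * l * t * v j * (r * l * t)⁻¹ = (r * l) * (t * v j * t⁻¹) * (r * l)⁻¹ := by group
          _ = v j := by rw [htv, hfix]
      · calc r * l * t * b * (r * l * t)⁻¹ = (r * l) * (t * b * t⁻¹) * (r * l)⁻¹ := by group
          _ = ((r * l) * b * (r * l)⁻¹) * ((r * l) * v j * (r * l)⁻¹) := by rw [htb]; group
          _ = b := by rw [h1, hfix, mul_assoc, D.v_sq, mul_one]
  obtain ⟨q, hq, hrq⟩ := hPj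
  have h1 : r * q ∈ L := by
    refine ⟨⟨mul_mem (hRi hr) (D.PC j i hij.symm hq), hrq⟩, mul_mem (hRM hr) (P_le_N_sup D j hq)⟩
  have h2 := mul_mem (hLN h1) (inv_mem (D.PN j i hq))
  rwa [mul_inv_cancel_right] at h2

/-! ### LEMMA FIX -/

include h

/-- **LEMMA FIX** at the level `K` -/
theorem OffK.fix {i : Fin 2} {w : G} (hw : w ∈ OO T V) (hw2 : w * w = 1) (hwK : w ∈ centralizer (K : Set G))
    (hwc : ∀ o ∈ OO T V, o * w * o⁻¹ = w ∨ o * w * o⁻¹ = w * v i) : ∀ o ∈ OO T V, o * w = w * o := by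
  obtain ⟨j, hij⟩ : ∃ j : Fin 2, i ≠ j := ⟨i + 1, ne_add_one i⟩
  obtain ⟨A, hAT, hAj, hAi, hoff⟩ := h.off i j hij
  obtain ⟨τ, hτ, hτi⟩ := SetLike.not_le_iff_exists.1 hAi
  have hτo : τ ∉ o2 (P i) := fun h1 => hτi (by rw [o2_P D i] at h1; exact h1.2)
  obtain ⟨p, hp, hp1, hpv⟩ := D.exists_ne_v i
  obtain ⟨g, hg, -, hgp⟩ := D.tr hij hp hp1
  have hgO := P_le_N_OO D i hg
  have hoT : o2 (P i) ≤ T := o2_le_syl (sylP D i)
  have hgK : g ∈ normalizer (K : Set G) := h.nrm (P i) (OO_le_o2 D i) hoT hg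
  set e := g * w * g⁻¹ with he
  have heO : e ∈ OO T V := (mem_normalizer_iff.1 hgO w).1 hw
  have heK : e ∈ centralizer (K : Set G) := by
    refine mem_centralizer_iff.2 fun k hk => ?_
    have h1 : g⁻¹ * k * g ∈ K := (mem_normalizer_iff''.1 hgK k).1 hk
    have h2 := mem_centralizer_iff.1 hwK _ h1
    calc k * (g * w * g⁻¹) = g * (g⁻¹ * k * g * w) * g⁻¹ := by group
      _ = g * (w * (g⁻¹ * k * g)) * g⁻¹ := by rw [h2]
      _ = g * w * g⁻¹ * k := by group
  have hTO : T ≤ normalizer (OO T V : Set G) := (D.T_le_P i).trans (P_le_N_OO D i)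
  have hτK : τ ∈ normalizer (K : Set G) := h.nrm (P i) (OO_le_o2 D i) hoT (D.T_le_P i (hAT hτ))
  have he'K : τ * e * τ⁻¹ ∈ centralizer (K : Set G) := by
    refine mem_centralizer_iff.2 fun k hk => ?_
    have h1 : τ⁻¹ * k * τ ∈ K := (mem_normalizer_iff''.1 hτK k).1 hk
    have h2 := mem_centralizer_iff.1 heK _ h1
    calc k * (τ * e * τ⁻¹) = τ * (τ⁻¹ * k * τ * e) * τ⁻¹ := by group
      _ = τ * (e * (τ⁻¹ * k * τ)) * τ⁻¹ := by rw [h2]
      _ = τ * e * τ⁻¹ * k := by group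
  have dat : LevFix.Dat A (OO T V) (V 0 ⊔ V 1) τ p e :=
    { VO := sup_le_OO D
      OV := fun o ho x hx => OO_comm D ho hx
      V2 := fun x hx => sup_sq D hx
      AO := fun a ha o ho => (mem_normalizer_iff.1 (hTO (hAT ha)) o).1 ho
      AV := fun a ha x hx => (mem_normalizer_iff.1 (T_le_N_sup D (hAT ha)) x).1 hx
      τA := hτ
      idx := idx_OO D hij hAT hAj hτ hτo
      pV := V_le_sup V i hp
      p1 := hp1
      pτ := by
        rw [moves D (hAT hτ) hτo hp hp1 hpv]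
        intro h1
        exact D.ne i (mul_eq_left.1 h1)
      eO := heO
      e2 := by
        calc g * w * g⁻¹ * (g * w * g⁻¹) = g * (w * w) * g⁻¹ := by group
          _ = 1 := by rw [hw2]; group
      ec := by
        intro o ho
        have ho' : g⁻¹ * o * g ∈ OO T V := (mem_normalizer_iff''.1 hgO o).1 ho
        have e1 : o * e * o⁻¹ = g * ((g⁻¹ * o * g) * w * (g⁻¹ * o * g)⁻¹) * g⁻¹ := by rw [he]; group
        rcases hwc _ ho' with h1 | h1
        · left; rw [e1, h1]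
        · right; rw [e1, h1, he, ← hgp]; group
      off := by
        intro F hFO hVF hFc hFcomm hFsq hFA
        refine hoff F hFO (hFc.trans ((closure_le _).2 ?_)) hVF hFcomm hFsq hFA
        rintro x (hx | hx | hx)
        · exact centralizer_le h.KO (mem_centralizer_iff.2 fun o ho => OO_comm D ho hx)
        · rw [hx]; exact heK
        · have hx' : x = τ * e * τ⁻¹ := hx
          rw [hx']; exact he'K }
  intro o ho
  have ho' : g * o * g⁻¹ ∈ OO T V := (mem_normalizer_iff.1 hgO o).1 ho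
  have h1 := dat.main _ ho'
  have e1 : o * w = g⁻¹ * ((g * o * g⁻¹) * e) * g := by rw [he]; group
  rw [e1, h1, he]; group

/-- `|Y : C_Y(A)| ≤ 2`, `Y = Ω₁Z(O)` -/
theorem OffK.card_zc {i j : Fin 2} (hij : i ≠ j) {A : Subgroup G} (hAT : A ≤ T)
    (hAj : A ≤ centralizer (V j : Set G)) {τ : G} (hτ : τ ∈ A) (hτo : τ ∉ o2 (P i))
    (hoff : ∀ F : Subgroup G, F ≤ OO T V → F ≤ centralizer (K : Set G) → V 0 ⊔ V 1 ≤ F →
      (∀ x ∈ F, ∀ y ∈ F, x * y = y * x) → (∀ x ∈ F, x * x = 1) → A ≤ normalizer (F : Set G) → OffM F A) :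
    Nat.card (zc (OO T V)) ≤ 2 * Nat.card (zc (OO T V) ⊓ centralizer (A : Set G) : Subgroup G) := by
  set Y := zc (OO T V) with hY
  have hYO : Y ≤ OO T V := zc_le _
  have hTO : T ≤ normalizer (OO T V : Set G) := (D.T_le_P i).trans (P_le_N_OO D i)
  have hVY : V 0 ⊔ V 1 ≤ Y := by
    intro x hx
    exact mem_zc.2 ⟨sup_le_OO D hx, fun o ho => (OO_comm D ho hx), by rw [pow_two]; exact sup_sq D hx⟩
  have hOY : OO T V ≤ centralizer (Y : Set G) := by
    intro a ha
    exact mem_centralizer_iff.2 fun y hy => ((mem_zc.1 hy).2.1 a ha).symm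
  have h1 := (hoff Y hYO (fun y hy => mem_centralizer_iff.2 fun k hk => (mem_zc.1 hy).2.1 k (h.KO hk)) hVY
    (fun x hx y hy => (isElementaryAbelian_iff.1 (isElementaryAbelian_zc (OO T V))).1 x hx y hy)
    (fun x hx => by rw [← pow_two]; exact (mem_zc.1 hx).2.2)
    (hAT.trans (hTO.trans (NO3S.Level.normalizer_le_zc _)))).le
  have h2 : Nat.card A ≤ 2 * Nat.card ↥(A ⊓ centralizer (Y : Set G)) := by
    refine (LevFix.le_two_mul (C := A ⊓ OO T V) hτ inf_le_left fun a ha => ?_).trans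
      (Nat.mul_le_mul_left _ (Subgroup.card_le_of_le (inf_le_inf_left _ hOY)))
    rcases idx_OO D hij hAT hAj hτ hτo a ha with h3 | h3
    · exact Or.inl ⟨ha, h3⟩
    · exact Or.inr ⟨mul_mem hτ ha, h3⟩
  have hpos : 0 < Nat.card ↥(A ⊓ centralizer (Y : Set G)) := Nat.card_pos
  refine Nat.le_of_mul_le_mul_right ?_ hpos
  calc Nat.card Y * Nat.card ↥(A ⊓ centralizer (Y : Set G))
      ≤ Nat.card A * Nat.card ↥(Y ⊓ centralizer (A : Set G)) := h1
    _ ≤ (2 * Nat.card ↥(A ⊓ centralizer (Y : Set G))) * Nat.card ↥(Y ⊓ centralizer (A : Set G)) :=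
        Nat.mul_le_mul_right _ h2
    _ = _ := by ring

/-- `Ω₁Z(O) ≤ V 0 V 1` -/
theorem OffK.zc_OO : zc (OO T V) ≤ V 0 ⊔ V 1 := by
  have h01 : (0 : Fin 2) ≠ 1 := by decide
  obtain ⟨A, hAT, hAj, hAi, hoffA⟩ := h.off 0 1 h01
  obtain ⟨B, hBT, hBj, hBi, hoffB⟩ := h.off 1 0 h01.symm
  obtain ⟨τ, hτ, hτi⟩ := SetLike.not_le_iff_exists.1 hAi
  have hτo : τ ∉ o2 (P 0) := fun h1 => hτi (by rw [o2_P D] at h1; exact h1.2)
  obtain ⟨σ, hσ, hσi⟩ := SetLike.not_le_iff_exists.1 hBi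
  have hσo : σ ∉ o2 (P 1) := fun h1 => hσi (by rw [o2_P D] at h1; exact h1.2)
  set Y := zc (OO T V) with hY
  have hYO : Y ≤ OO T V := zc_le _
  have hOT : OO T V ≤ T := fun x hx => (mem_OO.1 hx).1
  have h1 := OffK.card_zc D h h01 hAT hAj hτ hτo hoffA
  have h2 := OffK.card_zc D h h01.symm hBT hBj hσ hσo hoffB
  set YA := Y ⊓ centralizer (A : Set G) with hYA
  set YB := Y ⊓ centralizer (B : Set G) with hYB
  have hcomm : YB ≤ centralizer (YA : Set G) := by
    rintro x ⟨hx, -⟩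
    refine mem_centralizer_iff.2 fun y hy => ?_
    exact (isElementaryAbelian_iff.1 (isElementaryAbelian_zc (OO T V))).1 y hy.1 x hx
  have h3 := card_sup_mul_card_inf hcomm
  have h4 : Nat.card (YA ⊔ YB : Subgroup G) ≤ Nat.card Y := Subgroup.card_le_of_le (sup_le inf_le_left inf_le_left)
  have h5 : YA ⊓ YB ≤ zc T := by
    rintro y ⟨⟨hy, hyA⟩, ⟨-, hyB⟩⟩
    have hy' := mem_zc.1 hy
    have cτ : τ * y = y * τ := mem_centralizer_iff.1 hyA τ hτ
    have cσ : σ * y = y * σ := mem_centralizer_iff.1 hyB σ hσ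
    refine mem_zc.2 ⟨hOT (hYO hy), fun t ht => ?_, hy'.2.2⟩
    have key : ∀ s : G, s * y = y * s → s * t * y = y * (s * t) → t * y = y * t := by
      intro s hs hst
      have h6 : s⁻¹ * y = y * s⁻¹ := by
        calc s⁻¹ * y = s⁻¹ * (y * s) * s⁻¹ := by group
          _ = s⁻¹ * (s * y) * s⁻¹ := by rw [hs]
          _ = y * s⁻¹ := by group
      calc t * y = s⁻¹ * (s * t * y) := by group
        _ = (s⁻¹ * y) * (s * t) := by rw [hst]; group
        _ = y * t := by rw [h6]; group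
    have hτc : τ ∈ centralizer (V 1 : Set G) := hAj hτ
    have hσc : σ ∈ centralizer (V 0 : Set G) := hBj hσ
    have hmem : ∀ s ∈ T, s ∈ o2 (P 0) → s ∈ o2 (P 1) → s * y = y * s := by
      intro s hs h0 h1
      rw [o2_P D] at h0 h1
      exact hy'.2.1 s ((mem_OO' h01).2 ⟨hs, h0.2, h1.2⟩)
    have hσ0 : σ ∈ o2 (P 0) := by rw [o2_P D]; exact ⟨hBT hσ, hσc⟩
    have hτ1 : τ ∈ o2 (P 1) := by rw [o2_P D]; exact ⟨hAT hτ, hτc⟩
    have h1' : ∀ s ∈ T, s ∈ o2 (P 0) → s * y = y * s := by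
      intro s hs h0
      by_cases hs1 : s ∈ o2 (P 1)
      · exact hmem s hs h0 hs1
      · have h7 := hmem (σ * s) (mul_mem (hBT hσ) hs) (mul_mem hσ0 h0) (mul_mem_o2 D (hBT hσ) hσo hs hs1)
        have h6 : σ⁻¹ * y = y * σ⁻¹ := by
          calc σ⁻¹ * y = σ⁻¹ * (y * σ) * σ⁻¹ := by group
            _ = σ⁻¹ * (σ * y) * σ⁻¹ := by rw [cσ]
            _ = y * σ⁻¹ := by group
        calc s * y = σ⁻¹ * (σ * s * y) := by group
          _ = (σ⁻¹ * y) * (σ * s) := by rw [h7]; group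
          _ = y * s := by rw [h6]; group
    by_cases ht0 : t ∈ o2 (P 0)
    · exact h1' t ht ht0
    · exact key τ cτ (h1' (τ * t) (mul_mem (hAT hτ) ht) (mul_mem_o2 D (hAT hτ) hτo ht ht0))
  have h6 : Nat.card (YA ⊓ YB : Subgroup G) ≤ 4 := (Subgroup.card_le_of_le h5).trans (card_zc_le D)
  have h7 : 0 < Nat.card YB := Nat.card_pos
  have hpY : 0 < Nat.card Y := Nat.card_pos
  have h8 : Nat.card Y ≤ 16 := by
    have h9 : Nat.card YA * Nat.card YB ≤ Nat.card Y * 4 := by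
      rw [← h3]; exact Nat.mul_le_mul h4 h6
    have h10 : Nat.card Y * Nat.card Y ≤ 16 * Nat.card Y := by
      calc Nat.card Y * Nat.card Y ≤ (2 * Nat.card YA) * (2 * Nat.card YB) := Nat.mul_le_mul h1 h2
        _ = 4 * (Nat.card YA * Nat.card YB) := by ring
        _ ≤ 4 * (Nat.card Y * 4) := Nat.mul_le_mul_left _ h9
        _ = 16 * Nat.card Y := by ring
    exact Nat.le_of_mul_le_mul_right h10 hpY
  have hVY : V 0 ⊔ V 1 ≤ Y := by
    intro x hx
    exact mem_zc.2 ⟨sup_le_OO D hx, fun o ho => (OO_comm D ho hx), by rw [pow_two]; exact sup_sq D hx⟩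
  exact (Subgroup.eq_of_le_of_card_ge hVY (by rw [card_V_sup D h01]; exact h8)).ge

/-- **`Ω₁Z(O₂(P i)) ≤ V i ⟨v j⟩`** -/
theorem OffK.hZO {i j : Fin 2} (hij : i ≠ j) : zc (o2 (P i)) ≤ V i ⊔ zpowers (v j) := by
  intro x hx
  obtain ⟨hx1, hx2, hx3⟩ := mem_zc.1 hx
  have ho := o2_P D i
  have hVi : V i ≤ o2 (P i) := by
    rw [ho]; exact le_inf (D.V_le_T i) (V_le_cent D i i)
  have hVj : V j ≤ o2 (P i) := by
    rw [ho]; exact le_inf (D.V_le_T j) (V_le_cent D j i)
  have hxO : x ∈ OO T V := by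
    rw [ho] at hx1
    exact (mem_OO' hij).2 ⟨hx1.1, hx1.2, mem_centralizer_iff.2 fun y hy => (hx2 y (hVj hy))⟩
  have hxz : x ∈ zc (OO T V) := mem_zc.2 ⟨hxO, fun o ho => hx2 o (OO_le_o2 D i ho), hx3⟩
  have hxM := OffK.zc_OO D h hxz
  rw [sup_eq_of V hij] at hxM
  obtain ⟨a, ha, b, hb, rfl⟩ := FixEL.mem_sup D hxM
  refine mul_mem_sup ha ?_
  -- `b` is centralised by `C_T(V i)`, which moves `V j`
  by_cases hb1 : b = 1
  · rw [hb1]; exact one_mem _
  by_cases hbv : b = v j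
  · rw [hbv]; exact mem_zpowers _
  exfalso
  obtain ⟨A, hAT, hAj, hAi, -⟩ := h.off j i hij.symm
  obtain ⟨σ, hσ, hσi⟩ := SetLike.not_le_iff_exists.1 hAi
  have hσo : σ ∈ o2 (P i) := by rw [ho]; exact ⟨hAT hσ, hAj hσ⟩
  have h1 := hx2 σ hσo
  have h2 : σ * a = a * σ := (mem_centralizer_iff.1 (hAj hσ) a ha).symm
  have h3 : σ * b * σ⁻¹ = b := by
    have h4 : a * (σ * b) = a * (b * σ) := by
      calc a * (σ * b) = σ * (a * b) := by rw [← mul_assoc, ← h2, mul_assoc]
        _ = a * (b * σ) := by rw [h1, mul_assoc]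
    rw [mul_left_cancel h4, mul_inv_cancel_right]
  rcases FixEL.eq_of_fix D (hAT hσ) hσi hb h3 with h4 | h4
  · exact hb1 h4
  · exact hbv h4

/-- **`hU`** : a minimal parabolic `R` over `T` in `C(v i)` which moves `v j` normalises `V i`. -/
theorem OffK.hU {i j : Fin 2} (hij : i ≠ j) {R : Subgroup G} (hR : IsMinPar T R) (hRi : R ≤ CC v i)
    (hRj : ¬ R ≤ CC v j) : R ≤ normalizer (V i : Set G) := by
  have hN : R ≤ normalizer (V j : Set G) := D.uni j i hij.symm R hR hRi hRj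
  have ho := o2_eq D hij.symm hR hRi hRj
  have hoT : o2 R ≤ T := by rw [ho]; exact inf_le_left
  have hOR : OO T V ≤ o2 R := by
    rw [ho]; exact fun x hx => ⟨(mem_OO.1 hx).1, (mem_OO.1 hx).2 j⟩
  have hRK := h.nrm R hOR hoT
  refine norm_V_of D hij hRi hN ?_
  -- `V i ^ R ≤ V 0 V 1`
  have key : ∀ g ∈ R, ∀ a ∈ V i, g * a * g⁻¹ ∈ V 0 ⊔ V 1 := by
    intro g hg a ha
    have haO : a ∈ OO T V := V_le_OO D i ha
    have hgi : g * v i = v i * g := mem_centralizer_singleton_iff.1 (hRi hg)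
    have hao : a ∈ o2 R := by rw [ho]; exact ⟨D.V_le_T i ha, V_le_cent D i j ha⟩
    have h1 : g * a * g⁻¹ ∈ o2 R := (mem_normalizer_iff.1 (le_normalizer_o2 _ hg) a).1 hao
    have h1T : g * a * g⁻¹ ∈ T := hoT h1
    have h1j : g * a * g⁻¹ ∈ centralizer (V j : Set G) := by rw [ho] at h1; exact h1.2
    -- commutators
    have hcomm : ∀ o ∈ o2 R, o * (g * a * g⁻¹) * o⁻¹ = g * a * g⁻¹ ∨
        o * (g * a * g⁻¹) * o⁻¹ = g * a * g⁻¹ * v i := by
      intro o hoo
      have h2 : g⁻¹ * o * g ∈ o2 R := (mem_normalizer_iff''.1 (le_normalizer_o2 _ hg) o).1 hoo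
      have e1 : o * (g * a * g⁻¹) * o⁻¹ = g * ((g⁻¹ * o * g) * a * (g⁻¹ * o * g)⁻¹) * g⁻¹ := by group
      rw [e1]
      have h3 := D.comm_VQ i ha (hoT h2)
      set s := g⁻¹ * o * g with hs
      have e2 : s * a * s⁻¹ = a * (a * s * a⁻¹ * s⁻¹)⁻¹ * 1 := by
        have haa : a * a = 1 := by rw [← pow_two]; exact D.sqV i a ha
        have hai : a⁻¹ = a := inv_eq_of_mul_eq_one_left haa
        -- `[a,s]⁻¹ = s a s⁻¹ a⁻¹` and it commutes with `a`
        have h4 : (a * s * a⁻¹ * s⁻¹)⁻¹ = s * a * s⁻¹ * a⁻¹ := by group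
        have h5 : s * a * s⁻¹ ∈ V i := (mem_normalizer_iff.1 (D.T_le_N i (hoT h2)) a).1 ha
        have h6 := D.V_comm ha h5
        rw [mul_one, h4]
        calc s * a * s⁻¹ = s * a * s⁻¹ * a * a⁻¹ := by group
          _ = a * (s * a * s⁻¹) * a⁻¹ := by rw [h6]
          _ = a * (s * a * s⁻¹ * a⁻¹) := by group
      rw [mul_one] at e2
      rcases mem_zpow_cases D i (inv_mem h3) with h4 | h4
      · left; rw [e2, h4, mul_one]
      · right
        rw [e2, h4]
        calc g * (a * v i) * g⁻¹ = g * a * (v i * g⁻¹) := by group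
          _ = g * a * (g⁻¹ * v i) := by
            have : v i * g⁻¹ = g⁻¹ * v i := by
              calc v i * g⁻¹ = g⁻¹ * (g * v i) * g⁻¹ := by group
                _ = g⁻¹ * (v i * g) * g⁻¹ := by rw [hgi]
                _ = g⁻¹ * v i := by group
            rw [this]
          _ = g * a * g⁻¹ * v i := by group
    -- `g a g⁻¹` centralises `V i`: it commutes with `V i` up to ..
    have hK : g * a * g⁻¹ ∈ centralizer (K : Set G) := by
      refine mem_centralizer_iff.2 fun k hk => ?_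
      have h2 : g⁻¹ * k * g ∈ K := (mem_normalizer_iff''.1 (hRK hg) k).1 hk
      have h3 := mem_centralizer_iff.1 ((mem_OO.1 (h.KO h2)).2 i) a ha
      calc k * (g * a * g⁻¹) = g * (g⁻¹ * k * g * a) * g⁻¹ := by group
        _ = g * (a * (g⁻¹ * k * g)) * g⁻¹ := by rw [← h3]
        _ = g * a * g⁻¹ * k := by group
    have hW : g * a * g⁻¹ ∈ WU V v i := (mem_normalizer_iff.1 (D.C_le_N_W i (hRi hg)) a).1 (D.V_le_W i ha)
    have hO : g * a * g⁻¹ ∈ OO T V := by
      refine (mem_OO' hij).2 ⟨h1T, ?_, h1j⟩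
      exact centralizer_le (D.V_le_W i) (D.W_comm i hW)
    have h2 : g * a * g⁻¹ * (g * a * g⁻¹) = 1 := by
      have haa : a * a = 1 := by rw [← pow_two]; exact D.sqV i a ha
      calc g * a * g⁻¹ * (g * a * g⁻¹) = g * (a * a) * g⁻¹ := by group
        _ = 1 := by rw [haa]; group
    have h3 := OffK.fix D h hO h2 hK fun o ho => hcomm o (hOR ho)
    exact OffK.zc_OO D h (mem_zc.2 ⟨hO, h3, by rw [pow_two]; exact h2⟩)
  intro g hg
  apply ZN.ChoiceBase.mem_normalizer_of_cj_le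
  have e : ZN.ChoiceBase.cj g (V 0 ⊔ V 1) = ZN.ChoiceBase.cj g (V i) ⊔ ZN.ChoiceBase.cj g (V j) := by
    rw [sup_eq_of V hij]
    exact Subgroup.map_sup _ _ _
  rw [e]
  refine sup_le ?_ ?_
  · rintro _ ⟨a, ha, rfl⟩
    exact key g hg a ha
  · rintro _ ⟨a, ha, rfl⟩
    exact V_le_sup V j ((mem_normalizer_iff.1 (hN hg) a).1 ha)

omit h in
/-- stage `-1` -/
theorem offK_of_hJ (hJ : ∀ i, ¬ jj T ≤ o2 (P i)) : OffK T V ⊥ where
  KO := bot_le
  nrm := fun H _ _ x _ => by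
    rw [mem_normalizer_iff]
    intro y
    rw [mem_bot, mem_bot]
    exact conj_eq_one_iff.symm
  off := by
    intro i j hij
    obtain ⟨A, hA, hAj, τ, hτ, hτo⟩ := FixEL.exists_A D hJ hij
    have hAi : ¬ A ≤ centralizer (V i : Set G) := fun hh => hτo (by rw [o2_P D i]; exact ⟨hA.1 hτ, hh hτ⟩)
    refine ⟨A, hA.1, hAj, hAi, fun F hF _ hVF hFc hFs hAF => ?_⟩
    have hAc := (isElementaryAbelian_iff.1 hA.2.1).1
    have hAs := (isElementaryAbelian_iff.1 hA.2.1).2
    refine { sq := fun a ha => by rw [hAs a ha]; exact one_mem _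
             comm := fun a ha b hb => by
              rw [hAc a ha b hb, mul_inv_cancel_right, mul_inv_cancel]; exact one_mem _
             ne := fun hh => hAi (hh.trans (centralizer_le ((V_le_sup V i).trans hVF)))
             le := ?_ }
    have hFe : IsElementaryAbelian 2 F := isElementaryAbelian_iff.2 ⟨hFc, fun x hx => by rw [pow_two]; exact hFs x hx⟩
    have hFT : F ≤ T := hF.trans fun x hx => (mem_OO.1 hx).1
    have hc : A ⊓ centralizer (F : Set G) ≤ centralizer (F : Set G) := inf_le_right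
    have h1 := card_sup_mul_card_inf hc
    have h2 : Nat.card (F ⊔ (A ⊓ centralizer (F : Set G)) : Subgroup G) ≤ Nat.card A :=
      hA.2.2 _ (sup_le hFT (inf_le_left.trans hA.1))
        (isElementaryAbelian_sup hFe (isElementaryAbelian_mono hA.2.1 inf_le_left) hc)
    have h3 : Nat.card (F ⊓ (A ⊓ centralizer (F : Set G)) : Subgroup G) ≤ Nat.card ↥(F ⊓ centralizer (A : Set G)) := by
      refine Subgroup.card_le_of_le (inf_le_inf_left _ (inf_le_left.trans ?_))
      intro a ha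
      exact mem_centralizer_iff.2 fun b hb => hAc b hb a ha
    rw [← h1]
    exact Nat.mul_le_mul h2 h3

end

section mul

open Cfsg.Agent.Omega.OM
open Cfsg.Agent.Omega.Node.MultiOf
open Cfsg.Agent.Omega.NO3S.Level (lev nxt BO)

variable [Finite G] {S : Sylow 2 G} {P' K B ZJ : Subgroup G} {L W Z C R : Fin 2 → Subgroup G} {v : Fin 2 → G}

/-- `O = C_T(V 0 V 1) = O₂(P)` -/
theorem OO_eq (D : KTwo.Sit S P' ((S : Subgroup G) ⊓ normalizer (Z 0 : Set G)) W v) :
    OO ((S : Subgroup G) ⊓ normalizer (Z 0 : Set G)) W = o2 P' := by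
  set T := (S : Subgroup G) ⊓ normalizer (Z 0 : Set G) with hT
  have h1 := IsParS.inf_centralizer S D.hyp.ctx.char2 D.hyp.star
  apply le_antisymm
  · rw [← h1]
    intro x hx
    obtain ⟨hxT, hx⟩ := mem_OO.1 hx
    refine ⟨hxT.1, ?_⟩
    have h2 : W 0 ⊔ W 1 ≤ centralizer ({x} : Set G) := by
      refine sup_le ?_ ?_ <;>
        exact fun y hy => mem_centralizer_singleton_iff.2 (mem_centralizer_iff.1 (hx _) y hy)
    exact mem_centralizer_iff.2 fun y hy => mem_centralizer_singleton_iff.1 (h2 (D.sup 0 1 (by decide) hy))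
  · intro x hx
    rw [← h1] at hx
    have h2 : ∀ i, x ∈ centralizer (W i : Set G) := fun i => centralizer_le (D.le i) hx.2
    refine mem_OO.2 ⟨?_, h2⟩
    rw [D.T_eq 0]
    exact ⟨hx.1, centralizer_le_normalizer _ (h2 0)⟩

/-- best offenders with smaller image -/
theorem best_inf {X V A : Subgroup G} (hb : Best X A) (hV : V ≤ X) (hX : ∀ x ∈ X, ∀ y ∈ X, x * y = y * x)
    (hA2 : Nat.card A ≤ 2 * Nat.card ↥(A ⊓ centralizer (V : Set G))) (hne : ¬ A ≤ centralizer (V : Set G)) :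
    Best X (A ⊓ centralizer (V : Set G)) := by
  refine { toElemM := NO1.BestOff.ElemM.mono hb.toElemM inf_le_left, max := fun Y hY hYc => ?_ }
  have h1 : A ⊓ centralizer (X : Set G) ≤ Y :=
    le_trans (le_inf (le_inf inf_le_left (inf_le_right.trans (centralizer_le hV))) inf_le_right) hYc
  refine (hb.max Y (hY.trans inf_le_left) h1).trans ?_
  obtain ⟨a, ha, haV⟩ := SetLike.not_le_iff_exists.1 hne
  obtain ⟨x, hx, hax⟩ : ∃ x ∈ V, a * x ≠ x * a := by
    by_contra hcon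
    push Not at hcon
    exact haV (mem_centralizer_iff.2 fun y hy => (hcon y hy).symm)
  have h2 : 2 * Nat.card ↥(X ⊓ centralizer (A : Set G)) ≤
      Nat.card ↥(X ⊓ centralizer ((A ⊓ centralizer (V : Set G) : Subgroup G) : Set G)) := by
    refine LevFix.two_mul_le (inf_le_inf_left _ (centralizer_le inf_le_left)) (x := x) ⟨hV hx, ?_⟩ ?_
    · exact mem_centralizer_iff.2 fun b hb => (mem_centralizer_iff.1 hb.2 x hx).symm
    · intro hh
      exact hax (mem_centralizer_iff.1 hh.2 a ha)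
  calc Nat.card A * Nat.card ↥(X ⊓ centralizer (A : Set G))
      ≤ (2 * Nat.card ↥(A ⊓ centralizer (V : Set G))) * Nat.card ↥(X ⊓ centralizer (A : Set G)) :=
        Nat.mul_le_mul_right _ hA2
    _ = Nat.card ↥(A ⊓ centralizer (V : Set G)) * (2 * Nat.card ↥(X ⊓ centralizer (A : Set G))) := by ring
    _ ≤ _ := Nat.mul_le_mul_left _ h2

/-- **stage `n`** -/
theorem offK_of_lev (hF : Fr ((S : Subgroup G) ⊓ normalizer (Z 0 : Set G)) W R v)
    (D : KTwo.Sit S P' ((S : Subgroup G) ⊓ normalizer (Z 0 : Set G)) W v) {n : ℕ}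
    (hn : lev (S : Subgroup G) n ≤ o2 P') (hn1 : ¬ lev (S : Subgroup G) (n + 1) ≤ o2 P')
    (hT : lev (S : Subgroup G) (n + 1) ≤ (S : Subgroup G) ⊓ normalizer (Z 0 : Set G)) :
    OffK ((S : Subgroup G) ⊓ normalizer (Z 0 : Set G)) W (lev (S : Subgroup G) n) := by
  set T := (S : Subgroup G) ⊓ normalizer (Z 0 : Set G) with hTdef
  have hOO := OO_eq D
  have hlev := NO3S.Level.lev_isLev (S : Subgroup G) n
  have hTS : T ≤ (S : Subgroup G) := inf_le_left
  have hKO : lev (S : Subgroup G) n ≤ OO T W := by rw [hOO]; exact hn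
  have hOOS : OO T W ≤ (S : Subgroup G) := fun x hx => hTS (mem_OO.1 hx).1
  set X := zc (lev (S : Subgroup G) n) with hX
  have hVX : ∀ i, W i ≤ X := by
    intro i x hx
    have h1 : x ∈ zc (OO T W) := mem_zc.2 ⟨V_le_OO hF i hx, fun o ho => OO_comm hF ho (V_le_sup W i hx), hF.sqV i x hx⟩
    exact hlev.zc_le_zc hKO hOOS h1
  have hXc : ∀ x ∈ X, ∀ y ∈ X, x * y = y * x := fun x hx y hy => NO3S.Level.Lev.zc_comm hx hy
  -- a best offender which moves `W 0 W 1`
  obtain ⟨A, hA, hAQ⟩ := NO3S.exists_BO D.hyp.ctx.char2 D.hyp.star hn hn1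
  have hAT : A ≤ T := (NO3S.Level.BO.le_nxt hA).trans hT
  have hAX : Best X A := hA.2
  -- the family of best offenders in `T` on `X`
  have key : ∃ i j : Fin 2, i ≠ j ∧ ∃ A' ≤ T, A' ≤ centralizer (W j : Set G) ∧ ¬ A' ≤ centralizer (W i : Set G) ∧
      Best X A' := by
    have h01 : (0 : Fin 2) ≠ 1 := by decide
    by_cases h1 : A ≤ centralizer (W 1 : Set G)
    · refine ⟨0, 1, h01, A, hAT, h1, fun h0 => hAQ ?_, hAX⟩
      rw [← hOO]
      exact fun a ha => (mem_OO' h01).2 ⟨hAT ha, h0 ha, h1 ha⟩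
    by_cases h0 : A ≤ centralizer (W 0 : Set G)
    · exact ⟨1, 0, h01.symm, A, hAT, h0, h1, hAX⟩
    -- `A` moves both
    obtain ⟨τ, hτ, hτ1⟩ := SetLike.not_le_iff_exists.1 h1
    have hτo : τ ∉ o2 (R 1) := fun hh => hτ1 (by rw [o2_P hF] at hh; exact hh.2)
    have hA2 : Nat.card A ≤ 2 * Nat.card ↥(A ⊓ centralizer (W 1 : Set G)) := by
      refine LevFix.le_two_mul hτ inf_le_left fun a ha => ?_
      by_cases hao : a ∈ o2 (R 1)
      · rw [o2_P hF] at hao
        exact Or.inl ⟨ha, hao.2⟩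
      · have h2 := mul_mem_o2 hF (hAT hτ) hτo (hAT ha) hao
        rw [o2_P hF] at h2
        exact Or.inr ⟨mul_mem hτ ha, h2.2⟩
    have hb := best_inf hAX (hVX 1) hXc hA2 h1
    refine ⟨0, 1, h01, A ⊓ centralizer (W 1 : Set G), inf_le_left.trans hAT, inf_le_right, fun hcon => ?_, hb⟩
    -- otherwise `A` induces on `W 0 W 1` a group of order 2, `|W 0 W 1 : C(A)| = 4`
    have hoff := hAX.offM (W := W 0 ⊔ W 1) (sup_le (hVX 0) (hVX 1))
      (fun hh => h1 (hh.trans (centralizer_le (V_le_sup W 1))))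
    have hle := hoff.le
    have hcC : Nat.card ↥(A ⊓ centralizer (W 1 : Set G)) ≤
        Nat.card ↥(A ⊓ centralizer ((W 0 ⊔ W 1 : Subgroup G) : Set G)) := by
      refine Subgroup.card_le_of_le (le_inf inf_le_left fun a ha => ?_)
      have hc0 := hcon ha
      have h2 : W 0 ⊔ W 1 ≤ centralizer ({a} : Set G) := by
        refine sup_le ?_ ?_
        · exact fun y hy => mem_centralizer_singleton_iff.2 (mem_centralizer_iff.1 hc0 y hy)
        · exact fun y hy => mem_centralizer_singleton_iff.2 (mem_centralizer_iff.1 ha.2 y hy)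
      exact mem_centralizer_iff.2 fun y hy => mem_centralizer_singleton_iff.1 (h2 hy)
    have hfix : Nat.card ↥((W 0 ⊔ W 1) ⊓ centralizer (A : Set G)) ≤ 4 := by
      refine (Subgroup.card_le_of_le ?_).trans (card_zc_le hF)
      rintro x ⟨hx, hxA⟩
      obtain ⟨a, ha, b, hb', rfl⟩ := FixEL.mem_sup hF hx
      obtain ⟨σ, hσ, hσ0⟩ := SetLike.not_le_iff_exists.1 h0
      -- an element moving both
      have hσ1 : σ ∉ centralizer (W 1 : Set G) := fun hh => hσ0 (hcon ⟨hσ, hh⟩)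
      have h4 : σ * (a * b) * σ⁻¹ = a * b := by
        have := mem_centralizer_iff.1 hxA σ hσ
        rw [this, mul_inv_cancel_right]
      have h5 : σ * a * σ⁻¹ ∈ W 0 := (mem_normalizer_iff.1 (hF.T_le_N 0 (hAT hσ)) a).1 ha
      have h6 : σ * b * σ⁻¹ ∈ W 1 := (mem_normalizer_iff.1 (hF.T_le_N 1 (hAT hσ)) b).1 hb'
      have h7 : a⁻¹ * (σ * a * σ⁻¹) = b * (σ * b * σ⁻¹)⁻¹ := by
        have e : σ * (a * b) * σ⁻¹ = (σ * a * σ⁻¹) * (σ * b * σ⁻¹) := by group
        rw [e] at h4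
        calc a⁻¹ * (σ * a * σ⁻¹) = a⁻¹ * ((σ * a * σ⁻¹) * (σ * b * σ⁻¹)) * (σ * b * σ⁻¹)⁻¹ := by group
          _ = b * (σ * b * σ⁻¹)⁻¹ := by rw [h4]; group
      have h8 : a⁻¹ * (σ * a * σ⁻¹) ∈ W 0 ⊓ W 1 :=
        mem_inf.2 ⟨mul_mem (inv_mem ha) h5, by rw [h7]; exact mul_mem hb' (inv_mem h6)⟩
      rw [FixEL.V_inf hF h01, mem_bot] at h8
      have h9 : σ * a * σ⁻¹ = a := by rw [inv_mul_eq_one] at h8; exact h8.symm
      have h10 : σ * b * σ⁻¹ = b := by
        rw [h8, eq_comm, mul_inv_eq_one] at h7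
        exact h7.symm
      refine mul_mem ?_ ?_
      · rcases FixEL.eq_of_fix hF (hAT hσ) hσ0 ha h9 with h | h
        · rw [h]; exact one_mem _
        · rw [h]; exact hF.v_mem_zc 0
      · rcases FixEL.eq_of_fix hF (hAT hσ) hσ1 hb' h10 with h | h
        · rw [h]; exact one_mem _
        · rw [h]; exact hF.v_mem_zc 1
    rw [FixEL.card_V_sup hF h01] at hle
    have hpos : 0 < Nat.card ↥(A ⊓ centralizer ((W 0 ⊔ W 1 : Subgroup G) : Set G)) := Nat.card_pos
    have h11 : Nat.card A * Nat.card ↥((W 0 ⊔ W 1) ⊓ centralizer (A : Set G)) ≤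
        (2 * Nat.card ↥(A ⊓ centralizer ((W 0 ⊔ W 1 : Subgroup G) : Set G))) * 4 :=
      Nat.mul_le_mul (hA2.trans (Nat.mul_le_mul_left _ hcC)) hfix
    omega
  -- the swap
  have all : ∀ i j : Fin 2, i ≠ j → ∃ A' ≤ T, A' ≤ centralizer (W j : Set G) ∧ ¬ A' ≤ centralizer (W i : Set G) ∧
      Best X A' := by
    obtain ⟨i₀, j₀, hij₀, A', hA'T, hA'j, hA'i, hA'b⟩ := key
    intro i j hij
    by_cases hi : i = i₀
    · have hj : j = j₀ := by rw [eq_add_one hij, hi, ← eq_add_one hij₀]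
      rw [hi, hj]
      exact ⟨A', hA'T, hA'j, hA'i, hA'b⟩
    · have hi' : i = j₀ := by
        have := eq_add_one (i := i₀) (j := i) (Ne.symm hi)
        rw [this, ← eq_add_one hij₀]
      have hj' : j = i₀ := by
        have h1 := eq_add_one hij
        rw [hi'] at h1
        have h2 := eq_add_one hij₀.symm
        rw [h1, ← h2]
      obtain ⟨s, hs, -, hsw⟩ := D.swap
      have hsT : MulAut.conj s • T = T := by
        refine Subgroup.eq_of_le_of_card_ge ?_ (ZN.ChoiceBase.card_cj s T).ge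
        rintro _ ⟨t, ht, rfl⟩
        change s * t * s⁻¹ ∈ T
        have h2 : t ∈ (S : Subgroup G) ⊓ normalizer (W 0 : Set G) := by
          have h1 : t ∈ T := ht
          rwa [D.T_eq 0] at h1
        rw [D.T_eq 1]
        refine mem_inf.2 ⟨mul_mem (mul_mem hs h2.1) (inv_mem hs), ?_⟩
        have h3 : t ∈ normalizer (W 0 : Set G) := h2.2
        rw [ZN.ChoiceBase.mem_normalizer_iff_cj] at h3 ⊢
        have e : ∀ (g : G) (Y : Subgroup G), ZN.ChoiceBase.cj g Y = MulAut.conj g • Y := fun g Y => rfl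
        rw [e] at h3 ⊢
        rw [← (hsw 0 1 (by decide)).1, ← mul_smul, ← map_mul]
        have e2 : s * t * s⁻¹ * s = s * t := by group
        rw [e2, map_mul, mul_smul, h3]
      have hsK : s ∈ normalizer (lev (S : Subgroup G) n : Set G) := hlev.S_norm hs
      have hsX : s ∈ normalizer (X : Set G) := NO3S.Level.normalizer_le_zc _ hsK
      have cc : ∀ (Y Y' : Subgroup G), Y ≤ centralizer (Y' : Set G) ↔
          MulAut.conj s • Y ≤ centralizer ((MulAut.conj s • Y' : Subgroup G) : Set G) := by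
        intro Y Y'
        have e : MulAut.conj s • centralizer (Y' : Set G) = centralizer ((MulAut.conj s • Y' : Subgroup G) : Set G) :=
          ZN.ChoiceBase.cj_centralizer s _
        rw [← e, NoFF.Basic.conj_le_iff]
      refine ⟨MulAut.conj s • A', ?_, ?_, ?_, hA'b.conj_smul hsX⟩
      · rw [← hsT]; exact NoFF.Basic.conj_le_iff.2 hA'T
      · rw [hj', ← (hsw j₀ i₀ hij₀.symm).1]
        exact (cc _ _).1 hA'j
      · rw [hi', ← (hsw i₀ j₀ hij₀).1]
        exact fun hh => hA'i ((cc _ _).2 hh)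
  refine ⟨hKO, fun H h1 h2 => hlev.le_norm_of_o2 (hKO.trans h1) (h2.trans hTS), fun i j hij => ?_⟩
  obtain ⟨A', h1, h2, h3, h4⟩ := all i j hij
  refine ⟨A', h1, h2, h3, fun F hFO hFK hVF hFc hFs _ => h4.offM ?_ fun hh =>
    h3 (hh.trans (centralizer_le ((V_le_sup W i).trans hVF)))⟩
  -- `F ≤ X`
  intro x hx
  refine hlev.mem_of_comm (hOOS (hFO hx)) (by rw [pow_two]; exact hFs x hx) fun y hy => ?_
  exact (mem_centralizer_iff.1 (hFK hx) y hy)

end mul

end Cfsg.Agent.Omega.TC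

end

section


/-!
# CARD #18791 (`k = 2`, `q = 2`), the end over every frame `TC.Fr` (helper836)

No `VBang` / `VOff` / `WOff`, no swap, no stage: the inputs are THEOREM KL (`KL.Quo.NoInp`), `MLK`, `IsKGroup (C_i)` and
`HU` ("a minimal parabolic `R ≤ C_i` over `T` which moves `v_j` normalises `V_i`").

* `oneB` : (1b) of #21425, from `KL.EndR.no_1b`;
* **`false_of`** : no frame `Fr T V P v` with `HU T V v`;
* **`false_of_offK`** : no frame with `OffK T V K` for some `K`; `RIn` and card [A] are consequences.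
-/

set_option autoImplicit false
set_option linter.unusedSectionVars false

namespace Cfsg.Agent.Omega.TC.EndKL

open Subgroup Cfsg Cfsg.Agent.ZN Cfsg.Agent.Omega.MinPar
open Cfsg.Agent.Omega.OM.KTwo (CC QQ WU NU EU)

universe u

variable {G : Type u} [Group G] [Finite G] {T : Subgroup G} {V P : Fin 2 → Subgroup G} {v : Fin 2 → G}
  (D : Fr T V P v) (hML : ML.Final.MLK.{u, u}) (hKL : KL.Quo.NoInp.{u, u}) (hK : ∀ i, IsKGroup (CC v i))

include D hML hKL hK

/-- (1b) of #21425 -/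
theorem oneB (hU : KL.EndR.HU T V v) : RSix.OneB T V v := fun _ _ hA hm => KL.EndR.no_1b D hML hKL hK hU hA hm

/-- **There is no frame.** -/
theorem false_of (hU : KL.EndR.HU T V v) : False :=
  RSix.six D hML hK (KL.EndR.not_le D hML hKL hK hU) (oneB D hML hKL hK hU)

/-- **There is no frame with `OffK`.** -/
theorem false_of_offK {K : Subgroup G} (h : OffK T V K) : False :=
  false_of D hML hKL hK fun i _ hR hRi hRj => OffK.hU D h (OM.KTwo.ne_add_one i) hR hRi hRj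

end Cfsg.Agent.Omega.TC.EndKL

end

section


/-!
# CARD #18791, variant (MT), `k = 2 = q`: the reduction to `V i ≤ N_i` (card [A])

`D : Fr T V P v`, `Swap T V v`, `¬ J(T) ≤ O₂(P i)`, (ML) and all proper subgroups `K`-groups. If `V 0 ≰ N_0`:
* `Fr.fixE_of` : LEMMA FIX on `E_i` from COROLLARY PHI; `Fr.hmv_of` : a member of `AA T` moves `V i`;
* `Fr.not_pt` : `v 0 * v 1` is not a point; `Fr.inter_mt` : `E_0 ∩ E_1 ≤ Ω₁Z(T)` (THEOREM I);
* `Fr.mt_one` : `[N_0, N_1] ≠ 1` (THEOREM G, EXACTNESS, PEELING, R4 (5));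
* `Fr.V_le_N_of` : `V 0 ≤ N_0` if `EndOne T V v` (the ending for `1 ≠ [N_0, N_1] ≤ Ω₁Z(T)`).
-/

set_option autoImplicit false
set_option linter.unusedSectionVars false

namespace Cfsg.Agent.Omega.TC

open Subgroup Cfsg Cfsg.Agent.ZN Cfsg.Agent.Omega.MinPar
open Cfsg.Agent.Omega.OM.KTwo (CC QQ WU NU EU FF ne_add_one eq_add_one add_one_add_one le_normalizer_V le_V)
open Cfsg.Agent.Omega.NoFF.Basic (conj_conj mem_conj conj_le_iff conj_le_centralizer comm_symm comm_mono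
  Z_le_V V_le conj_V_mul)
open Cfsg.Agent.ZN.ChoiceSit (Syl exists_syl syl_conj o2_le_syl syl_not_dvd)
open Cfsg.Agent.ZN.ChoiceBase (AA mem_AA_iff mem_normalizer_iff_cj cj_mono cj_eq_of_mem_normalizer cj_centralizer)
open Cfsg.Agent.Omega.NO3S.EThree.ExactA (NoP eab_iff)
open Cfsg.Agent.Omega.OM
open Cfsg.Agent.Omega.TC.DOne (FixE)
open scoped Pointwise commutatorElement

universe u

variable {G : Type u} [Group G]

/-- the ending of case (E), `d = 1`: `[N_0, N_1] ≤ Ω₁Z(T)` implies `[N_0, N_1] = 1` -/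
def EndOne (T : Subgroup G) (V : Fin 2 → Subgroup G) (v : Fin 2 → G) : Prop :=
  (∀ i, FixE T v i) → ⁅NU V v 0, NU V v 1⁆ ≤ zc T → NU V v 0 ≤ centralizer (NU V v 1 : Set G)

namespace Fr

variable [Finite G] {T : Subgroup G} {V P : Fin 2 → Subgroup G} {v : Fin 2 → G} (D : Fr T V P v)

include D

theorem conj_WU {s : G} (w : Sw V v s) {i j : Fin 2} (hij : i ≠ j) : MulAut.conj s • WU V v i = WU V v j := by
  have key : ∀ {s : G}, Sw V v s → ∀ {i j : Fin 2}, i ≠ j → MulAut.conj s • WU V v i ≤ WU V v j := by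
    intro s w i j hij
    obtain ⟨h1, h2, h3, h4⟩ := w.side hij
    unfold WU
    refine NoFF.Basic.conj_V_le fun p hp => ?_
    have e : s * p = (s * p * s⁻¹) * s := by group
    rw [e, ← conj_conj, h3]
    refine Z_le_V ?_
    rw [mem_centralizer_singleton_iff] at hp ⊢
    rw [← h1]
    calc s * p * s⁻¹ * (s * v i * s⁻¹) = s * (p * v i) * s⁻¹ := by group
      _ = s * (v i * p) * s⁻¹ := by rw [hp]
      _ = s * v i * s⁻¹ * (s * p * s⁻¹) := by group
  apply le_antisymm (key w hij)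
  have w' : Sw V v s⁻¹ := by
    refine ⟨?_, ?_, ?_, ?_⟩
    · rw [← w.v10]; group
    · rw [← w.v01]; group
    · rw [← w.V10, conj_conj, inv_mul_cancel, map_one, one_smul]
    · rw [← w.V01, conj_conj, inv_mul_cancel, map_one, one_smul]
  have h1 := key w' hij.symm
  have h2 := (conj_le_iff (g := s)).2 h1
  rwa [conj_conj, mul_inv_cancel, map_one, one_smul] at h2

theorem XW_eq_one {s : G} (w : Sw V v s) : PG.Peel.XW (ZZ v) V (ZZ v 1) = NU V v 1 ⊔ WU V v 1 := by
  have h1 : PG.Peel.XW (ZZ v) V (MulAut.conj s • ZZ v 0) = _ := PG.Peel.XW_conj s (ZZ v 0)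
  rw [conj_ZZ w.v01, D.XW_eq w, Subgroup.smul_sup, D.conj_NU w (by decide : (0 : Fin 2) ≠ 1),
    D.conj_WU w (by decide : (0 : Fin 2) ≠ 1)] at h1
  exact h1

/-- LEMMA FIX on `E_i`, from COROLLARY PHI. -/
theorem fixE_of {i : Fin 2} (hJ : ¬ jj T ≤ o2 (P i)) (hV : ¬ V i ≤ NU V v i) : FixE T v i := by
  intro n hn h
  have hij := ne_add_one i
  rw [D.E_eq] at hn
  have hN : NU V v i ≤ normalizer ((zpowers (v i) : Subgroup G) : Set G) := by
    refine (D.N_le_C i i).trans ?_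
    rw [← D.HH_eq i]
    exact le_rfl
  obtain ⟨a, ha, z, hz, rfl⟩ := OM.KTwo.exists_mul_of_mem_sup
    (show zpowers (v i) ≤ normalizer (NU V v i : Set G) from
      (zpowers_le.2 (mem_centralizer_singleton_iff.2 rfl)).trans (D.C_le_N_N i)) hn
  have hzT : z ∈ zc T := (zpowers_le.2 (D.v_mem_zc i)) hz
  refine mul_mem ?_ hzT
  refine Phi.phi_N_zc D hij hJ hV ha fun o ho => ?_
  have hoT : o ∈ T := by
    rw [Phi.o2_P D i] at ho
    exact ho.1
  have h1 := inv_mem (h o hoT)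
  have hoz : o * z = z * o := by
    rcases D.mem_ZZ.1 (show z ∈ ZZ v i from hz) with rfl | rfl
    · group
    · exact D.comm_v i hoT
  have e : (o * (a * z) * o⁻¹ * (a * z)⁻¹)⁻¹ = a * o * a⁻¹ * o⁻¹ := by
    have e1 : o * (a * z) * o⁻¹ = o * a * o⁻¹ * z := by
      calc o * (a * z) * o⁻¹ = o * a * (z * o⁻¹) := by group
        _ = o * a * (o⁻¹ * z) := by
          have : z * o⁻¹ = o⁻¹ * z := by
            calc z * o⁻¹ = o⁻¹ * (o * z) * o⁻¹ := by group
              _ = o⁻¹ * (z * o) * o⁻¹ := by rw [hoz]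
              _ = o⁻¹ * z := by group
          rw [this]
        _ = _ := by group
    rw [e1]
    group
  rwa [e] at h1

/-- A member of `AA T` moves `V i`. -/
theorem hmv_of {i : Fin 2} (hJ : ¬ jj T ≤ o2 (P i)) : ∃ A ∈ AA T, ¬ A ≤ centralizer (V i : Set G) := by
  by_contra hcon
  push Not at hcon
  apply hJ
  rw [Phi.o2_P D i]
  refine le_inf (ChoiceBase.jj_le _) ?_
  rw [ChoiceBase.jj_eq]
  have h1 : ∀ A ∈ AA T, A ≤ T ⊓ centralizer (V i : Set G) := fun A hA => le_inf hA.2.1 (hcon A hA)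
  exact (sSup_le h1).trans inf_le_right

/-- With the swap: `v 0 * v 1` is not a point. -/
theorem not_pt (hs : Swap T V v) {g : G} : g * v 0 * g⁻¹ ≠ v 0 * v 1 := by
  intro hg
  obtain ⟨s, hsT, hsv⟩ := hs
  have h01 : (0 : Fin 2) ≠ 1 := by decide
  have s0 : s * v 0 * s⁻¹ = v 1 := (hsv 0).2
  have s1 : s * v 1 * s⁻¹ = v 0 := (hsv 1).2
  set z : G := v 0 * v 1 with hz
  have hcomm : v 0 * v 1 = v 1 * v 0 := (D.comm_v 0 (D.v_mem_T 1)).symm
  set C : Subgroup G := centralizer ({z} : Set G) with hC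
  have hsC : s ∈ C := by
    rw [hC, mem_centralizer_singleton_iff]
    calc s * z = (s * v 0 * s⁻¹) * (s * v 1 * s⁻¹) * s := by rw [hz]; group
      _ = z * s := by rw [s0, s1, hz, hcomm]
  -- `|T : C_G(z)|` is odd
  have hTC : T ≤ C := by
    intro t ht
    rw [hC, mem_centralizer_singleton_iff]
    have h0 := D.comm_v 0 ht
    have h1 := D.comm_v 1 ht
    calc t * z = (t * v 0) * v 1 := by rw [hz]; group
      _ = v 0 * (t * v 1) := by rw [h0]; group
      _ = z * t := by rw [h1, hz]; group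
  have hcard : Nat.card C = Nat.card (CC v 0) := by
    have e : C = MulAut.conj g • CC v 0 := by
      rw [hC, ← hg]
      ext x
      rw [mem_conj, mem_centralizer_singleton_iff, mem_centralizer_singleton_iff]
      constructor
      · intro h
        calc g⁻¹ * x * g * v 0 = g⁻¹ * (x * (g * v 0 * g⁻¹)) * g := by group
          _ = g⁻¹ * (g * v 0 * g⁻¹ * x) * g := by rw [h]
          _ = v 0 * (g⁻¹ * x * g) := by group
      · intro h
        calc x * (g * v 0 * g⁻¹) = g * (g⁻¹ * x * g * v 0) * g⁻¹ := by group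
          _ = g * (v 0 * (g⁻¹ * x * g)) * g⁻¹ := by rw [h]
          _ = g * v 0 * g⁻¹ * x := by group
    rw [e]
    exact ChoiceBase.card_cj g _
  have hodd : ¬ 2 ∣ T.relIndex C := by
    have h1 : Nat.card T * T.relIndex C = Nat.card C := PG.card_mul_relIndex' hTC
    have h2 : Nat.card T * T.relIndex (CC v 0) = Nat.card (CC v 0) := PG.card_mul_relIndex' (D.T_le_C 0)
    have h3 : T.relIndex C = T.relIndex (CC v 0) :=
      Nat.eq_of_mul_eq_mul_left (Nat.card_pos (α := T)) (by rw [h1, h2, hcard])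
    rw [h3]
    exact syl_not_dvd (D.syl 0)
  -- the stabiliser of `{v 0, v 1}`
  let K : Subgroup G :=
    { carrier := {c | c ∈ C ∧ (c * v 0 * c⁻¹ = v 0 ∨ c * v 0 * c⁻¹ = v 1)}
      one_mem' := ⟨one_mem _, Or.inl (by group)⟩
      mul_mem' := by
        rintro a b ⟨ha, ha'⟩ ⟨hb, hb'⟩
        refine ⟨mul_mem ha hb, ?_⟩
        have haz : a * z * a⁻¹ = z := by
          rw [mem_centralizer_singleton_iff.1 ha]; group
        have ha1 : (a * v 0 * a⁻¹) * (a * v 1 * a⁻¹) = v 0 * v 1 := by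
          rw [← hz]
          calc (a * v 0 * a⁻¹) * (a * v 1 * a⁻¹) = a * z * a⁻¹ := by rw [hz]; group
            _ = z := haz
        have e : a * b * v 0 * (a * b)⁻¹ = a * (b * v 0 * b⁻¹) * a⁻¹ := by group
        rw [e]
        rcases hb' with h1 | h1
        · rw [h1]; exact ha'
        · rw [h1]
          rcases ha' with h2 | h2
          · right
            rw [h2] at ha1
            exact mul_left_cancel ha1
          · left
            rw [h2, hcomm] at ha1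
            exact mul_left_cancel ha1
      inv_mem' := by
        rintro a ⟨ha, ha'⟩
        refine ⟨inv_mem ha, ?_⟩
        rcases ha' with h1 | h1
        · left
          calc a⁻¹ * v 0 * a⁻¹⁻¹ = a⁻¹ * (a * v 0 * a⁻¹) * a := by rw [h1]; group
            _ = v 0 := by group
        · right
          have haz : a * z * a⁻¹ = z := by
            rw [mem_centralizer_singleton_iff.1 ha]; group
          have ha1 : (a * v 0 * a⁻¹) * (a * v 1 * a⁻¹) = v 0 * v 1 := by
            rw [← hz]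
            calc (a * v 0 * a⁻¹) * (a * v 1 * a⁻¹) = a * z * a⁻¹ := by rw [hz]; group
              _ = z := haz
          rw [h1, hcomm] at ha1
          have h2 : a * v 1 * a⁻¹ = v 0 := mul_left_cancel ha1
          calc a⁻¹ * v 0 * a⁻¹⁻¹ = a⁻¹ * (a * v 1 * a⁻¹) * a := by rw [h2]; group
            _ = v 1 := by group }
  set D' : Subgroup G := centralizer (zc T : Set G) with hD'
  have hDK : D' ≤ K := by
    intro d hd
    have h0 := mem_centralizer_singleton_iff.1 (D.cent_zc_le 0 hd)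
    have h1 := mem_centralizer_singleton_iff.1 (D.cent_zc_le 1 hd)
    refine ⟨?_, Or.inl (by rw [h0]; group)⟩
    rw [hC, mem_centralizer_singleton_iff]
    calc d * z = (d * v 0) * v 1 := by rw [hz]; group
      _ = v 0 * (d * v 1) := by rw [h0]; group
      _ = z * d := by rw [h1, hz]; group
  have hmem : ∀ c ∈ K, c * v 0 * c⁻¹ = v 0 → c ∈ D' := by
    intro c hc h1
    have h2 : c ∈ CC v 0 := by
      rw [mem_centralizer_singleton_iff]
      calc c * v 0 = c * v 0 * c⁻¹ * c := by group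
        _ = v 0 * c := by rw [h1]
    refine (D.mem_D_iff h01).2 ⟨h2, ?_⟩
    have haz : c * z * c⁻¹ = z := by
      rw [mem_centralizer_singleton_iff.1 hc.1]; group
    have h3 : (c * v 0 * c⁻¹) * (c * v 1 * c⁻¹) = v 0 * v 1 := by
      rw [← hz]
      calc (c * v 0 * c⁻¹) * (c * v 1 * c⁻¹) = c * z * c⁻¹ := by rw [hz]; group
        _ = z := haz
    rw [h1] at h3
    have h4 : c * v 1 * c⁻¹ = v 1 := mul_left_cancel h3
    rw [mem_centralizer_singleton_iff]
    calc c * v 1 = c * v 1 * c⁻¹ * c := by group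
      _ = v 1 * c := by rw [h4]
  have hsK : s ∈ K := ⟨hsC, Or.inr s0⟩
  have hne : v 1 ≠ v 0 := (D.v_ne h01).symm
  have hDj : ∀ c ∈ D', c * v 0 * c⁻¹ = v 0 := fun c hc => by
    rw [mem_centralizer_singleton_iff.1 (D.cent_zc_le 0 hc)]; group
  have hDj1 : ∀ c ∈ D', c * v 1 * c⁻¹ = v 1 := fun c hc => by
    rw [mem_centralizer_singleton_iff.1 (D.cent_zc_le 1 hc)]; group
  have hidx : D'.relIndex K = 2 := by
    rw [relIndex_eq_two_iff]
    refine ⟨s, hsK, fun b hb => ?_⟩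
    have e : b * s * v 0 * (b * s)⁻¹ = b * v 1 * b⁻¹ := by
      calc b * s * v 0 * (b * s)⁻¹ = b * (s * v 0 * s⁻¹) * b⁻¹ := by group
        _ = _ := by rw [s0]
    by_cases hbD : b ∈ D'
    · right
      refine ⟨hbD, fun h1 => hne ?_⟩
      rw [hDj1 b hbD] at e
      rw [← e]
      exact hDj _ h1
    · left
      refine ⟨hmem _ (mul_mem hb hsK) ?_, hbD⟩
      have hbv : b * v 0 * b⁻¹ = v 1 := hb.2.resolve_left fun e => hbD (hmem b hb e)
      have haz : b * z * b⁻¹ = z := by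
        rw [mem_centralizer_singleton_iff.1 hb.1]; group
      have h3 : (b * v 0 * b⁻¹) * (b * v 1 * b⁻¹) = v 0 * v 1 := by
        rw [← hz]
        calc (b * v 0 * b⁻¹) * (b * v 1 * b⁻¹) = b * z * b⁻¹ := by rw [hz]; group
          _ = z := haz
      rw [hbv, hcomm] at h3
      rw [e]
      exact mul_left_cancel h3
  have h1 : T.relIndex D' * D'.relIndex K = T.relIndex K := relIndex_mul_relIndex _ _ _ D.T_le_D hDK
  have h2 : T.relIndex K * K.relIndex C = T.relIndex C :=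
    relIndex_mul_relIndex _ _ _ (D.T_le_D.trans hDK) fun x hx => hx.1
  apply hodd
  rw [← h2, ← h1, hidx]
  exact Dvd.intro_left _ rfl |>.mul_right _

/-- `E_0 ∩ E_1 ≤ Ω₁Z(T)` -/
theorem inter_mt (hML : ML.Final.MLK.{u, u}) (hK : IsKProper G) (hs : Swap T V v)
    (hJ : ∀ i, ¬ jj T ≤ o2 (P i)) (hV : ∀ i, ¬ V i ≤ NU V v i) : EU T v 0 ⊓ EU T v 1 ≤ zc T := by
  have hG : ThmG V v := D.thmG (fun i => D.fixE_of (hJ i) (hV i)) hV fun i => D.hmv_of (hJ i)
  refine D.thmI hML (fun i => hK _ (D.CC_ne_top i)) (Qs := o2 (centralizer (zc T : Set G)))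
    (MinSimple.VModule.le_normalizer_o2 _) le_rfl (fun i => (D.E_le_Q i).trans (D.Q_le_o2D i)) fun i => ?_
  exact D.exists_mv hs (D.noD hML hK) hG i

/-- **If `V i ≰ N_i`, then `[N_0, N_1] ≠ 1`.** -/
theorem mt_one (hML : ML.Final.MLK.{u, u}) (hK : IsKProper G) (hs : Swap T V v)
    (hJ : ∀ i, ¬ jj T ≤ o2 (P i)) (hV : ∀ i, ¬ V i ≤ NU V v i) : ¬ NU V v 0 ≤ centralizer (NU V v 1 : Set G) := by
  intro hcom
  obtain ⟨s, w⟩ := Sw.of_swap hs
  have hfix : ∀ i, FixE T v i := fun i => D.fixE_of (hJ i) (hV i)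
  have h01 : (0 : Fin 2) ≠ 1 := by decide
  have hG : PG.Peel.ThmG (ZZ v) (PG.Peel.XW (ZZ v) V) := D.thmG_XW w (hfix 0) (hV 0) (D.hmv_of (hJ 1))
  have hI : NU V v 0 ⊓ NU V v 1 ≤ zc T :=
    (inf_le_inf (D.N_le_E 0) (D.N_le_E 1)).trans (D.inter_mt hML hK hs hJ hV)
  have PP' := D.pp w
  have hpt0 : PG.IsPt (ZZ v) (ZZ v 0) := ⟨1, by rw [map_one, one_smul]⟩
  obtain ⟨d, a, b, hd, hc⟩ := D.far hML hK w hG
  have hd' : d = 0 ∨ d = 1 := by omega
  rcases hd' with rfl | rfl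
  · -- distance 1
    have hc' : PG.CX (ZZ v) (PG.Peel.XW (ZZ v) V) 0 (ZZ v 0) (ZZ v 1) := by
      have h0 := hc.pth
      have hne := hc.ne
      cases h0 with
      | @succ _ _ u _ h1 h2 =>
        cases h1 with
        | zero h3 =>
          obtain ⟨k, rfl, rfl⟩ := h2
          refine ⟨PG.PP.pth_one ⟨1, by rw [map_one, one_smul], by rw [map_one, one_smul]⟩, fun h4 => hne ?_, hc.com⟩
          rw [PG.Peel.XW_conj, PG.Peel.XW_conj]
          exact conj_le_centralizer h4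
    have hW0 : ¬ WU V v 0 ≤ centralizer (NU V v 1 : Set G) := by
      intro hW
      obtain ⟨-, x, hx, y, hy, hxy, -⟩ := D.red hML hK w hG hc'
      rw [D.XW_eq w] at hx
      rw [D.NN_eq w, D.NN_eq w] at hy
      have h1 : NU V v 0 ⊔ WU V v 0 ≤ centralizer ({y} : Set G) := by
        refine sup_le (fun n hn => ?_) fun n hn => ?_
        · rw [mem_centralizer_singleton_iff]; exact mem_centralizer_iff.1 hy.2 n hn
        · rw [mem_centralizer_singleton_iff]; exact (mem_centralizer_iff.1 (hW hn) y hy.1).symm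
      exact hxy (commutatorElement_eq_one_iff_mul_comm.2 (mem_centralizer_singleton_iff.1 (h1 hx)))
    have hW1 : ¬ WU V v 1 ≤ centralizer (NU V v 0 : Set G) := by
      intro hW
      obtain ⟨-, x, hx, y, hy, hxy, -⟩ := D.red hML hK w hG (hc'.symm PP')
      rw [D.XW_eq_one w] at hx
      rw [D.NN_eq w, D.NN_eq w] at hy
      have h1 : NU V v 1 ⊔ WU V v 1 ≤ centralizer ({y} : Set G) := by
        refine sup_le (fun n hn => ?_) fun n hn => ?_
        · rw [mem_centralizer_singleton_iff]; exact mem_centralizer_iff.1 hy.2 n hn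
        · rw [mem_centralizer_singleton_iff]; exact (mem_centralizer_iff.1 (hW hn) y hy.1).symm
      exact hxy (commutatorElement_eq_one_iff_mul_comm.2 (mem_centralizer_singleton_iff.1 (h1 hx)))
    refine DOne.false_of D (fun i => ?_) (fun i => ?_) hfix
    · have h0 : i = 0 ∨ i = 1 := by clear * -; revert i; decide
      rcases h0 with rfl | rfl
      · exact hcom
      · exact comm_symm hcom
    · have h0 : i = 0 ∨ i = 1 := by clear * -; revert i; decide
      rcases h0 with rfl | rfl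
      · exact hW1
      · exact hW0
  · -- distance 2
    have h1 := (D.red hML hK w hG hc).1
    have h2 := hc.pth
    have hne := hc.ne
    have hab : a ≠ b := by
      rintro rfl
      exact hne (eab_iff.1 ((D.xf w).eab a (PG.PP.pth_pt h2))).1
    cases h2 with
    | @succ _ _ u _ h3 h4 =>
      cases h3 with
      | @succ _ _ t _ h5 h6 =>
        cases h5 with
        | zero h7 =>
          have hau : a ≠ u := by
            rintro rfl
            obtain ⟨k, e1, e2⟩ := h6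
            have e3 : ZZ v 0 = ZZ v 1 := smul_left_cancel _ (e1.symm.trans e2)
            have e4 : v 0 ∈ ZZ v 1 := e3 ▸ mem_zpowers _
            rcases D.mem_ZZ.1 e4 with e | e
            · exact D.ne 0 e
            · exact D.v_ne h01 e
          have h8 : a ≤ PG.NN (ZZ v) u ⊓ PG.NN (ZZ v) b := le_inf (PP'.adj_symm h6).le_NN h1
          obtain ⟨k, rfl, rfl⟩ := h4
          rw [PG.NN_conj, PG.NN_conj, ← Subgroup.smul_inf, D.NN_eq w, D.NN_eq w] at h8
          obtain ⟨g, rfl⟩ := h7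
          have hx : g * v 0 * g⁻¹ ∈ MulAut.conj g • ZZ v 0 := ⟨v 0, mem_zpowers _, rfl⟩
          have h9 : k⁻¹ * (g * v 0 * g⁻¹) * k ∈ zc T := hI (mem_conj.1 (h8 hx))
          have hkey : ∀ j : Fin 2, k⁻¹ * (g * v 0 * g⁻¹) * k = v j → MulAut.conj g • ZZ v 0 = MulAut.conj k • ZZ v j := by
            intro j e
            have e1 : (k⁻¹ * g) * v 0 * (k⁻¹ * g)⁻¹ = v j := by rw [← e]; group
            have e2 := conj_ZZ e1
            rw [← e2, conj_conj, mul_inv_cancel_left]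
          rcases (D.zT _).1 h9 with e | e | e | e
          · have e1 : g * v 0 * g⁻¹ = 1 := by
              calc g * v 0 * g⁻¹ = k * (k⁻¹ * (g * v 0 * g⁻¹) * k) * k⁻¹ := by group
                _ = 1 := by rw [e]; group
            exact D.ne 0 (conj_eq_one_iff.1 e1)
          · exact hau (hkey 0 e)
          · exact hab (hkey 1 e)
          · refine D.not_pt hs (g := k⁻¹ * g) ?_
            rw [← e]; group

/-- `V 0 ≤ N_0` iff `V 1 ≤ N_1` -/
theorem V_le_N_iff (hs : Swap T V v) (i : Fin 2) : V i ≤ NU V v i ↔ V 0 ≤ NU V v 0 := by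
  obtain ⟨s, w⟩ := Sw.of_swap hs
  have h01 : (0 : Fin 2) ≠ 1 := by decide
  have h0 : i = 0 ∨ i = 1 := by revert i; decide
  rcases h0 with rfl | rfl
  · exact Iff.rfl
  · rw [← w.V01, ← D.conj_NU w h01]
    exact conj_le_iff

/-- **(E), `k = 2 = q`, (MT): `V i ≤ N_i`.** -/
theorem V_le_N_of (hML : ML.Final.MLK.{u, u}) (hK : IsKProper G) (hs : Swap T V v)
    (hJ : ∀ i, ¬ jj T ≤ o2 (P i)) (hEnd : EndOne T V v) (i : Fin 2) : V i ≤ NU V v i := by
  rw [D.V_le_N_iff hs i]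
  by_contra hV0
  have hV : ∀ i, ¬ V i ≤ NU V v i := fun i h => hV0 ((D.V_le_N_iff hs i).1 h)
  refine D.mt_one hML hK hs hJ hV (hEnd (fun i => D.fixE_of (hJ i) (hV i)) ?_)
  refine le_trans ?_ ((inf_le_inf (D.N_le_E 0) (D.N_le_E 1)).trans (D.inter_mt hML hK hs hJ hV))
  have h1 : NU V v 1 ≤ normalizer (NU V v 0 : Set G) := (D.N_le_C 1 0).trans (D.C_le_N_N 0)
  have h2 : NU V v 0 ≤ normalizer (NU V v 1 : Set G) := (D.N_le_C 0 1).trans (D.C_le_N_N 1)
  have key : ∀ {A B : Subgroup G}, A ≤ normalizer (B : Set G) → ⁅A, B⁆ ≤ B := by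
    intro A B h
    rw [commutator_le]
    intro x hx y hy
    exact mul_mem ((mem_normalizer_iff.1 (h hx) y).1 hy) (inv_mem hy)
  refine le_inf ?_ (key h2)
  rw [commutator_comm]
  exact key h1

end Fr

end Cfsg.Agent.Omega.TC

end

section


/-!
# CARD #18791, variant (MT), `k = 2 = q`: `V i ≤ N_i`

* `Fr.endOne` : the ending (`OneEnd.false_of`);
* `Fr.V_le_N_mt` : (ML), all proper subgroups `K`-groups, swap, `¬ J(T) ≤ O₂(P i)` imply `V i ≤ N_i` (the only case left: card [A]).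
-/

set_option autoImplicit false
set_option linter.unusedSectionVars false

namespace Cfsg.Agent.Omega.TC

open Subgroup Cfsg Cfsg.Agent.ZN
open Cfsg.Agent.Omega.OM.KTwo (CC QQ WU NU EU FF)
open Cfsg.Agent.Omega.OM
open scoped Pointwise commutatorElement

universe u

variable {G : Type u} [Group G]

namespace Fr

variable [Finite G] {T : Subgroup G} {V P : Fin 2 → Subgroup G} {v : Fin 2 → G} (D : Fr T V P v)

include D

/-- the ending of case (E), `d = 1` -/
theorem endOne : EndOne T V v := by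
  intro hfix hcomm
  by_contra hne
  refine OneEnd.false_of D (fun x hx e he => ?_) hne hfix
  have h1 : ⁅x, e⁆ ∈ ⁅NU V v 1, NU V v 0⁆ := commutator_mem_commutator hx he
  rw [commutator_comm] at h1
  exact hcomm h1

/-- **Variant (MT): only `V i ≤ N_i` is left.** -/
theorem V_le_N_mt (hML : ML.Final.MLK.{u, u}) (hK : IsKProper G) (hs : Swap T V v)
    (hJ : ∀ i, ¬ jj T ≤ o2 (P i)) (i : Fin 2) : V i ≤ NU V v i :=
  D.V_le_N_of hML hK hs hJ D.endOne i

end Fr

end Cfsg.Agent.Omega.TC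

end

section


/-!
# CARD #18791, box R: `V^!(T) ≤ Ω₁(Z(T))` from (RC'), level-free (#23475)

`D : Fr T V P v`, `B := V^!(T)`, `R` a `T`-minimal subgroup of `C(v j)` which moves `v i` and does not normalise `B`:

* `Sd T V v i R a` : `a ∈ T` moves `V i`, centralises `B`, and acts on `W := V^!(O₂(R)) ≥ B V_i` as a transvection with
  centre `v i`;
* `exists_sd` : such an `a` exists;
* `Sd.two` : `x ∈ C_R(V i)`, `b ∈ B`, `b^x = b n`, `n ∈ V i` implies `n ∈ ⟨v i⟩`;
* `Sd.exists_fix` : `b` or `b v_i` is centralised by all conjugates of `a` under `R`;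
* **`vbang_of_rc`** : both `i`: `V^!(T) ≤ Ω₁(Z(T))`.
-/

set_option autoImplicit false
set_option linter.unusedSectionVars false

namespace Cfsg.Agent.Omega.TC.VBangRC

open Subgroup Cfsg Cfsg.Agent.ZN
open Cfsg.Agent.Omega.MinPar
open Cfsg.Agent.Omega.OM.KTwo (CC QQ WU NU EU FF ne_add_one eq_add_one add_one_add_one le_normalizer_V le_V)
open Cfsg.Agent.ZN.ChoiceSit (Syl o2_le_syl syl_not_dvd exists_syl syl_conj)
open Cfsg.Agent.ZN.ChoiceBase (cj mem_cj cj_mono)
open Cfsg.Agent.MinSimple.VModule (mem_zc zc_le normalizer_le_normalizer_zc le_normalizer_o2 le_o2 o2_le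
  o2_isPGroup zc_le_centralizer le_centralizer_zc)
open Cfsg.Agent.Omega.FFThm (OffM ElemM)
open Cfsg.Agent.Omega.NO1.BestOff (Best exists_best)
open Cfsg.Agent.Omega.NO3b.Bang
open Cfsg.Agent.MinSimple.MinParabolic (IsMinPar)
open Cfsg.Agent.Omega.TC.ThmI (rel_le_two two_le_rel)
open Phi
open scoped Pointwise

universe u

variable {G : Type u} [Group G]

theorem card_eq_rel [Finite G] (H K : Subgroup G) : Nat.card H = K.relIndex H * Nat.card ↥(H ⊓ K) := by
  have e := relIndex_inf_mul_relIndex (⊥ : Subgroup G) K H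
  rw [relIndex_bot_left, bot_inf_eq, relIndex_bot_left, mul_comm, inf_comm] at e
  exact e.symm

/-- the transvection `a` -/
structure Sd [Finite G] (T : Subgroup G) (V : Fin 2 → Subgroup G) (v : Fin 2 → G) (i : Fin 2) (R : Subgroup G) (a : G) :
    Prop where
  aT : a ∈ T
  aV : a ∉ centralizer (V i : Set G)
  cB : ∀ b ∈ bang T, a * b = b * a
  tv : ∀ w ∈ bang (T ⊓ centralizer (V i : Set G)), a * w * a⁻¹ = w ∨ a * w * a⁻¹ = w * v i

section

variable [Finite G] {T : Subgroup G} {V P : Fin 2 → Subgroup G} {v : Fin 2 → G} (D : Fr T V P v)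

include D

/-- `V^!(T)` centralises `V i`. -/
theorem bang_le_cent (i : Fin 2) : bang T ≤ centralizer (V i : Set G) := by
  by_contra hne
  have hn := nn_bang T
  have hcV : V i ≤ centralizer (V i : Set G) := fun x hx => mem_centralizer_iff.2 fun y hy => D.V_comm hy hx
  have hne' : ¬ V i ≤ centralizer (bang T : Set G) := fun h => hne (cent_symm h)
  refine hn.nff (V i) (D.V_le_T i) ⟨offM_of_abel hcV (D.sqV i), hne', ?_⟩
  have h1 : (centralizer (V i : Set G)).relIndex (bang T) ≤ 2 := by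
    refine rel_le_two fun x hx y hy hxK hyK => ?_
    have hx' : x ∉ o2 (P i) := by rw [o2_P D i]; exact fun h => hxK h.2
    have hy' : y ∉ o2 (P i) := by rw [o2_P D i]; exact fun h => hyK h.2
    have h2 := mul_mem_o2 D (hn.le hx) hx' (hn.le hy) hy'
    rw [o2_P D i] at h2
    exact h2.2
  have h2 := card_eq_rel (bang T) (centralizer (V i : Set G))
  obtain ⟨x, hx, hxB⟩ := SetLike.not_le_iff_exists.1 hne'
  have h3 := two_le_rel hx hxB
  have h4 := card_eq_rel (V i) (centralizer (bang T : Set G))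
  have h5 := D.four i
  rw [h5] at h4
  rw [h5, h2]
  have h6 : Nat.card ↥(V i ⊓ centralizer (bang T : Set G)) ≤ 2 := by nlinarith
  calc (centralizer (V i : Set G)).relIndex (bang T) * Nat.card ↥(bang T ⊓ centralizer (V i : Set G)) *
        Nat.card ↥(V i ⊓ centralizer (bang T : Set G))
      ≤ 2 * Nat.card ↥(bang T ⊓ centralizer (V i : Set G)) * 2 :=
        Nat.mul_le_mul (Nat.mul_le_mul_right _ h1) h6
    _ = 4 * Nat.card ↥(bang T ⊓ centralizer (V i : Set G)) := by ring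

/-- **the transvection exists** -/
theorem exists_sd {i j : Fin 2} (hij : i ≠ j) {R : Subgroup G} (hR : IsMinPar T R) (hRj : R ≤ CC v j)
    (hRi : ¬ R ≤ CC v i) (hRB : ¬ R ≤ normalizer (bang T : Set G)) : ∃ a, Sd T V v i R a := by
  have hQ : o2 R = T ⊓ centralizer (V i : Set G) := o2_eq D hij hR hRj hRi
  set Q : Subgroup G := T ⊓ centralizer (V i : Set G) with hQd
  have hRQ : R ≤ normalizer (Q : Set G) := by rw [← hQ]; exact MinSimple.VModule.le_normalizer_o2 R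
  have hn := nn_bang T
  have hBQ : bang T ≤ Q := le_inf hn.le (bang_le_cent D i)
  have hQT : Q ≤ T := inf_le_left
  set W := bang Q with hW
  have hnW : NN Q W := nn_bang Q
  have hBW : bang T ≤ W := (hn.mono hBQ hQT).le_bang
  have hcV : V i ≤ centralizer (V i : Set G) := fun x hx => mem_centralizer_iff.2 fun y hy => D.V_comm hy hx
  have hVQ : V i ≤ Q := le_inf (D.V_le_T i) hcV
  have hVW : V i ≤ W := (NN.of_le_centralizer hVQ inf_le_right (D.sqV i)).le_bang
  have hRW : R ≤ normalizer (W : Set G) := hRQ.trans (normalizer_le_bang Q)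
  -- `W` is not in `NN(T)`
  obtain ⟨A', hA'T, hA'⟩ : ∃ A' : Subgroup G, A' ≤ T ∧ OffM W A' := by
    by_contra hcon
    push Not at hcon
    have h1 : NN T W := ⟨hnW.le.trans hQT, hR.le.trans hRW, hnW.comm, hnW.sq, hcon⟩
    have h2 : W = bang T := le_antisymm h1.le_bang hBW
    exact hRB (h2 ▸ hRW)
  obtain ⟨A, hAA', hb, hne⟩ := exists_best hA'
  have hAT : A ≤ T := hAA'.trans hA'T
  have hAB : A ≤ centralizer (bang T : Set G) := hn.best hAT hBW hb
  have hAQ : ¬ A ≤ centralizer (V i : Set G) := fun h => hne (hnW.best (le_inf hAT h) le_rfl hb)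
  -- `A₀ = A ⊓ C(V i)`
  set A₀ : Subgroup G := A ⊓ centralizer (V i : Set G) with hA₀
  have hA₀A : A₀ ≤ A := inf_le_left
  have c1 : Nat.card A ≤ 2 * Nat.card A₀ := by
    have h1 : (centralizer (V i : Set G)).relIndex A ≤ 2 := by
      refine rel_le_two fun x hx y hy hxK hyK => ?_
      have hx' : x ∉ o2 (P i) := by rw [o2_P D i]; exact fun h => hxK h.2
      have hy' : y ∉ o2 (P i) := by rw [o2_P D i]; exact fun h => hyK h.2
      have h2 := mul_mem_o2 D (hAT hx) hx' (hAT hy) hy'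
      rw [o2_P D i] at h2
      exact h2.2
    rw [card_eq_rel A (centralizer (V i : Set G))]
    exact Nat.mul_le_mul_right _ h1
  have c2 : 2 * Nat.card ↥(W ⊓ centralizer (A : Set G)) ≤ Nat.card ↥(W ⊓ centralizer (A₀ : Set G)) := by
    have hle : W ⊓ centralizer (A : Set G) ≤ W ⊓ centralizer (A₀ : Set G) :=
      inf_le_inf_left _ (centralizer_le hA₀A)
    obtain ⟨x, hx, hxA⟩ := SetLike.not_le_iff_exists.1 (fun h => hAQ (cent_symm h) : ¬ V i ≤ centralizer (A : Set G))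
    have hxx : x ∈ W ⊓ centralizer (A₀ : Set G) := by
      refine ⟨hVW hx, mem_centralizer_iff.2 fun a ha => ?_⟩
      exact (mem_centralizer_iff.1 ha.2 x hx).symm
    have h1 := two_le_rel hxx (K := W ⊓ centralizer (A : Set G)) fun h => hxA h.2
    rw [card_eq_rel (W ⊓ centralizer (A₀ : Set G)) (W ⊓ centralizer (A : Set G)), inf_eq_right.2 hle]
    exact Nat.mul_le_mul_right _ h1
  have hb0 : Best W A₀ := by
    refine { toElemM := NO1.BestOff.ElemM.mono hb.toElemM hA₀A, max := fun Y hY hYc => ?_ }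
    have h1 := hb.max Y (hY.trans hA₀A) ((le_inf (le_inf inf_le_left (inf_le_right.trans (centralizer_le hVW)))
      inf_le_right).trans hYc)
    refine h1.trans ?_
    calc Nat.card A * Nat.card ↥(W ⊓ centralizer (A : Set G))
        ≤ 2 * Nat.card A₀ * Nat.card ↥(W ⊓ centralizer (A : Set G)) := Nat.mul_le_mul_right _ c1
      _ = Nat.card A₀ * (2 * Nat.card ↥(W ⊓ centralizer (A : Set G))) := by ring
      _ ≤ Nat.card A₀ * Nat.card ↥(W ⊓ centralizer (A₀ : Set G)) := Nat.mul_le_mul_left _ c2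
  have hA₀W : A₀ ≤ centralizer (W : Set G) := hnW.best (le_inf (hA₀A.trans hAT) inf_le_right) le_rfl hb0
  have c3 : Nat.card W ≤ 2 * Nat.card ↥(W ⊓ centralizer (A : Set G)) := by
    have h1 := hb.max A₀ hA₀A (le_inf inf_le_left (inf_le_right.trans (centralizer_le hVW)))
    rw [inf_eq_left.2 (cent_symm hA₀W)] at h1
    have h2 : Nat.card A₀ * Nat.card W ≤ Nat.card A₀ * (2 * Nat.card ↥(W ⊓ centralizer (A : Set G))) := by
      calc Nat.card A₀ * Nat.card W ≤ Nat.card A * Nat.card ↥(W ⊓ centralizer (A : Set G)) := h1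
        _ ≤ 2 * Nat.card A₀ * Nat.card ↥(W ⊓ centralizer (A : Set G)) := Nat.mul_le_mul_right _ c1
        _ = Nat.card A₀ * (2 * Nat.card ↥(W ⊓ centralizer (A : Set G))) := by ring
    exact Nat.le_of_mul_le_mul_left h2 Nat.card_pos
  obtain ⟨a, haA, haV⟩ := SetLike.not_le_iff_exists.1 hAQ
  obtain ⟨x, hx, hxA⟩ := SetLike.not_le_iff_exists.1 (fun h => hAQ (cent_symm h) : ¬ V i ≤ centralizer (A : Set G))
  refine ⟨a, hAT haA, haV, fun b hb' => (mem_centralizer_iff.1 (hAB haA) b hb').symm, fun w hw => ?_⟩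
  have hi2 : (centralizer (A : Set G)).relIndex W = 2 := by
    have h1 := two_le_rel (hVW hx) hxA
    have h2 := card_eq_rel W (centralizer (A : Set G))
    have h3 : 0 < Nat.card ↥(W ⊓ centralizer (A : Set G)) := Nat.card_pos
    have h4 : (centralizer (A : Set G)).relIndex W ≤ 2 := by
      rw [h2] at c3
      exact Nat.le_of_mul_le_mul_right c3 h3
    omega
  by_cases hwA : w ∈ centralizer (A : Set G)
  · left
    have h1 := mem_centralizer_iff.1 hwA a haA
    rw [h1]; group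
  · have h1 : x * w ∈ centralizer (A : Set G) := by
      have h2 : ((centralizer (A : Set G)).subgroupOf W).index = 2 := hi2
      have h3 := mul_mem_iff_of_index_two h2 (a := ⟨x, hVW hx⟩) (b := ⟨w, hw⟩)
      rw [mem_subgroupOf, mem_subgroupOf, mem_subgroupOf] at h3
      exact h3.2 ⟨fun h => absurd h hxA, fun h => absurd h hwA⟩
    have h2 := mem_centralizer_iff.1 h1 a haA
    have h2' : a * (x * w) * a⁻¹ = x * w := by rw [h2]; group
    have h3 : a * x⁻¹ * a⁻¹ ∈ V i := (mem_normalizer_iff.1 (D.T_le_N i (hAT haA)) _).1 (inv_mem hx)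
    have h4 : a * w * a⁻¹ = a * x⁻¹ * a⁻¹ * x * w := by
      calc a * w * a⁻¹ = (a * x⁻¹ * a⁻¹) * (a * (x * w) * a⁻¹) := by group
        _ = a * x⁻¹ * a⁻¹ * x * w := by rw [h2']; group
    have h5 : x * a * x⁻¹ * a⁻¹ ∈ zpowers (v i) := D.comm_VQ i hx (hAT haA)
    have h6 : a * x⁻¹ * a⁻¹ * x = x * a * x⁻¹ * a⁻¹ := by
      calc a * x⁻¹ * a⁻¹ * x = x * (a * x⁻¹ * a⁻¹) := D.V_comm h3 hx
        _ = x * a * x⁻¹ * a⁻¹ := by group
    rw [h4, h6]
    have h7 : ∀ y ∈ V i, y * w = w * y := fun y hy => mem_centralizer_iff.1 (hnW.comm hw) y (hVW hy)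
    rcases mem_zpow_cases D i h5 with h8 | h8
    · left; rw [h8, one_mul]
    · right; rw [h8]; exact h7 _ (D.mem i)

namespace Sd

variable {i j : Fin 2} {R : Subgroup G} {a : G}

theorem N_V {i j : Fin 2} (hij : i ≠ j) {R : Subgroup G} (hR : IsMinPar T R) (hRj : R ≤ CC v j)
    (hRi : ¬ R ≤ CC v i) : R ≤ normalizer (V i : Set G) := D.uni i j hij R hR hRj hRi

theorem N_Q {i j : Fin 2} (hij : i ≠ j) {R : Subgroup G} (hR : IsMinPar T R) (hRj : R ≤ CC v j)
    (hRi : ¬ R ≤ CC v i) : R ≤ normalizer ((T ⊓ centralizer (V i : Set G) : Subgroup G) : Set G) := by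
  rw [← o2_eq D hij hR hRj hRi]; exact MinSimple.VModule.le_normalizer_o2 R

/-- conjugates of `a` are transvections -/
theorem tv' (hij : i ≠ j) (hR : IsMinPar T R) (hRj : R ≤ CC v j) (hRi : ¬ R ≤ CC v i) (h : Sd T V v i R a) {r : G}
    (hr : r ∈ R) {w : G} (hw : w ∈ bang (T ⊓ centralizer (V i : Set G))) :
    (r * a * r⁻¹) * w * (r * a * r⁻¹)⁻¹ = w ∨ (r * a * r⁻¹) * w * (r * a * r⁻¹)⁻¹ = w * (r * v i * r⁻¹) := by
  have hRW : R ≤ normalizer (bang (T ⊓ centralizer (V i : Set G)) : Set G) :=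
    (N_Q D hij hR hRj hRi).trans (normalizer_le_bang _)
  have h1 : r⁻¹ * w * r ∈ bang (T ⊓ centralizer (V i : Set G)) := by
    have := (mem_normalizer_iff.1 (hRW (inv_mem hr)) w).1 hw
    rwa [inv_inv] at this
  have e : (r * a * r⁻¹) * w * (r * a * r⁻¹)⁻¹ = r * (a * (r⁻¹ * w * r) * a⁻¹) * r⁻¹ := by group
  rw [e]
  rcases h.tv _ h1 with h2 | h2
  · left; rw [h2]; group
  · right; rw [h2]; group

theorem bang_le_W (i : Fin 2) : bang T ≤ bang (T ⊓ centralizer (V i : Set G)) :=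
  ((nn_bang T).mono (le_inf (nn_bang T).le (bang_le_cent D i)) inf_le_left).le_bang

theorem V_le_W' (i : Fin 2) : V i ≤ bang (T ⊓ centralizer (V i : Set G)) := by
  have hcV : V i ≤ centralizer (V i : Set G) := fun x hx => mem_centralizer_iff.2 fun y hy => D.V_comm hy hx
  exact (NN.of_le_centralizer (le_inf (D.V_le_T i) hcV) inf_le_right (D.sqV i)).le_bang

/-- `a^r` moves the elements of `V i` outside `⟨v i^r⟩` -/
theorem mvV (hij : i ≠ j) (hR : IsMinPar T R) (hRj : R ≤ CC v j) (hRi : ¬ R ≤ CC v i) (h : Sd T V v i R a) {r : G}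
    (hr : r ∈ R) {x : G} (hx : x ∈ V i) (hx1 : x ≠ 1) (hxv : x ≠ r * v i * r⁻¹) :
    (r * a * r⁻¹) * x * (r * a * r⁻¹)⁻¹ = x * (r * v i * r⁻¹) := by
  have hRN := N_V D hij hR hRj hRi
  have h1 : r⁻¹ * x * r ∈ V i := by
    have := (mem_normalizer_iff.1 (hRN (inv_mem hr)) x).1 hx
    rwa [inv_inv] at this
  have hao : a ∉ o2 (P i) := by rw [o2_P D i]; exact fun h2 => h.aV h2.2
  have h2 := moves D h.aT hao h1 (fun h3 => hx1 (by
    have e : x = r * (r⁻¹ * x * r) * r⁻¹ := by group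
    rw [e, h3]; group)) (fun h3 => hxv (by rw [← h3]; group))
  have e : (r * a * r⁻¹) * x * (r * a * r⁻¹)⁻¹ = r * (a * (r⁻¹ * x * r) * a⁻¹) * r⁻¹ := by group
  rw [e, h2]; group

theorem fixV (h : Sd T V v i R a) (r : G) : (r * a * r⁻¹) * (r * v i * r⁻¹) * (r * a * r⁻¹)⁻¹ = r * v i * r⁻¹ := by
  have h1 := D.cen i h.aT
  calc (r * a * r⁻¹) * (r * v i * r⁻¹) * (r * a * r⁻¹)⁻¹ = r * (a * v i * a⁻¹) * r⁻¹ := by group
    _ = r * v i * r⁻¹ := by rw [h1]

/-- the same centre: the same action on `V i` -/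
theorem same (hij : i ≠ j) (hR : IsMinPar T R) (hRj : R ≤ CC v j) (hRi : ¬ R ≤ CC v i) (h : Sd T V v i R a) {r s : G}
    (hr : r ∈ R) (hs : s ∈ R) (e : r * v i * r⁻¹ = s * v i * s⁻¹) :
    (s * a * s⁻¹)⁻¹ * (r * a * r⁻¹) ∈ centralizer (V i : Set G) := by
  have key : ∀ x ∈ V i, (r * a * r⁻¹) * x * (r * a * r⁻¹)⁻¹ = (s * a * s⁻¹) * x * (s * a * s⁻¹)⁻¹ := by
    intro x hx
    by_cases hx1 : x = 1
    · rw [hx1]; group
    by_cases hxv : x = r * v i * r⁻¹
    · have h1 := fixV D h r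
      have h2 := fixV D h s
      rw [← e] at h2
      rw [hxv, h1, h2]
    · rw [mvV D hij hR hRj hRi h hr hx hx1 hxv, mvV D hij hR hRj hRi h hs hx hx1 (by rw [← e]; exact hxv), e]
  refine mem_centralizer_iff.2 fun x hx => ?_
  have h1 := key x hx
  calc x * ((s * a * s⁻¹)⁻¹ * (r * a * r⁻¹))
      = (s * a * s⁻¹)⁻¹ * ((s * a * s⁻¹) * x * (s * a * s⁻¹)⁻¹) * (r * a * r⁻¹) := by group
    _ = (s * a * s⁻¹)⁻¹ * ((r * a * r⁻¹) * x * (r * a * r⁻¹)⁻¹) * (r * a * r⁻¹) := by rw [h1]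
    _ = (s * a * s⁻¹)⁻¹ * (r * a * r⁻¹) * x := by group

/-- an odd power of `x ∈ C_R(V i)` lies in `O₂(R)` -/
theorem exists_odd (hij : i ≠ j) (hR : IsMinPar T R) (hRj : R ≤ CC v j) (hRi : ¬ R ≤ CC v i) {x : G} (hx : x ∈ R)
    (hxV : x ∈ centralizer (V i : Set G)) : ∃ m : ℕ, Odd m ∧ x ^ m ∈ T ⊓ centralizer (V i : Set G) := by
  have hf : Fact (Nat.Prime 2) := ⟨Nat.prime_two⟩
  have hRN := N_V D hij hR hRj hRi
  have hsyl : Syl T R := ⟨hR.le, D.T_isPGroup, fun Q hQ hQ2 hTQ => (D.syl j).2.2 Q (hQ.trans hRj) hQ2 hTQ⟩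
  obtain ⟨c, m, hm, hord⟩ := Nat.exists_eq_two_pow_mul_odd (orderOf_pos x).ne'
  refine ⟨m, hm, ?_⟩
  have h2 : IsPGroup 2 (zpowers (x ^ m)) := by
    refine IsPGroup.of_card (n := c) ?_
    rw [Nat.card_zpowers, orderOf_pow, hord, Nat.gcd_eq_right (Dvd.intro_left _ rfl),
      Nat.mul_div_cancel _ (Nat.pos_of_ne_zero (by rintro rfl; simp at hm))]
  obtain ⟨T', hT', hle⟩ := exists_syl (X := R) h2 (by rw [zpowers_le]; exact pow_mem hx m)
  obtain ⟨r, hr, e⟩ := syl_conj hT' hsyl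
  have h3 : r * x ^ m * r⁻¹ ∈ T := by
    rw [← e, mem_cj]
    have e2 : r⁻¹ * (r * x ^ m * r⁻¹) * r = x ^ m := by group
    rw [e2]
    exact hle (mem_zpowers _)
  have h4 : r * x ^ m * r⁻¹ ∈ centralizer (V i : Set G) := by
    refine mem_centralizer_iff.2 fun y hy => ?_
    have h5 : r⁻¹ * y * r ∈ V i := by
      have := (mem_normalizer_iff.1 (hRN (inv_mem hr)) y).1 hy
      rwa [inv_inv] at this
    have h6 := mem_centralizer_iff.1 (pow_mem hxV m) _ h5
    calc y * (r * x ^ m * r⁻¹) = r * (r⁻¹ * y * r * x ^ m) * r⁻¹ := by group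
      _ = r * (x ^ m * (r⁻¹ * y * r)) * r⁻¹ := by rw [h6]
      _ = r * x ^ m * r⁻¹ * y := by group
  have h7 := (mem_normalizer_iff''.1 (N_Q D hij hR hRj hRi hr) _).1 (⟨h3, h4⟩ : r * x ^ m * r⁻¹ ∈ T ⊓ centralizer (V i : Set G))
  have e2 : r⁻¹ * (r * x ^ m * r⁻¹) * r = x ^ m := by group
  rwa [e2] at h7

/-- `b^x = b n` -/
theorem two (hij : i ≠ j) (hR : IsMinPar T R) (hRj : R ≤ CC v j) (hRi : ¬ R ≤ CC v i) (h : Sd T V v i R a) {x b n : G}
    (hx : x ∈ R) (hxV : x ∈ centralizer (V i : Set G)) (hb : b ∈ bang T) (hn : n ∈ V i)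
    (e : x * b * x⁻¹ = b * n) : n = 1 ∨ n = v i := by
  obtain ⟨m, hm, hmQ⟩ := exists_odd D hij hR hRj hRi hx hxV
  have hxn : x * n = n * x := (mem_centralizer_iff.1 hxV n hn).symm
  have hpow : ∀ k : ℕ, x ^ k * b * (x ^ k)⁻¹ = b * n ^ k := by
    intro k
    induction k with
    | zero => simp
    | succ k ih =>
      have h1 : Commute x (n ^ k) := (show Commute x n from hxn).pow_right k
      calc x ^ (k + 1) * b * (x ^ (k + 1))⁻¹ = x * (x ^ k * b * (x ^ k)⁻¹) * x⁻¹ := by rw [pow_succ']; group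
        _ = x * b * (n ^ k * x⁻¹) := by rw [ih]; group
        _ = (x * b * x⁻¹) * n ^ k := by rw [← h1.inv_left.eq]; group
        _ = b * n ^ (k + 1) := by rw [e, pow_succ']; group
  obtain ⟨k, rfl⟩ := hm
  have h1 := hpow (2 * k + 1)
  have hnn : n ^ (2 * k + 1) = n := by rw [pow_succ, pow_mul, D.sqV i n hn, one_pow, one_mul]
  rw [hnn] at h1
  have h2 : x ^ (2 * k + 1) * b * (x ^ (2 * k + 1))⁻¹ ∈ bang T :=
    (mem_normalizer_iff.1 ((nn_bang T).norm hmQ.1) b).1 hb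
  rw [h1] at h2
  have h3 : n ∈ bang T := by
    have := mul_mem (inv_mem hb) h2
    rwa [inv_mul_cancel_left] at this
  have h4 := h.cB n h3
  by_contra hcon
  push Not at hcon
  have hao : a ∉ o2 (P i) := by rw [o2_P D i]; exact fun h2 => h.aV h2.2
  have h5 := moves D h.aT hao hn hcon.1 hcon.2
  rw [h4, mul_inv_cancel_right] at h5
  exact D.ne i (by simpa using h5.symm)

/-- **`b` or `b v_i` is centralised by all conjugates of `a`** -/
theorem exists_fix (hij : i ≠ j) (hR : IsMinPar T R) (hRj : R ≤ CC v j) (hRi : ¬ R ≤ CC v i) (h : Sd T V v i R a) {b : G}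
    (hb : b ∈ bang T) : ∃ e, (e = 1 ∨ e = v i) ∧ ∀ r ∈ R, (r * a * r⁻¹) * (b * e) * (r * a * r⁻¹)⁻¹ = b * e := by
  have hRN := N_V D hij hR hRj hRi
  have hvB : v i ∈ bang T := zc_le_bang T (D.v_mem_zc i)
  have hTW := bang_le_W D i
  -- a second conjugate
  obtain ⟨s, hs, hsv⟩ : ∃ s ∈ R, s * v i * s⁻¹ ≠ v i := by
    by_contra hcon
    push Not at hcon
    apply hRi
    intro r hr
    rw [mem_centralizer_singleton_iff]
    calc r * v i = r * v i * r⁻¹ * r := by group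
      _ = v i * r := by rw [hcon r hr]
  set w := s * v i * s⁻¹ with hw
  have hwV : w ∈ V i := (mem_normalizer_iff.1 (hRN hs) _).1 (D.mem i)
  have hw1 : w ≠ 1 := fun h1 => D.ne i (conj_eq_one_iff.1 h1)
  set a' := s * a * s⁻¹ with ha'
  have haR : a ∈ R := hR.le h.aT
  have ha'R : a' ∈ R := mul_mem (mul_mem hs haR) (inv_mem hs)
  have m1 : a' * v i * a'⁻¹ = v i * w := mvV D hij hR hRj hRi h hs (D.mem i) (D.ne i) (Ne.symm hsv)
  have m2 : a * w * a⁻¹ = w * v i := by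
    have h1 := mvV D hij hR hRj hRi h (one_mem R) hwV hw1 (by simpa using hsv)
    simpa using h1
  have hcomm : ∀ x ∈ bang T, x * w = w * x := fun x hx =>
    mem_centralizer_iff.1 (bang_le_cent D i hx) w hwV |>.symm
  -- `b e` is fixed by `a` and `a'`
  obtain ⟨e, he, hfix⟩ : ∃ e, (e = 1 ∨ e = v i) ∧ a' * (b * e) * a'⁻¹ = b * e := by
    rcases tv' D hij hR hRj hRi h hs (hTW hb) with h1 | h1
    · exact ⟨1, Or.inl rfl, by rw [mul_one]; exact h1⟩
    · refine ⟨v i, Or.inr rfl, ?_⟩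
      have h2 : w * w = 1 := by rw [← pow_two]; exact D.sqV i w hwV
      calc a' * (b * v i) * a'⁻¹ = (a' * b * a'⁻¹) * (a' * v i * a'⁻¹) := by group
        _ = b * w * (v i * w) := by rw [h1, m1]
        _ = b * (w * (v i * w)) := by group
        _ = b * (w * (w * v i)) := by rw [hcomm _ hvB]
        _ = b * v i := by rw [← mul_assoc w w, h2, one_mul]
  refine ⟨e, he, ?_⟩
  have heB : e ∈ bang T := by
    rcases he with rfl | rfl
    · exact one_mem _
    · exact hvB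
  set b' := b * e with hb'
  have hb'B : b' ∈ bang T := mul_mem hb heB
  have f1 : a * b' * a⁻¹ = b' := by rw [h.cB b' hb'B]; group
  -- a conjugate with centre `w` fixes `b'`
  have k1 : ∀ r ∈ R, r * v i * r⁻¹ = w → (r * a * r⁻¹) * b' * (r * a * r⁻¹)⁻¹ = b' := by
    intro r hr hrw
    rcases tv' D hij hR hRj hRi h hr (hTW hb'B) with h1 | h1
    · exact h1
    · exfalso
      have h2 := same D hij hR hRj hRi h hr hs hrw
      have h3 : (a'⁻¹ * (r * a * r⁻¹)) * b' * (a'⁻¹ * (r * a * r⁻¹))⁻¹ = b' * w := by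
        have h4 : a'⁻¹ * b' * a' = b' := by
          calc a'⁻¹ * b' * a' = a'⁻¹ * (a' * b' * a'⁻¹) * a' := by rw [hfix]
            _ = b' := by group
        have h5 : a'⁻¹ * w * a' = w := by
          have h6 := fixV D h s
          rw [← hw, ← ha'] at h6
          calc a'⁻¹ * w * a' = a'⁻¹ * (a' * w * a'⁻¹) * a' := by rw [h6]
            _ = w := by group
        calc (a'⁻¹ * (r * a * r⁻¹)) * b' * (a'⁻¹ * (r * a * r⁻¹))⁻¹
            = a'⁻¹ * ((r * a * r⁻¹) * b' * (r * a * r⁻¹)⁻¹) * a' := by group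
          _ = (a'⁻¹ * b' * a') * (a'⁻¹ * w * a') := by rw [h1, hrw]; group
          _ = b' * w := by rw [h4, h5]
      rcases two D hij hR hRj hRi h (mul_mem (inv_mem ha'R) (mul_mem (mul_mem hr haR) (inv_mem hr))) h2 hb'B hwV h3 with h6 | h6
      · exact hw1 h6
      · exact hsv h6
  -- conjugation by an element which fixes `b'`
  have k2 : ∀ g ∈ R, g * b' * g⁻¹ = b' → ∀ r ∈ R, g * (r * v i * r⁻¹) * g⁻¹ = w →
      (r * a * r⁻¹) * b' * (r * a * r⁻¹)⁻¹ = b' := by
    intro g hg hgb r hr hgw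
    have h1 := k1 (g * r) (mul_mem hg hr) (by rw [← hgw]; group)
    have h2 : g⁻¹ * b' * g = b' := by
      calc g⁻¹ * b' * g = g⁻¹ * (g * b' * g⁻¹) * g := by rw [hgb]
        _ = b' := by group
    calc (r * a * r⁻¹) * b' * (r * a * r⁻¹)⁻¹
        = (r * a * r⁻¹) * (g⁻¹ * b' * g) * (r * a * r⁻¹)⁻¹ := by rw [h2]
      _ = g⁻¹ * ((g * r * a * (g * r)⁻¹) * b' * (g * r * a * (g * r)⁻¹)⁻¹) * g := by group
      _ = g⁻¹ * b' * g := by rw [h1]
      _ = b' := h2
  intro r hr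
  have hrV : r * v i * r⁻¹ ∈ V i := (mem_normalizer_iff.1 (hRN hr) _).1 (D.mem i)
  have hr1 : r * v i * r⁻¹ ≠ 1 := fun h1 => D.ne i (conj_eq_one_iff.1 h1)
  have m3 : a * (v i * w) * a⁻¹ = w := by
    have h1 := D.cen i h.aT
    calc a * (v i * w) * a⁻¹ = (a * v i * a⁻¹) * (a * w * a⁻¹) := by group
      _ = v i * (w * v i) := by rw [h1, m2]
      _ = v i * (v i * w) := by rw [hcomm _ hvB]
      _ = w := by rw [← mul_assoc, D.v_sq, one_mul]
  rcases D.eq_of_V (D.mem i) (D.ne i) hwV hw1 (Ne.symm hsv) hrV hr1 with h1 | h1 | h1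
  · refine k2 (a * a') (mul_mem haR ha'R) ?_ r hr ?_
    · calc a * a' * b' * (a * a')⁻¹ = a * (a' * b' * a'⁻¹) * a⁻¹ := by group
        _ = b' := by rw [hfix, f1]
    · rw [h1]
      calc a * a' * v i * (a * a')⁻¹ = a * (a' * v i * a'⁻¹) * a⁻¹ := by group
        _ = w := by rw [m1, m3]
  · exact k1 r hr h1
  · exact k2 a haR f1 r hr (by rw [h1]; exact m3)

end Sd

/-- **`V^!(T) ≤ Ω₁(Z(T))`** -/
theorem vbang_of_rc (h : ∀ i : Fin 2, ∃ R : Subgroup G, IsMinPar T R ∧ R ≤ CC v (i + 1) ∧ ¬ R ≤ CC v i ∧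
    ¬ R ≤ normalizer (bang T : Set G)) : VBang T := by
  choose R hR hRj hRi hRB using h
  choose a ha using fun i => exists_sd D (ne_add_one i) (hR i) (hRj i) (hRi i) (hRB i)
  set X : Fin 2 → Set G := fun i => {x | ∃ r ∈ R i, x = r * a i * r⁻¹} with hX
  have haR : ∀ i, a i ∈ R i := fun i => (hR i).le (ha i).aT
  have hXC : ∀ i, ∀ x ∈ X i, x * v (i + 1) = v (i + 1) * x := by
    rintro i _ ⟨r, hr, rfl⟩
    exact mem_centralizer_singleton_iff.1 (hRj i (mul_mem (mul_mem hr (haR i)) (inv_mem hr)))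
  have hn := nn_bang T
  have h2 : ∀ i : Fin 2, i = 0 ∨ i = 1 := by decide
  -- `B'`
  set B' : Subgroup G := bang T ⊓ (centralizer (X 0) ⊓ centralizer (X 1)) with hB'
  have hTX : ∀ i, ∀ t ∈ T, ∀ b ∈ centralizer (X i), t * b * t⁻¹ ∈ centralizer (X i) := by
    intro i t ht b hb
    refine mem_centralizer_iff.2 ?_
    rintro _ ⟨r, hr, rfl⟩
    have h1 := mem_centralizer_iff.1 hb _ ⟨t⁻¹ * r, mul_mem (inv_mem ((hR i).le ht)) hr, rfl⟩
    calc r * a i * r⁻¹ * (t * b * t⁻¹) = t * (t⁻¹ * r * a i * (t⁻¹ * r)⁻¹ * b) * t⁻¹ := by group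
      _ = t * (b * (t⁻¹ * r * a i * (t⁻¹ * r)⁻¹)) * t⁻¹ := by rw [h1]
      _ = t * b * t⁻¹ * (r * a i * r⁻¹) := by group
  have hTB : ∀ t ∈ T, ∀ b ∈ B', t * b * t⁻¹ ∈ B' := by
    intro t ht b hb
    exact ⟨(mem_normalizer_iff.1 (hn.norm ht) b).1 hb.1, hTX 0 t ht b hb.2.1, hTX 1 t ht b hb.2.2⟩
  have hTN : T ≤ normalizer (B' : Set G) := by
    intro t ht
    rw [mem_normalizer_iff]
    intro b
    refine ⟨hTB t ht b, fun hb => ?_⟩
    have h1 := hTB t⁻¹ (inv_mem ht) _ hb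
    have e : t⁻¹ * (t * b * t⁻¹) * t⁻¹⁻¹ = b := by group
    rwa [e] at h1
  -- every `v i`, and `v 0 * v 1`, is moved by a conjugate of `a i`
  have hmv : ∀ i, ∃ x ∈ X i, x * v i ≠ v i * x := by
    intro i
    obtain ⟨s, hs, hsv⟩ : ∃ s ∈ R i, s * v i * s⁻¹ ≠ v i := by
      by_contra hcon
      push Not at hcon
      apply hRi i
      intro r hr
      rw [mem_centralizer_singleton_iff]
      calc r * v i = r * v i * r⁻¹ * r := by group
        _ = v i * r := by rw [hcon r hr]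
    refine ⟨s * a i * s⁻¹, ⟨s, hs, rfl⟩, fun h3 => ?_⟩
    have h4 := Sd.mvV D (ne_add_one i) (hR i) (hRj i) (hRi i) (ha i) hs (D.mem i) (D.ne i) (Ne.symm hsv)
    rw [h3, mul_inv_cancel_right] at h4
    exact D.ne i (conj_eq_one_iff.1 (mul_eq_left.1 h4.symm))
  have hB1 : B' = ⊥ := by
    by_contra hne
    obtain ⟨z, hz, hz1, hzc⟩ := NoFF.LinesPlug.exists_fixed D.T_isPGroup (inf_le_left.trans hn.le) hTN hne
    have hzT : z ∈ zc T := ZN.mem_zc.2 ⟨hn.le hz.1, hzc, hn.sq z hz.1⟩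
    obtain ⟨x, hx, hxv⟩ := hmv 0
    obtain ⟨y, hy, hyv⟩ := hmv 1
    have h3 := mem_centralizer_iff.1 hz.2.1 x hx
    have h4 := mem_centralizer_iff.1 hz.2.2 y hy
    rcases (D.zT z).1 hzT with h5 | h5 | h5 | h5
    · exact hz1 h5
    · exact hxv (by rw [← h5]; exact h3)
    · exact hyv (by rw [← h5]; exact h4)
    · have h6 : x * v 1 = v 1 * x := hXC 0 x hx
      apply hxv
      rw [h5] at h3
      have h7 : x * v 0 * v 1 = v 0 * x * v 1 := by
        calc x * v 0 * v 1 = x * (v 0 * v 1) := by group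
          _ = v 0 * (v 1 * x) := by rw [h3]; group
          _ = v 0 * x * v 1 := by rw [← h6]; group
      exact mul_right_cancel h7
  intro b hb
  obtain ⟨e₀, he₀, h3⟩ := Sd.exists_fix D (ne_add_one 0) (hR 0) (hRj 0) (hRi 0) (ha 0) hb
  obtain ⟨e₁, he₁, h4⟩ := Sd.exists_fix D (ne_add_one 1) (hR 1) (hRj 1) (hRi 1) (ha 1) hb
  have z0 : e₀ ∈ zc T := by
    rcases he₀ with rfl | rfl
    · exact one_mem _
    · exact D.v_mem_zc 0
  have z1 : e₁ ∈ zc T := by
    rcases he₁ with rfl | rfl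
    · exact one_mem _
    · exact D.v_mem_zc 1
  have c0 : ∀ x ∈ X 0, x * (b * e₀) = b * e₀ * x := by
    rintro _ ⟨r, hr, rfl⟩
    exact mul_inv_eq_iff_eq_mul.1 (h3 r hr)
  have c1 : ∀ x ∈ X 1, x * (b * e₁) = b * e₁ * x := by
    rintro _ ⟨r, hr, rfl⟩
    exact mul_inv_eq_iff_eq_mul.1 (h4 r hr)
  have c2 : ∀ x ∈ X 0, x * e₁ = e₁ * x := by
    intro x hx
    rcases he₁ with h5 | h5
    · rw [h5, mul_one, one_mul]
    · rw [h5]; exact hXC 0 x hx
  have c3 : ∀ x ∈ X 1, x * e₀ = e₀ * x := by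
    intro x hx
    rcases he₀ with h5 | h5
    · rw [h5, mul_one, one_mul]
    · rw [h5]; exact hXC 1 x hx
  have hee : e₀ * e₁ = e₁ * e₀ := (ZN.mem_zc.1 z1).2.1 e₀ (ZN.zc_le _ z0)
  have h5 : b * e₀ * e₁ ∈ B' := by
    refine ⟨mul_mem (mul_mem hb (zc_le_bang T z0)) (zc_le_bang T z1), mem_centralizer_iff.2 fun x hx => ?_,
      mem_centralizer_iff.2 fun x hx => ?_⟩
    · calc x * (b * e₀ * e₁) = x * (b * e₀) * e₁ := by group
        _ = b * e₀ * (x * e₁) := by rw [c0 x hx]; group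
        _ = b * e₀ * e₁ * x := by rw [c2 x hx]; group
    · calc x * (b * e₀ * e₁) = x * (b * e₁) * e₀ := by rw [mul_assoc b, hee]; group
        _ = b * e₁ * (x * e₀) := by rw [c1 x hx]; group
        _ = b * (e₁ * e₀) * x := by rw [c3 x hx]; group
        _ = b * e₀ * e₁ * x := by rw [← hee]; group
  rw [hB1, mem_bot] at h5
  have h6 : b = (e₀ * e₁)⁻¹ := by
    rw [eq_inv_iff_mul_eq_one, ← h5]; group
  rw [h6]
  exact inv_mem (mul_mem z0 z1)

end

end Cfsg.Agent.Omega.TC.VBangRC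

end
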